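import Mathlib
import Cfsg.Agent.S0215
import Cfsg.Agent.Lib.Helper17.SylowCard
import Cfsg.Agent.Lib.Helper17.SimpleIndex
import Cfsg.Agent.Lib.Helper17.SylowSub
import Cfsg.Agent.Lib.Helper17.SylowInter
import Cfsg.Agent.Lib.Helper17.SylowBasic
import Cfsg.Agent.Lib.Helper17.Burnside
import Cfsg.Agent.Lib.Helper17.PrimeSylow
import Cfsg.Agent.Lib.Helper17.SimpleTools
import Cfsg.Agent.Lib.Helper17.Misc
import Cfsg.Agent.Lib.Helper17.ConjCount
import Cfsg.Agent.Lib.Helper17.CosetAction
import Cfsg.Agent.Lib.Helper17.InvolutionParity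
import Cfsg.Agent.Lib.Helper17.AltNormalizer
import Cfsg.Agent.Lib.Helper76.FixedByCommute
import Cfsg.Agent.Lib.Helper76.InvolCentParity
import Cfsg.Agent.Lib.Helper9.Simple1080

/-!
# No simple group of order 5040, part A: generic tools

(helper72)  Sylow counting inside a subgroup, fixed points of elements on coset spaces `G ⧸ M`
with `N(P) ≤ M`, a consequence of Glauberman's `Z*`-theorem for simple groups, and small
lemmas about subgroups of index two.
-/

set_option autoImplicit false
set_option linter.unusedSectionVars false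
set_option linter.unusedVariables false

namespace Cfsg.Agent.Lib.Helper72.Simple5040

open MulAction Subgroup
open Cfsg.Agent.Lib.Helper17

section generic

variable {G : Type*} [Group G]

/-- Sylow counting inside a subgroup `M` containing the Sylow subgroup `P` of `G`:
`|M| = n * |M ∩ N_G(P)|` with `n ≡ 1 mod p`. -/
theorem card_eq_mul_card_inf_normalizer [Finite G] {p : ℕ} [hp : Fact p.Prime] (P : Sylow p G)
    (M : Subgroup G) (hPM : (P : Subgroup G) ≤ M) :
    ∃ n : ℕ, n % p = 1 ∧
      Nat.card M = n * Nat.card (M ⊓ normalizer ((P : Subgroup G) : Set G) : Subgroup G) := by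
  refine ⟨Nat.card (Sylow p M), ?_, ?_⟩
  · have h2 : Nat.card (Sylow p M) % p = 1 % p := card_sylow_modEq_one p M
    rwa [Nat.mod_eq_of_lt hp.out.one_lt] at h2
  · have h1 : Nat.card (Sylow p M) =
        (normalizer (((P.subtype hPM : Sylow p M) : Subgroup M) : Set M)).index :=
      (P.subtype hPM).card_eq_index_normalizer
    rw [Sylow.coe_subtype, ← Subgroup.subgroupOf_normalizer_eq hPM] at h1
    have h3 := card_mul_relIndex_of_le
      (inf_le_left : M ⊓ normalizer ((P : Subgroup G) : Set G) ≤ M)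
    rw [Subgroup.inf_relIndex_left] at h3
    rw [h1, ← h3, mul_comm]
    rfl

/-- If `|P| = p`, `N(P) ≤ M`, `1 ≠ y ∈ P` and `g⁻¹ y g ∈ M`, then `g ∈ M`. -/
theorem mem_of_conj_mem_of_normalizer_le [Finite G] {p : ℕ} [hp : Fact p.Prime] (P : Sylow p G)
    (hP : Nat.card (P : Subgroup G) = p) (M : Subgroup G)
    (hNM : normalizer ((P : Subgroup G) : Set G) ≤ M) (y : G) (hy : y ∈ (P : Subgroup G))
    (hy1 : y ≠ 1) (g : G) (hg : g⁻¹ * y * g ∈ M) : g ∈ M := by
  have hPM : (P : Subgroup G) ≤ M := le_normalizer.trans hNM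
  have hordy : orderOf y = p := by
    have h1 : orderOf y ∣ p := hP ▸ Subgroup.orderOf_dvd_natCard _ hy
    rcases (Nat.dvd_prime hp.out).1 h1 with h | h
    · exact absurd (orderOf_eq_one_iff.1 h) hy1
    · exact h
  have hord : orderOf (g⁻¹ * y * g) = p := by
    have := orderOf_conj_eq g⁻¹ y
    rw [inv_inv] at this
    rw [this, hordy]
  have hK : IsPGroup p (zpowers (g⁻¹ * y * g)) := isPGroup_zpowers_of_orderOf_eq _ hord
  obtain ⟨m, hmM, hm⟩ := exists_conj_le_sylow_of_le P M (zpowers (g⁻¹ * y * g)) hPM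
    (by rw [zpowers_le]; exact hg) hK
  have h1 := hm _ (mem_zpowers _)
  have h2 : (g * m⁻¹)⁻¹ * y * (g * m⁻¹) ∈ (P : Subgroup G) := by
    have : (g * m⁻¹)⁻¹ * y * (g * m⁻¹) = m * (g⁻¹ * y * g) * m⁻¹ := by group
    rw [this]; exact h1
  have h3 := mem_normalizer_of_mem_smul_of_card_prime P hP hy hy1 h2
  have h4 : g * m⁻¹ ∈ M := hNM h3
  have : g = (g * m⁻¹) * m := by group
  rw [this]; exact M.mul_mem h4 hmM

/-- If `|P| = p`, `N(P) ≤ M`, `1 ≠ y ∈ P` and `k ∈ M` commutes with `y`, then the number of fixed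
points of `k` on `G ⧸ M` is `≡ 1 mod p`. -/
theorem card_fixedBy_modEq_one_of_normalizer_le [Finite G] {p : ℕ} [hp : Fact p.Prime]
    (P : Sylow p G) (hP : Nat.card (P : Subgroup G) = p) (M : Subgroup G)
    (hNM : normalizer ((P : Subgroup G) : Set G) ≤ M) (y : G) (hy : y ∈ (P : Subgroup G))
    (hy1 : y ≠ 1) (k : G) (hk : k ∈ M) (hc : Commute y k) :
    Nat.card (fixedBy (G ⧸ M) k) ≡ 1 [MOD p] := by
  have hPM : (P : Subgroup G) ≤ M := le_normalizer.trans hNM
  have hyp : y ^ p ^ 1 = 1 := by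
    rw [pow_one]
    exact orderOf_dvd_iff_pow_eq_one.1 (hP ▸ Subgroup.orderOf_dvd_natCard _ hy)
  have hmem : ∀ z : G, z ∈ M → z • (((1 : G) : G ⧸ M)) = ((1 : G) : G ⧸ M) := by
    intro z hz
    have : ((1 : G) : G ⧸ M) ∈ fixedBy (G ⧸ M) z := by
      rw [mk_mem_fixedBy_iff]
      simpa using hz
    exact this
  refine Cfsg.Agent.Lib.Helper76.FixedByCommute.card_fixedBy_modEq_one (α := G ⧸ M) y k 1 hyp hc
    ((1 : G) : G ⧸ M) (hmem k hk) (hmem y (hPM hy)) ?_
  intro q hq
  induction q using QuotientGroup.induction_on with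
  | H g =>
    have h1 : ((g : G) : G ⧸ M) ∈ fixedBy (G ⧸ M) y := hq
    rw [mk_mem_fixedBy_iff] at h1
    have h2 := mem_of_conj_mem_of_normalizer_le P hP M hNM y hy hy1 g h1
    apply QuotientGroup.eq.2
    simpa using M.inv_mem h2

/-- The number of fixed points is at most the index. -/
theorem card_fixedBy_le_index [Finite G] (H : Subgroup G) (t : G) :
    Nat.card (fixedBy (G ⧸ H) t) ≤ H.index := by
  unfold Subgroup.index
  exact Finite.card_subtype_le _

/-- In a simple group, an element acting trivially on the cosets of a proper subgroup is `1`. -/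
theorem eq_one_of_forall_smul_coset_eq [IsSimpleGroup G] (H : Subgroup G) (hH : H ≠ ⊤) (t : G)
    (hall : ∀ q : G ⧸ H, t • q = q) : t = 1 := by
  have hker : t ∈ (MulAction.toPermHom G (G ⧸ H)).ker := by
    rw [MonoidHom.mem_ker]
    apply Equiv.ext
    intro q
    exact hall q
  rw [← Subgroup.normalCore_eq_ker] at hker
  have hle : H.normalCore ≤ H := Subgroup.normalCore_le H
  rcases (Subgroup.normalCore_normal H).eq_bot_or_eq_top with hb | ht
  · rw [hb] at hker
    exact Subgroup.mem_bot.mp hker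
  · exfalso
    apply hH
    rw [eq_top_iff, ← ht]
    exact hle

/-- In a simple group, a non-identity element does not fix every coset of a proper subgroup. -/
theorem card_fixedBy_ne_index [Finite G] [IsSimpleGroup G] (H : Subgroup G) (hH : H ≠ ⊤) (t : G)
    (ht : t ≠ 1) : Nat.card (fixedBy (G ⧸ H) t) ≠ H.index := by
  intro heq
  apply ht
  apply eq_one_of_forall_smul_coset_eq H hH t
  have huniv : fixedBy (G ⧸ H) t = Set.univ := by
    apply Set.eq_of_subset_of_ncard_le (Set.subset_univ _) _ Set.finite_univ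
    rw [Set.ncard_univ, ← Nat.card_coe_set_eq, heq]
    rfl
  intro q
  have : q ∈ fixedBy (G ⧸ H) t := by rw [huniv]; trivial
  exact this

/-- `fix_{G/H}(x) * |H| = |x^G ∩ H| * |C(x)|`. -/
theorem card_fixedBy_mul_card [Finite G] (H : Subgroup G) (x : G) :
    Nat.card (fixedBy (G ⧸ H) x) * Nat.card H =
      Nat.card {y : G // IsConj x y ∧ y ∈ H} * Nat.card (centralizer ({x} : Set G)) := by
  rw [← card_conj_mem_eq_fixedBy, card_conj_mem_eq_centralizer]

/-- Squares land in a subgroup of index two. -/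
theorem sq_mem_of_card_eq_two_mul {K T : Subgroup G} [Finite T] (hKT : K ≤ T)
    (hcard : Nat.card T = 2 * Nat.card K) (τ : G) (hτ : τ ∈ T) : τ ^ 2 ∈ K := by
  have h1 := card_mul_relIndex_of_le hKT
  have hpos : 0 < Nat.card K := by
    rcases Nat.eq_zero_or_pos (Nat.card K) with h0 | h0
    · rw [h0] at hcard
      have : 0 < Nat.card T := Nat.card_pos
      omega
    · exact h0
  have h2 : K.relIndex T = 2 := by
    rw [hcard, mul_comm] at h1
    exact Nat.eq_of_mul_eq_mul_right hpos h1
  have h3 := Subgroup.sq_mem_of_index_two (H := K.subgroupOf T) h2 ⟨τ, hτ⟩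
  rw [Subgroup.mem_subgroupOf] at h3
  simpa using h3

/-- The product of two elements outside a subgroup of index two lies inside. -/
theorem mul_mem_of_card_eq_two_mul {K T : Subgroup G} [Finite T] (hKT : K ≤ T)
    (hcard : Nat.card T = 2 * Nat.card K) (a b : G) (ha : a ∈ T) (hb : b ∈ T) (haK : a ∉ K)
    (hbK : b ∉ K) : a * b ∈ K := by
  have h1 := card_mul_relIndex_of_le hKT
  have hpos : 0 < Nat.card K := by
    rcases Nat.eq_zero_or_pos (Nat.card K) with h0 | h0
    · rw [h0] at hcard
      have : 0 < Nat.card T := Nat.card_pos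
      omega
    · exact h0
  have h2 : K.relIndex T = 2 := by
    rw [hcard, mul_comm] at h1
    exact Nat.eq_of_mul_eq_mul_right hpos h1
  have h3 := (Subgroup.mul_mem_iff_of_index_two (H := K.subgroupOf T) h2
    (a := ⟨a, ha⟩) (b := ⟨b, hb⟩)).2
    (by
      rw [Subgroup.mem_subgroupOf, Subgroup.mem_subgroupOf]
      exact ⟨fun h => absurd h haK, fun h => absurd h hbK⟩)
  rw [Subgroup.mem_subgroupOf] at h3
  simpa using h3

/-- For a `p`-subgroup `K` of a subgroup `M`, there is a Sylow `p`-subgroup `S` of `G` containing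
`K` such that `S ⊓ M` is (the image of) a Sylow `p`-subgroup of `M`. -/
theorem exists_sylow_inf [Finite G] {p : ℕ} [Fact p.Prime] (M K : Subgroup G) (hKM : K ≤ M)
    (hK : IsPGroup p K) :
    ∃ (S : Sylow p G) (T : Sylow p M), K ≤ (S : Subgroup G) ∧
      (T : Subgroup M).map M.subtype = (S : Subgroup G) ⊓ M := by
  obtain ⟨T, hT⟩ := exists_sylow_sub_ge M K hKM hK
  obtain ⟨S, hS⟩ := exists_sylow_ge_map_subtype M T
  refine ⟨S, T, hT.trans hS, ?_⟩
  exact map_subtype_eq_of_le M ((S : Subgroup G) ⊓ M) inf_le_right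
    (S.isPGroup'.to_le inf_le_left) T (le_inf hS (map_subtype_le' M _))

end generic

end Cfsg.Agent.Lib.Helper72.Simple5040
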