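import Mathlib
import Cfsg.Agent.Lib.Helper72.Simple5040A

/-!
# No simple group of order 5040, part B: `Z*` for simple groups, automorphisms of a group of
order five, basic facts on groups of order 5040

(helper72)
-/

set_option autoImplicit false
set_option linter.unusedSectionVars false
set_option linter.unusedVariables false

namespace Cfsg.Agent.Lib.Helper72.Simple5040

open MulAction Subgroup
open Cfsg.Agent.Lib.Helper17

section generic

variable {G : Type*} [Group G]

/-- Consequence of Glauberman's `Z*`-theorem: in a non-commutative finite simple group every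
involution commutes with a conjugate of itself different from itself. -/
theorem exists_conj_commute_ne [Finite G] [IsSimpleGroup G] (hG : ¬ IsMulCommutative G) (v : G)
    (hv : orderOf v = 2) : ∃ g : G, g * v * g⁻¹ ≠ v ∧ Commute (g * v * g⁻¹) v := by
  by_contra hcon
  have hiso0 : ∀ g : G, Commute (g * v * g⁻¹) v → g * v * g⁻¹ = v := by
    intro g hc
    by_contra hne
    exact hcon ⟨g, hne, hc⟩
  have : Fact (Nat.Prime 2) := ⟨Nat.prime_two⟩
  set C := centralizer ({v} : Set G) with hC
  obtain ⟨T⟩ := (Sylow.nonempty : Nonempty (Sylow 2 C))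
  set T' : Subgroup G := (T : Subgroup C).map C.subtype with hT'
  have hT'C : T' ≤ C := map_subtype_le' C _
  have hT'p : IsPGroup 2 T' := isPGroup_map_subtype C T
  have hvC : v ∈ C := by rw [hC, mem_centralizer_singleton_iff]
  have hvT' : v ∈ T' := by
    have hz : zpowers v ≤ T' := by
      apply le_map_subtype_of_normal C (zpowers v) ?_ ?_ (isPGroup_zpowers_of_orderOf_eq v hv) T
      · rw [zpowers_le]; exact hvC
      · intro c hc
        rw [hC, mem_centralizer_singleton_iff] at hc
        rw [mem_normalizer_iff]
        intro h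
        have hcomm : ∀ z ∈ zpowers v, c * z * c⁻¹ = z := by
          intro z hz
          obtain ⟨k, rfl⟩ := mem_zpowers_iff.1 hz
          have hcz : Commute c (v ^ k) := (show Commute c v from hc).zpow_right k
          rw [hcz.eq, mul_inv_cancel_right]
        constructor
        · intro hh
          rw [hcomm h hh]; exact hh
        · intro hh
          have h2 : c⁻¹ * (c * h * c⁻¹) * c ∈ zpowers v := by
            have hc' : Commute c⁻¹ (c * h * c⁻¹) := by
              obtain ⟨k, hk⟩ := mem_zpowers_iff.1 hh
              rw [← hk]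
              exact ((show Commute c v from hc).zpow_right k).inv_left
            rw [hc'.eq, inv_mul_cancel_right]
            exact hh
          have : c⁻¹ * (c * h * c⁻¹) * c = h := by group
          rwa [this] at h2
    exact hz (mem_zpowers v)
  obtain ⟨P, hTP⟩ := hT'p.exists_le_sylow
  have hPeq : T' = (P : Subgroup G) := by
    by_contra hne
    obtain ⟨s, hsP, hsN, hsT⟩ :=
      exists_mem_normalizer_not_mem_of_ne (P : Subgroup G) T' P.isPGroup' hTP hne
    have h1 : s * v * s⁻¹ ∈ T' := (mem_normalizer_iff.1 hsN v).1 hvT'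
    have h2 : Commute (s * v * s⁻¹) v := by
      have := hT'C h1
      rw [hC, mem_centralizer_singleton_iff] at this
      exact this
    have h3 := hiso0 s h2
    have hsC : s ∈ C := by
      rw [hC, mem_centralizer_singleton_iff]
      calc s * v = (s * v * s⁻¹) * s := by group
        _ = v * s := by rw [h3]
    have hKP : T' ⊔ zpowers s ≤ (P : Subgroup G) :=
      sup_le hTP (by rw [zpowers_le]; exact hsP)
    have hKp : IsPGroup 2 (T' ⊔ zpowers s : Subgroup G) := P.isPGroup'.to_le hKP
    have hKC : T' ⊔ zpowers s ≤ C := sup_le hT'C (by rw [zpowers_le]; exact hsC)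
    have hmap := map_subtype_eq_of_le C (T' ⊔ zpowers s) hKC hKp T le_sup_left
    apply hsT
    rw [hT', hmap]
    exact (le_sup_right : zpowers s ≤ T' ⊔ zpowers s) (mem_zpowers s)
  have hvP : v ∈ (P : Subgroup G) := hPeq ▸ hvT'
  obtain ⟨N, hNn, hNodd, hNc⟩ := Cfsg.Agent.S0215.result P v hv hvP (by
    intro g hg
    apply hiso0
    have hg' : g * v * g⁻¹ ∈ T' := by rw [hPeq]; exact hg
    have := hT'C hg'
    rw [hC, mem_centralizer_singleton_iff] at this
    exact this)
  rcases hNn.eq_bot_or_eq_top with hb | ht
  · -- `v` is central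
    have hcen : v ∈ center G := by
      rw [Subgroup.mem_center_iff]
      intro g
      have := hNc g
      rw [hb, Subgroup.mem_bot] at this
      have h5 : v * g = g * v := by
        calc v * g = (v * g * v⁻¹ * g⁻¹) * (g * v) := by group
          _ = g * v := by rw [this, one_mul]
      exact h5.symm
    rcases (inferInstance : (center G).Normal).eq_bot_or_eq_top with hb' | ht'
    · rw [hb', Subgroup.mem_bot] at hcen
      rw [hcen, orderOf_one] at hv
      exact absurd hv (by norm_num)
    · apply hG
      refine ⟨⟨fun a b => ?_⟩⟩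
      have ha : a ∈ center G := by rw [ht']; trivial
      rw [Subgroup.mem_center_iff] at ha
      exact (ha b).symm
  · rw [ht, Subgroup.card_top] at hNodd
    have h2 : 2 ∣ Nat.card G := hv ▸ orderOf_dvd_natCard v
    rw [← Nat.not_even_iff_odd] at hNodd
    exact hNodd (even_iff_two_dvd.2 h2)

/-- `Z*` in terms of fixed points: an involution of a non-commutative finite simple group fixes
at least two points in its conjugation action on its class (cosets of the centralizer). -/
theorem two_le_card_fixedBy_centralizer [Finite G] [IsSimpleGroup G] (hG : ¬ IsMulCommutative G)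
    (v : G) (hv : orderOf v = 2) :
    2 ≤ Nat.card (fixedBy (G ⧸ centralizer ({v} : Set G)) v) := by
  obtain ⟨g, hne, hc⟩ := exists_conj_commute_ne hG v hv
  have h1 : ((1 : G) : G ⧸ centralizer ({v} : Set G)) ∈ fixedBy (G ⧸ centralizer ({v} : Set G)) v := by
    rw [mk_mem_fixedBy_iff, mem_centralizer_singleton_iff]
    simp
  have h2 : ((g⁻¹ : G) : G ⧸ centralizer ({v} : Set G)) ∈
      fixedBy (G ⧸ centralizer ({v} : Set G)) v := by
    rw [mk_mem_fixedBy_iff, mem_centralizer_singleton_iff, inv_inv]
    exact hc.eq
  have hne' : (⟨_, h1⟩ : fixedBy (G ⧸ centralizer ({v} : Set G)) v) ≠ ⟨_, h2⟩ := by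
    intro heq
    have h3 := congrArg Subtype.val heq
    have h4 := QuotientGroup.eq.1 h3
    rw [inv_one, one_mul, inv_mem_iff, mem_centralizer_singleton_iff] at h4
    apply hne
    rw [h4, mul_inv_cancel_right]
  have hfin : Finite (fixedBy (G ⧸ centralizer ({v} : Set G)) v) := inferInstance
  by_contra hlt
  have hle : Nat.card (fixedBy (G ⧸ centralizer ({v} : Set G)) v) ≤ 1 := by omega
  have hsub := Finite.card_le_one_iff_subsingleton.1 hle
  exact hne' (Subsingleton.elim _ _)

/-- A subgroup of `N(P)`, `|P| = 5`, in which the centralizer of `P` has index more than two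
contains an element whose square inverts `P`. -/
theorem exists_sq_conj_eq_inv [Finite G] (P : Sylow 5 G) (hP : Nat.card (P : Subgroup G) = 5)
    (x : G) (hx : x ∈ (P : Subgroup G)) (hx1 : x ≠ 1) (S : Subgroup G)
    (hS : S ≤ normalizer ((P : Subgroup G) : Set G))
    (hcard : 2 * Nat.card (S ⊓ centralizer ((P : Subgroup G) : Set G) : Subgroup G) <
      Nat.card S) :
    ∃ s ∈ S, s ^ 2 * x * (s ^ 2)⁻¹ = x⁻¹ := by
  have hp5 : Nat.Prime 5 := by norm_num
  have hPz : (P : Subgroup G) = zpowers x := eq_zpowers_of_card_prime _ hp5 hP hx hx1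
  have hord : orderOf x = 5 := by
    have := Nat.card_zpowers x
    rw [← hPz, hP] at this
    exact this.symm
  have hx5 : x ^ 5 = 1 := by rw [← hord]; exact pow_orderOf_eq_one x
  have hx4 : x ^ 4 = x⁻¹ := by
    apply eq_inv_of_mul_eq_one_left
    rw [← pow_succ]; exact hx5
  -- each element of `S` acts on `x` as a power
  have hpow : ∀ s ∈ S, s * x * s⁻¹ = x ∨ s * x * s⁻¹ = x⁻¹ ∨ s ^ 2 * x * (s ^ 2)⁻¹ = x⁻¹ := by
    intro s hs
    have h1 : s * x * s⁻¹ ∈ (P : Subgroup G) := (mem_normalizer_iff.1 (hS hs) x).1 hx
    rw [hPz, ← mem_powers_iff_mem_zpowers] at h1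
    obtain ⟨k, hk⟩ := (Submonoid.mem_powers_iff _ _).1 h1
    have hk' : x ^ (k % 5) = s * x * s⁻¹ := by
      rw [← hk, ← hord, pow_mod_orderOf]
    have hlt : k % 5 < 5 := Nat.mod_lt _ (by norm_num)
    have hsq : s ^ 2 * x * (s ^ 2)⁻¹ = (s * x * s⁻¹) ^ (k % 5) := by
      rw [conj_pow, hk', pow_two, mul_inv_rev]
      simp only [mul_assoc]
    generalize k % 5 = r at *
    interval_cases r
    · exfalso
      rw [pow_zero] at hk'
      apply hx1
      have : x = s⁻¹ * (s * x * s⁻¹) * s := by group
      rw [this, ← hk']; group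
    · left; rw [← hk', pow_one]
    · right; right
      rw [hsq, ← hk', ← pow_mul, hx4]
    · right; right
      rw [hsq, ← hk', ← pow_mul]
      have : x ^ (3 * 3) = x ^ 5 * x ^ 4 := by rw [← pow_add]
      rw [this, hx5, one_mul, hx4]
    · right; left
      rw [← hk', hx4]
  by_contra hcon
  have hall : ∀ s ∈ S, s * x * s⁻¹ = x ∨ s * x * s⁻¹ = x⁻¹ := by
    intro s hs
    rcases hpow s hs with h | h | h
    · exact Or.inl h
    · exact Or.inr h
    · exact absurd ⟨s, hs, h⟩ hcon
  have hmemC : ∀ s : G, s * x * s⁻¹ = x → s ∈ centralizer ((P : Subgroup G) : Set G) := by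
    intro s hsx
    apply mem_centralizer_of_commute_of_card_prime (P : Subgroup G) hp5 hP hx hx1
    calc s * x = (s * x * s⁻¹) * s := by group
      _ = x * s := by rw [hsx]
  have hCmem : ∀ s : G, s ∈ centralizer ((P : Subgroup G) : Set G) → s * x * s⁻¹ = x := by
    intro s hs
    rw [Subgroup.mem_centralizer_iff] at hs
    have := hs x hx
    rw [← this, mul_inv_cancel_right]
  have hxne : x⁻¹ ≠ x := by
    intro h
    have h2 : x ^ 2 = 1 := by rw [pow_two]; nth_rewrite 1 [← h]; exact inv_mul_cancel x
    have := orderOf_dvd_of_pow_eq_one h2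
    rw [hord] at this
    omega
  set K := (centralizer ((P : Subgroup G) : Set G)).subgroupOf S with hK
  have hKcard : Nat.card K = Nat.card (S ⊓ centralizer ((P : Subgroup G) : Set G) : Subgroup G) := by
    rw [hK, card_subgroupOf_eq_card_inf', inf_comm]
  have hidx : K.index ≤ 2 := by
    by_cases htop : K = ⊤
    · rw [htop, Subgroup.index_top]; norm_num
    · have hex : ∃ a : S, a ∉ K := by
        by_contra hno
        push Not at hno
        exact htop (eq_top_iff.2 fun a _ => hno a)
      obtain ⟨a, ha⟩ := hex
      have haK : (a : G) ∉ centralizer ((P : Subgroup G) : Set G) := by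
        rwa [hK, Subgroup.mem_subgroupOf] at ha
      have hax : (a : G) * x * (a : G)⁻¹ = x⁻¹ := by
        rcases hall a a.2 with h | h
        · exact absurd (hmemC _ h) haK
        · exact h
      have h2 : K.index = 2 := by
        rw [Subgroup.index_eq_two_iff]
        refine ⟨a, fun b => ?_⟩
        by_cases hb : b ∈ K
        · right
          refine ⟨hb, fun hba => ?_⟩
          apply ha
          have : a = b⁻¹ * (b * a) := by group
          rw [this]
          exact K.mul_mem (K.inv_mem hb) hba
        · left
          refine ⟨?_, hb⟩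
          have hbK : (b : G) ∉ centralizer ((P : Subgroup G) : Set G) := by
            rwa [hK, Subgroup.mem_subgroupOf] at hb
          have hbx : (b : G) * x * (b : G)⁻¹ = x⁻¹ := by
            rcases hall b b.2 with h | h
            · exact absurd (hmemC _ h) hbK
            · exact h
          rw [hK, Subgroup.mem_subgroupOf]
          apply hmemC
          have : ((b * a : S) : G) * x * ((b * a : S) : G)⁻¹ =
              (b : G) * ((a : G) * x * (a : G)⁻¹) * (b : G)⁻¹ := by
            rw [Subgroup.coe_mul]; group
          rw [this, hax]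
          have h3 : (b : G) * x⁻¹ * (b : G)⁻¹ = ((b : G) * x * (b : G)⁻¹)⁻¹ := by group
          rw [h3, hbx, inv_inv]
      rw [h2]
  have hmul := K.index_mul_card
  have hS' : Nat.card S ≤ 2 * Nat.card K := by
    rw [← hmul]
    exact Nat.mul_le_mul_right _ hidx
  rw [hKcard] at hS'
  omega

end generic

end Cfsg.Agent.Lib.Helper72.Simple5040
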