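import Mathlib
import Cfsg.Agent.Lib.Helper72.Simple5040B

/-!
# No simple group of order 5040, part C: basic facts, the case `|C(v)| = 240`

(helper72)
-/

set_option autoImplicit false
set_option linter.unusedSectionVars false
set_option linter.unusedVariables false

namespace Cfsg.Agent.Lib.Helper72.Simple5040

open MulAction Subgroup
open Cfsg.Agent.Lib.Helper17

variable {G : Type*} [Group G] [Finite G] [IsSimpleGroup G]

theorem fact7 : Fact (Nat.Prime 7) := ⟨by norm_num⟩
theorem fact5 : Fact (Nat.Prime 5) := ⟨by norm_num⟩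
theorem fact3 : Fact (Nat.Prime 3) := ⟨by norm_num⟩
theorem fact2 : Fact (Nat.Prime 2) := ⟨by norm_num⟩

attribute [local instance] fact7 fact5 fact3 fact2

theorem not_comm (h : Nat.card G = 5040) : ¬ IsMulCommutative G :=
  not_comm_of_simple_of_not_prime (by rw [h]; norm_num)

theorem index_ge_eight (h : Nat.card G = 5040) (H : Subgroup G) (hH : H ≠ ⊤) : 8 ≤ H.index := by
  have hfact := two_mul_card_dvd_factorial_index_of_simple (not_comm h) H hH
  rw [h] at hfact
  by_contra hlt
  have hle : H.index ≤ 7 := by omega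
  have h0 : H.index ≠ 0 := Subgroup.index_ne_zero_of_finite
  generalize H.index = k at *
  interval_cases k <;> revert hfact <;> decide

/-- A proper subgroup has order at most 630. -/
theorem card_le_630 (h : Nat.card G = 5040) (H : Subgroup G) (hH : H ≠ ⊤) : Nat.card H ≤ 630 := by
  have h8 := index_ge_eight h H hH
  have hmul := H.index_mul_card
  rw [h] at hmul
  by_contra hlt
  have : 631 ≤ Nat.card H := by omega
  have : 8 * 631 ≤ H.index * Nat.card H := Nat.mul_le_mul h8 this
  omega

theorem card_sylow7 (h : Nat.card G = 5040) (Q : Sylow 7 G) :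
    Nat.card (Q : Subgroup G) = 7 := by
  have hcard : Nat.card G = 7 ^ 1 * 720 := by rw [h]; norm_num
  rw [sylow_card_of_card_eq Q hcard (by norm_num)]; norm_num

theorem card_sylow5 (h : Nat.card G = 5040) (Q : Sylow 5 G) :
    Nat.card (Q : Subgroup G) = 5 := by
  have hcard : Nat.card G = 5 ^ 1 * 1008 := by rw [h]; norm_num
  rw [sylow_card_of_card_eq Q hcard (by norm_num)]; norm_num

theorem card_sylow3 (h : Nat.card G = 5040) (Q : Sylow 3 G) :
    Nat.card (Q : Subgroup G) = 9 := by
  have hcard : Nat.card G = 3 ^ 2 * 560 := by rw [h]; norm_num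
  rw [sylow_card_of_card_eq Q hcard (by norm_num)]; norm_num

theorem card_sylow2 (h : Nat.card G = 5040) (Q : Sylow 2 G) :
    Nat.card (Q : Subgroup G) = 16 := by
  have hcard : Nat.card G = 2 ^ 4 * 315 := by rw [h]; norm_num
  rw [sylow_card_of_card_eq Q hcard (by norm_num)]; norm_num

/-- `|C(P₅)| * r = |N(P₅)|` with `r ∈ {2, 4}`. -/
theorem card_centralizer_sylow5 (h : Nat.card G = 5040) (P : Sylow 5 G) :
    ∃ r : ℕ, (r = 2 ∨ r = 4) ∧
      Nat.card (centralizer ((P : Subgroup G) : Set G)) * r =
        Nat.card (normalizer ((P : Subgroup G) : Set G)) := by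
  have hG := not_comm h
  have h1 := relIndex_cent_norm_dvd_pred_of_card_prime P (card_sylow5 h P)
  have h2 := relIndex_cent_norm_ne_one_of_simple hG P (by rw [h]; norm_num)
  have h3 := card_mul_relIndex_of_le
    (Subgroup.centralizer_le_normalizer (s := ((P : Subgroup G) : Set G)))
  refine ⟨_, ?_, h3⟩
  have hle : (centralizer ((P : Subgroup G) : Set G)).relIndex
      (normalizer ((P : Subgroup G) : Set G)) ≤ 4 := Nat.le_of_dvd (by norm_num) h1
  generalize (centralizer ((P : Subgroup G) : Set G)).relIndex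
      (normalizer ((P : Subgroup G) : Set G)) = r at *
  interval_cases r <;> omega

/-- The possible numbers of Sylow `5`-subgroups. -/
theorem card_sylow5_cases (h : Nat.card G = 5040) :
    Nat.card (Sylow 5 G) = 21 ∨ Nat.card (Sylow 5 G) = 36 ∨ Nat.card (Sylow 5 G) = 56 ∨
      Nat.card (Sylow 5 G) = 126 := by
  have hG := not_comm h
  have hcard : Nat.card G = 5 ^ 1 * 1008 := by rw [h]; norm_num
  have hdvd : Nat.card (Sylow 5 G) ∣ 1008 := card_sylow_dvd_of_card_eq hcard (by norm_num)
  have hmod : Nat.card (Sylow 5 G) % 5 = 1 := card_sylow_modEq_one 5 G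
  obtain ⟨P⟩ := (Sylow.nonempty : Nonempty (Sylow 5 G))
  have hN := card_sylow_mul_card_normalizer P
  rw [h] at hN
  have hidx : Nat.card (Sylow 5 G) = (normalizer ((P : Subgroup G) : Set G)).index :=
    P.card_eq_index_normalizer
  have hne1 : Nat.card (Sylow 5 G) ≠ 1 :=
    card_sylow_ne_one_of_simple hcard (by norm_num) (by norm_num) (by norm_num)
  have h8 : 8 ≤ Nat.card (Sylow 5 G) := by
    rw [hidx]
    apply index_ge_eight h
    intro htop
    rw [htop, Subgroup.index_top] at hidx
    exact hne1 hidx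
  obtain ⟨r, hr, hCr⟩ := card_centralizer_sylow5 h P
  have hle : Nat.card (Sylow 5 G) ≤ 1008 := Nat.le_of_dvd (by norm_num) hdvd
  have hcases : Nat.card (Sylow 5 G) = 16 ∨ Nat.card (Sylow 5 G) = 21 ∨
      Nat.card (Sylow 5 G) = 36 ∨ Nat.card (Sylow 5 G) = 56 ∨
      Nat.card (Sylow 5 G) = 126 ∨ Nat.card (Sylow 5 G) = 336 := by
    clear hN hidx hne1 hCr
    generalize Nat.card (Sylow 5 G) = c at *
    interval_cases c <;> omega
  rcases hcases with hc | hc | hc | hc | hc | hc
  · exfalso
    rw [hc] at hN
    rcases hr with rfl | rfl <;> omega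
  · exact Or.inl hc
  · exact Or.inr (Or.inl hc)
  · exact Or.inr (Or.inr (Or.inl hc))
  · exact Or.inr (Or.inr (Or.inr hc))
  · exfalso
    rw [hc] at hN
    rcases hr with rfl | rfl <;> omega

/-- An involution `v` with `N(P₅) ≤ C(v)` and `|C(v)| = 240` does not exist. -/
theorem false_of_card_centralizer_eq_240 (h : Nat.card G = 5040) (P : Sylow 5 G) (v : G)
    (hv : orderOf v = 2)
    (hN : normalizer ((P : Subgroup G) : Set G) ≤ centralizer ({v} : Set G))
    (hC : Nat.card (centralizer ({v} : Set G)) = 240) : False := by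
  have hG := not_comm h
  set M := centralizer ({v} : Set G) with hM
  have hP5 := card_sylow5 h P
  obtain ⟨x, hxP, hx5⟩ := exists_mem_orderOf_eq_of_dvd_card (P : Subgroup G) 5
    (by rw [hP5])
  have hx1 : x ≠ 1 := by
    intro h1
    rw [h1, orderOf_one] at hx5
    omega
  have hvM : v ∈ M := by rw [hM, mem_centralizer_singleton_iff]
  have hxM : x ∈ M := hN (le_normalizer hxP)
  have hc : Commute x v := by
    rw [hM, mem_centralizer_singleton_iff] at hxM
    exact hxM
  have hmod := card_fixedBy_modEq_one_of_normalizer_le P hP5 M hN x hxP hx1 v hvM hc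
  have hv2 : v ^ 2 = 1 := by rw [← hv]; exact pow_orderOf_eq_one v
  have hpar := four_dvd_index_sub_card_fixedBy_of_simple hG M v hv2
  have hidx : M.index = 21 := by
    have := M.index_mul_card
    rw [h, hC] at this
    omega
  have hMtop : M ≠ ⊤ := by
    intro htop
    rw [htop, Subgroup.index_top] at hidx
    omega
  have hv1 : v ≠ 1 := by
    intro h1
    rw [h1, orderOf_one] at hv
    omega
  have hne := card_fixedBy_ne_index M hMtop v hv1
  have hle := card_fixedBy_le_index M v
  have h2 := two_le_card_fixedBy_centralizer hG v hv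
  rw [hidx] at hpar hne hle
  unfold Nat.ModEq at hmod
  generalize Nat.card (fixedBy (G ⧸ M) v) = f at *
  interval_cases f <;> omega

end Cfsg.Agent.Lib.Helper72.Simple5040
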