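import Mathlib
import Cfsg.Agent.Lib.Helper72.Simple5040C

/-!
# No simple group of order 5040, part D: more shared tools

(helper72)  Isolated involutions, the action of `N(P₅)` on `P₅`, and the situation
`|N(P₅)| = 40`.
-/

set_option autoImplicit false
set_option linter.unusedSectionVars false
set_option linter.unusedVariables false

namespace Cfsg.Agent.Lib.Helper72.Simple5040

open MulAction Subgroup
open Cfsg.Agent.Lib.Helper17

section generic

variable {G : Type*} [Group G]

/-- Glauberman's `Z*`-theorem for simple groups: a non-commutative finite simple group has no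
involution `z` in a Sylow `2`-subgroup `S` all of whose conjugates lying in `S` are equal
to `z`. -/
theorem false_of_isolated_involution [Finite G] [IsSimpleGroup G] (hG : ¬ IsMulCommutative G)
    (S : Sylow 2 G) (z : G) (hz : orderOf z = 2) (hzS : z ∈ (S : Subgroup G))
    (hiso : ∀ g : G, g * z * g⁻¹ ∈ (S : Subgroup G) → g * z * g⁻¹ = z) : False := by
  obtain ⟨N, hNn, hNodd, hNc⟩ := Cfsg.Agent.S0215.result S z hz hzS hiso
  rcases hNn.eq_bot_or_eq_top with hb | ht
  · have hcen : z ∈ center G := by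
      rw [Subgroup.mem_center_iff]
      intro g
      have := hNc g
      rw [hb, Subgroup.mem_bot] at this
      have h5 : z * g = g * z := by
        calc z * g = (z * g * z⁻¹ * g⁻¹) * (g * z) := by group
          _ = g * z := by rw [this, one_mul]
      exact h5.symm
    rcases (inferInstance : (center G).Normal).eq_bot_or_eq_top with hb' | ht'
    · rw [hb', Subgroup.mem_bot] at hcen
      rw [hcen, orderOf_one] at hz
      exact absurd hz (by norm_num)
    · apply hG
      refine ⟨⟨fun a b => ?_⟩⟩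
      have ha : a ∈ center G := by rw [ht']; trivial
      rw [Subgroup.mem_center_iff] at ha
      exact (ha b).symm
  · rw [ht, Subgroup.card_top] at hNodd
    have h2 : 2 ∣ Nat.card G := hz ▸ orderOf_dvd_natCard z
    rw [← Nat.not_even_iff_odd] at hNodd
    exact hNodd (even_iff_two_dvd.2 h2)

/-- An element `s` normalizing `P = ⟨x⟩` of order five centralizes `x`, inverts `x`, or its
square inverts `x`. -/
theorem conj_trichotomy [Finite G] (P : Sylow 5 G) (hP : Nat.card (P : Subgroup G) = 5)
    (x : G) (hx : x ∈ (P : Subgroup G)) (hx1 : x ≠ 1) (s : G)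
    (hs : s ∈ normalizer ((P : Subgroup G) : Set G)) :
    s * x * s⁻¹ = x ∨ s * x * s⁻¹ = x⁻¹ ∨
      (s * x * s⁻¹ ≠ x ∧ s * x * s⁻¹ ≠ x⁻¹ ∧ s ^ 2 * x * (s ^ 2)⁻¹ = x⁻¹) := by
  have hp5 : Nat.Prime 5 := by norm_num
  have hPz : (P : Subgroup G) = zpowers x := eq_zpowers_of_card_prime _ hp5 hP hx hx1
  have hord : orderOf x = 5 := by
    have := Nat.card_zpowers x
    rw [← hPz, hP] at this
    exact this.symm
  have hx5 : x ^ 5 = 1 := by rw [← hord]; exact pow_orderOf_eq_one x
  have hx4 : x ^ 4 = x⁻¹ := by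
    apply eq_inv_of_mul_eq_one_left
    rw [← pow_succ]; exact hx5
  by_cases h1 : s * x * s⁻¹ = x
  · exact Or.inl h1
  by_cases h2 : s * x * s⁻¹ = x⁻¹
  · exact Or.inr (Or.inl h2)
  refine Or.inr (Or.inr ⟨h1, h2, ?_⟩)
  have h3 : s * x * s⁻¹ ∈ (P : Subgroup G) := (mem_normalizer_iff.1 hs x).1 hx
  rw [hPz, ← mem_powers_iff_mem_zpowers] at h3
  obtain ⟨k, hk⟩ := (Submonoid.mem_powers_iff _ _).1 h3
  have hk' : x ^ (k % 5) = s * x * s⁻¹ := by
    rw [← hk, ← hord, pow_mod_orderOf]
  have hlt : k % 5 < 5 := Nat.mod_lt _ (by norm_num)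
  have hsq : s ^ 2 * x * (s ^ 2)⁻¹ = (s * x * s⁻¹) ^ (k % 5) := by
    rw [conj_pow, hk', pow_two, mul_inv_rev]
    simp only [mul_assoc]
  generalize k % 5 = r at *
  interval_cases r
  · exfalso
    rw [pow_zero] at hk'
    apply hx1
    have : x = s⁻¹ * (s * x * s⁻¹) * s := by group
    rw [this, ← hk']; group
  · exfalso; apply h1; rw [← hk', pow_one]
  · rw [hsq, ← hk', ← pow_mul, hx4]
  · rw [hsq, ← hk', ← pow_mul]
    have : x ^ (3 * 3) = x ^ 5 * x ^ 4 := by rw [← pow_add]
    rw [this, hx5, one_mul, hx4]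
  · exfalso; apply h2; rw [← hk', hx4]

/-- `s` centralizes `P` of prime order iff it commutes with a generator. -/
theorem mem_centralizer_sylow_iff [Finite G] {p : ℕ} [hp : Fact p.Prime] (P : Sylow p G)
    (hP : Nat.card (P : Subgroup G) = p) (x : G) (hx : x ∈ (P : Subgroup G)) (hx1 : x ≠ 1)
    (s : G) : s ∈ centralizer ((P : Subgroup G) : Set G) ↔ s * x * s⁻¹ = x := by
  constructor
  · intro hs
    rw [Subgroup.mem_centralizer_iff] at hs
    have := hs x hx
    rw [← this, mul_inv_cancel_right]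
  · intro hsx
    apply mem_centralizer_of_commute_of_card_prime (P : Subgroup G) hp.out hP hx hx1
    calc s * x = (s * x * s⁻¹) * s := by group
      _ = x * s := by rw [hsx]

/-- If `M ⊓ N` contains subgroups of coprime orders `a`, `b` with `a * b = |N|`, then `N ≤ M`. -/
theorem le_of_coprime_card_dvd [Finite G] (M N A B : Subgroup G) (hAM : A ≤ M) (hAN : A ≤ N)
    (hBM : B ≤ M) (hBN : B ≤ N) (hco : Nat.Coprime (Nat.card A) (Nat.card B))
    (hN : Nat.card N = Nat.card A * Nat.card B) : N ≤ M := by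
  have h1 : Nat.card A ∣ Nat.card (M ⊓ N : Subgroup G) :=
    Subgroup.card_dvd_of_le (le_inf hAM hAN)
  have h2 : Nat.card B ∣ Nat.card (M ⊓ N : Subgroup G) :=
    Subgroup.card_dvd_of_le (le_inf hBM hBN)
  have h3 : Nat.card N ∣ Nat.card (M ⊓ N : Subgroup G) := by
    rw [hN]; exact hco.mul_dvd_of_dvd_of_dvd h1 h2
  have h4 : Nat.card N ≤ Nat.card (M ⊓ N : Subgroup G) := Nat.le_of_dvd Nat.card_pos h3
  have h5 := Subgroup.eq_of_le_of_card_ge (inf_le_right : M ⊓ N ≤ N) h4
  rw [← h5]; exact inf_le_left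

end generic

variable {G : Type*} [Group G] [Finite G] [IsSimpleGroup G]

attribute [local instance] fact7 fact5 fact3 fact2

/-- If `|N(P₅)| = 40` and `N(P₅) ≤ C(k)` for an involution `k`, then `C(k) = N(P₅)`. -/
theorem centralizer_eq_normalizer_of_le (h : Nat.card G = 5040) (P : Sylow 5 G)
    (hN : Nat.card (normalizer ((P : Subgroup G) : Set G)) = 40) (k : G) (hk : orderOf k = 2)
    (hle : normalizer ((P : Subgroup G) : Set G) ≤ centralizer ({k} : Set G)) :
    centralizer ({k} : Set G) = normalizer ((P : Subgroup G) : Set G) := by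
  have hG := not_comm h
  set M := centralizer ({k} : Set G) with hM
  have hidx5 := Cfsg.Agent.Lib.Helper9.Simple1080.index_mod_eq_one_of_normalizer_le P M hle
  have hmul := M.index_mul_card
  rw [h] at hmul
  have hdvd : 40 ∣ Nat.card M := hN ▸ Subgroup.card_dvd_of_le hle
  have hMtop : M ≠ ⊤ := by
    intro htop
    have hcen : k ∈ center G := by
      rw [Subgroup.mem_center_iff]
      intro g
      have : g ∈ M := by rw [htop]; trivial
      rw [hM, mem_centralizer_singleton_iff] at this
      exact this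
    rcases (inferInstance : (center G).Normal).eq_bot_or_eq_top with hb' | ht'
    · rw [hb', Subgroup.mem_bot] at hcen
      rw [hcen, orderOf_one] at hk
      exact absurd hk (by norm_num)
    · apply hG
      refine ⟨⟨fun a b => ?_⟩⟩
      have ha : a ∈ center G := by rw [ht']; trivial
      rw [Subgroup.mem_center_iff] at ha
      exact (ha b).symm
  have h8 := index_ge_eight h M hMtop
  obtain ⟨j, hj⟩ := hdvd
  have hidx : M.index * j = 126 := by
    rw [hj] at hmul
    have : M.index * j * 40 = 126 * 40 := by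
      calc M.index * j * 40 = M.index * (40 * j) := by ring
        _ = 126 * 40 := by rw [hmul]
    exact Nat.eq_of_mul_eq_mul_right (by norm_num) this
  have hjle : j ≤ 126 := Nat.le_of_dvd (by norm_num) (Dvd.intro_left _ hidx)
  have hj' : j = 1 ∨ j = 6 := by
    have hile : M.index ≤ 126 := Nat.le_of_dvd (by norm_num) (Dvd.intro _ hidx)
    generalize M.index = i at *
    clear hmul hM
    interval_cases j <;> omega
  rcases hj' with rfl | rfl
  · symm
    apply Subgroup.eq_of_le_of_card_ge hle
    rw [hj, hN]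
  · exfalso
    exact false_of_card_centralizer_eq_240 h P k hk hle (by rw [hj])

/-- If `|M| = 40` and `T ≤ M` has order `8`, there is a Sylow `2`-subgroup `S` of `G` with
`S ⊓ M = T` and an element `s ∈ S` normalizing `T` with `s ∉ M`. -/
theorem exists_sylow_two_growth (h : Nat.card G = 5040) (M : Subgroup G)
    (hM : Nat.card M = 40) (T : Subgroup G) (hTM : T ≤ M) (hT : Nat.card T = 8) :
    ∃ (S : Sylow 2 G) (s : G), (S : Subgroup G) ⊓ M = T ∧ s ∈ (S : Subgroup G) ∧ s ∉ M ∧
      s ∈ normalizer (T : Set G) := by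
  have hTp : IsPGroup 2 T := IsPGroup.of_card (n := 3) (by rw [hT]; norm_num)
  obtain ⟨S, T0, hTS, hmap⟩ := exists_sylow_inf M T hTM hTp
  have hc0 : Nat.card (T0 : Subgroup M) = 8 := by
    have hcard : Nat.card M = 2 ^ 3 * 5 := by rw [hM]; norm_num
    rw [sylow_card_of_card_eq T0 hcard (by norm_num)]; norm_num
  have hc1 : Nat.card ((S : Subgroup G) ⊓ M : Subgroup G) = 8 := by
    rw [← hmap, card_map_subtype, hc0]
  have heq : T = (S : Subgroup G) ⊓ M :=
    Subgroup.eq_of_le_of_card_ge (le_inf hTS hTM) (by rw [hc1, hT])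
  have hne : T ≠ (S : Subgroup G) := by
    intro h1
    have := card_sylow2 h S
    rw [← h1, hT] at this
    omega
  obtain ⟨s, hsS, hsN, hsT⟩ :=
    exists_mem_normalizer_not_mem_of_ne (S : Subgroup G) T S.isPGroup' hTS hne
  refine ⟨S, s, heq.symm, hsS, ?_, hsN⟩
  intro hsM
  apply hsT
  rw [heq]
  exact ⟨hsS, hsM⟩

end Cfsg.Agent.Lib.Helper72.Simple5040
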