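import Mathlib
import Cfsg.Prelude.Def_Transfer

/-!
# PF section 9, module N4 (helper72, for helper4): the field of an irreducible abelian action

`exists_field_of_irreducible_abelian_action`: if `U` normalises the elementary abelian `p`-group
`P`, acts on it through an abelian group and irreducibly, then `P` can be identified with the
additive group of a finite field `F` so that `U` acts through multiplications by `ψ u`, a chosen
`w₀ ≠ 1` goes to `1`, and the prime field corresponds to `⟨w₀⟩`.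

The abstract version `abstract_field` is for a commuting family of endomorphisms of a finite
`ZMod p`-module without invariant submodules: the commutative subalgebra they generate is a
finite domain, hence a field, and evaluation at `w₀` identifies it with the module.
-/

set_option autoImplicit false
set_option linter.style.haveILetI false

namespace Cfsg.Agent.Lib.Helper72.PFNineN4

open scoped IsMulCommutative

universe u v

open Polynomial in
/-- in a field of characteristic `p`, the solutions of `t ^ p = t` are the natural numbers -/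
theorem pow_eq_self_iff {F : Type*} [Field F] (p : ℕ) [hp : Fact p.Prime] [CharP F p] (t : F) :
    t ^ p = t ↔ ∃ k : ℕ, t = (k : F) := by
  classical
  constructor
  · intro ht
    have hne : (X ^ p - X : F[X]) ≠ 0 := FiniteField.X_pow_card_sub_X_ne_zero F hp.out.one_lt
    have hdeg : (X ^ p - X : F[X]).natDegree = p :=
      FiniteField.X_pow_card_sub_X_natDegree_eq F hp.out.one_lt
    let φ : ZMod p →+* F := ZMod.castHom (dvd_refl p) F
    have hφ : Function.Injective φ := φ.injective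
    let T : Finset F := Finset.univ.image φ
    have hT : T.card = p := by
      rw [Finset.card_image_of_injective _ hφ, Finset.card_univ, ZMod.card]
    have hroot : ∀ s : F, s ∈ (X ^ p - X : F[X]).roots.toFinset ↔ s ^ p = s := by
      intro s
      rw [Multiset.mem_toFinset, mem_roots hne, IsRoot.def, eval_sub, eval_pow, eval_X, sub_eq_zero]
    have hsub : T ⊆ (X ^ p - X : F[X]).roots.toFinset := by
      intro s hs
      obtain ⟨z, -, rfl⟩ := Finset.mem_image.mp hs
      rw [hroot, ← map_pow, ZMod.pow_card]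
    have hle : (X ^ p - X : F[X]).roots.toFinset.card ≤ T.card := by
      rw [hT]
      calc (X ^ p - X : F[X]).roots.toFinset.card ≤ Multiset.card (X ^ p - X : F[X]).roots :=
            Multiset.toFinset_card_le _
        _ ≤ (X ^ p - X : F[X]).natDegree := card_roots' _
        _ = p := hdeg
    have heq := Finset.eq_of_subset_of_card_le hsub hle
    have : t ∈ T := by rw [heq, hroot]; exact ht
    obtain ⟨z, -, rfl⟩ := Finset.mem_image.mp this
    refine ⟨z.val, ?_⟩
    show (ZMod.castHom (dvd_refl p) F) z = ((z.val : ℕ) : F)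
    rw [ZMod.castHom_apply, ZMod.natCast_val]
  · rintro ⟨k, rfl⟩
    have := map_natCast (frobenius F p) k
    rwa [frobenius_def] at this

theorem abstract_field {p : ℕ} [hp : Fact p.Prime] {V : Type u} [AddCommGroup V] [Finite V]
    [Module (ZMod p) V] {ι : Type v} (T : ι → Module.End (ZMod p) V)
    (hcomm : ∀ i j, T i * T j = T j * T i)
    (hirr : ∀ W : Submodule (ZMod p) V, (∀ i, ∀ w ∈ W, T i w ∈ W) → W = ⊥ ∨ W = ⊤)
    (w₀ : V) (hw₀ : w₀ ≠ 0) :
    ∃ (F : Type) (_ : Field F) (_ : Fintype F) (e : V ≃+ F) (ψ : ι → F),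
      (∀ i v, e (T i v) = ψ i * e v) ∧ e w₀ = 1 ∧ (∀ i j, ψ i = ψ j → T i = T j) ∧
      (∀ v, e v ^ p = e v ↔ ∃ k : ℕ, v = k • w₀) := by
  classical
  let A : Subalgebra (ZMod p) (Module.End (ZMod p) V) := Algebra.adjoin (ZMod p) (Set.range T)
  have hTA : ∀ i, T i ∈ A := fun i => Algebra.subset_adjoin ⟨i, rfl⟩
  letI instCR : CommRing A := Algebra.adjoinCommRingOfComm (ZMod p)
    (by rintro _ ⟨i, rfl⟩ _ ⟨j, rfl⟩; exact hcomm i j)
  have hcommA : ∀ (a : A) (i : ι), (a : Module.End (ZMod p) V) * T i = T i * a := by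
    intro a i
    have := mul_comm a ⟨T i, hTA i⟩
    exact congrArg Subtype.val this
  have hinj : ∀ a : A, a ≠ 0 → Function.Injective (a : Module.End (ZMod p) V) := by
    intro a ha
    have hker : ∀ i, ∀ w ∈ LinearMap.ker (a : Module.End (ZMod p) V),
        T i w ∈ LinearMap.ker (a : Module.End (ZMod p) V) := by
      intro i w hw
      rw [LinearMap.mem_ker] at hw ⊢
      have h1 : (a : Module.End (ZMod p) V) (T i w) = ((a : Module.End (ZMod p) V) * T i) w := rfl
      rw [h1, hcommA a i, Module.End.mul_apply, hw, map_zero]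
    rcases hirr _ hker with h | h
    · exact LinearMap.ker_eq_bot.mp h
    · exfalso
      apply ha
      apply Subtype.ext
      exact LinearMap.ker_eq_top.mp h
  haveI : Finite (Module.End (ZMod p) V) := DFunLike.finite _
  haveI : Finite A := inferInstance
  have h01 : (0 : A) ≠ 1 := by
    intro h
    have h1 : ((0 : A) : Module.End (ZMod p) V) w₀ = ((1 : A) : Module.End (ZMod p) V) w₀ := by
      rw [h]
    apply hw₀
    simpa using h1.symm
  haveI : Nontrivial A := ⟨⟨0, 1, h01⟩⟩
  haveI : NoZeroDivisors A := by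
    constructor
    intro a b hab
    by_contra hcon
    push Not at hcon
    obtain ⟨ha, hb⟩ := hcon
    apply hb
    apply Subtype.ext
    ext v
    have h1 : ((a * b : A) : Module.End (ZMod p) V) v = 0 := by rw [hab]; rfl
    have h2 : (a : Module.End (ZMod p) V) ((b : Module.End (ZMod p) V) v) = 0 := h1
    have h3 := hinj a ha (h2.trans (map_zero _).symm)
    exact h3
  haveI : IsDomain A := NoZeroDivisors.to_isDomain A
  letI := Fintype.ofFinite A
  letI instF : Field A := Fintype.fieldOfDomain A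
  -- the evaluation map at `w₀`
  let φ : A →+ V :=
    { toFun := fun a => (a : Module.End (ZMod p) V) w₀
      map_zero' := rfl
      map_add' := fun a b => rfl }
  have hφinj : Function.Injective φ := by
    rw [injective_iff_map_eq_zero]
    intro a ha
    by_contra hne
    have h1 : (a : Module.End (ZMod p) V) w₀ = 0 := ha
    exact hw₀ (hinj a hne (h1.trans (map_zero _).symm))
  have hφsurj : Function.Surjective φ := by
    let W : Submodule (ZMod p) V :=
      { carrier := Set.range φ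
        add_mem' := by
          rintro _ _ ⟨a, rfl⟩ ⟨b, rfl⟩
          exact ⟨a + b, map_add φ a b⟩
        zero_mem' := ⟨0, map_zero φ⟩
        smul_mem' := by
          rintro c _ ⟨a, rfl⟩
          exact ⟨c • a, rfl⟩ }
    have hW : ∀ i, ∀ w ∈ W, T i w ∈ W := by
      rintro i _ ⟨a, rfl⟩
      exact ⟨⟨T i, hTA i⟩ * a, rfl⟩
    rcases hirr W hW with h | h
    · exfalso
      have : w₀ ∈ W := ⟨1, rfl⟩
      rw [h, Submodule.mem_bot] at this
      exact hw₀ this
    · intro v
      have : v ∈ W := by rw [h]; trivial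
      exact this
  let e₀ : A ≃+ V := AddEquiv.ofBijective φ ⟨hφinj, hφsurj⟩
  have he₀ : ∀ a : A, e₀ a = (a : Module.End (ZMod p) V) w₀ := fun a => rfl
  -- the cardinality
  have hcardV : Nat.card V = p ^ Module.finrank (ZMod p) V := by
    rw [Module.natCard_eq_pow_finrank (K := ZMod p), Nat.card_zmod]
  have hn : Module.finrank (ZMod p) V ≠ 0 := by
    intro h0
    rw [h0, pow_zero] at hcardV
    have := (Nat.card_eq_one_iff_unique.mp hcardV).1
    exact hw₀ (Subsingleton.elim _ _)
  set n := Module.finrank (ZMod p) V with hndef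
  letI : Fintype (GaloisField p n) := Fintype.ofFinite _
  have hcard : Fintype.card A = Fintype.card (GaloisField p n) := by
    rw [← Nat.card_eq_fintype_card, ← Nat.card_eq_fintype_card, GaloisField.card p n hn,
      Nat.card_congr e₀.toEquiv, hcardV]
  let r : A ≃+* GaloisField p n := FiniteField.ringEquivOfCardEq hcard
  let e : V ≃+ GaloisField p n := e₀.symm.trans r.toAddEquiv
  have he : ∀ a : A, e ((a : Module.End (ZMod p) V) w₀) = r a := by
    intro a
    show r (e₀.symm ((a : Module.End (ZMod p) V) w₀)) = r a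
    rw [← he₀ a, AddEquiv.symm_apply_apply]
  refine ⟨GaloisField p n, inferInstance, inferInstance, e, fun i => r ⟨T i, hTA i⟩, ?_, ?_, ?_, ?_⟩
  · intro i v
    obtain ⟨a, rfl⟩ := hφsurj v
    have h1 : T i (φ a) = ((⟨T i, hTA i⟩ * a : A) : Module.End (ZMod p) V) w₀ := rfl
    rw [h1, he]
    have h2 : φ a = (a : Module.End (ZMod p) V) w₀ := rfl
    rw [h2, he, map_mul]
  · have h1 : w₀ = ((1 : A) : Module.End (ZMod p) V) w₀ := rfl
    rw [h1, he, map_one]
  · intro i j hij
    have := r.injective hij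
    exact congrArg Subtype.val this
  · intro v
    have hw : e w₀ = 1 := by
      have h1 : w₀ = ((1 : A) : Module.End (ZMod p) V) w₀ := rfl
      rw [h1, he, map_one]
    rw [pow_eq_self_iff p (e v)]
    constructor
    · rintro ⟨k, hk⟩
      refine ⟨k, ?_⟩
      apply e.injective
      rw [hk, map_nsmul, hw, nsmul_one]
    · rintro ⟨k, rfl⟩
      exact ⟨k, by rw [map_nsmul, hw, nsmul_one]⟩

/-- **PF (9.7)(b), field structure.**  Exact statement of board post #2569 (N4). -/
theorem exists_field_of_irreducible_abelian_action {G : Type*} [Group G] [Finite G] (p : ℕ)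
    [Fact p.Prime] (P U : Subgroup G) (hP : Cfsg.IsElementaryAbelian p P)
    (hUP : U ≤ Subgroup.normalizer (P : Set G))
    (hUab : ∀ u ∈ U, ∀ v ∈ U, ∀ x ∈ P, (u * v) * x * (u * v)⁻¹ = (v * u) * x * (v * u)⁻¹)
    (hirr : ∀ Q : Subgroup G, Q ≤ P → U ≤ Subgroup.normalizer (Q : Set G) → Q = ⊥ ∨ Q = P)
    (w₀ : G) (hw₀ : w₀ ∈ P) (hw₀1 : w₀ ≠ 1) :
    ∃ (F : Type) (_ : Field F) (_ : Fintype F) (f : G → F) (ψ : G → F),
      Fintype.card F = Nat.card P ∧ Set.BijOn f (P : Set G) Set.univ ∧
      (∀ x ∈ P, ∀ x' ∈ P, f (x * x') = f x + f x') ∧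
      (∀ u ∈ U, ψ u ≠ 0 ∧ ∀ x ∈ P, f (u * x * u⁻¹) = ψ u * f x) ∧
      (∀ u ∈ U, ∀ u' ∈ U, ψ (u * u') = ψ u * ψ u') ∧
      (∀ u ∈ U, ∀ u' ∈ U, ψ u = ψ u' → ∀ x ∈ P, u * x * u⁻¹ = u' * x * u'⁻¹) ∧
      f w₀ = 1 ∧ ∀ x ∈ P, (f x ^ p = f x ↔ x ∈ Subgroup.zpowers w₀) := by
  classical
  haveI instC : IsMulCommutative ↥P := hP.1
  have hA : ∀ x : Additive ↥P, p • x = 0 := fun x => by
    show Additive.ofMul ((Additive.toMul x) ^ p) = Additive.ofMul 1
    apply congrArg Additive.ofMul
    apply Subtype.ext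
    exact hP.2 _ (Additive.toMul x).2
  have instM : Module (ZMod p) (Additive ↥P) := AddCommGroup.zmodModule hA
  haveI : Finite (Additive ↥P) := inferInstanceAs (Finite ↥P)
  -- conjugation by elements of `U`
  have hcj : ∀ u ∈ U, ∀ x ∈ P, u * x * u⁻¹ ∈ P := fun u hu x hx =>
    (Subgroup.mem_normalizer_iff.mp (hUP hu) x).mp hx
  let cj : ↥U → (Additive ↥P →+ Additive ↥P) := fun u =>
    { toFun := fun x => Additive.ofMul
        (⟨(u : G) * ((Additive.toMul x : ↥P) : G) * (u : G)⁻¹,
          hcj u u.2 _ (Additive.toMul x).2⟩ : ↥P)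
      map_zero' := by
        apply congrArg Additive.ofMul
        apply Subtype.ext
        show (u : G) * ((1 : ↥P) : G) * (u : G)⁻¹ = 1
        simp
      map_add' := by
        intro x y
        apply congrArg Additive.ofMul
        apply Subtype.ext
        show (u : G) * (((Additive.toMul x : ↥P) : G) * ((Additive.toMul y : ↥P) : G)) * (u : G)⁻¹
          = ((u : G) * ((Additive.toMul x : ↥P) : G) * (u : G)⁻¹) *
            ((u : G) * ((Additive.toMul y : ↥P) : G) * (u : G)⁻¹)
        group }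
  let T : ↥U → Module.End (ZMod p) (Additive ↥P) := fun u => (cj u).toZModLinearMap p
  have hT : ∀ (u : ↥U) (x : G) (hx : x ∈ P), T u (Additive.ofMul (⟨x, hx⟩ : ↥P)) =
      Additive.ofMul (⟨(u : G) * x * (u : G)⁻¹, hcj u u.2 x hx⟩ : ↥P) := fun u x hx => rfl
  have hTcomm : ∀ i j, T i * T j = T j * T i := by
    intro i j
    apply LinearMap.ext
    intro v
    obtain ⟨⟨x, hx⟩, rfl⟩ := Additive.ofMul.surjective v
    rw [Module.End.mul_apply, Module.End.mul_apply, hT, hT, hT, hT]
    apply congrArg Additive.ofMul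
    apply Subtype.ext
    show (i : G) * ((j : G) * x * (j : G)⁻¹) * (i : G)⁻¹ =
      (j : G) * ((i : G) * x * (i : G)⁻¹) * (j : G)⁻¹
    have := hUab i i.2 j j.2 x hx
    rw [mul_inv_rev, mul_inv_rev] at this
    calc (i : G) * ((j : G) * x * (j : G)⁻¹) * (i : G)⁻¹
        = (i : G) * (j : G) * x * ((j : G)⁻¹ * (i : G)⁻¹) := by group
      _ = (j : G) * (i : G) * x * ((i : G)⁻¹ * (j : G)⁻¹) := this
      _ = (j : G) * ((i : G) * x * (i : G)⁻¹) * (j : G)⁻¹ := by group
  -- irreducibility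
  have hTirr : ∀ W : Submodule (ZMod p) (Additive ↥P), (∀ i, ∀ w ∈ W, T i w ∈ W) →
      W = ⊥ ∨ W = ⊤ := by
    intro W hW
    let Q : Subgroup G :=
      { carrier := {g | ∃ hg : g ∈ P, Additive.ofMul (⟨g, hg⟩ : ↥P) ∈ W}
        one_mem' := ⟨P.one_mem, W.zero_mem⟩
        mul_mem' := by
          rintro a b ⟨ha, ha'⟩ ⟨hb, hb'⟩
          refine ⟨P.mul_mem ha hb, ?_⟩
          have : Additive.ofMul (⟨a * b, P.mul_mem ha hb⟩ : ↥P) =
              Additive.ofMul (⟨a, ha⟩ : ↥P) + Additive.ofMul (⟨b, hb⟩ : ↥P) := rfl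
          rw [this]
          exact W.add_mem ha' hb'
        inv_mem' := by
          rintro a ⟨ha, ha'⟩
          refine ⟨P.inv_mem ha, ?_⟩
          have : Additive.ofMul (⟨a⁻¹, P.inv_mem ha⟩ : ↥P) =
              - Additive.ofMul (⟨a, ha⟩ : ↥P) := rfl
          rw [this]
          exact W.neg_mem ha' }
    have hQmem : ∀ g : G, g ∈ Q ↔ ∃ hg : g ∈ P, Additive.ofMul (⟨g, hg⟩ : ↥P) ∈ W :=
      fun g => Iff.rfl
    have hQP : Q ≤ P := fun g hg => ((hQmem g).mp hg).1
    have hQU : U ≤ Subgroup.normalizer (Q : Set G) := by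
      intro u hu
      rw [Subgroup.mem_normalizer_iff]
      intro x
      constructor
      · rintro ⟨hx, hx'⟩
        refine ⟨hcj u hu x hx, ?_⟩
        have := hW ⟨u, hu⟩ _ hx'
        rwa [hT] at this
      · rintro ⟨hx, hx'⟩
        have hx0 : x ∈ P := by
          have := hcj u⁻¹ (U.inv_mem hu) _ hx
          simpa [mul_assoc] using this
        refine ⟨hx0, ?_⟩
        have := hW ⟨u⁻¹, U.inv_mem hu⟩ _ hx'
        rw [hT] at this
        have h2 : (⟨((⟨u⁻¹, U.inv_mem hu⟩ : ↥U) : G) * (u * x * u⁻¹) *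
            ((⟨u⁻¹, U.inv_mem hu⟩ : ↥U) : G)⁻¹,
            hcj _ (U.inv_mem hu) _ hx⟩ : ↥P) = ⟨x, hx0⟩ := by
          apply Subtype.ext
          show u⁻¹ * (u * x * u⁻¹) * u⁻¹⁻¹ = x
          group
        rwa [h2] at this
    rcases hirr Q hQP hQU with h | h
    · left
      rw [Submodule.eq_bot_iff]
      intro w hw
      obtain ⟨⟨x, hx⟩, rfl⟩ := Additive.ofMul.surjective w
      have h1 : x ∈ Q := ⟨hx, hw⟩
      rw [h, Subgroup.mem_bot] at h1
      apply congrArg Additive.ofMul
      exact Subtype.ext h1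
    · right
      rw [Submodule.eq_top_iff']
      intro w
      obtain ⟨⟨x, hx⟩, rfl⟩ := Additive.ofMul.surjective w
      have h1 : x ∈ Q := by rw [h]; exact hx
      obtain ⟨_, h2⟩ := (hQmem x).mp h1
      exact h2
  have hw₀' : Additive.ofMul (⟨w₀, hw₀⟩ : ↥P) ≠ 0 := by
    intro h0
    apply hw₀1
    have : (⟨w₀, hw₀⟩ : ↥P) = 1 := congrArg Additive.toMul h0
    exact congrArg Subtype.val this
  obtain ⟨F, instF, instFin, e, ψ', hψ', hew, hψinj, hfix⟩ :=
    abstract_field T hTcomm hTirr (Additive.ofMul (⟨w₀, hw₀⟩ : ↥P)) hw₀'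
  -- the maps on `G`
  let f : G → F := fun g => if hg : g ∈ P then e (Additive.ofMul (⟨g, hg⟩ : ↥P)) else 0
  let ψ : G → F := fun g => if hg : g ∈ U then ψ' ⟨g, hg⟩ else 0
  have hf : ∀ (g : G) (hg : g ∈ P), f g = e (Additive.ofMul (⟨g, hg⟩ : ↥P)) :=
    fun g hg => dif_pos hg
  have hψ : ∀ (g : G) (hg : g ∈ U), ψ g = ψ' ⟨g, hg⟩ := fun g hg => dif_pos hg
  -- multiplicativity of ψ'
  have hψmul : ∀ i j : ↥U, ψ' (i * j) = ψ' i * ψ' j := by
    intro i j
    have h1 := hψ' (i * j) (Additive.ofMul (⟨w₀, hw₀⟩ : ↥P))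
    have h2 : T (i * j) (Additive.ofMul (⟨w₀, hw₀⟩ : ↥P)) =
        T i (T j (Additive.ofMul (⟨w₀, hw₀⟩ : ↥P))) := by
      rw [hT, hT, hT]
      apply congrArg Additive.ofMul
      apply Subtype.ext
      show ((i : G) * (j : G)) * w₀ * ((i : G) * (j : G))⁻¹ =
        (i : G) * ((j : G) * w₀ * (j : G)⁻¹) * (i : G)⁻¹
      group
    rw [h2, hψ', hψ', hew, mul_one, mul_one] at h1
    exact h1.symm
  have hψone : ψ' 1 = 1 := by
    have h1 := hψ' 1 (Additive.ofMul (⟨w₀, hw₀⟩ : ↥P))
    have h2 : T 1 (Additive.ofMul (⟨w₀, hw₀⟩ : ↥P)) = Additive.ofMul (⟨w₀, hw₀⟩ : ↥P) := by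
      rw [hT]
      apply congrArg Additive.ofMul
      apply Subtype.ext
      show ((1 : ↥U) : G) * w₀ * ((1 : ↥U) : G)⁻¹ = w₀
      simp
    rw [h2, hew, mul_one] at h1
    exact h1.symm
  have hψne : ∀ i : ↥U, ψ' i ≠ 0 := by
    intro i h0
    have h1 := hψmul i i⁻¹
    rw [mul_inv_cancel, hψone, h0, zero_mul] at h1
    exact one_ne_zero h1
  refine ⟨F, instF, instFin, f, ψ, ?_, ?_, ?_, ?_, ?_, ?_, ?_, ?_⟩
  · rw [← Nat.card_eq_fintype_card]
    exact (Nat.card_congr (Additive.ofMul.trans e.toEquiv)).symm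
  · refine ⟨fun _ _ => Set.mem_univ _, ?_, ?_⟩
    · intro x hx y hy hxy
      rw [hf x hx, hf y hy] at hxy
      have := e.injective hxy
      have h2 : (⟨x, hx⟩ : ↥P) = ⟨y, hy⟩ := Additive.ofMul.injective this
      exact congrArg Subtype.val h2
    · intro t _
      obtain ⟨v, rfl⟩ := e.surjective t
      obtain ⟨⟨x, hx⟩, rfl⟩ := Additive.ofMul.surjective v
      exact ⟨x, hx, hf x hx⟩
  · intro x hx x' hx'
    rw [hf x hx, hf x' hx', hf _ (P.mul_mem hx hx'), ← map_add]
    rfl
  · intro u hu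
    refine ⟨by rw [hψ u hu]; exact hψne _, ?_⟩
    intro x hx
    rw [hf x hx, hf _ (hcj u hu x hx), hψ u hu, ← hψ', hT]
  · intro u hu u' hu'
    rw [hψ u hu, hψ u' hu', hψ _ (U.mul_mem hu hu')]
    exact hψmul ⟨u, hu⟩ ⟨u', hu'⟩
  · intro u hu u' hu' huu' x hx
    rw [hψ u hu, hψ u' hu'] at huu'
    have h1 := hψinj _ _ huu'
    have h2 := LinearMap.congr_fun h1 (Additive.ofMul (⟨x, hx⟩ : ↥P))
    rw [hT, hT] at h2
    have h3 := Additive.ofMul.injective h2
    exact congrArg Subtype.val h3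
  · rw [hf w₀ hw₀]
    exact hew
  · intro x hx
    rw [hf x hx, hfix]
    constructor
    · rintro ⟨k, hk⟩
      have h1 : (⟨x, hx⟩ : ↥P) = (⟨w₀, hw₀⟩ : ↥P) ^ k := by
        have : k • Additive.ofMul (⟨w₀, hw₀⟩ : ↥P) = Additive.ofMul ((⟨w₀, hw₀⟩ : ↥P) ^ k) := rfl
        rw [this] at hk
        exact Additive.ofMul.injective hk
      have h2 : x = w₀ ^ k := by
        have := congrArg Subtype.val h1
        simpa using this
      rw [h2]
      exact Subgroup.npow_mem_zpowers w₀ k
    · intro hxz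
      haveI : Finite ↥(Subgroup.zpowers w₀) := inferInstance
      obtain ⟨k, hk⟩ := (mem_powers_iff_mem_zpowers.mpr hxz)
      refine ⟨k, ?_⟩
      have : k • Additive.ofMul (⟨w₀, hw₀⟩ : ↥P) = Additive.ofMul ((⟨w₀, hw₀⟩ : ↥P) ^ k) := rfl
      rw [this]
      apply congrArg Additive.ofMul
      apply Subtype.ext
      show x = ((⟨w₀, hw₀⟩ : ↥P) ^ k : ↥P)
      rw [SubmonoidClass.coe_pow]
      exact hk.symm

end Cfsg.Agent.Lib.Helper72.PFNineN4
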