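import Mathlib
import Cfsg.Agent.Lib.Helper9.Subnormal

/-!
# Wielandt's zipper lemma and subnormality criterion (helper72)

`RelSN A H` : relative subnormality of `A` in `H`, both subgroups of one ambient group.
Main results:
* `relSN_iff` : `RelSN A H ↔ A ≤ H ∧ (A.subgroupOf H).IsSubnormal`
* `relSN_top_iff` : `RelSN A ⊤ ↔ A.IsSubnormal`
* `RelSN.sup` : relative join theorem
* `zipper` : Wielandt's zipper lemma
* `wielandt_criterion_sharp`, `wielandt_criterion`.
-/

set_option autoImplicit false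
open scoped Pointwise

namespace Cfsg.Agent.Lib.Helper72

universe u

variable {G : Type u} [Group G]

/-- Relative subnormality inside an ambient group: `RelSN A H` means `A ≤ H` and `A` is
subnormal in `H`. -/
inductive RelSN : Subgroup G → Subgroup G → Prop
  | refl (H : Subgroup G) : RelSN H H
  | step (A B H : Subgroup G) : A ≤ B → RelSN B H → B ≤ Subgroup.normalizer (A : Set G) →
      RelSN A H

theorem RelSN.le {A H : Subgroup G} (h : RelSN A H) : A ≤ H := by
  induction h with
  | refl H => exact le_rfl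
  | step A B H hAB _ _ ih => exact hAB.trans ih

theorem RelSN.trans {A B C : Subgroup G} (h1 : RelSN A B) (h2 : RelSN B C) : RelSN A C := by
  induction h1 with
  | refl H => exact h2
  | step A B H hAB _ hN ih => exact RelSN.step A B C hAB (ih h2) hN

theorem RelSN.of_normal {A H : Subgroup G} (hle : A ≤ H)
    (hN : H ≤ Subgroup.normalizer (A : Set G)) : RelSN A H :=
  RelSN.step A H H hle (RelSN.refl H) hN

theorem RelSN.map {G' : Type*} [Group G'] (f : G →* G') {A H : Subgroup G} (h : RelSN A H) :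
    RelSN (A.map f) (H.map f) := by
  induction h with
  | refl H => exact RelSN.refl _
  | step A B H hAB _ hN ih =>
    exact RelSN.step _ _ _ (Subgroup.map_mono hAB) ih
      ((Subgroup.map_mono hN).trans (Subgroup.le_normalizer_map f))

theorem RelSN.smul {A H : Subgroup G} (h : RelSN A H) (x : G) :
    RelSN (MulAut.conj x • A) (MulAut.conj x • H) :=
  h.map (MulDistribMulAction.toMonoidEnd (MulAut G) G (MulAut.conj x))

theorem RelSN.inf {A K : Subgroup G} (h : RelSN A K) :
    ∀ H : Subgroup G, H ≤ K → RelSN (A ⊓ H) H := by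
  induction h with
  | refl K => intro H hH; rw [inf_eq_right.mpr hH]; exact RelSN.refl H
  | step A B K hAB _ hN ih =>
    intro H hH
    refine RelSN.step _ (B ⊓ H) _ (inf_le_inf_right H hAB) (ih H hH) ?_
    intro b hb
    have hbB : b ∈ B := (Subgroup.mem_inf.mp hb).1
    have hbH : b ∈ H := (Subgroup.mem_inf.mp hb).2
    have hbN := Subgroup.mem_normalizer_iff.mp (hN hbB)
    rw [Subgroup.mem_normalizer_iff]
    intro y
    rw [Subgroup.mem_inf, Subgroup.mem_inf, ← hbN y]
    have : y ∈ H ↔ b * y * b⁻¹ ∈ H := by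
      rw [Subgroup.mul_mem_cancel_right H (H.inv_mem hbH), Subgroup.mul_mem_cancel_left H hbH]
    rw [this]

theorem RelSN.restrict {A H K : Subgroup G} (h : RelSN A K) (hAH : A ≤ H) (hHK : H ≤ K) :
    RelSN A H := by
  have := h.inf H hHK
  rwa [inf_eq_left.mpr hAH] at this

theorem RelSN.isSubnormal_subgroupOf {A H : Subgroup G} (h : RelSN A H) :
    (A.subgroupOf H).IsSubnormal := by
  induction h with
  | refl H => rw [Subgroup.subgroupOf_self]; exact Subgroup.IsSubnormal.top
  | step A B H hAB hBH hN ih =>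
    refine Subgroup.IsSubnormal.step (A.subgroupOf H) (B.subgroupOf H)
      (Subgroup.subgroupOf_mono H hAB) ih ?_
    apply Subgroup.normal_subgroupOf_of_le_normalizer
    intro b hb
    rw [Subgroup.mem_subgroupOf] at hb
    have hbN := Subgroup.mem_normalizer_iff.mp (hN hb)
    rw [Subgroup.mem_normalizer_iff]
    intro y
    simp only [Subgroup.mem_subgroupOf]
    exact hbN y

theorem relSN_map_subtype_of_isSubnormal {H : Subgroup G} {S : Subgroup H}
    (h : S.IsSubnormal) : RelSN (S.map H.subtype) H := by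
  induction h with
  | top =>
    rw [← MonoidHom.range_eq_map, Subgroup.range_subtype]; exact RelSN.refl H
  | step S K hle hK hN ih =>
    refine RelSN.step _ _ _ (Subgroup.map_mono hle) ih ?_
    exact (Subgroup.map_mono ((Subgroup.normal_subgroupOf_iff_le_normalizer hle).mp hN)).trans
      (Subgroup.le_normalizer_map _)

theorem relSN_of_isSubnormal_subgroupOf {A H : Subgroup G} (hle : A ≤ H)
    (h : (A.subgroupOf H).IsSubnormal) : RelSN A H := by
  have := relSN_map_subtype_of_isSubnormal h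
  rwa [Subgroup.map_subgroupOf_eq_of_le hle] at this

theorem relSN_iff {A H : Subgroup G} :
    RelSN A H ↔ A ≤ H ∧ (A.subgroupOf H).IsSubnormal :=
  ⟨fun h => ⟨h.le, h.isSubnormal_subgroupOf⟩, fun h => relSN_of_isSubnormal_subgroupOf h.1 h.2⟩

theorem relSN_top_of_isSubnormal {A : Subgroup G} (h : A.IsSubnormal) : RelSN A ⊤ := by
  induction h with
  | top => exact RelSN.refl ⊤
  | step H K hle hK hN ih =>
    exact RelSN.step H K ⊤ hle ih ((Subgroup.normal_subgroupOf_iff_le_normalizer hle).mp hN)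

theorem RelSN.isSubnormal_of_eq_top {A H : Subgroup G} (h : RelSN A H) (hH : H = ⊤) :
    A.IsSubnormal := by
  induction h with
  | refl H => rw [hH]; exact Subgroup.IsSubnormal.top
  | step A B H hAB hBH hN ih =>
    exact Subgroup.IsSubnormal.step A B hAB (ih hH) (Subgroup.normal_subgroupOf_of_le_normalizer hN)

theorem relSN_top_iff {A : Subgroup G} : RelSN A ⊤ ↔ A.IsSubnormal :=
  ⟨fun h => h.isSubnormal_of_eq_top rfl, relSN_top_of_isSubnormal⟩

/-- Relative join theorem (Wielandt), from helper9's `isSubnormal_sup`. -/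
theorem RelSN.sup [Finite G] {A B H : Subgroup G} (hA : RelSN A H) (hB : RelSN B H) :
    RelSN (A ⊔ B) H := by
  have h1 := hA.isSubnormal_subgroupOf
  have h2 := hB.isSubnormal_subgroupOf
  have h3 := Cfsg.Agent.Lib.Helper9.isSubnormal_sup _ ↥H rfl _ _ h1 h2
  rw [← Subgroup.subgroupOf_sup hA.le hB.le] at h3
  exact relSN_of_isSubnormal_subgroupOf (sup_le hA.le hB.le) h3

theorem RelSN.exists_aux {H K : Subgroup G} (h : RelSN H K) :
    ∀ A : Subgroup G, A ≤ H → H ≤ Subgroup.normalizer (A : Set G) →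
      ¬ K ≤ Subgroup.normalizer (A : Set G) →
      ∃ B C : Subgroup G, A ≤ B ∧ B ≤ C ∧ C ≤ K ∧ B ≤ Subgroup.normalizer (A : Set G) ∧
        C ≤ Subgroup.normalizer (B : Set G) ∧ ¬ C ≤ Subgroup.normalizer (A : Set G) := by
  induction h with
  | refl H => intro A _ h1 h2; exact absurd h1 h2
  | step H B' K hHB hB'K hN ih =>
    intro A hAH hHN hKN
    by_cases hB : B' ≤ Subgroup.normalizer (A : Set G)
    · exact ih A (hAH.trans hHB) hB hKN
    · exact ⟨H, B', hAH, hHB, hB'K.le, hHN, hN, hB⟩

theorem RelSN.exists_of_not_le_normalizer {A K : Subgroup G} (h : RelSN A K)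
    (hn : ¬ K ≤ Subgroup.normalizer (A : Set G)) :
    ∃ B C : Subgroup G, A ≤ B ∧ B ≤ C ∧ C ≤ K ∧ B ≤ Subgroup.normalizer (A : Set G) ∧
      C ≤ Subgroup.normalizer (B : Set G) ∧ ¬ C ≤ Subgroup.normalizer (A : Set G) :=
  h.exists_aux A le_rfl Subgroup.le_normalizer hn

theorem conj_smul_eq_of_le [Finite G] {A : Subgroup G} {x : G} (h : MulAut.conj x • A ≤ A) :
    MulAut.conj x • A = A := by
  apply Subgroup.eq_of_le_of_card_ge h
  rw [Nat.card_congr (Subgroup.equivSMul (MulAut.conj x) A).toEquiv]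

theorem mem_normalizer_of_conj_smul_le [Finite G] {A : Subgroup G} {x : G}
    (h : MulAut.conj x • A ≤ A) : x ∈ Subgroup.normalizer (A : Set G) :=
  Subgroup.mem_normalizer_iff_map_conj_eq.mpr (conj_smul_eq_of_le h)

theorem conj_smul_eq_of_mem_normalizer {A : Subgroup G} {x : G}
    (h : x ∈ Subgroup.normalizer (A : Set G)) : MulAut.conj x • A = A :=
  Subgroup.mem_normalizer_iff_map_conj_eq.mp h

theorem conj_smul_lt_of_lt {H' H₀ : Subgroup G} {x : G} (hx : x ∈ H₀) (h : H' < H₀) :
    MulAut.conj x • H' < H₀ := by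
  have h1 : MulAut.conj x • H₀ = H₀ := Subgroup.conj_smul_eq_self_of_mem hx
  calc MulAut.conj x • H' < MulAut.conj x • H₀ :=
        lt_of_le_of_ne (Subgroup.pointwise_smul_le_pointwise_smul_iff.mpr h.le)
          (fun heq => h.ne (smul_left_cancel _ heq))
    _ = H₀ := h1

theorem le_normalizer_of_conj_smul_le {H N : Subgroup G}
    (hconj : ∀ h ∈ H, MulAut.conj h • N ≤ N) : H ≤ Subgroup.normalizer (N : Set G) := by
  intro h hh
  rw [Subgroup.mem_normalizer_iff]
  intro y
  constructor
  · intro hy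
    exact hconj h hh ⟨y, hy, rfl⟩
  · intro hy
    have := hconj h⁻¹ (H.inv_mem hh) ⟨_, hy, rfl⟩
    simpa [mul_assoc] using this

/-- **Wielandt's zipper lemma**, relative form: if `A` is subnormal in every proper subgroup of
`H₀` containing it but not in `H₀`, then a single proper subgroup `M` of `H₀` contains all
proper subgroups of `H₀` that contain `A`. -/
theorem zipper_rel [Finite G] (H₀ : Subgroup G) :
    ∀ A : Subgroup G, A ≤ H₀ →
      (∀ H : Subgroup G, A ≤ H → H < H₀ → RelSN A H) → ¬ RelSN A H₀ →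
      ∃ M : Subgroup G, A ≤ M ∧ M < H₀ ∧ ∀ H : Subgroup G, A ≤ H → H < H₀ → H ≤ M := by
  intro A
  induction A using WellFoundedGT.induction with
  | ind A ih =>
    intro hA hprop hnot
    have hNAlt : Subgroup.normalizer (A : Set G) ⊓ H₀ < H₀ := by
      refine lt_of_le_of_ne inf_le_right ?_
      intro heq
      exact hnot (RelSN.of_normal hA (inf_eq_right.mp heq))
    obtain ⟨M, hNAM, hMmax⟩ :=
      Finite.exists_le_maximal (p := fun H : Subgroup G => H < H₀) hNAlt
    have hMlt : M < H₀ := hMmax.prop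
    have hAM : A ≤ M := (le_inf Subgroup.le_normalizer hA).trans hNAM
    refine ⟨M, hAM, hMlt, ?_⟩
    intro H hAH hHlt
    have hsn : RelSN A H := hprop H hAH hHlt
    by_cases hHN : H ≤ Subgroup.normalizer (A : Set G)
    · exact (le_inf hHN hHlt.le).trans hNAM
    · obtain ⟨B, C, hAB, hBC, hCH, hBN, hCN, hCnot⟩ := hsn.exists_of_not_le_normalizer hHN
      obtain ⟨x, hxC, hxN⟩ := SetLike.not_le_iff_exists.mp hCnot
      have hxH : x ∈ H := hCH hxC
      have hxH₀ : x ∈ H₀ := hHlt.le hxH
      have hAxB : MulAut.conj x • A ≤ B := by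
        have h1 : MulAut.conj x • A ≤ MulAut.conj x • B :=
          Subgroup.pointwise_smul_le_pointwise_smul_iff.mpr hAB
        rwa [conj_smul_eq_of_mem_normalizer (hCN hxC)] at h1
      have hTN : A ⊔ MulAut.conj x • A ≤ Subgroup.normalizer (A : Set G) :=
        sup_le Subgroup.le_normalizer (hAxB.trans hBN)
      have hTH : A ⊔ MulAut.conj x • A ≤ H := sup_le hAH (hAxB.trans (hBC.trans hCH))
      have hTM : A ⊔ MulAut.conj x • A ≤ M := (le_inf hTN (hTH.trans hHlt.le)).trans hNAM
      have hAT : A < A ⊔ MulAut.conj x • A := by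
        refine lt_of_le_of_ne le_sup_left ?_
        intro heq
        apply hxN
        apply mem_normalizer_of_conj_smul_le
        calc MulAut.conj x • A ≤ A ⊔ MulAut.conj x • A := le_sup_right
          _ = A := heq.symm
      have hpropT : ∀ H' : Subgroup G, A ⊔ MulAut.conj x • A ≤ H' → H' < H₀ →
          RelSN (A ⊔ MulAut.conj x • A) H' := by
        intro H' hTH' hH'lt
        have h1 : RelSN A H' := hprop H' (le_sup_left.trans hTH') hH'lt
        have h2 : RelSN (MulAut.conj x • A) H' := by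
          have h3 : A ≤ (MulAut.conj x)⁻¹ • H' :=
            Subgroup.pointwise_smul_subset_iff.mp (le_sup_right.trans hTH')
          have h4 : (MulAut.conj x)⁻¹ • H' < H₀ := by
            rw [← map_inv]
            exact conj_smul_lt_of_lt (H₀.inv_mem hxH₀) hH'lt
          have h5 := (hprop _ h3 h4).smul x
          rwa [smul_inv_smul] at h5
        exact h1.sup h2
      have hnotT : ¬ RelSN (A ⊔ MulAut.conj x • A) H₀ := fun hT' =>
        hnot ((RelSN.of_normal le_sup_left hTN).trans hT')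
      obtain ⟨M', hTM', hM'lt, hM'⟩ := ih _ hAT (hTH.trans hHlt.le) hpropT hnotT
      have hMM' : M ≤ M' := hM' M hTM hMlt
      have hHM' : H ≤ M' := hM' H hTH hHlt
      exact hHM'.trans (hMmax.le_of_ge hM'lt hMM')

/-- Sharpened **Wielandt subnormality criterion**, relative form. -/
theorem wielandt_rel [Finite G] (A : Subgroup G) :
    ∀ H₀ : Subgroup G, A ≤ H₀ →
      (∀ a ∈ A, ∀ g ∈ H₀, RelSN A (A ⊔ MulAut.conj (g⁻¹ * a * g) • A)) → RelSN A H₀ := by
  intro H₀
  induction H₀ using WellFoundedLT.induction with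
  | ind H₀ ih =>
    intro hA hW
    by_contra hnot
    have hprop : ∀ H : Subgroup G, A ≤ H → H < H₀ → RelSN A H := fun H hAH hlt =>
      ih H hlt hAH (fun a ha g hg => hW a ha g (hlt.le hg))
    obtain ⟨M, hAM, hMlt, hM⟩ := zipper_rel H₀ A hA hprop hnot
    have hx : ∀ a ∈ A, ∀ g ∈ H₀, g⁻¹ * a * g ∈ Subgroup.normalizer (M : Set G) := by
      intro a ha g hg
      have hxH₀ : g⁻¹ * a * g ∈ H₀ := H₀.mul_mem (H₀.mul_mem (H₀.inv_mem hg) (hA ha)) hg
      have hTle : A ⊔ MulAut.conj (g⁻¹ * a * g) • A ≤ H₀ :=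
        sup_le hA (Subgroup.conj_smul_le_of_le hA ⟨_, hxH₀⟩)
      have hTlt : A ⊔ MulAut.conj (g⁻¹ * a * g) • A < H₀ := by
        refine lt_of_le_of_ne hTle ?_
        intro heq
        apply hnot
        have := hW a ha g hg
        rwa [heq] at this
      have hTM := hM _ le_sup_left hTlt
      have hAxM : MulAut.conj (g⁻¹ * a * g) • A ≤ M := le_sup_right.trans hTM
      have h3 : A ≤ (MulAut.conj (g⁻¹ * a * g))⁻¹ • M := Subgroup.pointwise_smul_subset_iff.mp hAxM
      have h4 : (MulAut.conj (g⁻¹ * a * g))⁻¹ • M < H₀ := by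
        rw [← map_inv]
        exact conj_smul_lt_of_lt (H₀.inv_mem hxH₀) hMlt
      have h5 : (MulAut.conj (g⁻¹ * a * g))⁻¹ • M ≤ M := hM _ h3 h4
      rw [← map_inv] at h5
      have h6 := mem_normalizer_of_conj_smul_le h5
      exact (Subgroup.inv_mem_iff _).mp h6
    have hAN : A ≤ Subgroup.closure {y | ∃ a ∈ A, ∃ g ∈ H₀, y = g⁻¹ * a * g} := fun a ha =>
      Subgroup.subset_closure ⟨a, ha, 1, H₀.one_mem, by simp⟩
    have hNH₀ : Subgroup.closure {y | ∃ a ∈ A, ∃ g ∈ H₀, y = g⁻¹ * a * g} ≤ H₀ := by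
      rw [Subgroup.closure_le]
      rintro y ⟨a, ha, g, hg, rfl⟩
      exact H₀.mul_mem (H₀.mul_mem (H₀.inv_mem hg) (hA ha)) hg
    have hNNM : Subgroup.closure {y | ∃ a ∈ A, ∃ g ∈ H₀, y = g⁻¹ * a * g} ≤
        Subgroup.normalizer (M : Set G) := by
      rw [Subgroup.closure_le]
      rintro y ⟨a, ha, g, hg, rfl⟩
      exact hx a ha g hg
    have hH₀N : H₀ ≤ Subgroup.normalizer
        ((Subgroup.closure {y | ∃ a ∈ A, ∃ g ∈ H₀, y = g⁻¹ * a * g} : Subgroup G) : Set G) := by
      apply le_normalizer_of_conj_smul_le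
      intro h hh
      rw [Subgroup.smul_closure, Subgroup.closure_le]
      rintro _ ⟨y, ⟨a, ha, g, hg, rfl⟩, rfl⟩
      apply Subgroup.subset_closure
      refine ⟨a, ha, g * h⁻¹, H₀.mul_mem hg (H₀.inv_mem hh), ?_⟩
      simp [MulAut.smul_def, mul_assoc]
    by_cases hcase : H₀ ≤ Subgroup.normalizer (M : Set G)
    · exact hnot ((hprop M hAM hMlt).trans (RelSN.of_normal hMlt.le hcase))
    · have hlt' : Subgroup.normalizer (M : Set G) ⊓ H₀ < H₀ :=
        lt_of_le_of_ne inf_le_right (fun heq => hcase (inf_eq_right.mp heq))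
      have h7 : Subgroup.normalizer (M : Set G) ⊓ H₀ ≤ M :=
        hM _ (le_inf (hAM.trans Subgroup.le_normalizer) hA) hlt'
      have hNM := (le_inf hNNM hNH₀).trans h7
      have hNlt := lt_of_le_of_lt hNM hMlt
      exact hnot ((hprop _ hAN hNlt).trans (RelSN.of_normal hNH₀ hH₀N))

/-- Sharpened **Wielandt subnormality criterion**: if `A` is subnormal in `⟨A, A^x⟩` for every
conjugate `x = g⁻¹ a g` of an element `a ∈ A`, then `A` is subnormal in the finite group `G`. -/
theorem wielandt_criterion_sharp [Finite G] (A : Subgroup G)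
    (h : ∀ a ∈ A, ∀ g : G,
      (A.subgroupOf (A ⊔ MulAut.conj (g⁻¹ * a * g) • A)).IsSubnormal) : A.IsSubnormal := by
  rw [← relSN_top_iff]
  apply wielandt_rel A ⊤ le_top
  intro a ha g _
  exact relSN_of_isSubnormal_subgroupOf le_sup_left (h a ha g)

/-- **Wielandt subnormality criterion**: if `A` is subnormal in `⟨A, A^g⟩` for every `g`,
then `A` is subnormal in the finite group `G`. -/
theorem wielandt_criterion [Finite G] (A : Subgroup G)
    (h : ∀ g : G, (A.subgroupOf (A ⊔ MulAut.conj g • A)).IsSubnormal) : A.IsSubnormal :=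
  wielandt_criterion_sharp A (fun _ _ _ => h _)

/-- **Wielandt's zipper lemma**: if `A` is subnormal in every proper subgroup of the finite group
`G` containing it, but not in `G`, then `A` lies in a unique maximal subgroup of `G`
(stated as: some proper subgroup `M` contains every proper subgroup that contains `A`). -/
theorem zipper [Finite G] (A : Subgroup G)
    (hprop : ∀ H : Subgroup G, A ≤ H → H ≠ ⊤ → (A.subgroupOf H).IsSubnormal)
    (hnot : ¬ A.IsSubnormal) :
    ∃ M : Subgroup G, A ≤ M ∧ M ≠ ⊤ ∧ ∀ H : Subgroup G, A ≤ H → H ≠ ⊤ → H ≤ M := by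
  obtain ⟨M, hAM, hMlt, hM⟩ := zipper_rel ⊤ A le_top
    (fun H hAH hlt => relSN_of_isSubnormal_subgroupOf hAH (hprop H hAH hlt.ne))
    (fun h => hnot (relSN_top_iff.mp h))
  exact ⟨M, hAM, hMlt.ne, fun H hAH hne => hM H hAH (lt_top_iff_ne_top.mpr hne)⟩

end Cfsg.Agent.Lib.Helper72
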