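import Mathlib

set_option autoImplicit false

/-!
# Order 5400: definitions (helper72, for S0983)

`IsInter D`: `D` is a subgroup of order `5` contained in two distinct Sylow `5`-subgroups.
-/

namespace Cfsg.Agent.Lib.Helper72.Simple5400

/-- `D` has order `5` and lies in two distinct Sylow `5`-subgroups. -/
def IsInter {G : Type*} [Group G] (D : Subgroup G) : Prop :=
  Nat.card D = 5 ∧ ∃ P R : Sylow 5 G, P ≠ R ∧ D ≤ (P : Subgroup G) ∧ D ≤ (R : Subgroup G)

end Cfsg.Agent.Lib.Helper72.Simple5400
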