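import Mathlib
import Cfsg.Agent.Lib.Helper9.SmallOrderSieveC

set_option autoImplicit false
open Cfsg

/-!
# Degree equation data of the principal `p`-block, `|P| = p` (helper72)

`DegData n p Deg d e ε s f` records the arithmetic consequences of Brauer's theory of blocks of
defect one for a non-commutative simple group `G` of order `n` with `p ∥ n`, `p` odd:

* `d = n_p` is the number of Sylow `p`-subgroups (not excluded by helper9's sieve tests `excl`),
  so `|N(P)| = p * u` with `u = n / p / d`;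
* `e = |N(P) : C(P)|` divides `u` and `p - 1`, `e ≠ 1` (Burnside), `|C(P)| = p * (u / e)`;
* `s` is the multiset of the signed degrees `a χ * χ(1) ≡ 1 (mod p)` of the `e - 1` nontrivial
  nonexceptional characters of the principal block, `f` the degree of the `(p - 1) / e`
  exceptional characters, `ε f = 1 + ∑ s`;
* all these degrees divide `n`, are `≥ 2`, and are `≥ 2p` when `C(P) ≠ P`, i.e. `e < u` (S4729);
* the squares of the degrees of the block add up to at most `n`;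
* `Deg` is the set of all irreducible character degrees of `G`: the degrees above lie in `Deg`,
  and when `C(P) = P`, i.e. `e = u`, every `k ∈ Deg` is divisible by `p` or occurs in the block.
-/

namespace Cfsg.Agent.Lib.Helper72.DegEq

/-- The set of degrees of the irreducible characters. -/
def degSet (G : Type*) [Group G] : Set ℕ :=
  {k | ∃ ψ : IrrCharacter G, charDegree (ψ : G → ℂ) = k}

structure DegData (n p : ℕ) (Deg : Set ℕ) (d e : ℕ) (ε : ℤ) (s : Multiset ℤ) (f : ℤ) : Prop where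
  hd_dvd : d ∣ n / p
  hd_mod : d % p = 1
  hd_ne : d ≠ 1
  hd_excl : Cfsg.Agent.Lib.Helper9.Sieve.excl n p 1 (n / p) d = false
  he_dvd : e ∣ n / p / d
  he_dvd' : e ∣ p - 1
  he_ne : e ≠ 1
  hε : ε = 1 ∨ ε = -1
  hcard : s.card + 1 = e
  hs_mod : ∀ x ∈ s, (p : ℤ) ∣ x - 1
  hs_dvd : ∀ x ∈ s, x ∣ (n : ℤ)
  hs_two : ∀ x ∈ s, 2 ≤ x ∨ x ≤ -2
  hs_big : e < n / p / d → ∀ x ∈ s, (2 * p : ℤ) ≤ x ∨ x ≤ -(2 * p : ℤ)
  hs_deg : ∀ x ∈ s, x.natAbs ∈ Deg
  hf_two : 2 ≤ f
  hf_dvd : f ∣ (n : ℤ)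
  hf_big : e < n / p / d → (2 * p : ℤ) ≤ f
  hf_deg : f.natAbs ∈ Deg
  heq : ε * f = 1 + s.sum
  hsq : 1 + (s.map (fun x => x ^ 2)).sum + (((p - 1) / e : ℕ) : ℤ) * f ^ 2 ≤ (n : ℤ)
  hall : e = n / p / d → ∀ k ∈ Deg, p ∣ k ∨ k = 1 ∨ (k : ℤ) = f ∨ ∃ x ∈ s, x.natAbs = k

end Cfsg.Agent.Lib.Helper72.DegEq
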