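import Mathlib
import Cfsg.Agent.Lib.Helper22.S1936Defs
import Cfsg.Agent.Lib.Helper21.StronglyEmbedded
import Cfsg.Agent.S0076

/-!
# S1936-[TRANS] (hedge, helper72): `N(T)` is transitive on the involutions of `T`
-/

set_option autoImplicit false
universe u
open Cfsg.Agent.Lib.Helper22.S1936

namespace Cfsg.Agent.Lib.Helper72.S1936

variable {G : Type u} [Group G] [Finite G] {p : ℕ} [Fact p.Prime]

/-- In a `MinCE`, every 2-subgroup is commutative (it is a `p'`-subgroup as `p ≥ 5`). -/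
theorem two_group_comm (hG : MinCE p G) (S : Subgroup G) (hS : IsPGroup 2 ↥S) :
    ∀ x ∈ S, ∀ y ∈ S, x * y = y * x := by
  have : Fact (Nat.Prime 2) := ⟨Nat.prime_two⟩
  obtain ⟨n, hn⟩ := hS.exists_card_eq
  have hp := (Fact.out : p.Prime)
  have hcop : (Nat.card ↥S).Coprime p := by
    rw [hn]
    apply Nat.Coprime.pow_left
    rw [Nat.coprime_primes Nat.prime_two hp]
    have := hG.hp5
    omega
  obtain ⟨hc, -⟩ := hG.hp S hcop
  intro x hx y hy
  have := hc.is_comm.comm ⟨x, hx⟩ ⟨y, hy⟩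
  exact congrArg Subtype.val this

/-- TSTR-[TRANS] (C1): `N(T)` is transitive on the involutions of `T` (S1225 + S0076). -/
theorem normalizer_transitive (hG : MinCE p G) (T : Sylow 2 G) (M : Subgroup G)
    (hM : Cfsg.IsStronglyEmbedded M) (hTM : (T : Subgroup G) ≤ M) {a b : G}
    (haT : a ∈ (T : Subgroup G)) (hbT : b ∈ (T : Subgroup G)) (ha : orderOf a = 2) (hb : orderOf b = 2) :
    ∃ n ∈ Subgroup.normalizer ((T : Subgroup G) : Set G), n * a * n⁻¹ = b := by
  have : Fact (Nat.Prime 2) := ⟨Nat.prime_two⟩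
  have hcomm := two_group_comm hG (T : Subgroup G) T.2
  obtain ⟨g, hg⟩ := isConj_iff.1 (Cfsg.Agent.Lib.Helper21.se_involutions_isConj hM ha hb)
  have hfix : ∀ c ∈ (T : Subgroup G), ∀ x ∈ (T : Subgroup G), (fun y => x * y * x⁻¹) '' ({c} : Set G) = {c} := by
    intro c hc x hx
    rw [Set.image_singleton]
    congr 1
    rw [hcomm x hx c hc, mul_assoc, mul_inv_cancel, mul_one]
  obtain ⟨n, hn, hnab⟩ := Cfsg.Agent.S0076.result T ({a} : Set G) ({b} : Set G)
    (by intro x hx; rw [Set.mem_singleton_iff] at hx; rw [hx]; exact haT)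
    (by intro x hx; rw [Set.mem_singleton_iff] at hx; rw [hx]; exact hbT)
    (fun x hx => hfix a haT x hx) (fun x hx => hfix b hbT x hx) g
    (by rw [Set.image_singleton, hg])
  refine ⟨n, hn, ?_⟩
  rw [Set.image_singleton] at hnab
  exact Set.singleton_eq_singleton_iff.1 hnab

end Cfsg.Agent.Lib.Helper72.S1936
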