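import Mathlib
import Cfsg.Agent.Lib.Helper22.S1936Defs
import Cfsg.Agent.Lib.Helper72.S1936Trans
import Cfsg.Agent.S0223

/-!
# S1936-[SE0] (hedge, helper72): a proper subgroup containing `N(T)` and all `C(a)`, `a` an involution of `T`,
is strongly embedded (S0223 + S0076)
-/

set_option autoImplicit false
universe u
open Cfsg.Agent.Lib.Helper22.S1936
open scoped Pointwise

namespace Cfsg.Agent.Lib.Helper72.S1936

variable {G : Type u} [Group G] [Finite G] {p : ℕ} [Fact p.Prime]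

/-- An involution of `M ⊇ T` is `M`-conjugate into `T`. -/
theorem exists_conj_mem_sylow (T : Sylow 2 G) (M : Subgroup G) (hTM : (T : Subgroup G) ≤ M)
    {t : G} (htM : t ∈ M) (ht : orderOf t = 2) :
    ∃ m ∈ M, m * t * m⁻¹ ∈ (T : Subgroup G) := by
  have : Fact (Nat.Prime 2) := ⟨Nat.prime_two⟩
  let T' : Sylow 2 M := T.subtype hTM
  let t' : M := ⟨t, htM⟩
  have ht' : t' ^ 2 = 1 := by
    apply Subtype.ext
    show t ^ 2 = 1
    rw [← ht]; exact pow_orderOf_eq_one t
  have hZ : IsPGroup 2 (Subgroup.zpowers t') := by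
    rintro ⟨x, hx⟩
    obtain ⟨k, rfl⟩ := Subgroup.mem_zpowers_iff.1 hx
    refine ⟨1, ?_⟩
    apply Subtype.ext
    show (t' ^ k) ^ 2 ^ 1 = 1
    rw [pow_one, ← zpow_natCast, ← zpow_mul, mul_comm, zpow_mul, zpow_natCast, ht', one_zpow]
  obtain ⟨Q, hQ⟩ := hZ.exists_le_sylow
  obtain ⟨m, hm⟩ := MulAction.exists_smul_eq M Q T'
  refine ⟨m, m.2, ?_⟩
  have h1 : t' ∈ (Q : Subgroup M) := hQ (Subgroup.mem_zpowers t')
  have h2 : MulAut.conj m • t' ∈ MulAut.conj m • (Q : Subgroup M) :=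
    Subgroup.smul_mem_pointwise_smul _ _ _ h1
  rw [← Sylow.coe_subgroup_smul, hm] at h2
  have h3 : (MulAut.conj m • t' : M) ∈ (T : Subgroup G).subgroupOf M := by
    rw [← Sylow.coe_subtype T hTM]
    exact h2
  rw [Subgroup.mem_subgroupOf] at h3
  simpa [MulAut.smul_def, t'] using h3

/-- SIGM-[SE0] (B7 as an `_of` lemma). -/
theorem stronglyEmbedded_of (hG : MinCE p G) (T : Sylow 2 G) (M : Subgroup G) (hM : M ≠ ⊤)
    (hN : Subgroup.normalizer ((T : Subgroup G) : Set G) ≤ M)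
    (hC : ∀ a ∈ (T : Subgroup G), orderOf a = 2 → Subgroup.centralizer ({a} : Set G) ≤ M) :
    Cfsg.IsStronglyEmbedded M := by
  have : Fact (Nat.Prime 2) := ⟨Nat.prime_two⟩
  have hTM : (T : Subgroup G) ≤ M := le_trans Subgroup.le_normalizer hN
  have heven : Even (Nat.card M) := by
    rw [even_iff_two_dvd]
    exact dvd_trans (T.dvd_card_of_dvd_card (even_iff_two_dvd.1 hG.even)) (Subgroup.card_dvd_of_le hTM)
  have hcomm := two_group_comm hG (T : Subgroup G) T.2
  -- conjugating an involution keeps the order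
  have hord : ∀ (m t : G), orderOf t = 2 → orderOf (m * t * m⁻¹) = 2 := by
    intro m t ht
    have : m * t * m⁻¹ = MulAut.conj m t := by simp [MulAut.conj_apply]
    rw [this, MulEquiv.orderOf_eq]
    exact ht
  rw [Cfsg.Agent.S0223.result M hM heven]
  constructor
  · intro t htM ht x hx
    obtain ⟨m, hmM, hmT⟩ := exists_conj_mem_sylow T M hTM htM ht
    have h1 := hC _ hmT (hord m t ht)
    have h2 : m * x * m⁻¹ ∈ Subgroup.centralizer ({m * t * m⁻¹} : Set G) := by
      rw [Subgroup.mem_centralizer_singleton_iff] at hx ⊢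
      have : m * x * m⁻¹ * (m * t * m⁻¹) = m * (x * t) * m⁻¹ := by group
      rw [this, hx]
      group
    have h3 := h1 h2
    have : x = m⁻¹ * (m * x * m⁻¹) * m := by group
    rw [this]
    exact M.mul_mem (M.mul_mem (M.inv_mem hmM) h3) hmM
  · intro t htM s hsM ht hs hts
    obtain ⟨m, hmM, hmT⟩ := exists_conj_mem_sylow T M hTM htM ht
    obtain ⟨k, hkM, hkT⟩ := exists_conj_mem_sylow T M hTM hsM hs
    obtain ⟨g, hg⟩ := isConj_iff.1 hts
    -- a = m t m⁻¹, b = k s k⁻¹ are conjugate in G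
    have hab : (k * g * m⁻¹) * (m * t * m⁻¹) * (k * g * m⁻¹)⁻¹ = k * s * k⁻¹ := by
      rw [← hg]; group
    have hfix : ∀ c ∈ (T : Subgroup G), ∀ x ∈ (T : Subgroup G),
        (fun y => x * y * x⁻¹) '' ({c} : Set G) = {c} := by
      intro c hc x hx
      rw [Set.image_singleton]
      congr 1
      rw [hcomm x hx c hc, mul_assoc, mul_inv_cancel, mul_one]
    obtain ⟨n, hn, hnab⟩ := Cfsg.Agent.S0076.result T ({m * t * m⁻¹} : Set G) ({k * s * k⁻¹} : Set G)
      (by intro x hx; rw [Set.mem_singleton_iff] at hx; rw [hx]; exact hmT)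
      (by intro x hx; rw [Set.mem_singleton_iff] at hx; rw [hx]; exact hkT)
      (fun x hx => hfix _ hmT x hx) (fun x hx => hfix _ hkT x hx) (k * g * m⁻¹)
      (by rw [Set.image_singleton, hab])
    rw [Set.image_singleton] at hnab
    have hn' := Set.singleton_eq_singleton_iff.1 hnab
    refine ⟨k⁻¹ * n * m, M.mul_mem (M.mul_mem (M.inv_mem hkM) (hN hn)) hmM, ?_⟩
    have : k⁻¹ * n * m * t * (k⁻¹ * n * m)⁻¹ = k⁻¹ * (n * (m * t * m⁻¹) * n⁻¹) * k := by group
    rw [this, hn']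
    group

end Cfsg.Agent.Lib.Helper72.S1936
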