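import Mathlib

/-!
# Counting Sylow subgroups via indices of normalizers

Tools for Hall-type formulas `n_p(G) = n_p(G/K) * n_p(PK)` etc.
-/

set_option autoImplicit false

namespace Cfsg.Agent.Lib.Helper72

open Subgroup
open scoped Pointwise

variable {G : Type*} [Group G]

/-- For `A` normal, `|HA : H| = |A : H ∩ A|`. -/
theorem relIndex_sup_of_normal_right [Finite G] (H A : Subgroup G) [A.Normal] :
    H.relIndex (H ⊔ A) = H.relIndex A := by
  have h1 : A.relIndex (H ⊔ A) = A.relIndex H := Subgroup.relIndex_sup_right H A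
  have e1 := Subgroup.relIndex_mul_relIndex ⊥ A (H ⊔ A) bot_le le_sup_right
  have e2 := Subgroup.relIndex_mul_relIndex ⊥ H (H ⊔ A) bot_le le_sup_left
  have e3 := Subgroup.relIndex_mul_relIndex ⊥ (H ⊓ A) A bot_le inf_le_right
  have e4 := Subgroup.relIndex_mul_relIndex ⊥ (H ⊓ A) H bot_le inf_le_left
  rw [Subgroup.inf_relIndex_right] at e3
  rw [Subgroup.inf_relIndex_left] at e4
  rw [h1] at e1
  have hpos : 0 < (⊥ : Subgroup G).relIndex H := by
    rw [Subgroup.relIndex_bot_left]; exact Nat.card_pos
  apply Nat.eq_of_mul_eq_mul_left hpos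
  rw [e2, ← e1, ← e3, ← e4]
  ring

/-- If `H` normalizes `L` then `|HL : H| = |L : H ∩ L|`. -/
theorem relIndex_sup_of_le_normalizer [Finite G] (H L : Subgroup G)
    (h : H ≤ normalizer (L : Set G)) : H.relIndex (H ⊔ L) = H.relIndex L := by
  have hL : L ≤ normalizer (L : Set G) := le_normalizer
  have hn : (L.subgroupOf (normalizer (L : Set G))).Normal := normal_in_normalizer
  have key := relIndex_sup_of_normal_right (H.subgroupOf (normalizer (L : Set G)))
    (L.subgroupOf (normalizer (L : Set G)))
  rw [← subgroupOf_sup h hL, relIndex_subgroupOf (sup_le h hL), relIndex_subgroupOf hL] at key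
  exact key

/-- The number of Sylow `p`-subgroups of a subgroup `M`, from a Sylow `p`-subgroup `Q` of `M`. -/
theorem card_sylow_subgroup_eq_relIndex [Finite G] {p : ℕ} [Fact p.Prime] (Q M : Subgroup G)
    (hQM : Q ≤ M) (hQ : IsPGroup p Q) (hidx : ¬ p ∣ Q.relIndex M) :
    Nat.card (Sylow p M) = (normalizer (Q : Set G)).relIndex M := by
  have hQ' : IsPGroup p (Q.subgroupOf M) := hQ.comap_subtype
  have hidx' : ¬ p ∣ (Q.subgroupOf M).index := hidx
  rw [Sylow.card_eq_index_normalizer (hQ'.toSylow hidx')]
  change (normalizer ((Q.subgroupOf M : Subgroup M) : Set M)).index = _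
  rw [← subgroupOf_normalizer_eq hQM]
  rfl

/-- The number of Sylow `p`-subgroups of a subgroup `M` containing the Sylow `p`-subgroup `P`. -/
theorem card_sylow_subgroup_eq_relIndex' [Finite G] {p : ℕ} [Fact p.Prime] (P : Sylow p G)
    (M : Subgroup G) (hPM : (P : Subgroup G) ≤ M) :
    Nat.card (Sylow p M) = (normalizer ((P : Subgroup G) : Set G)).relIndex M := by
  apply card_sylow_subgroup_eq_relIndex _ _ hPM P.2
  intro h
  exact P.not_dvd_index (h.trans (relIndex_dvd_index_of_le hPM))

/-- Quotienting by a normal `p`-subgroup does not change the number of Sylow `p`-subgroups. -/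
theorem card_sylow_quotient_of_isPGroup {M : Type*} [Group M] [Finite M] {p : ℕ} [Fact p.Prime]
    (R : Subgroup M) [R.Normal] (hR : IsPGroup p R) :
    Nat.card (Sylow p (M ⧸ R)) = Nat.card (Sylow p M) := by
  have hf : Function.Surjective (QuotientGroup.mk' R) := QuotientGroup.mk'_surjective _
  symm
  apply Nat.card_congr
  refine Equiv.ofBijective (Sylow.mapSurjective hf) ⟨?_, Sylow.mapSurjective_surjective hf p⟩
  intro S T hST
  have h1 : (S : Subgroup M).map (QuotientGroup.mk' R) =
      (T : Subgroup M).map (QuotientGroup.mk' R) := by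
    have := congrArg Sylow.toSubgroup hST
    simpa using this
  have h2 := congrArg (Subgroup.comap (QuotientGroup.mk' R)) h1
  rw [Subgroup.comap_map_eq, Subgroup.comap_map_eq, QuotientGroup.ker_mk',
    sup_of_le_left (hR.le_sylow_of_normal S), sup_of_le_left (hR.le_sylow_of_normal T)] at h2
  exact Sylow.ext h2

/-- `n_p(G/K) = |G : N_G(PK)|`. -/
theorem card_sylow_quotient_eq_index [Finite G] {p : ℕ} [Fact p.Prime] (P : Sylow p G)
    (K : Subgroup G) [K.Normal] :
    Nat.card (Sylow p (G ⧸ K)) =
      (normalizer (((P : Subgroup G) ⊔ K : Subgroup G) : Set G)).index := by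
  have hf := QuotientGroup.mk'_surjective K
  rw [Sylow.card_eq_index_normalizer (P.mapSurjective hf)]
  change (normalizer ((((P : Subgroup G).map (QuotientGroup.mk' K) : Subgroup (G ⧸ K))) :
    Set (G ⧸ K))).index = _
  rw [← Subgroup.index_comap_of_surjective _ hf, Subgroup.comap_normalizer_eq_of_surjective _ hf,
    Subgroup.comap_map_eq, QuotientGroup.ker_mk']

/-- Frattini argument: `N_G(L) ≤ N_G(P) L` when `P ≤ L` is a Sylow subgroup of `G`. -/
theorem normalizer_le_normalizer_sylow_sup [Finite G] {p : ℕ} [Fact p.Prime] (P : Sylow p G)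
    (L : Subgroup G) (hPL : (P : Subgroup G) ≤ L) :
    normalizer (L : Set G) ≤ normalizer ((P : Subgroup G) : Set G) ⊔ L := by
  intro b hb
  have hbP : ((b • P : Sylow p G) : Subgroup G) ≤ L := by
    intro y hy
    change y ∈ MulAut.conj b • (P : Subgroup G) at hy
    rw [Subgroup.mem_pointwise_smul_iff_inv_smul_mem] at hy
    have h1 : b⁻¹ * y * b ∈ L := hPL (by simpa using hy)
    have h2 := (mem_normalizer_iff.mp hb (b⁻¹ * y * b)).mp h1
    simpa [mul_assoc] using h2
  obtain ⟨l, hl⟩ := MulAction.exists_smul_eq L (P.subtype hPL) ((b • P).subtype hbP)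
  rw [Sylow.smul_subtype] at hl
  have hl' : (l : G) • P = b • P := Sylow.subtype_injective hl
  have h3 : ((l : G)⁻¹ * b) • P = P := by
    rw [mul_smul, ← hl', inv_smul_smul]
  have h4 : (l : G)⁻¹ * b ∈ normalizer ((P : Subgroup G) : Set G) :=
    Sylow.smul_eq_iff_mem_normalizer.mp h3
  have h5 : b = ((l : G)⁻¹ * b) * (((l : G)⁻¹ * b)⁻¹ * (l : G) * ((l : G)⁻¹ * b)) := by group
  rw [h5]
  apply Subgroup.mul_mem_sup h4
  -- conjugate of `l ∈ L` by an element normalizing `L`... simpler: rewrite differently
  have h6 : ((l : G)⁻¹ * b)⁻¹ * (l : G) * ((l : G)⁻¹ * b) = b⁻¹ * (l : G) * b := by group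
  rw [h6]
  have hb' : b⁻¹ ∈ normalizer (L : Set G) := Subgroup.inv_mem _ hb
  have := (mem_normalizer_iff.mp hb' (l : G)).mp l.2
  simpa using this

/-- `n_p(G) = n_p(G/K) * n_p(PK)` in index form. -/
theorem index_normalizer_sylow_eq_mul [Finite G] {p : ℕ} [Fact p.Prime] (P : Sylow p G)
    (K : Subgroup G) [K.Normal] :
    (normalizer ((P : Subgroup G) : Set G)).index =
      (normalizer (((P : Subgroup G) ⊔ K : Subgroup G) : Set G)).index *
        (normalizer ((P : Subgroup G) : Set G)).relIndex ((P : Subgroup G) ⊔ K) := by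
  set A := normalizer ((P : Subgroup G) : Set G) with hA
  set L := (P : Subgroup G) ⊔ K with hL
  set B := normalizer (L : Set G) with hB
  have hAB : A ≤ B := by
    intro a ha
    rw [hB, mem_normalizer_iff]
    intro x
    have hK : ∀ y, y ∈ K ↔ a * y * a⁻¹ ∈ K := by
      intro y
      constructor
      · intro hy; exact ‹K.Normal›.conj_mem y hy a
      · intro hy
        have := ‹K.Normal›.conj_mem _ hy a⁻¹
        simpa [mul_assoc] using this
    have hsup : ∀ M : Subgroup G, (∀ y, y ∈ (P : Subgroup G) → a * y * a⁻¹ ∈ M) →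
        (∀ y, y ∈ K → a * y * a⁻¹ ∈ M) → ∀ x, x ∈ L → a * x * a⁻¹ ∈ M := by
      intro M h1 h2 x hx
      have : L ≤ M.comap (MulAut.conj a).toMonoidHom := by
        rw [hL]
        apply sup_le
        · intro y hy; exact h1 y hy
        · intro y hy; exact h2 y hy
      exact this hx
    constructor
    · intro hx
      apply hsup L _ _ x hx
      · intro y hy
        exact le_sup_left (α := Subgroup G) ((mem_normalizer_iff.mp ha y).mp hy)
      · intro y hy
        exact le_sup_right (α := Subgroup G) ((hK y).mp hy)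
    · intro hx
      have ha' : a⁻¹ ∈ A := Subgroup.inv_mem _ ha
      have hsup' : ∀ x, x ∈ L → a⁻¹ * x * a ∈ L := by
        intro x hx
        have : L ≤ L.comap (MulAut.conj a⁻¹).toMonoidHom := by
          rw [hL]
          apply sup_le
          · intro y hy
            have := (mem_normalizer_iff.mp ha' y).mp hy
            exact le_sup_left (α := Subgroup G) (by simpa using this)
          · intro y hy
            have := ‹K.Normal›.conj_mem y hy a⁻¹
            exact le_sup_right (α := Subgroup G) (by simpa using this)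
        have := this hx
        simpa using this
      have := hsup' _ hx
      simpa [mul_assoc] using this
  have hBA : B = A ⊔ L := by
    apply le_antisymm
    · exact normalizer_le_normalizer_sylow_sup P L le_sup_left
    · exact sup_le hAB le_normalizer
  rw [← relIndex_sup_of_le_normalizer A L hAB, ← hBA, mul_comm]
  exact (relIndex_mul_index hAB).symm

end Cfsg.Agent.Lib.Helper72
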