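import Mathlib

/-!
# Normal `q`-subgroups of finite solvable groups

* `exists_normal_abelian_of_solvable`: a nontrivial solvable group has a nontrivial abelian normal
  subgroup (the last nontrivial term of the derived series).
* `exists_normal_pgroup_of_abelian_normal`: a nontrivial abelian normal subgroup of a finite group
  contains a nontrivial normal `q`-subgroup of the whole group (its `q`-primary part).
* `exists_normal_pgroup_of_solvable`: a nontrivial finite solvable group has a nontrivial normal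
  `q`-subgroup for some prime `q`.
-/

set_option autoImplicit false

namespace Cfsg.Agent.Lib.Helper72

open scoped commutatorElement

theorem exists_normal_abelian_of_solvable {G : Type*} [Group G] [Nontrivial G]
    (hG : Group.IsSolvable G) :
    ∃ K : Subgroup G, K.Normal ∧ K ≠ ⊥ ∧ ∀ a ∈ K, ∀ b ∈ K, a * b = b * a := by
  classical
  have hex : ∃ n, derivedSeries G n = ⊥ := hG.solvable
  have h0 : derivedSeries G (Nat.find hex) = ⊥ := Nat.find_spec hex
  have hn0 : Nat.find hex ≠ 0 := by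
    intro h
    rw [h, derivedSeries_zero] at h0
    exact top_ne_bot h0
  obtain ⟨m, hm⟩ := Nat.exists_eq_succ_of_ne_zero hn0
  refine ⟨derivedSeries G m, derivedSeries_normal G m, ?_, ?_⟩
  · exact Nat.find_min hex (by omega)
  · intro a ha b hb
    have h1 : ⁅a, b⁆ ∈ derivedSeries G (m + 1) := by
      rw [derivedSeries_succ]
      exact Subgroup.commutator_mem_commutator ha hb
    rw [← Nat.succ_eq_add_one, ← hm, h0, Subgroup.mem_bot] at h1
    exact commutatorElement_eq_one_iff_mul_comm.mp h1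

theorem exists_normal_pgroup_of_abelian_normal {G : Type*} [Group G] [Finite G] (K : Subgroup G)
    [hKn : K.Normal] (hK : K ≠ ⊥) (hab : ∀ a ∈ K, ∀ b ∈ K, a * b = b * a) :
    ∃ q : ℕ, q.Prime ∧ ∃ K' : Subgroup G, K'.Normal ∧ K' ≠ ⊥ ∧ IsPGroup q K' := by
  have hcard : Nat.card K ≠ 1 := fun h => hK (Subgroup.card_eq_one.mp h)
  obtain ⟨q, hq, hqdvd⟩ := Nat.exists_prime_and_dvd hcard
  have := Fact.mk hq
  obtain ⟨x, hx⟩ := exists_prime_orderOf_dvd_card' q hqdvd
  let K' : Subgroup G :=
    { carrier := {y | y ∈ K ∧ ∃ n : ℕ, y ^ (q ^ n) = 1}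
      one_mem' := ⟨K.one_mem, 0, by simp⟩
      mul_mem' := by
        rintro a b ⟨ha, n, hn⟩ ⟨hb, m, hm⟩
        refine ⟨K.mul_mem ha hb, n + m, ?_⟩
        have hc : Commute a b := hab a ha b hb
        rw [hc.mul_pow, pow_add, pow_mul, hn, one_pow, one_mul, mul_comm (q ^ n), pow_mul, hm,
          one_pow]
      inv_mem' := by
        rintro a ⟨ha, n, hn⟩
        exact ⟨K.inv_mem ha, n, by rw [inv_pow, hn, inv_one]⟩ }
  refine ⟨q, hq, K', ?_, ?_, ?_⟩
  · refine ⟨fun y hy g => ?_⟩
    obtain ⟨hyK, n, hn⟩ := hy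
    refine ⟨hKn.conj_mem y hyK g, n, ?_⟩
    rw [conj_pow, hn, mul_one, mul_inv_cancel]
  · intro hbot
    have hxK' : (x : G) ∈ K' := by
      refine ⟨x.2, 1, ?_⟩
      rw [pow_one, ← Subgroup.coe_pow, ← hx, pow_orderOf_eq_one]
      rfl
    rw [hbot, Subgroup.mem_bot] at hxK'
    have hx1 : x = 1 := Subtype.ext hxK'
    rw [hx1, orderOf_one] at hx
    exact hq.one_lt.ne hx
  · rintro ⟨y, hyK, n, hn⟩
    exact ⟨n, Subtype.ext (by simpa using hn)⟩

theorem exists_normal_pgroup_of_solvable {G : Type*} [Group G] [Finite G] [Nontrivial G]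
    (hG : Group.IsSolvable G) :
    ∃ q : ℕ, q.Prime ∧ ∃ K : Subgroup G, K.Normal ∧ K ≠ ⊥ ∧ IsPGroup q K := by
  obtain ⟨K, hKn, hK, hab⟩ := exists_normal_abelian_of_solvable hG
  exact exists_normal_pgroup_of_abelian_normal K hK hab

end Cfsg.Agent.Lib.Helper72
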