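import Mathlib
import Cfsg.Agent.Lib.Helper72.Simple5040D

/-!
# No simple group of order 5040, leaf N36: `n_5 = 36`

(helper72)
-/

set_option autoImplicit false
set_option linter.unusedSectionVars false
set_option linter.unusedVariables false

namespace Cfsg.Agent.Lib.Helper72.Simple5040

open MulAction Subgroup
open Cfsg.Agent.Lib.Helper17

variable {G : Type*} [Group G] [Finite G] [IsSimpleGroup G]

attribute [local instance] fact7 fact5 fact3 fact2

/-- In a non-commutative simple group the centralizer of a non-identity element is proper. -/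
theorem centralizer_ne_top (hG : ¬ IsMulCommutative G) (k : G) (hk : k ≠ 1) :
    centralizer ({k} : Set G) ≠ ⊤ := by
  intro htop
  have hcen : k ∈ center G := by
    rw [Subgroup.mem_center_iff]
    intro g
    have : g ∈ centralizer ({k} : Set G) := by rw [htop]; trivial
    rw [mem_centralizer_singleton_iff] at this
    exact this
  rcases (inferInstance : (center G).Normal).eq_bot_or_eq_top with hb' | ht'
  · rw [hb', Subgroup.mem_bot] at hcen
    exact hk hcen
  · apply hG
    refine ⟨⟨fun a b => ?_⟩⟩
    have ha : a ∈ center G := by rw [ht']; trivial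
    rw [Subgroup.mem_center_iff] at ha
    exact (ha b).symm

/-- Leaf N36. -/
theorem false_of_card_sylow5_eq_36 (h : Nat.card G = 5040)
    (hn : Nat.card (Sylow 5 G) = 36) : False := by
  have hG := not_comm h
  obtain ⟨P⟩ := (Sylow.nonempty : Nonempty (Sylow 5 G))
  have hNc := card_sylow_mul_card_normalizer P
  rw [h, hn] at hNc
  have hN5 : Nat.card (normalizer ((P : Subgroup G) : Set G)) = 140 := by omega
  obtain ⟨r, hr, hCr⟩ := card_centralizer_sylow5 h P
  rw [hN5] at hCr
  have h7C : 7 ∣ Nat.card (centralizer ((P : Subgroup G) : Set G)) := by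
    rcases hr with rfl | rfl <;> omega
  obtain ⟨y, hyC, hy7⟩ := exists_mem_orderOf_eq_of_dvd_card
    (centralizer ((P : Subgroup G) : Set G)) 7 h7C
  obtain ⟨Q, hyQ⟩ := exists_sylow_mem_of_orderOf_eq y hy7
  have hQ7 := card_sylow7 h Q
  have hy1 : y ≠ 1 := by
    intro h1
    rw [h1, orderOf_one] at hy7
    omega
  have hQz : (Q : Subgroup G) = zpowers y :=
    eq_zpowers_of_card_prime _ (by norm_num) hQ7 hyQ hy1
  have hyN5 : y ∈ normalizer ((P : Subgroup G) : Set G) :=
    Subgroup.centralizer_le_normalizer _ hyC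
  have hQN5 : (Q : Subgroup G) ≤ normalizer ((P : Subgroup G) : Set G) := by
    rw [hQz, zpowers_le]; exact hyN5
  -- `N(P) ≤ N(Q)`
  obtain ⟨n, hn7, hnm⟩ := card_eq_mul_card_inf_normalizer Q
    (normalizer ((P : Subgroup G) : Set G)) hQN5
  rw [hN5] at hnm
  have hn1 : n = 1 := by
    have hd : n ∣ 140 := Dvd.intro _ hnm.symm
    have hle : n ≤ 140 := Nat.le_of_dvd (by norm_num) hd
    clear hnm
    interval_cases n <;> omega
  rw [hn1, one_mul] at hnm
  have hNN : normalizer ((P : Subgroup G) : Set G) ≤ normalizer ((Q : Subgroup G) : Set G) := by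
    have := Subgroup.eq_of_le_of_card_ge
      (inf_le_left : normalizer ((P : Subgroup G) : Set G) ⊓
        normalizer ((Q : Subgroup G) : Set G) ≤ normalizer ((P : Subgroup G) : Set G))
      (by rw [← hnm, hN5])
    rw [← this]; exact inf_le_right
  -- `|N(Q)| = 140`
  have hNQ : Nat.card (normalizer ((Q : Subgroup G) : Set G)) = 140 := by
    have hd : 140 ∣ Nat.card (normalizer ((Q : Subgroup G) : Set G)) :=
      hN5 ▸ Subgroup.card_dvd_of_le hNN
    have hmul := card_sylow_mul_card_normalizer Q
    rw [h] at hmul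
    have hmod : Nat.card (Sylow 7 G) % 7 = 1 := card_sylow_modEq_one 7 G
    have hcard : Nat.card G = 7 ^ 1 * 720 := by rw [h]; norm_num
    have hne1 : Nat.card (Sylow 7 G) ≠ 1 :=
      card_sylow_ne_one_of_simple hcard (by norm_num) (by norm_num) (by norm_num)
    obtain ⟨j, hj⟩ := hd
    rw [hj] at hmul ⊢
    have h36 : Nat.card (Sylow 7 G) * j = 36 := by
      have : Nat.card (Sylow 7 G) * j * 140 = 36 * 140 := by
        calc Nat.card (Sylow 7 G) * j * 140 = Nat.card (Sylow 7 G) * (140 * j) := by ring
          _ = 36 * 140 := by rw [hmul]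
      exact Nat.eq_of_mul_eq_mul_right (by norm_num) this
    have hjle : j ≤ 36 := Nat.le_of_dvd (by norm_num) (Dvd.intro_left _ h36)
    have hcle : Nat.card (Sylow 7 G) ≤ 36 := Nat.le_of_dvd (by norm_num) (Dvd.intro _ h36)
    generalize Nat.card (Sylow 7 G) = c at *
    clear hmul hj
    have hj1 : j = 1 := by
      interval_cases j <;> omega
    rw [hj1]
  -- `|C(Q)| = 70`
  have h1 := relIndex_cent_norm_dvd_pred_of_card_prime Q hQ7
  have h2 := relIndex_cent_norm_ne_one_of_simple hG Q (by rw [h]; norm_num)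
  have h3 := card_mul_relIndex_of_le
    (Subgroup.centralizer_le_normalizer (s := ((Q : Subgroup G) : Set G)))
  rw [hNQ] at h3
  have hCQ : 2 ∣ Nat.card (centralizer ((Q : Subgroup G) : Set G)) := by
    have hle : (centralizer ((Q : Subgroup G) : Set G)).relIndex
        (normalizer ((Q : Subgroup G) : Set G)) ≤ 6 := Nat.le_of_dvd (by norm_num) h1
    generalize (centralizer ((Q : Subgroup G) : Set G)).relIndex
        (normalizer ((Q : Subgroup G) : Set G)) = r' at *
    interval_cases r' <;> omega
  obtain ⟨v, hvC, hv⟩ := exists_mem_orderOf_eq_of_dvd_card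
    (centralizer ((Q : Subgroup G) : Set G)) 2 hCQ
  have hv1 : v ≠ 1 := by
    intro h1
    rw [h1, orderOf_one] at hv
    omega
  have hvN : v ∈ normalizer ((Q : Subgroup G) : Set G) :=
    Subgroup.centralizer_le_normalizer _ hvC
  -- a Sylow 2-subgroup `T` of `N(Q)` containing `v`
  obtain ⟨T0, hT0⟩ := exists_sylow_sub_ge (normalizer ((Q : Subgroup G) : Set G)) (zpowers v)
    (by rw [zpowers_le]; exact hvN) (isPGroup_zpowers_of_orderOf_eq v hv)
  set T : Subgroup G := (T0 : Subgroup (normalizer ((Q : Subgroup G) : Set G))).map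
    (normalizer ((Q : Subgroup G) : Set G)).subtype with hT
  have hTN : T ≤ normalizer ((Q : Subgroup G) : Set G) := map_subtype_le' _ _
  have hT4 : Nat.card T = 4 := by
    rw [hT, card_map_subtype]
    have hcard : Nat.card (normalizer ((Q : Subgroup G) : Set G)) = 2 ^ 2 * 35 := by
      rw [hNQ]; norm_num
    rw [sylow_card_of_card_eq T0 hcard (by norm_num)]; norm_num
  have hvT : v ∈ T := hT0 (mem_zpowers v)
  have hTCv : T ≤ centralizer ({v} : Set G) := by
    intro τ hτ
    have h4 : Nat.card T = 2 ^ 2 := by rw [hT4]; norm_num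
    have hc := IsPGroup.isMulCommutative_of_card_eq_prime_sq h4
    have := hc.is_comm.comm (⟨τ, hτ⟩ : T) ⟨v, hvT⟩
    rw [mem_centralizer_singleton_iff]
    exact congrArg Subtype.val this
  have hQCv : (Q : Subgroup G) ≤ centralizer ({v} : Set G) := by
    intro q hq
    rw [mem_centralizer_singleton_iff]
    rw [Subgroup.mem_centralizer_iff] at hvC
    exact hvC q hq
  -- `28 ∣ |C(v) ⊓ N(Q)|`
  have h28 : 28 ∣ Nat.card (centralizer ({v} : Set G) ⊓
      normalizer ((Q : Subgroup G) : Set G) : Subgroup G) := by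
    have d4 : 4 ∣ Nat.card (centralizer ({v} : Set G) ⊓
        normalizer ((Q : Subgroup G) : Set G) : Subgroup G) := by
      have := Subgroup.card_dvd_of_le (le_inf hTCv hTN)
      rwa [hT4] at this
    have d7 : 7 ∣ Nat.card (centralizer ({v} : Set G) ⊓
        normalizer ((Q : Subgroup G) : Set G) : Subgroup G) := by
      have := Subgroup.card_dvd_of_le (le_inf hQCv
        (le_normalizer : (Q : Subgroup G) ≤ normalizer ((Q : Subgroup G) : Set G)))
      rwa [hQ7] at this
    have : Nat.Coprime 4 7 := by norm_num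
    exact this.mul_dvd_of_dvd_of_dvd d4 d7
  have hm140 : Nat.card (centralizer ({v} : Set G) ⊓
      normalizer ((Q : Subgroup G) : Set G) : Subgroup G) ∣ 140 := by
    rw [← hNQ]
    exact Subgroup.card_dvd_of_le inf_le_right
  obtain ⟨n', hn'7, hn'm⟩ := card_eq_mul_card_inf_normalizer Q (centralizer ({v} : Set G)) hQCv
  have h8 := Cfsg.Agent.Lib.Helper76.InvolCentParity.eight_dvd_card_centralizer_of_simple hG
    (by rw [h]; norm_num) v hv
  have hdvd : Nat.card (centralizer ({v} : Set G)) ∣ 5040 :=
    h ▸ Subgroup.card_subgroup_dvd_card _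
  have hle := card_le_630 h _ (centralizer_ne_top hG v hv1)
  generalize Nat.card (centralizer ({v} : Set G) ⊓
      normalizer ((Q : Subgroup G) : Set G) : Subgroup G) = m at *
  generalize Nat.card (centralizer ({v} : Set G)) = cv at *
  obtain ⟨c, rfl⟩ := h28
  have hc5 : c ∣ 5 := by
    have : 28 * c ∣ 28 * 5 := by simpa using hm140
    exact Nat.dvd_of_mul_dvd_mul_left (by norm_num) this
  have hc : c = 1 ∨ c = 5 := (Nat.dvd_prime (by norm_num)).1 hc5
  rcases hc with rfl | rfl
  · -- `m = 28`
    rw [hn'm] at h8 hdvd hle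
    have hn180 : n' ∣ 180 := by
      have : n' * 28 ∣ 180 * 28 := by simpa using hdvd
      exact Nat.dvd_of_mul_dvd_mul_right (by norm_num) this
    have hn'le : n' ≤ 22 := by omega
    clear hn'm hdvd
    interval_cases n' <;> omega
  · -- `m = 140`
    rw [hn'm] at h8 hle
    have hn'le : n' ≤ 4 := by omega
    clear hn'm hdvd
    interval_cases n' <;> omega

end Cfsg.Agent.Lib.Helper72.Simple5040
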