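import Mathlib
import Cfsg.Agent.Lib.Helper72.Simple5040N36

/-!
# No simple group of order 5760, part A: basic facts

(helper72)  `5760 = 2^7 * 3^2 * 5`.
-/

set_option autoImplicit false
set_option linter.unusedSectionVars false
set_option linter.unusedVariables false

namespace Cfsg.Agent.Lib.Helper72.Simple5760

open MulAction Subgroup
open Cfsg.Agent.Lib.Helper17

variable {G : Type*} [Group G] [Finite G] [IsSimpleGroup G]

theorem fact5 : Fact (Nat.Prime 5) := ⟨by norm_num⟩
theorem fact3 : Fact (Nat.Prime 3) := ⟨by norm_num⟩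
theorem fact2 : Fact (Nat.Prime 2) := ⟨by norm_num⟩

attribute [local instance] fact5 fact3 fact2

theorem not_comm (h : Nat.card G = 5760) : ¬ IsMulCommutative G :=
  not_comm_of_simple_of_not_prime (by rw [h]; norm_num)

theorem index_ge_ten (h : Nat.card G = 5760) (H : Subgroup G) (hH : H ≠ ⊤) : 10 ≤ H.index := by
  have hfact := two_mul_card_dvd_factorial_index_of_simple (not_comm h) H hH
  rw [h] at hfact
  by_contra hlt
  have hle : H.index ≤ 9 := by omega
  have h0 : H.index ≠ 0 := Subgroup.index_ne_zero_of_finite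
  generalize H.index = k at *
  interval_cases k <;> revert hfact <;> decide

theorem card_sylow5 (h : Nat.card G = 5760) (Q : Sylow 5 G) :
    Nat.card (Q : Subgroup G) = 5 := by
  have hcard : Nat.card G = 5 ^ 1 * 1152 := by rw [h]; norm_num
  rw [sylow_card_of_card_eq Q hcard (by norm_num)]; norm_num

theorem card_sylow3 (h : Nat.card G = 5760) (Q : Sylow 3 G) :
    Nat.card (Q : Subgroup G) = 9 := by
  have hcard : Nat.card G = 3 ^ 2 * 640 := by rw [h]; norm_num
  rw [sylow_card_of_card_eq Q hcard (by norm_num)]; norm_num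

theorem card_sylow2 (h : Nat.card G = 5760) (Q : Sylow 2 G) :
    Nat.card (Q : Subgroup G) = 128 := by
  have hcard : Nat.card G = 2 ^ 7 * 45 := by rw [h]; norm_num
  rw [sylow_card_of_card_eq Q hcard (by norm_num)]; norm_num

/-- `|C(P₅)| * r = |N(P₅)|` with `r ∈ {2, 4}`. -/
theorem card_centralizer_sylow5 (h : Nat.card G = 5760) (P : Sylow 5 G) :
    ∃ r : ℕ, (r = 2 ∨ r = 4) ∧
      Nat.card (centralizer ((P : Subgroup G) : Set G)) * r =
        Nat.card (normalizer ((P : Subgroup G) : Set G)) := by
  have hG := not_comm h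
  have h1 := relIndex_cent_norm_dvd_pred_of_card_prime P (card_sylow5 h P)
  have h2 := relIndex_cent_norm_ne_one_of_simple hG P (by rw [h]; norm_num)
  have h3 := card_mul_relIndex_of_le
    (Subgroup.centralizer_le_normalizer (s := ((P : Subgroup G) : Set G)))
  refine ⟨_, ?_, h3⟩
  have hle : (centralizer ((P : Subgroup G) : Set G)).relIndex
      (normalizer ((P : Subgroup G) : Set G)) ≤ 4 := Nat.le_of_dvd (by norm_num) h1
  generalize (centralizer ((P : Subgroup G) : Set G)).relIndex
      (normalizer ((P : Subgroup G) : Set G)) = r at *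
  interval_cases r <;> omega

/-- `n₅ * |N(P₅)| = 5760`. -/
theorem card_sylow5_mul_card_normalizer (h : Nat.card G = 5760) (P : Sylow 5 G) :
    Nat.card (Sylow 5 G) * Nat.card (normalizer ((P : Subgroup G) : Set G)) = 5760 := by
  have hN := card_sylow_mul_card_normalizer P
  rw [h] at hN
  exact hN

/-- The possible numbers of Sylow `5`-subgroups. -/
theorem card_sylow5_cases (h : Nat.card G = 5760) :
    Nat.card (Sylow 5 G) = 16 ∨ Nat.card (Sylow 5 G) = 36 ∨ Nat.card (Sylow 5 G) = 96 ∨
      Nat.card (Sylow 5 G) = 576 := by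
  have hG := not_comm h
  have hcard : Nat.card G = 5 ^ 1 * 1152 := by rw [h]; norm_num
  have hdvd : Nat.card (Sylow 5 G) ∣ 1152 := card_sylow_dvd_of_card_eq hcard (by norm_num)
  have hmod : Nat.card (Sylow 5 G) % 5 = 1 := card_sylow_modEq_one 5 G
  obtain ⟨P⟩ := (Sylow.nonempty : Nonempty (Sylow 5 G))
  have hidx : Nat.card (Sylow 5 G) = (normalizer ((P : Subgroup G) : Set G)).index :=
    P.card_eq_index_normalizer
  have hne1 : Nat.card (Sylow 5 G) ≠ 1 :=
    card_sylow_ne_one_of_simple hcard (by norm_num) (by norm_num) (by norm_num)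
  have h10 : 10 ≤ Nat.card (Sylow 5 G) := by
    rw [hidx]
    apply index_ge_ten h
    intro htop
    rw [htop, Subgroup.index_top] at hidx
    exact hne1 hidx
  have hle : Nat.card (Sylow 5 G) ≤ 1152 := Nat.le_of_dvd (by norm_num) hdvd
  clear hidx hne1
  generalize Nat.card (Sylow 5 G) = c at *
  interval_cases c <;> omega

end Cfsg.Agent.Lib.Helper72.Simple5760
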