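import Mathlib
import Cfsg.Agent.Lib.Helper67.S3Defs
import Cfsg.Agent.Lib.Helper67.S3Basic

/-!
# S4305, module ZC: three kernels  (helper72, for helper67)

`comm_of_three_kernels`: in the configuration `Ctx`, if `K ⊴ Q` contains all `x⁻¹ ψ_h(x)` and
`K ∩ ψ_f(K) ∩ ψ_{f²}(K) = 1`, then `Q` is abelian.
-/

set_option autoImplicit false
set_option linter.unusedSectionVars false

namespace Cfsg.Agent.Lib.Helper72.S3ZC

open Cfsg.Agent.Lib.Helper67.S3

variable {𝔸 Q V : Type*} [Group 𝔸] [Group Q] [Finite Q] [AddCommGroup V] [Finite V] {p : ℕ}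
  [Fact p.Prime] [Module (ZMod p) V] {f h : 𝔸} {ψ : 𝔸 →* MulAut Q}
  {ρ : Representation (ZMod p) Q V} {σ : Representation (ZMod p) 𝔸 V}

omit [Finite Q] in
/-- in a group of odd order, `x⁻¹ x⁻¹ ∈ H` implies `x ∈ H` -/
theorem mem_of_inv_sq_mem (hodd : Odd (Nat.card Q)) (H : Subgroup Q) (x : Q)
    (hx : x⁻¹ * x⁻¹ ∈ H) : x ∈ H := by
  obtain ⟨m, hm⟩ := hodd
  have h1 : x ^ (Nat.card Q) = 1 := pow_card_eq_one'
  have h2 : x * x ∈ H := by
    have := H.inv_mem hx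
    rwa [mul_inv_rev, inv_inv] at this
  have h3 : (x * x) ^ (m + 1) = x := by
    rw [← pow_two, ← pow_mul]
    have : 2 * (m + 1) = Nat.card Q + 1 := by omega
    rw [this, pow_succ, h1, one_mul]
  rw [← h3]
  exact H.pow_mem h2 _

/-- **Module ZC.** -/
theorem comm_of_three_kernels (c : Ctx f h ψ ρ σ) (K : Subgroup Q) [hKn : K.Normal]
    (hK : ∀ x : Q, x⁻¹ * ψ h x ∈ K)
    (hint : K ⊓ K.map (ψ f).toMonoidHom ⊓ K.map (ψ (f * f)).toMonoidHom = ⊥) :
    ∀ x y : Q, x * y = y * x := by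
  have hodd : Odd (Nat.card Q) := by
    rcases Nat.even_or_odd (Nat.card Q) with he | ho
    · exfalso
      have h2 : 2 ∣ Nat.card Q := he.two_dvd
      have h3 := Nat.dvd_gcd h2 (show 2 ∣ 6 by norm_num)
      rw [Nat.Coprime.gcd_eq_one c.q6] at h3
      exact absurd h3 (by norm_num)
    · exact ho
  have hα3 : ∀ x, ψ f (ψ f (ψ f x)) = x := c.rel.psi_f3 ψ
  have hff : ∀ x, ψ (f * f) x = ψ f (ψ f x) := fun x => by rw [map_mul]; rfl
  -- the three kernels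
  set K2 : Subgroup Q := K.map (ψ f).toMonoidHom with hK2def
  set K3 : Subgroup Q := K.map (ψ (f * f)).toMonoidHom with hK3def
  have hK2n : K2.Normal := hKn.map _ (ψ f).surjective
  have hK3n : K3.Normal := hKn.map _ (ψ (f * f)).surjective
  have h12 : ∀ x ∈ K, ψ f x ∈ K2 := fun x hx => Subgroup.mem_map_of_mem _ hx
  have h23 : ∀ x ∈ K2, ψ f x ∈ K3 := by
    rintro _ ⟨k, hk, rfl⟩
    refine ⟨k, hk, ?_⟩
    exact hff k
  have h31 : ∀ x ∈ K3, ψ f x ∈ K := by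
    rintro _ ⟨k, hk, rfl⟩
    have : ψ f ((ψ (f * f)).toMonoidHom k) = k := by
      show ψ f (ψ (f * f) k) = k
      rw [hff, hα3]
    rw [this]; exact hk
  -- the three involutions
  have hinv1 := hK
  have hsurj : ∀ x : Q, ∃ y, ψ f y = x := fun x => (ψ f).surjective x
  have hinv2 : ∀ x : Q, x⁻¹ * ψ (f * h * f⁻¹) x ∈ K2 := by
    intro x
    obtain ⟨y, rfl⟩ := hsurj x
    have e : ψ (f * h * f⁻¹) (ψ f y) = ψ f (ψ h y) := by
      have e1 : ψ (f * h * f⁻¹) = ψ f * ψ h * ψ f⁻¹ := by rw [map_mul, map_mul]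
      rw [e1, MulAut.mul_apply, MulAut.mul_apply, psi_inv_apply]
    have h1 : (ψ f y)⁻¹ * ψ (f * h * f⁻¹) (ψ f y) = ψ f (y⁻¹ * ψ h y) := by
      rw [e, map_mul (ψ f), map_inv (ψ f)]
    rw [h1]
    exact h12 _ (hinv1 y)
  have hinv3 : ∀ x : Q, x⁻¹ * ψ (f * (f * h * f⁻¹) * f⁻¹) x ∈ K3 := by
    intro x
    obtain ⟨y, rfl⟩ := hsurj x
    have e : ψ (f * (f * h * f⁻¹) * f⁻¹) (ψ f y) = ψ f (ψ (f * h * f⁻¹) y) := by
      have e1 : ψ (f * (f * h * f⁻¹) * f⁻¹) = ψ f * ψ (f * h * f⁻¹) * ψ f⁻¹ := by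
        rw [map_mul ψ (f * (f * h * f⁻¹)) f⁻¹, map_mul ψ f (f * h * f⁻¹)]
      rw [e1, MulAut.mul_apply, MulAut.mul_apply, psi_inv_apply]
    have h1 : (ψ f y)⁻¹ * ψ (f * (f * h * f⁻¹) * f⁻¹) (ψ f y) =
        ψ f (y⁻¹ * ψ (f * h * f⁻¹) y) := by
      rw [e, map_mul (ψ f), map_inv (ψ f)]
    rw [h1]
    exact h23 _ (hinv2 y)
  -- `f` is fixed-point-free on `Q`
  have hfpf : ∀ x : Q, ψ f x = x → x = 1 := by
    intro x hx
    have e1 : ψ h x = x⁻¹ := c.psi_h_of_fix hx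
    have e2 : ψ (f * h * f⁻¹) x = x⁻¹ := c.conj.psi_h_of_fix hx
    have e3 : ψ (f * (f * h * f⁻¹) * f⁻¹) x = x⁻¹ := c.conj.conj.psi_h_of_fix hx
    have m1 : x ∈ K := mem_of_inv_sq_mem hodd K x (by have := hinv1 x; rwa [e1] at this)
    have m2 : x ∈ K2 := mem_of_inv_sq_mem hodd K2 x (by have := hinv2 x; rwa [e2] at this)
    have m3 : x ∈ K3 := mem_of_inv_sq_mem hodd K3 x (by have := hinv3 x; rwa [e3] at this)
    have : x ∈ K ⊓ K2 ⊓ K3 := ⟨⟨m1, m2⟩, m3⟩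
    rw [hint, Subgroup.mem_bot] at this
    exact this
  have hprod : ∀ x : Q, x * ψ f x * ψ f (ψ f x) = 1 := by
    intro x
    exact prod3_of_fpf (ψ f) ⊤ (fun _ _ => Subgroup.mem_top _) (fun y _ => hα3 y)
      (fun y _ hy => hfpf y hy) x (Subgroup.mem_top _)
  have hinvx : ∀ x : Q, x⁻¹ = ψ f x * ψ f (ψ f x) := by
    intro x
    have := hprod x
    rw [mul_assoc] at this
    exact inv_eq_of_mul_eq_one_right this
  -- pairwise trivial intersections
  have hbot : ∀ x, x ∈ K → x ∈ K2 → x ∈ K3 → x = 1 := by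
    intro x m1 m2 m3
    have : x ∈ K ⊓ K2 ⊓ K3 := ⟨⟨m1, m2⟩, m3⟩
    rw [hint, Subgroup.mem_bot] at this
    exact this
  have d12 : Disjoint K K2 := by
    rw [Subgroup.disjoint_def]
    intro x m1 m2
    have m3 : x⁻¹ ∈ K3 := by
      rw [hinvx x]
      exact K3.mul_mem (h23 _ m2) (h23 _ (h12 _ m1))
    exact hbot x m1 m2 (by have := K3.inv_mem m3; rwa [inv_inv] at this)
  have d23 : Disjoint K2 K3 := by
    rw [Subgroup.disjoint_def]
    intro x m2 m3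
    have m1 : x⁻¹ ∈ K := by
      rw [hinvx x]
      exact K.mul_mem (h31 _ m3) (h31 _ (h23 _ m2))
    exact hbot x (by have := K.inv_mem m1; rwa [inv_inv] at this) m2 m3
  have d13 : Disjoint K K3 := by
    rw [Subgroup.disjoint_def]
    intro x m1 m3
    have m2 : x⁻¹ ∈ K2 := by
      rw [hinvx x]
      exact K2.mul_mem (h12 _ m1) (h12 _ (h31 _ m3))
    exact hbot x m1 (by have := K2.inv_mem m2; rwa [inv_inv] at this) m3
  have c12 : ∀ x ∈ K, ∀ y ∈ K2, x * y = y * x := fun x hx y hy =>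
    (Subgroup.commute_of_normal_of_disjoint K K2 hKn hK2n d12 x y hx hy).eq
  have c23 : ∀ x ∈ K2, ∀ y ∈ K3, x * y = y * x := fun x hx y hy =>
    (Subgroup.commute_of_normal_of_disjoint K2 K3 hK2n hK3n d23 x y hx hy).eq
  have c13 : ∀ x ∈ K, ∀ y ∈ K3, x * y = y * x := fun x hx y hy =>
    (Subgroup.commute_of_normal_of_disjoint K K3 hKn hK3n d13 x y hx hy).eq
  -- each kernel is abelian
  have c11 : ∀ x ∈ K, ∀ y ∈ K, x * y = y * x := by
    intro x hx y hy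
    have h1 : x⁻¹ * y = y * x⁻¹ := by
      rw [hinvx x]
      have a := c12 y hy _ (h12 _ hx)
      have b := c13 y hy _ (h23 _ (h12 _ hx))
      rw [mul_assoc, ← b, ← mul_assoc, ← a, mul_assoc]
    have : Commute x⁻¹ y := h1
    exact (Commute.inv_left_iff.mp this).eq
  have c22 : ∀ x ∈ K2, ∀ y ∈ K2, x * y = y * x := by
    intro x hx y hy
    have h1 : x⁻¹ * y = y * x⁻¹ := by
      rw [hinvx x]
      have a := c23 y hy _ (h23 _ hx)
      have b := (c12 _ (h31 _ (h23 _ hx)) y hy).symm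
      rw [mul_assoc, ← b, ← mul_assoc, ← a, mul_assoc]
    have : Commute x⁻¹ y := h1
    exact (Commute.inv_left_iff.mp this).eq
  have c33 : ∀ x ∈ K3, ∀ y ∈ K3, x * y = y * x := by
    intro x hx y hy
    have h1 : x⁻¹ * y = y * x⁻¹ := by
      rw [hinvx x]
      have a := (c13 _ (h31 _ hx) y hy).symm
      have b := (c23 _ (h12 _ (h31 _ hx)) y hy).symm
      rw [mul_assoc, ← b, ← mul_assoc, ← a, mul_assoc]
    have : Commute x⁻¹ y := h1
    exact (Commute.inv_left_iff.mp this).eq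
  -- `K ⊔ K2 = ⊤` already: `x⁻¹ ψ(f²)(x) ∈ K K2` and `f²` is fixed-point-free
  have hff' : f * f = (f * h * f⁻¹) * h := by
    have h1 : h * f⁻¹ * h⁻¹ = f := by
      calc h * f⁻¹ * h⁻¹ = (h * f * h⁻¹)⁻¹ := by group
        _ = f := by rw [c.rel.hf, inv_inv]
    calc f * f = f * (h * f⁻¹ * h⁻¹) := by rw [h1]
      _ = f * h * f⁻¹ * h⁻¹ := by group
      _ = f * h * f⁻¹ * h := by rw [c.rel.h_inv]
  have hM : ∀ y : Q, ∃ a ∈ K, ∃ b ∈ K2, y = a * b := by
    intro y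
    have hfpf2 : ∀ x : Q, ψ (f * f) x = x → x = 1 := by
      intro x hx
      rw [hff] at hx
      apply hfpf
      have := congrArg (ψ f) hx
      rw [hα3] at this
      exact this.symm
    obtain ⟨x, -, hx⟩ := exists_commutator_of_fpf (ψ (f * f)) ⊤ (fun _ _ => Subgroup.mem_top _)
      (fun x _ hx => hfpf2 x hx) y (Subgroup.mem_top _)
    refine ⟨x⁻¹ * ψ h x, hinv1 x, (ψ h x)⁻¹ * ψ (f * h * f⁻¹) (ψ h x), hinv2 _, ?_⟩
    rw [hx, hff', map_mul, MulAut.mul_apply]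
    group
  intro x y
  obtain ⟨a, ha, b, hb, rfl⟩ := hM x
  obtain ⟨a', ha', b', hb', rfl⟩ := hM y
  have e1 := c11 a ha a' ha'
  have e2 := c12 a ha b' hb'
  have e3 := c12 a' ha' b hb
  have e4 := c22 b hb b' hb'
  calc a * b * (a' * b') = a * (b * a') * b' := by group
    _ = a * (a' * b) * b' := by rw [e3]
    _ = (a * a') * (b * b') := by group
    _ = (a' * a) * (b' * b) := by rw [e1, e4]
    _ = a' * (a * b') * b := by group
    _ = a' * (b' * a) * b := by rw [e2]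
    _ = a' * b' * (a * b) := by group

end Cfsg.Agent.Lib.Helper72.S3ZC
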