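import Mathlib

/-!
# Actions by automorphisms given by a homomorphism `φ : A →* MulAut G`  (helper72)

* `Inv φ N`: the subgroup `N` is `φ`-invariant; `quot φ N`, `res φ K`: induced actions on a quotient
  by an invariant normal subgroup and on an invariant subgroup.
* `exists_fixed_in_coset`: an automorphism of `p`-power order fixing a left coset `x M` of an
  invariant subgroup `M` of order prime to `p` fixes an element of that coset.
* `exists_common_fixed_in_coset`: the same for two automorphisms `α, β` of prime power orders such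
  that `β` preserves the fixed points of `α`.
-/

set_option autoImplicit false

namespace Cfsg.Agent.Lib.Helper72.ActHom

variable {A G : Type*} [Group A] [Group G]

/-- `N` is invariant under the action `φ`. -/
def Inv (φ : A →* MulAut G) (N : Subgroup G) : Prop := ∀ a, ∀ x ∈ N, φ a x ∈ N

theorem Inv.mem_iff {φ : A →* MulAut G} {N : Subgroup G} (h : Inv φ N) (a : A) (x : G) :
    φ a x ∈ N ↔ x ∈ N := by
  constructor
  · intro hx
    have h1 := h a⁻¹ _ hx
    rwa [← MulAut.mul_apply, ← map_mul, inv_mul_cancel, map_one, MulAut.one_apply] at h1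
  · exact h a x

theorem inv_of_characteristic (φ : A →* MulAut G) (N : Subgroup G) [hN : N.Characteristic] :
    Inv φ N := by
  intro a x hx
  have h1 := Subgroup.characteristic_iff_map_eq.mp hN (φ a)
  rw [← h1]
  exact Subgroup.mem_map_of_mem _ hx

theorem inv_bot (φ : A →* MulAut G) : Inv φ ⊥ := by
  intro a x hx
  rw [Subgroup.mem_bot] at hx ⊢
  rw [hx, map_one]

theorem inv_top (φ : A →* MulAut G) : Inv φ ⊤ := fun _ _ _ => Subgroup.mem_top _

theorem Inv.inf {φ : A →* MulAut G} {N₁ N₂ : Subgroup G} (h₁ : Inv φ N₁) (h₂ : Inv φ N₂) :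
    Inv φ (N₁ ⊓ N₂) := fun a x hx => ⟨h₁ a x hx.1, h₂ a x hx.2⟩

/-- the endomorphism of `G ⧸ N` induced by an automorphism preserving `N` -/
def quotMap (N : Subgroup G) [N.Normal] (e : MulAut G) (h : ∀ n ∈ N, e n ∈ N) : G ⧸ N →* G ⧸ N :=
  QuotientGroup.map N N e.toMonoidHom (fun n hn => h n hn)

theorem quotMap_mk (N : Subgroup G) [N.Normal] (e : MulAut G) (h : ∀ n ∈ N, e n ∈ N) (x : G) :
    quotMap N e h (QuotientGroup.mk x) = QuotientGroup.mk (e x) := rfl

/-- the induced action on the quotient by an invariant normal subgroup -/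
def quot (φ : A →* MulAut G) (N : Subgroup G) [N.Normal] (hN : Inv φ N) : A →* MulAut (G ⧸ N) :=
  MonoidHom.mk'
    (fun a => MonoidHom.toMulEquiv (quotMap N (φ a) (hN a)) (quotMap N (φ a⁻¹) (hN a⁻¹))
      (by
        ext q
        simp [quotMap_mk])
      (by
        ext q
        simp [quotMap_mk]))
    (by
      intro a b
      ext q
      induction q using QuotientGroup.induction_on with
      | H x => simp [quotMap_mk])

theorem quot_mk (φ : A →* MulAut G) (N : Subgroup G) [N.Normal] (hN : Inv φ N) (a : A) (x : G) :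
    quot φ N hN a (QuotientGroup.mk x) = QuotientGroup.mk (φ a x) := rfl

/-- the induced action on an invariant subgroup -/
def res (φ : A →* MulAut G) (K : Subgroup G) (hK : Inv φ K) : A →* MulAut K :=
  MonoidHom.mk' (fun a =>
    { toFun := fun e => ⟨φ a e, hK a e e.2⟩
      invFun := fun e => ⟨φ a⁻¹ e, hK a⁻¹ e e.2⟩
      left_inv := fun e => by ext; simp
      right_inv := fun e => by ext; simp
      map_mul' := fun e f => by ext; simp })
    (fun a b => by ext e; simp)

theorem res_apply (φ : A →* MulAut G) (K : Subgroup G) (hK : Inv φ K) (a : A) (e : K) :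
    ((res φ K hK a e : K) : G) = φ a e := rfl

theorem inv_comap_mk (φ : A →* MulAut G) (N : Subgroup G) [N.Normal] (hN : Inv φ N)
    {K' : Subgroup (G ⧸ N)} (hK' : Inv (quot φ N hN) K') :
    Inv φ (K'.comap (QuotientGroup.mk' N)) := by
  intro a x hx
  rw [Subgroup.mem_comap, QuotientGroup.mk'_apply] at hx ⊢
  rw [← quot_mk φ N hN a x]
  exact hK' a _ hx

section Coset

variable [Finite G]

/-- An automorphism `α` of `p`-power order which maps the left coset `x M` of the `α`-invariant
subgroup `M`, of order prime to `p`, to itself, fixes an element of `x M`. -/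
theorem exists_fixed_in_coset (α : MulAut G) {p : ℕ} [Fact p.Prime] (k : ℕ)
    (hα : α ^ (p ^ k) = 1) (M : Subgroup G) (hM : ∀ x ∈ M, α x ∈ M) (hp : ¬ p ∣ Nat.card M)
    (x : G) (hx : x⁻¹ * α x ∈ M) : ∃ y, x⁻¹ * y ∈ M ∧ α y = y := by
  classical
  -- `α` maps `M` onto `M`
  have hM' : ∀ y, α y ∈ M → y ∈ M := by
    intro y hy
    let g : M → M := fun m => ⟨α m, hM m m.2⟩
    have hinj : Function.Injective g := by
      intro a b hab
      have := congrArg Subtype.val hab
      exact Subtype.ext (α.injective this)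
    have hsurj : Function.Surjective g := Finite.surjective_of_injective hinj
    obtain ⟨m, hm⟩ := hsurj ⟨α y, hy⟩
    have := congrArg Subtype.val hm
    have h2 : (m : G) = y := α.injective this
    rw [← h2]; exact m.2
  have hinvM : ∀ y ∈ M, α⁻¹ y ∈ M := by
    intro y hy
    apply hM'
    rw [← MulAut.mul_apply, mul_inv_cancel, MulAut.one_apply]
    exact hy
  have hx' : x⁻¹ * α⁻¹ x ∈ M := by
    have h1 : α⁻¹ (x⁻¹ * α x) ∈ M := hinvM _ hx
    rw [map_mul, ← MulAut.mul_apply, inv_mul_cancel, MulAut.one_apply, map_inv] at h1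
    have h2 := M.inv_mem h1
    rwa [mul_inv_rev, inv_inv] at h2
  let X := {y : G // x⁻¹ * y ∈ M}
  have hfwd : ∀ y : G, x⁻¹ * y ∈ M → x⁻¹ * α y ∈ M := by
    intro y hy
    have h1 : x⁻¹ * α y = (x⁻¹ * α x) * α (x⁻¹ * y) := by
      rw [map_mul, map_inv]; group
    rw [h1]
    exact M.mul_mem hx (hM _ hy)
  have hbwd : ∀ y : G, x⁻¹ * y ∈ M → x⁻¹ * α⁻¹ y ∈ M := by
    intro y hy
    have h1 : x⁻¹ * α⁻¹ y = (x⁻¹ * α⁻¹ x) * α⁻¹ (x⁻¹ * y) := by
      rw [map_mul, map_inv]; group
    rw [h1]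
    exact M.mul_mem hx' (hinvM _ hy)
  let σ : Equiv.Perm X :=
    { toFun := fun y => ⟨α y.1, hfwd y.1 y.2⟩
      invFun := fun y => ⟨α⁻¹ y.1, hbwd y.1 y.2⟩
      left_inv := fun y => by
        apply Subtype.ext
        show α⁻¹ (α y.1) = y.1
        rw [← MulAut.mul_apply, inv_mul_cancel, MulAut.one_apply]
      right_inv := fun y => by
        apply Subtype.ext
        show α (α⁻¹ y.1) = y.1
        rw [← MulAut.mul_apply, mul_inv_cancel, MulAut.one_apply] }
  have hσpow : ∀ (n : ℕ) (y : X), ((σ ^ n) y : X).1 = (α ^ n) y.1 := by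
    intro n
    induction n with
    | zero => intro y; rfl
    | succ n ih =>
      intro y
      rw [pow_succ', pow_succ', Equiv.Perm.mul_apply, MulAut.mul_apply, ← ih y]
      rfl
  have hσ : σ ^ p ^ k = 1 := by
    ext y
    rw [hσpow, hα]
    rfl
  have := Fintype.ofFinite X
  have hcard : Fintype.card X = Nat.card M := by
    rw [← Nat.card_eq_fintype_card]
    apply Nat.card_congr
    exact
      { toFun := fun y => ⟨x⁻¹ * y.1, y.2⟩
        invFun := fun m => ⟨x * m.1, by
          show x⁻¹ * (x * m.1) ∈ M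
          rw [inv_mul_cancel_left]; exact m.2⟩
        left_inv := fun y => by
          apply Subtype.ext
          show x * (x⁻¹ * y.1) = y.1
          rw [mul_inv_cancel_left]
        right_inv := fun m => by
          apply Subtype.ext
          show x⁻¹ * (x * m.1) = m.1
          rw [inv_mul_cancel_left] }
  have hnd : ¬ p ∣ Fintype.card X := by rw [hcard]; exact hp
  obtain ⟨y, hy⟩ := Equiv.Perm.exists_fixed_point_of_prime hnd hσ
  exact ⟨y.1, y.2, congrArg Subtype.val hy⟩

/-- Two automorphisms `α`, `β` of prime power orders (for the primes `p`, `q`) such that `β`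
preserves the fixed points of `α`, both mapping the left coset `x N` of the invariant subgroup `N`,
of order prime to `p` and `q`, to itself, have a common fixed point in `x N`. -/
theorem exists_common_fixed_in_coset (α β : MulAut G) {p q : ℕ} [Fact p.Prime] [Fact q.Prime]
    (k l : ℕ) (hα : α ^ (p ^ k) = 1) (hβ : β ^ (q ^ l) = 1)
    (hnorm : ∀ m : G, α m = m → α (β m) = β m)
    (N : Subgroup G) (hNα : ∀ x ∈ N, α x ∈ N) (hNβ : ∀ x ∈ N, β x ∈ N)
    (hp : ¬ p ∣ Nat.card N) (hq : ¬ q ∣ Nat.card N)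
    (x : G) (hxα : x⁻¹ * α x ∈ N) (hxβ : x⁻¹ * β x ∈ N) :
    ∃ y, x⁻¹ * y ∈ N ∧ α y = y ∧ β y = y := by
  obtain ⟨y₁, hy₁N, hy₁⟩ := exists_fixed_in_coset α k hα N hNα hp x hxα
  -- the `α`-fixed points of `N`
  let M : Subgroup G :=
    { carrier := {n | n ∈ N ∧ α n = n}
      mul_mem' := fun {a b} ha hb => ⟨N.mul_mem ha.1 hb.1, by rw [map_mul, ha.2, hb.2]⟩
      one_mem' := ⟨N.one_mem, map_one _⟩
      inv_mem' := fun {a} ha => ⟨N.inv_mem ha.1, by rw [map_inv, ha.2]⟩ }
  have hMN : M ≤ N := fun n hn => hn.1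
  have hMβ : ∀ n ∈ M, β n ∈ M := fun n hn => ⟨hNβ n hn.1, hnorm n hn.2⟩
  have hqM : ¬ q ∣ Nat.card M := fun h => hq (h.trans (Subgroup.card_dvd_of_le hMN))
  have hy₁β : y₁⁻¹ * β y₁ ∈ M := by
    constructor
    · have h1 : x⁻¹ * β y₁ ∈ N := by
        have h2 : x⁻¹ * β y₁ = (x⁻¹ * β x) * β (x⁻¹ * y₁) := by
          rw [map_mul, map_inv]; group
        rw [h2]
        exact N.mul_mem hxβ (hNβ _ hy₁N)
      have h3 : y₁⁻¹ * β y₁ = (x⁻¹ * y₁)⁻¹ * (x⁻¹ * β y₁) := by group
      rw [h3]
      exact N.mul_mem (N.inv_mem hy₁N) h1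
    · show α (y₁⁻¹ * β y₁) = y₁⁻¹ * β y₁
      rw [map_mul, map_inv, hy₁, hnorm y₁ hy₁]
  obtain ⟨y, hyM, hy⟩ := exists_fixed_in_coset β l hβ M hMβ hqM y₁ hy₁β
  refine ⟨y, ?_, ?_, hy⟩
  · have h1 : x⁻¹ * y = (x⁻¹ * y₁) * (y₁⁻¹ * y) := by group
    rw [h1]
    exact N.mul_mem hy₁N hyM.1
  · have h1 : y = y₁ * (y₁⁻¹ * y) := by group
    rw [h1, map_mul, hy₁, hyM.2]

end Coset

end Cfsg.Agent.Lib.Helper72.ActHom
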