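/-
helper72: the model `Q8 ⋊ C3 ⋊ C2` of `GL(2,3)` and recognition of `GL(2,3)` by generators and
relations, on top of helper53's `SL(2,3)` recognition.
-/
import Mathlib
import Cfsg.Agent.Lib.Helper53.SL23Recog

set_option autoImplicit false

namespace Cfsg.Agent.Lib.Helper72.BinOct

open QuaternionGroup Cfsg.Agent.Lib.Helper53

/-- The automorphism `a 1 ↦ (a 1 * xa 0)⁻¹`, `xa 0 ↦ (xa 0)⁻¹` of `Q8`, as a function. -/
def sigma0Fun : QuaternionGroup 2 → QuaternionGroup 2 := quatLiftFun 2 (xa 1) (xa 2)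

theorem sigma0Fun_sq : ∀ q, sigma0Fun (sigma0Fun q) = q := by decide

theorem sigma0Fun_mul : ∀ q r, sigma0Fun (q * r) = sigma0Fun q * sigma0Fun r := by decide

/-- The automorphism `a 1 ↦ (a 1 * xa 0)⁻¹`, `xa 0 ↦ (xa 0)⁻¹` of `Q8`. -/
def sigma0 : MulAut (QuaternionGroup 2) where
  toFun := sigma0Fun
  invFun := sigma0Fun
  left_inv := sigma0Fun_sq
  right_inv := sigma0Fun_sq
  map_mul' := sigma0Fun_mul

theorem sigma0_apply (q : QuaternionGroup 2) : sigma0 q = sigma0Fun q := rfl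

theorem sigma0_a_one : sigma0 (a 1) = (a 1 * xa 0)⁻¹ := by decide
theorem sigma0_xa_zero : sigma0 (xa 0) = (xa 0)⁻¹ := by decide

theorem sigma0_sq : sigma0 ^ 2 = 1 := by
  ext q
  rw [pow_two]
  exact sigma0Fun_sq q

theorem sigma0_gamma0_fun : ∀ q, sigma0Fun (gamma0Fun (sigma0Fun (gamma0Fun q))) = q := by decide

theorem sigma0_gamma0 : sigma0 * gamma0 * sigma0⁻¹ = gamma0⁻¹ := by
  have h : sigma0 * gamma0 * (sigma0 * gamma0) = 1 := by
    ext q
    exact sigma0_gamma0_fun q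
  have hs : sigma0⁻¹ = sigma0 := by
    rw [inv_eq_iff_mul_eq_one, ← pow_two, sigma0_sq]
  rw [hs, eq_inv_iff_mul_eq_one]
  rw [← h]; group

/-- The homomorphism `C3 → Aut Q8` defining helper53's model of `SL(2,3)`. -/
abbrev phi3 : Multiplicative (ZMod 3) →* MulAut (QuaternionGroup 2) :=
  powHom 3 gamma0 gamma0_cube

theorem sigma0_phi3 (g : Multiplicative (ZMod 3)) :
    sigma0 * phi3 g * sigma0⁻¹ = phi3 g⁻¹ := by
  rw [map_inv]
  show sigma0 * gamma0 ^ (Multiplicative.toAdd g).val * sigma0⁻¹ =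
    (gamma0 ^ (Multiplicative.toAdd g).val)⁻¹
  rw [← conj_pow, sigma0_gamma0, inv_pow]

/-- The automorphism of the model `Q8 ⋊ C3` acting as `sigma0` on `Q8` and inverting `C3`. -/
def sigmaM : MulAut Model :=
  SemidirectProduct.congr sigma0 (MulEquiv.inv (Multiplicative (ZMod 3))) (by
    intro g
    have h := sigma0_phi3 g
    have h' : sigma0 * phi3 g = phi3 g⁻¹ * sigma0 := by
      rw [← h]; group
    ext q
    have := DFunLike.congr_fun h' q
    simpa using this)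

theorem sigmaM_left (m : Model) : (sigmaM m).left = sigma0 m.left := rfl
theorem sigmaM_right (m : Model) : (sigmaM m).right = m.right⁻¹ := rfl

theorem sigmaM_sq : sigmaM ^ 2 = 1 := by
  ext m
  · rw [pow_two]
    show sigma0 (sigma0 m.left) = m.left
    exact sigma0Fun_sq _
  · rw [pow_two]
    show (m.right⁻¹)⁻¹ = m.right
    rw [inv_inv]

/-- The model group `(Q8 ⋊ C3) ⋊ C2` of order 48. -/
abbrev Model48 := Model ⋊[powHom 2 sigmaM sigmaM_sq] Multiplicative (ZMod 2)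

theorem card_model48 : Nat.card Model48 = 48 := by
  rw [SemidirectProduct.card, card_model]
  simp

section recog48

variable {A : Type*} [Group A] {u v t s : A}

theorem quatLift_gen_a (hu : u ^ (2 * 2) = 1) (hv : v * v = u ^ 2) (hc : v * u * v⁻¹ = u⁻¹) :
    quatLift hu hv hc (a 1) = u := by
  rw [quatLift_a]
  have : ((1 : ZMod (2 * 2))).val = 1 := by decide
  rw [this, pow_one]

theorem quatLift_gen_xa (hu : u ^ (2 * 2) = 1) (hv : v * v = u ^ 2) (hc : v * u * v⁻¹ = u⁻¹) :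
    quatLift hu hv hc (xa 0) = v := by
  rw [quatLift_xa, ZMod.val_zero, pow_zero, mul_one]

theorem quatLift_sigma0 (hu : u ^ (2 * 2) = 1) (hv : v * v = u ^ 2) (hc : v * u * v⁻¹ = u⁻¹)
    (hsu : s * u * s⁻¹ = (u * v)⁻¹) (hsv : s * v * s⁻¹ = v⁻¹) (q : QuaternionGroup 2) :
    quatLift hu hv hc (sigma0 q) = s * quatLift hu hv hc q * s⁻¹ := by
  have h : (quatLift hu hv hc).comp sigma0.toMonoidHom =
      (MulAut.conj s).toMonoidHom.comp (quatLift hu hv hc) := by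
    apply MonoidHom.eq_of_eqOn_dense (closure_a_one_xa_zero 2)
    intro x hx
    rcases hx with rfl | rfl
    · show quatLift hu hv hc (sigma0 (a 1)) = s * quatLift hu hv hc (a 1) * s⁻¹
      rw [sigma0_a_one, quatLift_gen_a, hsu, map_inv, map_mul, quatLift_gen_a, quatLift_gen_xa]
    · show quatLift hu hv hc (sigma0 (xa 0)) = s * quatLift hu hv hc (xa 0) * s⁻¹
      rw [sigma0_xa_zero, quatLift_gen_xa, hsv, map_inv, quatLift_gen_xa]
  exact DFunLike.congr_fun h q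

theorem recogHom_sigmaM (hu : u ^ (2 * 2) = 1) (hv : v * v = u ^ 2) (hc : v * u * v⁻¹ = u⁻¹)
    (ht : t ^ 3 = 1) (htu : t * u * t⁻¹ = v) (htv : t * v * t⁻¹ = u * v)
    (hsu : s * u * s⁻¹ = (u * v)⁻¹) (hsv : s * v * s⁻¹ = v⁻¹) (hst : s * t * s⁻¹ = t⁻¹)
    (m : Model) :
    recogHom hu hv hc ht htu htv (sigmaM m) = s * recogHom hu hv hc ht htu htv m * s⁻¹ := by
  rw [recogHom_apply, recogHom_apply, sigmaM_left, sigmaM_right,
    quatLift_sigma0 hu hv hc hsu hsv]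
  have h1 : t ^ (Multiplicative.toAdd (m.right⁻¹)).val =
      (t ^ (Multiplicative.toAdd m.right).val)⁻¹ := by
    rw [← powHom_apply 3 t ht, ← powHom_apply 3 t ht, map_inv]
  have h2 : s * t ^ (Multiplicative.toAdd m.right).val * s⁻¹ =
      (t ^ (Multiplicative.toAdd m.right).val)⁻¹ := by
    rw [← conj_pow, hst, inv_pow]
  rw [h1, ← h2]
  group

/-- The homomorphism from the model group of order 48 given by `u, v, t, s` satisfying the
relations. -/
noncomputable def recogHom48 (hu : u ^ (2 * 2) = 1) (hv : v * v = u ^ 2)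
    (hc : v * u * v⁻¹ = u⁻¹) (ht : t ^ 3 = 1) (htu : t * u * t⁻¹ = v) (htv : t * v * t⁻¹ = u * v)
    (hs : s ^ 2 = 1) (hsu : s * u * s⁻¹ = (u * v)⁻¹) (hsv : s * v * s⁻¹ = v⁻¹)
    (hst : s * t * s⁻¹ = t⁻¹) : Model48 →* A :=
  SemidirectProduct.lift (recogHom hu hv hc ht htu htv) (powHom 2 s hs)
    (lift_compat 2 sigmaM sigmaM_sq s hs _ (recogHom_sigmaM hu hv hc ht htu htv hsu hsv hst))

theorem recogHom48_apply (hu : u ^ (2 * 2) = 1) (hv : v * v = u ^ 2)
    (hc : v * u * v⁻¹ = u⁻¹) (ht : t ^ 3 = 1) (htu : t * u * t⁻¹ = v) (htv : t * v * t⁻¹ = u * v)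
    (hs : s ^ 2 = 1) (hsu : s * u * s⁻¹ = (u * v)⁻¹) (hsv : s * v * s⁻¹ = v⁻¹)
    (hst : s * t * s⁻¹ = t⁻¹) (p : Model48) :
    recogHom48 hu hv hc ht htu htv hs hsu hsv hst p =
      recogHom hu hv hc ht htu htv p.left * s ^ (Multiplicative.toAdd p.right).val := rfl

theorem recogHom48_injective (hu : u ^ (2 * 2) = 1) (hv : v * v = u ^ 2)
    (hc : v * u * v⁻¹ = u⁻¹) (ht : t ^ 3 = 1) (htu : t * u * t⁻¹ = v) (htv : t * v * t⁻¹ = u * v)
    (hs : s ^ 2 = 1) (hsu : s * u * s⁻¹ = (u * v)⁻¹) (hsv : s * v * s⁻¹ = v⁻¹)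
    (hst : s * t * s⁻¹ = t⁻¹) (hu2 : u ^ 2 ≠ 1) (ht1 : t ≠ 1)
    (hsnot : ∀ m : Model, recogHom hu hv hc ht htu htv m ≠ s) :
    Function.Injective (recogHom48 hu hv hc ht htu htv hs hsu hsv hst) := by
  rw [injective_iff_map_eq_one]
  intro p hp
  rw [recogHom48_apply] at hp
  have hklt : (Multiplicative.toAdd p.right).val < 2 := ZMod.val_lt _
  have hk0 : (Multiplicative.toAdd p.right).val = 0 := by
    by_contra hne
    have hk1 : (Multiplicative.toAdd p.right).val = 1 := by omega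
    rw [hk1, pow_one] at hp
    apply hsnot (p.left)⁻¹
    rw [map_inv]
    exact (eq_inv_of_mul_eq_one_right hp).symm
  rw [hk0, pow_zero, mul_one] at hp
  have hl : p.left = 1 :=
    (injective_iff_map_eq_one _).mp (recogHom_injective hu hv hc ht htu htv hu2 ht1) _ hp
  have hr : p.right = 1 := (ZMod.val_eq_zero (Multiplicative.toAdd p.right)).mp hk0
  exact SemidirectProduct.ext hl hr

end recog48

/-! ### The model is `GL(2,3)` -/

section GL23

open Matrix

/-- `GL(2,3)` -/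
abbrev GL23 := GL (Fin 2) (ZMod 3)

def glU : GL23 := Matrix.SpecialLinearGroup.toGL slU
def glV : GL23 := Matrix.SpecialLinearGroup.toGL slV
def glT : GL23 := Matrix.SpecialLinearGroup.toGL slT
def glS : GL23 := ⟨!![1, 0; 0, 2], !![1, 0; 0, 2], by decide, by decide⟩

theorem glU_pow : glU ^ (2 * 2) = 1 := by
  rw [glU, ← map_pow, slU_pow, map_one]
theorem glV_sq : glV * glV = glU ^ 2 := by
  rw [glU, glV, ← map_pow, ← map_mul, slV_sq]
theorem glV_conj : glV * glU * glV⁻¹ = glU⁻¹ := by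
  rw [glU, glV, ← map_inv, ← map_mul, ← map_mul, ← map_inv, slV_conj]
theorem glT_cube : glT ^ 3 = 1 := by
  rw [glT, ← map_pow, slT_cube, map_one]
theorem glT_u : glT * glU * glT⁻¹ = glV := by
  rw [glU, glV, glT, ← map_inv, ← map_mul, ← map_mul, slT_u]
theorem glT_v : glT * glV * glT⁻¹ = glU * glV := by
  rw [glU, glV, glT, ← map_inv, ← map_mul, ← map_mul, ← map_mul, slT_v]
theorem glU_sq_ne : glU ^ 2 ≠ 1 := by
  rw [glU, ← map_pow]
  intro h
  exact slU_sq_ne (Matrix.SpecialLinearGroup.toGL_injective (by rw [h, map_one]))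
theorem glT_ne : glT ≠ 1 := by
  rw [glT]
  intro h
  exact slT_ne (Matrix.SpecialLinearGroup.toGL_injective (by rw [h, map_one]))
theorem glS_sq : glS ^ 2 = 1 := by
  apply Units.ext
  rw [pow_two]
  show (!![1, 0; 0, 2] : Matrix (Fin 2) (Fin 2) (ZMod 3)) * !![1, 0; 0, 2] = 1
  decide
theorem glS_u : glS * glU * glS⁻¹ = (glU * glV)⁻¹ := by
  rw [mul_inv_eq_iff_eq_mul, eq_comm, inv_mul_eq_iff_eq_mul]
  apply Units.ext
  show (!![1, 0; 0, 2] : Matrix (Fin 2) (Fin 2) (ZMod 3)) =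
    ((slU : Matrix (Fin 2) (Fin 2) (ZMod 3)) * (slV : Matrix (Fin 2) (Fin 2) (ZMod 3))) *
      (!![1, 0; 0, 2] * (slU : Matrix (Fin 2) (Fin 2) (ZMod 3)))
  decide
theorem glS_v : glS * glV * glS⁻¹ = glV⁻¹ := by
  rw [mul_inv_eq_iff_eq_mul, eq_comm, inv_mul_eq_iff_eq_mul]
  apply Units.ext
  show (!![1, 0; 0, 2] : Matrix (Fin 2) (Fin 2) (ZMod 3)) =
    (slV : Matrix (Fin 2) (Fin 2) (ZMod 3)) *
      (!![1, 0; 0, 2] * (slV : Matrix (Fin 2) (Fin 2) (ZMod 3)))
  decide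
theorem glS_t : glS * glT * glS⁻¹ = glT⁻¹ := by
  rw [mul_inv_eq_iff_eq_mul, eq_comm, inv_mul_eq_iff_eq_mul]
  apply Units.ext
  show (!![1, 0; 0, 2] : Matrix (Fin 2) (Fin 2) (ZMod 3)) =
    (slT : Matrix (Fin 2) (Fin 2) (ZMod 3)) *
      (!![1, 0; 0, 2] * (slT : Matrix (Fin 2) (Fin 2) (ZMod 3)))
  decide

theorem det_glS : Matrix.GeneralLinearGroup.det glS ≠ 1 := by
  intro h
  have h2 := congrArg Units.val h
  rw [Matrix.GeneralLinearGroup.val_det_apply] at h2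
  revert h2
  show ¬ (Matrix.det (!![1, 0; 0, 2] : Matrix (Fin 2) (Fin 2) (ZMod 3)) = 1)
  decide

theorem det_recogHom_gl (m : Model) :
    Matrix.GeneralLinearGroup.det
      (recogHom glU_pow glV_sq glV_conj glT_cube glT_u glT_v m) = 1 := by
  have hU : Matrix.GeneralLinearGroup.det glU = 1 := Matrix.SpecialLinearGroup.coeToGL_det _
  have hV : Matrix.GeneralLinearGroup.det glV = 1 := Matrix.SpecialLinearGroup.coeToGL_det _
  have hT : Matrix.GeneralLinearGroup.det glT = 1 := Matrix.SpecialLinearGroup.coeToGL_det _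
  rw [recogHom_apply, map_mul, map_pow, hT, one_pow, mul_one]
  rcases m.left with i | i
  · rw [quatLift_a, map_pow, hU, one_pow]
  · rw [quatLift_xa, map_mul, map_pow, hU, hV, one_pow, one_mul]

theorem card_GL23 : Nat.card GL23 = 48 := by
  rw [Matrix.card_GL_field (𝔽 := ZMod 3) 2, Fin.prod_univ_two, ZMod.card]
  norm_num

/-- The model group of order 48 is isomorphic to `GL(2,3)`. -/
noncomputable def model48EquivGL23 : Model48 ≃* GL23 :=
  MulEquiv.ofBijective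
    (recogHom48 glU_pow glV_sq glV_conj glT_cube glT_u glT_v glS_sq glS_u glS_v glS_t)
    (Function.Injective.bijective_of_nat_card_le
      (recogHom48_injective glU_pow glV_sq glV_conj glT_cube glT_u glT_v glS_sq glS_u glS_v glS_t
        glU_sq_ne glT_ne (fun m h => det_glS (by rw [← h]; exact det_recogHom_gl m)))
      (by rw [card_model48, card_GL23]))

end GL23

/-- **Recognition of `GL(2,3)`**: a group of order 48 containing `u, v, t, s` with `u^4 = 1`,
`v^2 = u^2`, `v u v⁻¹ = u⁻¹`, `t^3 = 1`, `t u t⁻¹ = v`, `t v t⁻¹ = u v`, `s^2 = 1`,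
`s u s⁻¹ = (u v)⁻¹`, `s v s⁻¹ = v⁻¹`, `s t s⁻¹ = t⁻¹`, `u^2 ≠ 1`, `t ≠ 1` and `s` not in the image
of the `SL(2,3)`-model is `GL(2,3)`. -/
theorem nonempty_mulEquiv_GL23 {A : Type*} [Group A] {u v t s : A}
    (hu : u ^ (2 * 2) = 1) (hv : v * v = u ^ 2)
    (hc : v * u * v⁻¹ = u⁻¹) (ht : t ^ 3 = 1) (htu : t * u * t⁻¹ = v) (htv : t * v * t⁻¹ = u * v)
    (hs : s ^ 2 = 1) (hsu : s * u * s⁻¹ = (u * v)⁻¹) (hsv : s * v * s⁻¹ = v⁻¹)
    (hst : s * t * s⁻¹ = t⁻¹) (hu2 : u ^ 2 ≠ 1) (ht1 : t ≠ 1)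
    (hsnot : ∀ m : Model, recogHom hu hv hc ht htu htv m ≠ s) (hcard : Nat.card A = 48) :
    Nonempty (A ≃* GL (Fin 2) (ZMod 3)) := by
  haveI : Finite A := Nat.finite_of_card_ne_zero (by rw [hcard]; norm_num)
  exact ⟨(MulEquiv.ofBijective (recogHom48 hu hv hc ht htu htv hs hsu hsv hst)
      (Function.Injective.bijective_of_nat_card_le
        (recogHom48_injective hu hv hc ht htu htv hs hsu hsv hst hu2 ht1 hsnot)
        (by rw [card_model48, hcard]))).symm.trans model48EquivGL23⟩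

end Cfsg.Agent.Lib.Helper72.BinOct
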