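/-
helper72: every non-inner involutory automorphism of `Q8` is conjugate in `Aut Q8` to `sigma0`.
-/
import Mathlib
import Cfsg.Agent.Lib.Helper72.BinOctA
import Cfsg.Agent.Lib.Helper53.Q8Aut

set_option autoImplicit false

namespace Cfsg.Agent.Lib.Helper72.BinOct

open QuaternionGroup Cfsg.Agent.Lib.Helper53

set_option maxRecDepth 100000 in
theorem q8_good_pair : ∀ u v : QuaternionGroup 2, u * u = a 2 → v * v = a 2 → v ≠ u → v ≠ u⁻¹ →
    u ^ (2 * 2) = 1 ∧ v * v = u ^ 2 ∧ v * u * v⁻¹ = u⁻¹ ∧ u ^ 2 ≠ 1 ∧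
      Function.Injective (quatLiftFun 2 u v) := by decide

set_option maxRecDepth 100000 in
theorem q8_outer_invol : ∀ p q : QuaternionGroup 2, quatLiftFun 2 p q p = a 1 →
    quatLiftFun 2 p q q = xa 0 → p * p = a 2 → q * q = a 2 → q ≠ p → q ≠ p⁻¹ →
    (∃ x : QuaternionGroup 2, x * a 1 * x⁻¹ = p ∧ x * xa 0 * x⁻¹ = q) ∨
    (∃ u v : QuaternionGroup 2, u * u = a 2 ∧ v * v = a 2 ∧ v ≠ u ∧ v ≠ u⁻¹ ∧
      quatLiftFun 2 p q u = (u * v)⁻¹ ∧ quatLiftFun 2 p q v = v⁻¹) := by decide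

theorem q8_rel1 : (a 1 : QuaternionGroup 2) ^ (2 * 2) = 1 := by decide
theorem q8_rel2 : (xa 0 : QuaternionGroup 2) * xa 0 = a 1 ^ 2 := by decide
theorem q8_rel3 : (xa 0 : QuaternionGroup 2) * a 1 * (xa 0)⁻¹ = (a 1)⁻¹ := by decide
theorem q8_a1_sq : (a 1 : QuaternionGroup 2) * a 1 = a 2 := by decide
theorem q8_xa0_sq : (xa 0 : QuaternionGroup 2) * xa 0 = a 2 := by decide
theorem q8_xa0_ne : (xa 0 : QuaternionGroup 2) ≠ a 1 := by decide
theorem q8_xa0_ne' : (xa 0 : QuaternionGroup 2) ≠ (a 1)⁻¹ := by decide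

/-- An automorphism of `Q8` is the lift of the images of the generators. -/
theorem aut_eq_quatLiftFun (ρ : MulAut (QuaternionGroup 2)) (x : QuaternionGroup 2) :
    ρ x = quatLiftFun 2 (ρ (a 1)) (ρ (xa 0)) x := by
  have hp : ρ (a 1) ^ (2 * 2) = 1 := by rw [← map_pow, q8_rel1, map_one]
  have hq : ρ (xa 0) * ρ (xa 0) = ρ (a 1) ^ 2 := by rw [← map_mul, ← map_pow, q8_rel2]
  have hc : ρ (xa 0) * ρ (a 1) * (ρ (xa 0))⁻¹ = (ρ (a 1))⁻¹ := by
    rw [← map_inv, ← map_mul, ← map_mul, ← map_inv, q8_rel3]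
  have h : ρ.toMonoidHom = quatLift hp hq hc := by
    apply MonoidHom.eq_of_eqOn_dense (closure_a_one_xa_zero 2)
    intro y hy
    rcases hy with rfl | rfl
    · rw [quatLift_gen_a]; rfl
    · rw [quatLift_gen_xa]; rfl
  exact DFunLike.congr_fun h x

/-- The value `ρ (a 2) = a 2` for every automorphism of `Q8`. -/
theorem aut_a_two (ρ : MulAut (QuaternionGroup 2)) : ρ (a 2) = a 2 := by
  apply q8_invol
  · rw [← map_mul, q8_a_two_mul_self, map_one]
  · intro h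
    exact q8_a_two_ne_one (ρ.injective (by rw [h, map_one]))

/-- The automorphism of `Q8` sending the generators `a 1, xa 0` to a given good pair. -/
noncomputable def autOfPair (u v : QuaternionGroup 2) (hu : u * u = a 2) (hv : v * v = a 2)
    (h1 : v ≠ u) (h2 : v ≠ u⁻¹) : MulAut (QuaternionGroup 2) :=
  MulEquiv.ofBijective
    (quatLift (q8_good_pair u v hu hv h1 h2).1 (q8_good_pair u v hu hv h1 h2).2.1
      (q8_good_pair u v hu hv h1 h2).2.2.1)
    (Finite.injective_iff_bijective.mp (q8_good_pair u v hu hv h1 h2).2.2.2.2)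

theorem autOfPair_a (u v : QuaternionGroup 2) (hu : u * u = a 2) (hv : v * v = a 2)
    (h1 : v ≠ u) (h2 : v ≠ u⁻¹) : autOfPair u v hu hv h1 h2 (a 1) = u :=
  quatLift_gen_a (q8_good_pair u v hu hv h1 h2).1 (q8_good_pair u v hu hv h1 h2).2.1
      (q8_good_pair u v hu hv h1 h2).2.2.1

theorem autOfPair_xa (u v : QuaternionGroup 2) (hu : u * u = a 2) (hv : v * v = a 2)
    (h1 : v ≠ u) (h2 : v ≠ u⁻¹) : autOfPair u v hu hv h1 h2 (xa 0) = v :=
  quatLift_gen_xa (q8_good_pair u v hu hv h1 h2).1 (q8_good_pair u v hu hv h1 h2).2.1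
      (q8_good_pair u v hu hv h1 h2).2.2.1

/-- Two automorphisms of `Q8` agreeing on the generators are equal. -/
theorem aut_ext {ρ τ : MulAut (QuaternionGroup 2)} (h1 : ρ (a 1) = τ (a 1))
    (h2 : ρ (xa 0) = τ (xa 0)) : ρ = τ := by
  have h : ρ.toMonoidHom = τ.toMonoidHom := by
    apply MonoidHom.eq_of_eqOn_dense (closure_a_one_xa_zero 2)
    intro y hy
    rcases hy with rfl | rfl
    · exact h1
    · exact h2
  ext x
  exact DFunLike.congr_fun h x

/-- **Normalization of outer involutions**: a non-inner automorphism `ρ` of `Q8` with `ρ² = 1`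
is conjugate to `sigma0`. -/
theorem exists_conj_sigma0 (ρ : MulAut (QuaternionGroup 2)) (hρ : ρ * ρ = 1)
    (hout : ∀ x : QuaternionGroup 2, ρ ≠ MulAut.conj x) :
    ∃ α : MulAut (QuaternionGroup 2), ρ * α = α * sigma0 := by
  set p := ρ (a 1) with hp
  set q := ρ (xa 0) with hq
  have hL : ∀ x, ρ x = quatLiftFun 2 p q x := aut_eq_quatLiftFun ρ
  have hρρ : ∀ x, ρ (ρ x) = x := fun x => DFunLike.congr_fun hρ x
  have e1 : quatLiftFun 2 p q p = a 1 := by rw [← hL, hp, hρρ]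
  have e2 : quatLiftFun 2 p q q = xa 0 := by rw [← hL, hq, hρρ]
  have e3 : p * p = a 2 := by rw [hp, ← map_mul, q8_a1_sq, aut_a_two]
  have e4 : q * q = a 2 := by rw [hq, ← map_mul, q8_xa0_sq, aut_a_two]
  have e5 : q ≠ p := fun h => q8_xa0_ne (ρ.injective h)
  have e6 : q ≠ p⁻¹ := by
    intro h
    apply q8_xa0_ne'
    apply ρ.injective
    rw [map_inv]; exact h
  rcases q8_outer_invol p q e1 e2 e3 e4 e5 e6 with ⟨x, hx1, hx2⟩ | ⟨u, v, hu, hv, h1, h2, hu', hv'⟩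
  · exfalso
    apply hout x
    apply aut_ext
    · rw [MulAut.conj_apply, hx1]
    · rw [MulAut.conj_apply, hx2]
  · refine ⟨autOfPair u v hu hv h1 h2, ?_⟩
    apply aut_ext
    · rw [MulAut.mul_apply, MulAut.mul_apply, autOfPair_a, hL, hu', sigma0_a_one, map_inv,
        map_mul, autOfPair_a, autOfPair_xa]
    · rw [MulAut.mul_apply, MulAut.mul_apply, autOfPair_xa, hL, hv', sigma0_xa_zero, map_inv,
        autOfPair_xa]

end Cfsg.Agent.Lib.Helper72.BinOct
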