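/-
helper72: groups of order 48 with a self-centralizing normal quaternion subgroup `Q8`:
either `GL(2,3)` or the binary octahedral group.
The data is given abstractly by an embedding `ψ : Q8 →* H` and the conjugation action
`κ : H →* Aut Q8`.
-/
import Mathlib
import Cfsg.Agent.Lib.Helper72.BinOctB
import Cfsg.Agent.S3742
import Cfsg.Agent.S0016
import Cfsg.Agent.Lib.Helper55.Cores

set_option autoImplicit false

namespace Cfsg.Agent.Lib.Helper72.BinOct

open QuaternionGroup Cfsg.Agent.Lib.Helper53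

theorem q8_central : ∀ y : QuaternionGroup 2, (∀ x, y * x * y⁻¹ = x) → y = 1 ∨ y = a 2 := by
  decide

theorem q8_a_two_central : ∀ x : QuaternionGroup 2, a 2 * x * (a 2)⁻¹ = x := by decide

theorem q8_not_comm : (a 1 : QuaternionGroup 2) * xa 0 ≠ xa 0 * a 1 := by decide

section

variable {H : Type*} [Group H] (ψ : QuaternionGroup 2 →* H)
  (κ : H →* MulAut (QuaternionGroup 2))

/-- The structure: `ψ` embeds `Q8` as a normal self-centralizing subgroup, `κ` is the
conjugation action. -/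
structure IsQ8Data : Prop where
  conj : ∀ h x, ψ (κ h x) = h * ψ x * h⁻¹
  inj : Function.Injective ψ
  ker_le : κ.ker ≤ ψ.range

variable {ψ κ}

theorem IsQ8Data.kappa_psi (hd : IsQ8Data ψ κ) (y : QuaternionGroup 2) :
    κ (ψ y) = MulAut.conj y := by
  ext x
  apply hd.inj
  rw [hd.conj, MulAut.conj_apply, map_mul, map_mul, map_inv]

theorem IsQ8Data.mem_ker_iff (hd : IsQ8Data ψ κ) (h : H) :
    h ∈ κ.ker ↔ h = 1 ∨ h = ψ (a 2) := by
  constructor
  · intro hh
    obtain ⟨y, rfl⟩ := hd.ker_le hh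
    rw [MonoidHom.mem_ker, hd.kappa_psi] at hh
    rcases q8_central y (fun x => by
      have := DFunLike.congr_fun hh x
      simpa using this) with rfl | rfl
    · left; exact map_one ψ
    · right; rfl
  · rintro (rfl | rfl)
    · exact Subgroup.one_mem _
    · rw [MonoidHom.mem_ker, hd.kappa_psi]
      ext x
      simpa using q8_a_two_central x

theorem IsQ8Data.z_sq (_hd : IsQ8Data ψ κ) : ψ (a 2) * ψ (a 2) = 1 := by
  rw [← map_mul, q8_a_two_mul_self, map_one]

theorem IsQ8Data.z_ne (hd : IsQ8Data ψ κ) : ψ (a 2) ≠ 1 := by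
  intro h
  exact q8_a_two_ne_one (hd.inj (by rw [h, map_one]))

theorem IsQ8Data.z_comm (hd : IsQ8Data ψ κ) (h : H) : h * ψ (a 2) = ψ (a 2) * h := by
  have e := hd.conj h (a 2)
  rw [aut_a_two] at e
  calc h * ψ (a 2) = (h * ψ (a 2) * h⁻¹) * h := by group
    _ = ψ (a 2) * h := by rw [← e]

theorem IsQ8Data.center_eq (hd : IsQ8Data ψ κ) : Subgroup.center H = κ.ker := by
  ext h
  constructor
  · intro hh
    rw [MonoidHom.mem_ker]
    ext x
    apply hd.inj
    rw [hd.conj, MulAut.one_apply]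
    have := Subgroup.mem_center_iff.mp hh (ψ x)
    rw [← this]; group
  · intro hh
    rw [Subgroup.mem_center_iff]
    rcases (hd.mem_ker_iff h).mp hh with rfl | rfl
    · intro g; simp
    · intro g; exact hd.z_comm g

theorem IsQ8Data.card_ker (hd : IsQ8Data ψ κ) : Nat.card κ.ker = 2 := by
  rw [Nat.card_eq_two_iff]
  refine ⟨1, ⟨ψ (a 2), (hd.mem_ker_iff _).mpr (Or.inr rfl)⟩, ?_, ?_⟩
  · intro h
    exact hd.z_ne (congrArg Subtype.val h).symm
  · ext x
    simp only [Set.mem_insert_iff, Set.mem_singleton_iff, Set.mem_univ, iff_true]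
    rcases (hd.mem_ker_iff x.1).mp x.2 with h | h
    · left; exact Subtype.ext h
    · right; exact Subtype.ext h

theorem IsQ8Data.surjective [Finite H] (hd : IsQ8Data ψ κ) (hcard : Nat.card H = 48) :
    Function.Surjective κ := by
  have hfin : Finite (MulAut (QuaternionGroup 2)) :=
    Finite.of_injective _ Cfsg.Agent.S3742.ev_injective
  rw [← MonoidHom.range_eq_top]
  apply Subgroup.eq_top_of_le_card
  have h1 : κ.ker.index = Nat.card κ.range := Subgroup.index_ker κ
  have h2 : κ.ker.index * Nat.card κ.ker = Nat.card H := Subgroup.index_mul_card _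
  rw [hd.card_ker, hcard] at h2
  have h3 : κ.ker.index = 24 := by omega
  rw [← h1, h3]
  exact Cfsg.Agent.S3742.card_le

theorem IsQ8Data.quot_center [Finite H] (hd : IsQ8Data ψ κ) (hcard : Nat.card H = 48) :
    Nonempty (H ⧸ Subgroup.center H ≃* Equiv.Perm (Fin 4)) := by
  obtain ⟨e⟩ := Cfsg.Agent.S3742.result
  exact ⟨(QuotientGroup.quotientMulEquivOfEq hd.center_eq).trans
    ((QuotientGroup.quotientKerEquivOfSurjective κ (hd.surjective hcard)).trans e)⟩

theorem IsQ8Data.card_center (hd : IsQ8Data ψ κ) : Nat.card (Subgroup.center H) = 2 := by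
  rw [hd.center_eq]; exact hd.card_ker

theorem IsQ8Data.range_normal (hd : IsQ8Data ψ κ) : ψ.range.Normal := by
  constructor
  rintro _ ⟨x, rfl⟩ g
  exact ⟨κ g x, hd.conj g x⟩

theorem IsQ8Data.range_isPGroup (_hd : IsQ8Data ψ κ) : IsPGroup 2 ψ.range := by
  rintro ⟨_, ⟨x, rfl⟩⟩
  refine ⟨2, ?_⟩
  apply Subtype.ext
  show ψ x ^ 2 ^ 2 = 1
  rw [← map_pow]
  have : x ^ 2 ^ 2 = 1 := q8_pow_four x
  rw [this, map_one]

theorem IsQ8Data.invol_eq (hd : IsQ8Data ψ κ) (hinv : ∀ r : H, r * r = 1 → r ∈ ψ.range)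
    (r : H) (hr : r * r = 1) (hr1 : r ≠ 1) : r = ψ (a 2) := by
  obtain ⟨y, rfl⟩ := hinv r hr
  congr 1
  apply q8_invol
  · apply hd.inj
    rw [map_mul, hr, map_one]
  · rintro rfl
    exact hr1 (map_one ψ)

theorem card_sylow_two_of_card_48 [Finite H] (hcard : Nat.card H = 48) (P : Sylow 2 H) :
    Nat.card P = 16 := by
  rw [P.card_eq_multiplicity, hcard]
  have : (48 : ℕ).factorization 2 = 4 := by
    rw [show (48 : ℕ) = 2 ^ 4 * 3 by norm_num, Nat.factorization_mul (by norm_num) (by norm_num),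
      Nat.factorization_pow]
    have h2 : (2 : ℕ).factorization 2 = 1 := Nat.Prime.factorization_self Nat.prime_two
    have h3 : (3 : ℕ).factorization 2 = 0 :=
      Nat.factorization_eq_zero_of_not_dvd (by norm_num)
    simp [h2, h3]
  rw [this]; norm_num

theorem IsQ8Data.sylow_quaternion [Finite H] (hd : IsQ8Data ψ κ) (hcard : Nat.card H = 48)
    (hinv : ∀ r : H, r * r = 1 → r ∈ ψ.range) (P : Sylow 2 H) :
    Nonempty (↥(P : Subgroup H) ≃* QuaternionGroup 4) := by
  have hP16 : Nat.card (P : Subgroup H) = 16 := card_sylow_two_of_card_48 hcard P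
  have hPp : IsPGroup 2 (P : Subgroup H) := P.isPGroup'
  have hQP : ψ.range ≤ (P : Subgroup H) :=
    (Cfsg.Agent.Lib.Helper55.le_pCore hd.range_normal hd.range_isPGroup).trans
      (Cfsg.Agent.Lib.Helper55.pCore_le_sylow P)
  -- subgroups of order two
  have key : ∀ K : Subgroup (P : Subgroup H), Nat.card K = 2 →
      ∃ k : (P : Subgroup H), (k : H) = ψ (a 2) ∧ K = Subgroup.zpowers k := by
    intro K hK
    have hne : K ≠ ⊥ := by
      intro h
      rw [h, Subgroup.card_bot] at hK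
      omega
    obtain ⟨⟨k, hkK⟩, hk1⟩ := (Subgroup.ne_bot_iff_exists_ne_one).mp hne
    have hk2 : k ^ 2 = 1 := by
      have h := pow_card_eq_one' (G := K) (x := ⟨k, hkK⟩)
      rw [hK] at h
      exact congrArg Subtype.val h
    have hk1' : k ≠ 1 := by
      intro h
      apply hk1
      exact Subtype.ext h
    have hkz : (k : H) = ψ (a 2) := by
      apply hd.invol_eq hinv
      · have := congrArg Subtype.val hk2
        rw [pow_two] at this
        exact this
      · intro h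
        apply hk1'
        exact Subtype.ext h
    refine ⟨k, hkz, ?_⟩
    symm
    apply Subgroup.eq_of_le_of_card_ge
    · rw [Subgroup.zpowers_le]; exact hkK
    · rw [hK, Nat.card_zpowers]
      have : orderOf k = 2 := orderOf_eq_prime hk2 hk1'
      rw [this]
  have huniq : ∀ K L : Subgroup (P : Subgroup H), Nat.card K = 2 → Nat.card L = 2 → K = L := by
    intro K L hK hL
    obtain ⟨k, hk, rfl⟩ := key K hK
    obtain ⟨l, hl, rfl⟩ := key L hL
    have : k = l := Subtype.ext (hk.trans hl.symm)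
    rw [this]
  rcases Cfsg.Agent.S0016.result 2 hPp huniq with hcyc | ⟨-, n, ⟨e⟩⟩
  · exfalso
    have hcomm := isMulCommutative_iff.mp hcyc.isMulCommutative
    have h1 : ψ (a 1) ∈ (P : Subgroup H) := hQP ⟨_, rfl⟩
    have h2 : ψ (xa 0) ∈ (P : Subgroup H) := hQP ⟨_, rfl⟩
    have h3 := hcomm (⟨ψ (a 1), h1⟩ : (P : Subgroup H)) ⟨ψ (xa 0), h2⟩
    have h4 : ψ (a 1) * ψ (xa 0) = ψ (xa 0) * ψ (a 1) := congrArg Subtype.val h3
    rw [← map_mul, ← map_mul] at h4
    exact q8_not_comm (hd.inj h4)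
  · have hc : Nat.card (QuaternionGroup (2 ^ n)) = 16 := by
      rw [← Nat.card_congr e.toEquiv, hP16]
    rw [Nat.card_eq_fintype_card, QuaternionGroup.card] at hc
    have hn : 2 ^ n = 4 := by omega
    rw [hn] at e
    exact ⟨e⟩

theorem gamma0_a_one : gamma0 (a 1) = xa 0 := by decide
theorem gamma0_xa_zero : gamma0 (xa 0) = a 1 * xa 0 := by decide
theorem q8_a_one_sq_ne : (a 1 : QuaternionGroup 2) ^ 2 ≠ 1 := by decide

/-- The split case: an involution outside `Q8` forces `H ≃ GL(2,3)`. -/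
theorem IsQ8Data.gl23_of_invol [Finite H] (hd : IsQ8Data ψ κ) (hcard : Nat.card H = 48)
    (r : H) (hr : r * r = 1) (hrQ : r ∉ ψ.range) : Nonempty (H ≃* GL (Fin 2) (ZMod 3)) := by
  set ρ := κ r with hρ
  have hρ2 : ρ * ρ = 1 := by rw [hρ, ← map_mul, hr, map_one]
  have hout : ∀ x, ρ ≠ MulAut.conj x := by
    intro x h
    rw [← hd.kappa_psi x] at h
    have hk : r * (ψ x)⁻¹ ∈ κ.ker := by
      rw [MonoidHom.mem_ker, map_mul, map_inv, ← hρ, h, mul_inv_cancel]
    have h1 := hd.ker_le hk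
    apply hrQ
    have h2 : r = (r * (ψ x)⁻¹) * ψ x := by group
    rw [h2]
    exact ψ.range.mul_mem h1 ⟨x, rfl⟩
  obtain ⟨α, hα⟩ := exists_conj_sigma0 ρ hρ2 hout
  set ψ' : QuaternionGroup 2 →* H := ψ.comp α.toMonoidHom with hψ'
  have hψ'x : ∀ x, ψ' x = ψ (α x) := fun x => rfl
  have hψ'inj : Function.Injective ψ' := hd.inj.comp α.injective
  have hψ'range : ∀ x, ψ' x ∈ ψ.range := fun x => ⟨α x, rfl⟩
  have hz : ψ' (a 2) = ψ (a 2) := by rw [hψ'x, aut_a_two]
  have hract : ∀ x, r * ψ' x * r⁻¹ = ψ' (sigma0 x) := by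
    intro x
    rw [hψ'x, hψ'x, ← hd.conj]
    congr 1
    exact DFunLike.congr_fun hα x
  obtain ⟨t0, ht0⟩ := hd.surjective hcard (α * gamma0 * α⁻¹)
  have ht0act : ∀ x, t0 * ψ' x * t0⁻¹ = ψ' (gamma0 x) := by
    intro x
    rw [hψ'x, hψ'x, ← hd.conj, ht0]
    simp
  have ht0ker : t0 ^ 3 ∈ κ.ker := by
    rw [MonoidHom.mem_ker, map_pow, ht0, conj_pow, gamma0_cube]
    group
  -- adjust `t0` to have order three
  obtain ⟨t, ht, htact⟩ : ∃ t : H, t ^ 3 = 1 ∧ ∀ x, t * ψ' x * t⁻¹ = ψ' (gamma0 x) := by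
    rcases (hd.mem_ker_iff _).mp ht0ker with h | h
    · exact ⟨t0, h, ht0act⟩
    · refine ⟨t0 * ψ (a 2), ?_, ?_⟩
      · have hcomm : Commute t0 (ψ (a 2)) := hd.z_comm t0
        rw [hcomm.mul_pow, h]
        have : ψ (a 2) ^ 3 = ψ (a 2) := by
          rw [pow_succ, pow_two, hd.z_sq, one_mul]
        rw [this, hd.z_sq]
      · intro x
        rw [← ht0act x]
        have hcz : ψ (a 2) * ψ' x * (ψ (a 2))⁻¹ = ψ' x := by
          rw [← hd.z_comm (ψ' x)]; group
        calc t0 * ψ (a 2) * ψ' x * (t0 * ψ (a 2))⁻¹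
            = t0 * (ψ (a 2) * ψ' x * (ψ (a 2))⁻¹) * t0⁻¹ := by group
          _ = t0 * ψ' x * t0⁻¹ := by rw [hcz]
  set u := ψ' (a 1) with hu_def
  set v := ψ' (xa 0) with hv_def
  have hu : u ^ (2 * 2) = 1 := by rw [hu_def, ← map_pow, q8_rel1, map_one]
  have hv : v * v = u ^ 2 := by rw [hu_def, hv_def, ← map_mul, ← map_pow, q8_rel2]
  have hc : v * u * v⁻¹ = u⁻¹ := by
    rw [hu_def, hv_def, ← map_inv, ← map_mul, ← map_mul, ← map_inv, q8_rel3]
  have htu : t * u * t⁻¹ = v := by rw [hu_def, htact, gamma0_a_one]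
  have htv : t * v * t⁻¹ = u * v := by rw [hv_def, htact, gamma0_xa_zero, map_mul]
  have hs : r ^ 2 = 1 := by rw [pow_two, hr]
  have hsu : r * u * r⁻¹ = (u * v)⁻¹ := by rw [hu_def, hract, sigma0_a_one, map_inv, map_mul]
  have hsv : r * v * r⁻¹ = v⁻¹ := by rw [hv_def, hract, sigma0_xa_zero, map_inv]
  have hu2 : u ^ 2 ≠ 1 := by
    rw [hu_def, ← map_pow]
    intro h
    exact q8_a_one_sq_ne (hψ'inj (by rw [h, map_one]))
  have ht1 : t ≠ 1 := by
    rintro rfl
    have : u = v := by rw [← htu]; group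
    exact q8_xa0_ne (hψ'inj this).symm
  -- `κ t` and `κ r` explicitly
  have hκt : κ t = α * gamma0 * α⁻¹ := by
    rw [eq_mul_inv_iff_mul_eq]
    ext x
    apply hd.inj
    rw [MulAut.mul_apply, hd.conj, MulAut.mul_apply]
    exact htact x
  have hκr : κ r = α * sigma0 * α⁻¹ := by
    rw [eq_mul_inv_iff_mul_eq]
    exact hα
  have hst : r * t * r⁻¹ = t⁻¹ := by
    have hw : r * t * r⁻¹ * t ∈ κ.ker := by
      rw [MonoidHom.mem_ker, map_mul, map_mul, map_mul, map_inv, hκt, hκr]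
      have h1 : α * sigma0 * α⁻¹ * (α * gamma0 * α⁻¹) * (α * sigma0 * α⁻¹)⁻¹ * (α * gamma0 * α⁻¹)
          = α * ((sigma0 * gamma0 * sigma0⁻¹) * gamma0) * α⁻¹ := by group
      rw [h1, sigma0_gamma0]
      group
    rcases (hd.mem_ker_iff _).mp hw with h | h
    · exact eq_inv_of_mul_eq_one_left h
    · exfalso
      have h1 : r * t * r⁻¹ = ψ (a 2) * t⁻¹ := by rw [← h]; group
      have h2 : (r * t * r⁻¹) ^ 3 = 1 := by rw [conj_pow, ht]; group
      have hcomm : Commute (ψ (a 2)) t⁻¹ := (hd.z_comm t⁻¹).symm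
      rw [h1, hcomm.mul_pow, inv_pow, ht, inv_one, mul_one] at h2
      have : ψ (a 2) ^ 3 = ψ (a 2) := by
        rw [pow_succ, pow_two, hd.z_sq, one_mul]
      rw [this] at h2
      exact hd.z_ne h2
  have hql : ∀ q, quatLift hu hv hc q = ψ' q := by
    intro q
    have h : quatLift hu hv hc = ψ' := by
      apply MonoidHom.eq_of_eqOn_dense (closure_a_one_xa_zero 2)
      intro y hy
      rcases hy with rfl | rfl
      · exact quatLift_gen_a hu hv hc
      · exact quatLift_gen_xa hu hv hc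
    rw [h]
  have hsnot : ∀ m : Model, recogHom hu hv hc ht htu htv m ≠ r := by
    intro m hm
    rw [recogHom_apply, hql] at hm
    set w := ψ' m.left with hw
    set k := (Multiplicative.toAdd m.right).val with hk
    have hwQ : w ∈ ψ.range := hψ'range _
    have hklt : k < 3 := ZMod.val_lt _
    have hn := hd.range_normal
    have hconjQ : t ^ k * w * (t ^ k)⁻¹ ∈ ψ.range := hn.conj_mem w hwQ (t ^ k)
    have hy : t ^ k * t ^ k ∈ ψ.range := by
      have h1 : (w * t ^ k) * (w * t ^ k) = 1 := by rw [hm, hr]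
      have h3 : (w * (t ^ k * w * (t ^ k)⁻¹)) * (t ^ k * t ^ k) = 1 := by
        rw [← h1]; group
      have h2 : t ^ k * t ^ k = (w * (t ^ k * w * (t ^ k)⁻¹))⁻¹ :=
        eq_inv_of_mul_eq_one_right h3
      rw [h2]
      exact ψ.range.inv_mem (ψ.range.mul_mem hwQ hconjQ)
    obtain ⟨y0, hy0⟩ := hy
    have hy4 : (t ^ k * t ^ k) ^ 4 = 1 := by
      rw [← hy0, ← map_pow, q8_pow_four, map_one]
    have hy3 : (t ^ k * t ^ k) ^ 3 = 1 := by
      rw [← pow_add, ← pow_mul, mul_comm, pow_mul, ht, one_pow]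
    have hy1 : t ^ k * t ^ k = 1 := by
      have : (t ^ k * t ^ k) ^ 4 = (t ^ k * t ^ k) ^ 3 * (t ^ k * t ^ k) := pow_succ _ 3
      rw [hy4, hy3, one_mul] at this
      exact this.symm
    interval_cases k
    · apply hrQ
      rw [← hm, pow_zero, mul_one]
      exact hwQ
    · apply ht1
      rw [pow_one] at hy1
      have : t ^ 3 = t * (t * t) := by rw [pow_succ, pow_two]; group
      rw [ht, hy1, mul_one] at this
      exact this.symm
    · apply ht1
      have : t ^ 2 * t ^ 2 = t ^ 3 * t := by rw [← pow_add, pow_succ t 3]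
      rw [hy1, ht, one_mul] at this
      exact this.symm
  exact nonempty_mulEquiv_GL23 hu hv hc ht htu htv hs hsu hsv hst hu2 ht1 hsnot hcard

/-- **Groups of order 48 with a self-centralizing normal `Q8`**. -/
theorem IsQ8Data.order48 [Finite H] (hd : IsQ8Data ψ κ) (hcard : Nat.card H = 48) :
    Nonempty (H ≃* GL (Fin 2) (ZMod 3)) ∨
    (Nat.card H = 48 ∧ Nat.card (Subgroup.center H) = 2 ∧
      Nonempty (H ⧸ Subgroup.center H ≃* Equiv.Perm (Fin 4)) ∧
      ∀ P : Sylow 2 H, Nonempty (↥(P : Subgroup H) ≃* QuaternionGroup 4)) := by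
  by_cases hinv : ∀ r : H, r * r = 1 → r ∈ ψ.range
  · right
    exact ⟨hcard, hd.card_center, hd.quot_center hcard, hd.sylow_quaternion hcard hinv⟩
  · left
    push Not at hinv
    obtain ⟨r, hr, hrQ⟩ := hinv
    exact hd.gl23_of_invol hcard r hr hrQ

end

end Cfsg.Agent.Lib.Helper72.BinOct
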