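/-
helper72: commuting involutions in groups of 2-rank one, and inheritance of the hypothesis
"distinct Sylow 2-subgroups meet in a group of 2-rank at most one" by quotients modulo normal
subgroups of odd order.
-/
import Mathlib
import Cfsg.Prelude.Def_CaseTheorems
import Cfsg.Agent.Lib.Helper34.SylowConj

set_option autoImplicit false

namespace Cfsg.Agent.Lib.Helper72.BinOct

open Cfsg
open scoped Pointwise

/-- In a group of `2`-rank at most one, commuting involutions coincide. -/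
theorem eq_of_pRankLE_two_one {X : Type*} [Group X] [Finite X] (h : Cfsg.PRankLE 2 1 X)
    (x y : X) (hx : x * x = 1) (hy : y * y = 1) (hxy : x * y = y * x) (hx1 : x ≠ 1)
    (hy1 : y ≠ 1) : x = y := by
  set A : Subgroup X := Subgroup.closure {x, y} with hA
  have hcomm : ∀ a ∈ ({x, y} : Set X), ∀ b ∈ ({x, y} : Set X), a * b = b * a := by
    rintro a (rfl | rfl) b (rfl | rfl)
    · rfl
    · exact hxy
    · exact hxy.symm
    · rfl
  have hAcomm : IsMulCommutative A := Subgroup.isMulCommutative_closure hcomm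
  have hAc : ∀ a b : A, a * b = b * a := isMulCommutative_iff.mp hAcomm
  have hAexp : ∀ a ∈ A, a ^ 2 = 1 := by
    intro a ha
    induction ha using Subgroup.closure_induction with
    | mem z hz =>
      rcases hz with rfl | rfl
      · rw [pow_two, hx]
      · rw [pow_two, hy]
    | one => simp
    | mul a b ha hb iha ihb =>
      have hab : a * b = b * a := congrArg Subtype.val (hAc ⟨a, ha⟩ ⟨b, hb⟩)
      rw [(show Commute a b from hab).mul_pow, iha, ihb, one_mul]
    | inv a ha iha => rw [inv_pow, iha, inv_one]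
  have hcard := h A hAcomm hAexp
  have hxA : x ∈ A := Subgroup.subset_closure (by simp)
  have hyA : y ∈ A := Subgroup.subset_closure (by simp)
  have hnt : Nontrivial A := ⟨⟨⟨x, hxA⟩, 1, fun h => hx1 (congrArg Subtype.val h)⟩⟩
  have h2 : 1 < Nat.card A := Finite.one_lt_card
  have hc2 : Nat.card A = 2 := by
    have : (2 : ℕ) ^ 1 = 2 := by norm_num
    omega
  obtain ⟨w, -, hw⟩ := (Nat.card_eq_two_iff' (1 : A)).mp hc2
  have e1 : (⟨x, hxA⟩ : A) = w := hw _ (fun h => hx1 (congrArg Subtype.val h))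
  have e2 : (⟨y, hyA⟩ : A) = w := hw _ (fun h => hy1 (congrArg Subtype.val h))
  exact congrArg Subtype.val (e1.trans e2.symm)

/-- Sylow conjugation inside a subgroup `M` containing the Sylow subgroup `P`
(after helper11's `exists_conj_le_sylow_of_le`). -/
theorem exists_conj_le_sylow {G : Type*} [Group G] [Finite G] {p : ℕ} [Fact p.Prime]
    (P : Sylow p G) (M R : Subgroup G) (hPM : (P : Subgroup G) ≤ M) (hRM : R ≤ M)
    (hR : IsPGroup p R) : ∃ m ∈ M, ∀ r ∈ R, m * r * m⁻¹ ∈ (P : Subgroup G) := by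
  have hR' : IsPGroup p (R.subgroupOf M) := hR.comap_of_injective M.subtype M.subtype_injective
  obtain ⟨Q', hQ'⟩ := hR'.exists_le_sylow
  obtain ⟨m, hm⟩ := MulAction.exists_smul_eq ↥M Q' (P.subtype hPM)
  refine ⟨m, m.2, ?_⟩
  intro r hr
  have h1 : (⟨r, hRM hr⟩ : ↥M) ∈ Q' := hQ' (Subgroup.mem_subgroupOf.mpr hr)
  have h2 : m * ⟨r, hRM hr⟩ * m⁻¹ ∈ ((m • Q' : Sylow p ↥M) : Subgroup ↥M) := by
    rw [Cfsg.Agent.Lib.Helper34.mem_sylow_smul_iff]
    have : m⁻¹ * (m * ⟨r, hRM hr⟩ * m⁻¹) * m = ⟨r, hRM hr⟩ := by group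
    rw [this]; exact h1
  rw [hm, Sylow.coe_subtype, Subgroup.mem_subgroupOf] at h2
  simpa using h2

/-- A `2`-element of a subgroup of odd order is trivial. -/
theorem eq_one_of_mem_sylow_of_mem_odd {G : Type*} [Group G] [Finite G] (S : Sylow 2 G)
    (K : Subgroup G) (hK : (Nat.card K).Coprime 2) (g : G) (hgS : g ∈ (S : Subgroup G))
    (hgK : g ∈ K) : g = 1 := by
  obtain ⟨k, hk⟩ := (S.isPGroup' : IsPGroup 2 (S : Subgroup G)) ⟨g, hgS⟩
  have hk' : g ^ 2 ^ k = 1 := congrArg Subtype.val hk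
  have h1 : orderOf g ∣ 2 ^ k := orderOf_dvd_of_pow_eq_one hk'
  have h2 : orderOf g ∣ Nat.card K := by
    have := orderOf_dvd_natCard (⟨g, hgK⟩ : K)
    rwa [Subgroup.orderOf_mk] at this
  have h3 : (Nat.card K).Coprime (2 ^ k) := Nat.Coprime.pow_right k hK
  have h4 : orderOf g = 1 := Nat.eq_one_of_dvd_coprimes h3 h2 h1
  exact orderOf_eq_one_iff.mp h4

/-- **Inheritance**: if distinct Sylow `2`-subgroups of `G` meet in groups of `2`-rank at most
one, then in `G ⧸ K`, `K` normal of odd order, commuting involutions in the intersection of two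
distinct Sylow `2`-subgroups coincide. -/
theorem inherit {G : Type*} [Group G] [Finite G] (K : Subgroup G) [K.Normal]
    (hK : (Nat.card K).Coprime 2)
    (hI : ∀ S T : Sylow 2 G, S ≠ T →
      Cfsg.PRankLE 2 1 ↥((S : Subgroup G) ⊓ (T : Subgroup G)))
    (S' T' : Sylow 2 (G ⧸ K)) (hST : S' ≠ T') (x y : G ⧸ K)
    (hxS : x ∈ (S' : Subgroup (G ⧸ K))) (hxT : x ∈ (T' : Subgroup (G ⧸ K)))
    (hyS : y ∈ (S' : Subgroup (G ⧸ K))) (hyT : y ∈ (T' : Subgroup (G ⧸ K)))
    (hx : x * x = 1) (hy : y * y = 1) (hxy : x * y = y * x) (hx1 : x ≠ 1) (hy1 : y ≠ 1) :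
    x = y := by
  have hπ : Function.Surjective (QuotientGroup.mk' K) := QuotientGroup.mk'_surjective K
  obtain ⟨S, rfl⟩ := Sylow.mapSurjective_surjective hπ 2 S'
  obtain ⟨T, rfl⟩ := Sylow.mapSurjective_surjective hπ 2 T'
  rw [Sylow.coe_mapSurjective] at hxS hxT hyS hyT
  obtain ⟨x1, hx1S, rfl⟩ := hxS
  obtain ⟨y1, hy1S, rfl⟩ := hyS
  have hker : ∀ g : G, QuotientGroup.mk' K g = 1 ↔ g ∈ K := fun g =>
    QuotientGroup.eq_one_iff g
  -- lifts are commuting involutions
  have hx' : x1 * x1 = 1 := by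
    apply eq_one_of_mem_sylow_of_mem_odd S K hK _ (Subgroup.mul_mem _ hx1S hx1S)
    rw [← hker, map_mul]; exact hx
  have hy' : y1 * y1 = 1 := by
    apply eq_one_of_mem_sylow_of_mem_odd S K hK _ (Subgroup.mul_mem _ hy1S hy1S)
    rw [← hker, map_mul]; exact hy
  have hxy' : x1 * y1 = y1 * x1 := by
    have h1 : x1 * y1 * (y1 * x1)⁻¹ = 1 := by
      apply eq_one_of_mem_sylow_of_mem_odd S K hK
      · exact Subgroup.mul_mem _ (Subgroup.mul_mem _ hx1S hy1S)
          (Subgroup.inv_mem _ (Subgroup.mul_mem _ hy1S hx1S))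
      · rw [← hker, map_mul, map_inv, map_mul, map_mul, hxy, mul_inv_cancel]
    exact mul_inv_eq_one.mp h1
  -- the lifts lie in `T ⊔ K`
  have hsup : ∀ g : G, QuotientGroup.mk' K g ∈ (T : Subgroup G).map (QuotientGroup.mk' K) →
      g ∈ (T : Subgroup G) ⊔ K := by
    rintro g ⟨g2, hg2T, hg2⟩
    have h1 : g2⁻¹ * g ∈ K := by
      rw [← hker, map_mul, map_inv, hg2, inv_mul_cancel]
    have h2 : g = g2 * (g2⁻¹ * g) := by group
    rw [h2]
    exact Subgroup.mul_mem _ (Subgroup.mem_sup_left hg2T) (Subgroup.mem_sup_right h1)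
  set R : Subgroup G := Subgroup.closure {x1, y1} with hR
  have hRS : R ≤ (S : Subgroup G) := by
    rw [hR, Subgroup.closure_le]
    rintro g (rfl | rfl)
    · exact hx1S
    · exact hy1S
  have hRM : R ≤ (T : Subgroup G) ⊔ K := by
    rw [hR, Subgroup.closure_le]
    rintro g (rfl | rfl)
    · exact hsup _ hxT
    · exact hsup _ hyT
  have hRp : IsPGroup 2 R := (S.isPGroup' : IsPGroup 2 (S : Subgroup G)).to_le hRS
  obtain ⟨m, hmM, hm⟩ := exists_conj_le_sylow T ((T : Subgroup G) ⊔ K) R le_sup_left hRM hRp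
  -- decompose `m = t * k`
  have hmul : ((((T : Subgroup G) ⊔ K : Subgroup G)) : Set G) =
      ((T : Subgroup G) : Set G) * (K : Set G) :=
    Subgroup.mul_normal (T : Subgroup G) K
  have hm' : m ∈ ((T : Subgroup G) : Set G) * (K : Set G) := by
    rw [← hmul]; exact hmM
  obtain ⟨t, htT, k, hkK, rfl⟩ := Set.mem_mul.mp hm'
  have hk : ∀ r ∈ R, k * r * k⁻¹ ∈ (T : Subgroup G) := by
    intro r hr
    have h1 := hm r hr
    have h2 : k * r * k⁻¹ = t⁻¹ * (t * k * r * (t * k)⁻¹) * t := by group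
    rw [h2]
    exact Subgroup.mul_mem _ (Subgroup.mul_mem _ (Subgroup.inv_mem _ htT) h1) htT
  -- the new Sylow subgroup
  set T1 : Sylow 2 G := k⁻¹ • T with hT1
  have hmemT1 : ∀ g : G, g ∈ (T1 : Subgroup G) ↔ k * g * k⁻¹ ∈ (T : Subgroup G) := by
    intro g
    rw [hT1, Cfsg.Agent.Lib.Helper34.mem_sylow_smul_iff, inv_inv]
  have hx1T1 : x1 ∈ (T1 : Subgroup G) :=
    (hmemT1 x1).mpr (hk x1 (Subgroup.subset_closure (by simp)))
  have hy1T1 : y1 ∈ (T1 : Subgroup G) :=
    (hmemT1 y1).mpr (hk y1 (Subgroup.subset_closure (by simp)))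
  have hne : S ≠ T1 := by
    intro h
    apply hST
    have hle : (S : Subgroup G).map (QuotientGroup.mk' K) ≤
        (T : Subgroup G).map (QuotientGroup.mk' K) := by
      rintro _ ⟨g, hg, rfl⟩
      have hg' : g ∈ (T1 : Subgroup G) := by rw [← h]; exact hg
      refine ⟨k * g * k⁻¹, (hmemT1 g).mp hg', ?_⟩
      have hk1 : QuotientGroup.mk' K k = 1 := (hker k).mpr hkK
      rw [map_mul, map_mul, map_inv, hk1]
      simp
    apply Sylow.ext
    rw [Sylow.coe_mapSurjective, Sylow.coe_mapSurjective]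
    have hmax := (S.mapSurjective hπ).is_maximal' (T.mapSurjective hπ).isPGroup' hle
    exact hmax.symm
  have hrank := hI S T1 hne
  have hxm : x1 ∈ (S : Subgroup G) ⊓ (T1 : Subgroup G) := ⟨hx1S, hx1T1⟩
  have hym : y1 ∈ (S : Subgroup G) ⊓ (T1 : Subgroup G) := ⟨hy1S, hy1T1⟩
  have hfin := eq_of_pRankLE_two_one hrank ⟨x1, hxm⟩ ⟨y1, hym⟩
    (Subtype.ext hx') (Subtype.ext hy') (Subtype.ext hxy')
    (fun h => hx1 (by rw [show x1 = 1 from congrArg Subtype.val h, map_one]))
    (fun h => hy1 (by rw [show y1 = 1 from congrArg Subtype.val h, map_one]))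
  rw [show x1 = y1 from congrArg Subtype.val hfin]

end Cfsg.Agent.Lib.Helper72.BinOct
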