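/-
helper72: finite solvable groups `H` with `O(H) = 1` in which commuting involutions in the
intersection of two distinct Sylow 2-subgroups coincide: `H` has a normal Sylow 2-subgroup, or is
`GL(2,3)`, or is the binary octahedral group.
-/
import Mathlib
import Cfsg.Agent.Lib.Helper72.BinOctC
import Cfsg.Agent.Lib.Helper53.QuatAut

set_option autoImplicit false

namespace Cfsg.Agent.Lib.Helper72.BinOct

open Cfsg QuaternionGroup Cfsg.Agent.Lib.Helper53 Cfsg.Agent.Lib.Helper55

/-- If all involutions of a finite group coincide, there is at most one subgroup of order two. -/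
theorem subgroup_card_two_unique' {Q : Type*} [Group Q] [Finite Q]
    (hinv : ∀ x y : Q, x * x = 1 → y * y = 1 → x ≠ 1 → y ≠ 1 → x = y)
    (K L : Subgroup Q) (hK : Nat.card K = 2) (hL : Nat.card L = 2) : K = L := by
  have key : ∀ K : Subgroup Q, Nat.card K = 2 →
      ∃ k : Q, k * k = 1 ∧ k ≠ 1 ∧ K = Subgroup.zpowers k := by
    intro K hK
    have hne : K ≠ ⊥ := by
      intro h
      rw [h, Subgroup.card_bot] at hK
      omega
    obtain ⟨⟨k, hkK⟩, hk1⟩ := (Subgroup.ne_bot_iff_exists_ne_one).mp hne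
    have hk2 : k ^ 2 = 1 := by
      have h := pow_card_eq_one' (G := K) (x := ⟨k, hkK⟩)
      rw [hK] at h
      exact congrArg Subtype.val h
    have hk1' : k ≠ 1 := by
      intro h
      apply hk1
      exact Subtype.ext h
    refine ⟨k, by rw [← pow_two, hk2], hk1', ?_⟩
    symm
    apply Subgroup.eq_of_le_of_card_ge
    · rw [Subgroup.zpowers_le]; exact hkK
    · rw [hK, Nat.card_zpowers]
      have : orderOf k = 2 := orderOf_eq_prime hk2 hk1'
      rw [this]
  obtain ⟨k, hk, hk1, rfl⟩ := key K hK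
  obtain ⟨l, hl, hl1, rfl⟩ := key L hL
  rw [hinv k l hk hl hk1 hl1]

/-- A finite group in which every element of odd order is trivial is a `2`-group. -/
theorem isPGroup_two_of_odd_trivial {H : Type*} [Group H] [Finite H]
    (h : ∀ g : H, (orderOf g).Coprime 2 → g = 1) : IsPGroup 2 H := by
  intro g
  obtain ⟨k, m, hm, hkm⟩ := Nat.exists_eq_two_pow_mul_odd (orderOf_pos g).ne'
  refine ⟨k, ?_⟩
  apply h
  have h1 : (g ^ 2 ^ k) ^ m = 1 := by
    rw [← pow_mul, ← hkm, pow_orderOf_eq_one]
  have h2 : orderOf (g ^ 2 ^ k) ∣ m := orderOf_dvd_of_pow_eq_one h1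
  exact Nat.Coprime.coprime_dvd_left h2 (Nat.Coprime.symm (Nat.coprime_two_left.mpr hm))

/-- In a `2`-group the Sylow `2`-subgroup is normal. -/
theorem sylow_normal_of_isPGroup {H : Type*} [Group H] (h : IsPGroup 2 H) (P : Sylow 2 H) :
    (P : Subgroup H).Normal := by
  have h1 : (⊤ : Subgroup H) = P := P.is_maximal' (h.to_subgroup ⊤) le_top
  rw [← h1]
  infer_instance

/-- If odd-order automorphisms of a self-centralizing normal `2`-subgroup `Q` are trivial,
the group is a `2`-group. -/
theorem isPGroup_two_of_rigid {H : Type*} [Group H] [Finite H] (Q : Subgroup H) [Q.Normal]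
    (hQp : IsPGroup 2 Q) (hCQ : Subgroup.centralizer (Q : Set H) ≤ Q)
    (hrig : ∀ β : MulAut Q, (orderOf β).Coprime 2 → β = 1) : IsPGroup 2 H := by
  apply isPGroup_two_of_odd_trivial
  intro g hg
  have h1 : (MulAut.conjNormal g : MulAut Q) = 1 := by
    apply hrig
    exact Nat.Coprime.coprime_dvd_left (orderOf_map_dvd _ g) hg
  have h2 : g ∈ Subgroup.centralizer (Q : Set H) := by
    rw [Subgroup.mem_centralizer_iff]
    intro q hq
    have h3 : g * q * g⁻¹ = q := by
      have h4 := congrArg Subtype.val (DFunLike.congr_fun h1 ⟨q, hq⟩)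
      rwa [MulAut.conjNormal_apply] at h4
    calc q * g = (g * q * g⁻¹) * g := by rw [h3]
      _ = g * q := by group
  have h3 := hCQ h2
  obtain ⟨k, hk⟩ := hQp ⟨g, h3⟩
  have hk' : g ^ 2 ^ k = 1 := congrArg Subtype.val hk
  have h4 : orderOf g ∣ 2 ^ k := orderOf_dvd_of_pow_eq_one hk'
  have h5 : orderOf g = 1 := Nat.Coprime.eq_one_of_dvd (Nat.Coprime.pow_right k hg) h4
  exact orderOf_eq_one_iff.mp h5

theorem card_mulAut_q8 : Nat.card (MulAut (QuaternionGroup 2)) = 24 := by
  obtain ⟨e⟩ := Cfsg.Agent.S3742.result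
  rw [Nat.card_congr e.toEquiv, Nat.card_eq_fintype_card, Fintype.card_perm, Fintype.card_fin]
  rfl

/-- **Main reduction.** -/
theorem main_reduction {H : Type*} [Group H] [Finite H] [Group.IsSolvable H]
    (hO : pPrimeCore 2 H = ⊥)
    (hI : ∀ S T : Sylow 2 H, S ≠ T → ∀ x y : H, x ∈ (S : Subgroup H) → x ∈ (T : Subgroup H) →
      y ∈ (S : Subgroup H) → y ∈ (T : Subgroup H) → x * x = 1 → y * y = 1 → x * y = y * x →
      x ≠ 1 → y ≠ 1 → x = y) :
    (∃ P : Sylow 2 H, (P : Subgroup H).Normal) ∨
    Nonempty (H ≃* GL (Fin 2) (ZMod 3)) ∨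
    (Nat.card H = 48 ∧ Nat.card (Subgroup.center H) = 2 ∧
      Nonempty (H ⧸ Subgroup.center H ≃* Equiv.Perm (Fin 4)) ∧
      ∀ P : Sylow 2 H, Nonempty (↥(P : Subgroup H) ≃* QuaternionGroup 4)) := by
  by_cases hN : ∃ P : Sylow 2 H, (P : Subgroup H).Normal
  · exact Or.inl hN
  right
  push Not at hN
  set Q : Subgroup H := pCore 2 H with hQ
  have hQn : Q.Normal := pCore_normal' 2
  have hQp : IsPGroup 2 Q := isPGroup_pCore 2
  have hCQ : Subgroup.centralizer (Q : Set H) ≤ Q := centralizer_pCore_le 2 hO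
  obtain ⟨P⟩ : Nonempty (Sylow 2 H) := inferInstance
  have hnotp : ¬ IsPGroup 2 H := fun h => hN P (sylow_normal_of_isPGroup h P)
  obtain ⟨g, hg⟩ : ∃ g : H, g • P ≠ P := by
    by_contra hcon
    push Not at hcon
    apply hN P
    rw [← Subgroup.normalizer_eq_top_iff, eq_top_iff]
    intro g _
    exact Sylow.smul_eq_iff_mem_normalizer.mp (hcon g)
  -- commuting involutions of `Q` coincide
  have hInvQ : ∀ x y : H, x ∈ Q → y ∈ Q → x * x = 1 → y * y = 1 → x * y = y * x → x ≠ 1 →
      y ≠ 1 → x = y := by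
    intro x y hxQ hyQ
    exact hI (g • P) P hg x y (pCore_le_sylow _ hxQ) (pCore_le_sylow _ hxQ)
      (pCore_le_sylow _ hyQ) (pCore_le_sylow _ hyQ)
  -- all involutions of `Q` coincide
  have hinvQ : ∀ x y : Q, x * x = 1 → y * y = 1 → x ≠ 1 → y ≠ 1 → x = y := by
    intro x y hx hy hx1 hy1
    have hnt : Nontrivial Q := ⟨⟨x, 1, hx1⟩⟩
    have hcnt : Nontrivial (Subgroup.center Q) := hQp.center_nontrivial
    have hcp : IsPGroup 2 (Subgroup.center Q) := hQp.to_subgroup _
    have h2 : 2 ∣ Nat.card (Subgroup.center Q) := by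
      rcases hcp.card_eq_or_dvd with h | h
      · have := Finite.one_lt_card (α := Subgroup.center Q)
        omega
      · exact h
    obtain ⟨z, hz⟩ := exists_prime_orderOf_dvd_card' 2 h2
    have hz2 : (z : Q) * (z : Q) = 1 := by
      have : z ^ 2 = 1 := by rw [← hz, pow_orderOf_eq_one]
      rw [← pow_two]
      exact congrArg Subtype.val this
    have hz1 : (z : Q) ≠ 1 := by
      intro h
      have : z = 1 := Subtype.ext h
      rw [this, orderOf_one] at hz
      omega
    have hzc : ∀ q : Q, q * (z : Q) = (z : Q) * q := fun q =>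
      (Subgroup.mem_center_iff.mp z.2 q)
    have key : ∀ w : Q, w * w = 1 → w ≠ 1 → w = (z : Q) := by
      intro w hw hw1
      apply Subtype.ext
      apply hInvQ _ _ w.2 (z : Q).2
      · exact congrArg Subtype.val hw
      · exact congrArg Subtype.val hz2
      · exact congrArg Subtype.val (hzc w)
      · intro h; exact hw1 (Subtype.ext h)
      · intro h; exact hz1 (Subtype.ext h)
    rw [key x hx hx1, key y hy hy1]
  have huniq := subgroup_card_two_unique' hinvQ
  have hcyc : IsCyclic Q → False := by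
    intro hc
    apply hnotp
    exact isPGroup_two_of_rigid Q hQp hCQ (fun β hβ => aut_eq_one_of_cyclic hQp β hβ)
  rcases Cfsg.Agent.S0016.result 2 hQp huniq with hc | ⟨-, n, ⟨e⟩⟩
  · exact (hcyc hc).elim
  rcases n with _ | _ | n
  · -- `QuaternionGroup 1` is cyclic
    exfalso
    apply hcyc
    have h1 : (2 : ℕ) ^ 0 = 1 := by norm_num
    rw [h1] at e
    haveI := quaternionGroup_one_isCyclic
    exact isCyclic_of_surjective e.symm e.symm.surjective
  · -- the quaternion group of order 8
    have h1 : (2 : ℕ) ^ (0 + 1) = 2 := by norm_num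
    rw [h1] at e
    set ψ : QuaternionGroup 2 →* H := Q.subtype.comp e.symm.toMonoidHom with hψ
    set κ : H →* MulAut (QuaternionGroup 2) :=
      (MulAut.congr e).toMonoidHom.comp (MulAut.conjNormal (H := Q)) with hκ
    have hd : IsQ8Data ψ κ := by
      refine ⟨?_, ?_, ?_⟩
      · intro h x
        show ((e.symm (e ((MulAut.conjNormal h) (e.symm x))) : Q) : H) = h * (e.symm x : Q) * h⁻¹
        rw [MulEquiv.symm_apply_apply, MulAut.conjNormal_apply]
      · exact Q.subtype_injective.comp e.symm.injective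
      · intro h hh
        have h2 : (MulAut.conjNormal h : MulAut Q) = 1 := by
          have h3 : MulAut.congr e (MulAut.conjNormal h : MulAut Q) = 1 := hh
          exact (MulAut.congr e).injective (by rw [h3, map_one])
        have h3 : h ∈ Subgroup.centralizer (Q : Set H) := by
          rw [Subgroup.mem_centralizer_iff]
          intro q hq
          have h4 : h * q * h⁻¹ = q := by
            have h5 := congrArg Subtype.val (DFunLike.congr_fun h2 ⟨q, hq⟩)
            rwa [MulAut.conjNormal_apply] at h5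
          calc q * h = (h * q * h⁻¹) * h := by rw [h4]
            _ = h * q := by group
        refine ⟨e ⟨h, hCQ h3⟩, ?_⟩
        show ((e.symm (e ⟨h, hCQ h3⟩) : Q) : H) = h
        rw [MulEquiv.symm_apply_apply]
    -- the order of `H`
    have hcQ : Nat.card Q = 8 := by
      rw [Nat.card_congr e.toEquiv, Nat.card_eq_fintype_card, QuaternionGroup.card]
    have h8 : 8 ∣ Nat.card H := hcQ ▸ Subgroup.card_subgroup_dvd_card Q
    have h48 : Nat.card H ∣ 48 := by
      have h2 : κ.ker.index * Nat.card κ.ker = Nat.card H := Subgroup.index_mul_card _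
      rw [hd.card_ker] at h2
      have h3 : κ.ker.index ∣ 24 := by
        rw [Subgroup.index_ker, ← card_mulAut_q8]
        exact Subgroup.card_subgroup_dvd_card _
      rw [← h2]
      exact Nat.mul_dvd_mul h3 (dvd_refl 2)
    have hPcard : ∃ k, Nat.card (P : Subgroup H) = 2 ^ k := IsPGroup.iff_card.mp P.isPGroup'
    have hQP : Q ≤ (P : Subgroup H) := pCore_le_sylow P
    -- if `|H| = 8 * odd` then `Q = P` is normal
    have hsmall : ∀ m : ℕ, Nat.card H = 8 * m → Odd m → False := by
      intro m hm hodd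
      obtain ⟨k, hk⟩ := hPcard
      have h2 : 2 ^ k ∣ 8 * m := by
        rw [← hk, ← hm]; exact Subgroup.card_subgroup_dvd_card _
      have h3 : (2 ^ k).Coprime m :=
        Nat.Coprime.pow_left k (Nat.coprime_two_left.mpr hodd)
      have h4 : 2 ^ k ∣ 8 := h3.dvd_of_dvd_mul_right h2
      have h5 : Nat.card (P : Subgroup H) ≤ Nat.card Q := by
        rw [hk, hcQ]; exact Nat.le_of_dvd (by norm_num) h4
      have h6 : Q = (P : Subgroup H) := Subgroup.eq_of_le_of_card_ge hQP h5
      apply hN P
      rw [← h6]; exact hQn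
    obtain ⟨j, hj⟩ := h8
    have hj6 : j ∣ 6 := by
      rw [hj] at h48
      exact Nat.dvd_of_mul_dvd_mul_left (by norm_num : 0 < 8) (by simpa using h48)
    have hjle : j ≤ 6 := Nat.le_of_dvd (by norm_num) hj6
    interval_cases j
    · omega
    · exact (hsmall 1 hj (by decide)).elim
    · exfalso
      apply hnotp
      exact IsPGroup.of_card (n := 4) (by rw [hj]; norm_num)
    · exact (hsmall 3 hj (by decide)).elim
    · omega
    · omega
    · exact hd.order48 (by rw [hj])
  · -- large quaternion groups are rigid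
    exfalso
    apply hnotp
    apply isPGroup_two_of_rigid Q hQp hCQ
    intro β hβ
    have hm : 3 ≤ 2 ^ (n + 1 + 1) := by
      have : 2 ^ (n + 1 + 1) = 4 * 2 ^ n := by ring
      have h2 : 1 ≤ 2 ^ n := Nat.one_le_two_pow
      omega
    have hk : 2 * 2 ^ (n + 1 + 1) = 2 ^ (n + 1 + 1 + 1) := by ring
    have h1 : MulAut.congr e β = 1 := by
      apply aut_eq_one_of_quaternion hm _ hk
      rw [MulEquiv.orderOf_eq]
      exact hβ
    exact (MulAut.congr e).injective (by rw [h1, map_one])

end Cfsg.Agent.Lib.Helper72.BinOct
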