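import Mathlib
import Cfsg.Agent.Lib.Helper78.Dihedral4032
import Cfsg.Agent.Lib.Helper78.DefectOneEndgame
import Cfsg.Agent.Lib.Helper77.DefOneMain
import Cfsg.Agent.Lib.Helper41.J1Brauer
import Cfsg.Agent.Lib.Helper74.InvolCols

set_option autoImplicit false
open Cfsg

/-!
# The principal block for a dihedral Sylow normalizer, all primes `p ≥ 5` (helper72)

helper78's `dihedral_block_data` needs `p ≥ 7`; with the full defect-one theory (`DefectOneData`,
S4441) the same normal form holds for `p ≥ 5` in a perfect group.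
-/

namespace Cfsg.Agent.Lib.Helper72.DihedralFive

open scoped ComplexConjugate
open Cfsg.Agent.Lib.Helper78

open scoped Classical in
/-- The principal block data for inertial index two, perfect group, `p ≥ 5`. -/
theorem dihedral_block_data_of_perfect {G : Type*} [Group G] [Finite G]
    (hperf : commutator G = ⊤) (p : ℕ) [Fact p.Prime]
    (M : Ideal Cfsg.AlgInt) (hM : Cfsg.IsPModular p M) (P : Sylow p G) (hP : Nat.card P = p)
    (hp5 : 5 ≤ p)
    (hCN : (Subgroup.centralizer ((P : Subgroup G) : Set G)).relIndex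
      (Subgroup.normalizer ((P : Subgroup G) : Set G)) = 2) :
    ∃ (δ a₁ : ℤ) (χ₁ : IrrCharacter G) (Y : Finset (IrrCharacter G)),
      (δ = 1 ∨ δ = -1) ∧ (a₁ = 1 ∨ a₁ = -1) ∧ Y.Nonempty ∧
      (∀ η ∈ Y, η ∈ principalBlock M G) ∧ χ₁ ∈ principalBlock M G ∧ χ₁ ∉ Y ∧
      (χ₁ : G → ℂ) ≠ (fun _ => 1) ∧
      (∀ y : ↥(P : Subgroup G), y ≠ 1 → (χ₁ : G → ℂ) y = (a₁ : ℂ)) ∧
      (∀ y : ↥(P : Subgroup G), y ≠ 1 → ∑ η ∈ Y, (η : G → ℂ) y = -(δ : ℂ)) ∧
      (∀ g : G, ¬ p ∣ orderOf g → ∀ η ∈ Y,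
        1 + (a₁ : ℂ) * (χ₁ : G → ℂ) g = (δ : ℂ) * (η : G → ℂ) g) ∧
      (∀ F : IrrCharacter G → ℂ,
        ∑ χ ∈ Finset.univ.filter (fun χ : IrrCharacter G => χ ∈ principalBlock M G), F χ =
          ∑ η ∈ Y, F η + F ⟨fun _ => 1, Cfsg.Agent.Lib.Helper80.isIrrCharacter_one⟩ + F χ₁) := by
  have hp : p.Prime := Fact.out
  have hfin : Fintype G := Fintype.ofFinite G
  obtain ⟨ε, a, X, Y, D⟩ := defect_one_data p M hM P hP 2 hCN
    (Cfsg.Agent.Lib.Helper77.DefOne.card_principalBlock_ge p M hM P hP 2 hCN)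
  -- the principal character
  obtain ⟨triv, htrivdef⟩ : ∃ triv : IrrCharacter G,
      triv = ⟨fun _ => 1, Cfsg.Agent.Lib.Helper80.isIrrCharacter_one⟩ := ⟨_, rfl⟩
  have htrivB : triv ∈ principalBlock M G := by
    rw [htrivdef]
    exact Cfsg.Agent.Lib.Helper74.one_mem_principalBlock hM G
  have htrivfun : (triv : G → ℂ) = fun _ => 1 := by rw [htrivdef]
  have htriv3 : triv = Cfsg.Agent.Lib.Helper3.PrincipalLin.triv G := by
    apply Subtype.ext
    rw [htrivfun]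
    rfl
  have hone : ¬ p ∣ orderOf (1 : G) := by
    rw [orderOf_one]
    exact hp.one_lt.ne' ∘ Nat.dvd_one.mp
  have hYcard : 2 ≤ Y.card := by
    rw [D.hYcard]
    have : 2 * 2 ≤ p - 1 := by omega
    exact (Nat.le_div_iff_mul_le (by norm_num)).mpr this
  -- `triv ∉ Y`
  have htrivY : triv ∉ Y := by
    intro hY
    obtain ⟨η', hη', hne⟩ := Finset.exists_mem_ne (by omega : 1 < Y.card) triv
    have h1 := D.hregY 1 hone η' hη' triv hY
    rw [htrivfun] at h1
    have h2 : charDegree (η' : G → ℂ) = 1 := by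
      have h3 := IsCharacter.apply_one_eq_charDegree (IsIrrCharacter.isCharacter η'.2)
      rw [h1] at h3
      have h4 : ((1 : ℕ) : ℂ) = (charDegree (η' : G → ℂ) : ℂ) := by
        rw [← h3]; simp
      exact_mod_cast h4.symm
    apply hne
    rw [htriv3]
    exact Cfsg.Agent.Lib.Helper41.j1_eq_triv_of_degree_one hperf η' h2
  have htrivX : triv ∈ X := by
    rcases (D.hmem triv).mp htrivB with h | h
    · exact h
    · exact absurd h htrivY
  -- `X = {triv, χ₁}`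
  obtain ⟨χ₁, hχ₁ne, hXeq⟩ : ∃ χ₁ : IrrCharacter G, χ₁ ≠ triv ∧ X = {triv, χ₁} := by
    obtain ⟨u, v, huv, hX2⟩ := Finset.card_eq_two.mp D.hXcard
    rw [hX2] at htrivX
    rcases Finset.mem_insert.mp htrivX with h | h
    · refine ⟨v, ?_, ?_⟩
      · rw [h]; exact huv.symm
      · rw [hX2, h]
    · rw [Finset.mem_singleton] at h
      refine ⟨u, ?_, ?_⟩
      · rw [h]; exact huv
      · rw [hX2, h, Finset.pair_comm]
  have hχ₁X : χ₁ ∈ X := by rw [hXeq]; simp
  have hχ₁B : χ₁ ∈ principalBlock M G := (D.hmem χ₁).mpr (Or.inl hχ₁X)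
  have hχ₁Y : χ₁ ∉ Y := fun h => (Finset.disjoint_left.mp D.hdisj hχ₁X) h
  have hχ₁fun : (χ₁ : G → ℂ) ≠ (fun _ => 1) := by
    intro h
    apply hχ₁ne
    apply Subtype.ext
    rw [h, htrivfun]
  -- a nontrivial element of `P`
  obtain ⟨y₀, hy₀⟩ : ∃ y₀ : ↥(P : Subgroup G), y₀ ≠ 1 := by
    have hfinP : Fintype ↥(P : Subgroup G) := Fintype.ofFinite _
    by_contra hc
    push Not at hc
    have h1 : Nat.card ↥(P : Subgroup G) ≤ 1 := by
      rw [Nat.card_eq_fintype_card]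
      exact Fintype.card_le_one_iff.mpr (fun a b => by rw [hc a, hc b])
    have h2 : Nat.card ↥(P : Subgroup G) = Nat.card P := rfl
    omega
  have hy₀1 : (y₀ : G) ≠ 1 := fun h => hy₀ (Subtype.ext h)
  have hatriv : a triv = 1 := by
    have h1 := D.hX triv htrivX y₀ y₀.2 hy₀1
    rw [htrivfun] at h1
    have h2 : (1 : ℂ) = (a triv : ℂ) := h1
    exact_mod_cast h2.symm
  have hsumX : ∀ F : IrrCharacter G → ℂ, ∑ χ ∈ X, F χ = F triv + F χ₁ := by
    intro F
    rw [hXeq, Finset.sum_pair hχ₁ne.symm]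
  have hrel : ∀ g : G, ¬ p ∣ orderOf g → ∀ η ∈ Y,
      1 + (a χ₁ : ℂ) * (χ₁ : G → ℂ) g = (ε : ℂ) * (η : G → ℂ) g := by
    intro g hg η hη
    rw [D.hrel g hg η hη, hsumX, hatriv, htrivfun]
    push_cast
    ring
  have hunion : Finset.univ.filter (fun χ : IrrCharacter G => χ ∈ principalBlock M G) =
      X ∪ Y := by
    ext χ
    simp only [Finset.mem_filter, Finset.mem_univ, true_and, Finset.mem_union]
    exact D.hmem χ
  have hsplit : ∀ F : IrrCharacter G → ℂ,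
      ∑ χ ∈ Finset.univ.filter (fun χ : IrrCharacter G => χ ∈ principalBlock M G), F χ =
        ∑ η ∈ Y, F η + F triv + F χ₁ := by
    intro F
    rw [hunion, Finset.sum_union D.hdisj, hsumX]
    ring
  obtain ⟨η₀, hη₀⟩ : ∃ η₀, η₀ ∈ Y := Finset.card_pos.mp (by omega)
  have hεsqC : (ε : ℂ) * (ε : ℂ) = 1 := by
    rcases D.hε with h | h <;> rw [h] <;> norm_num
  -- the sum of the exceptional characters on `P ∖ 1`
  have hsumY : ∀ y : ↥(P : Subgroup G), y ≠ 1 → ∑ η ∈ Y, (η : G → ℂ) y = -(ε : ℂ) := by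
    intro y hy
    have hy1 : (y : G) ≠ 1 := fun h => hy (Subtype.ext h)
    have hyord : p ∣ orderOf (y : G) := by
      have h1 : orderOf (y : G) ∣ p := by
        have h2 := orderOf_dvd_natCard y
        rw [Subgroup.orderOf_coe]
        have h3 : Nat.card ↥(P : Subgroup G) = p := hP
        rwa [h3] at h2
      rcases (Nat.dvd_prime hp).mp h1 with h | h
      · exact absurd (orderOf_eq_one_iff.mp h) hy1
      · rw [h]
    have hw := weak_block_orthogonality_sum hM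
      (Cfsg.Agent.Lib.Helper74.isPBlock_principalBlock G M) (1 : G) (y : G) hone hyord
    rw [hsplit] at hw
    rw [htrivfun] at hw
    have hdegη : ∀ η ∈ Y, (η : G → ℂ) 1 = (η₀ : G → ℂ) 1 := fun η hη =>
      D.hregY 1 hone η hη η₀ hη₀
    have hH : (η₀ : G → ℂ) 1 = ((charDegree (η₀ : G → ℂ) : ℕ) : ℂ) :=
      IsCharacter.apply_one_eq_charDegree (IsIrrCharacter.isCharacter η₀.2)
    have hF : (χ₁ : G → ℂ) 1 = ((charDegree (χ₁ : G → ℂ) : ℕ) : ℂ) :=
      IsCharacter.apply_one_eq_charDegree (IsIrrCharacter.isCharacter χ₁.2)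
    have hsum1 : ∑ η ∈ Y, (η : G → ℂ) (y : G) * conj ((η : G → ℂ) 1) =
        (∑ η ∈ Y, (η : G → ℂ) (y : G)) * ((charDegree (η₀ : G → ℂ) : ℕ) : ℂ) := by
      rw [Finset.sum_mul]
      apply Finset.sum_congr rfl
      intro η hη
      rw [hdegη η hη, hH, Complex.conj_natCast]
    rw [hsum1, D.hX χ₁ hχ₁X (y : G) y.2 hy1, hF, Complex.conj_natCast] at hw
    have hr1 := hrel 1 hone η₀ hη₀
    rw [hH, hF] at hr1
    have hHne : ((charDegree (η₀ : G → ℂ) : ℕ) : ℂ) ≠ 0 := by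
      exact_mod_cast (IsIrrCharacter.charDegree_pos η₀.2).ne'
    have h5 : ((∑ η ∈ Y, (η : G → ℂ) (y : G)) + (ε : ℂ)) *
        ((charDegree (η₀ : G → ℂ) : ℕ) : ℂ) = 0 := by
      have h6 : (1 : ℂ) * conj (1 : ℂ) = 1 := by simp
      rw [h6] at hw
      linear_combination hw - hr1
    rcases mul_eq_zero.mp h5 with h | h
    · linear_combination h
    · exact absurd h hHne
  refine ⟨ε, a χ₁, χ₁, Y, D.hε, D.haX χ₁ hχ₁X, ⟨η₀, hη₀⟩, ?_, hχ₁B, hχ₁Y, hχ₁fun, ?_, hsumY,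
    hrel, ?_⟩
  · intro η hη
    exact (D.hmem η).mpr (Or.inr hη)
  · intro y hy
    exact D.hX χ₁ hχ₁X (y : G) y.2 (fun h => hy (Subtype.ext h))
  · intro F
    rw [hsplit F, htrivdef]

end Cfsg.Agent.Lib.Helper72.DihedralFive
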