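import Mathlib
import Cfsg.Agent.Lib.Helper72.DihedralFiveA

set_option autoImplicit false
open Cfsg

/-!
# Involutions and the principal block for a self-centralizing Sylow subgroup of prime order
(helper72)

`P` a Sylow `p`-subgroup of order `p` (odd) with `C_G(P) = P`, `t ∈ N_G(P)` an involution,
`1 ≠ y ∈ P`.  Then for every involution `u` of `G`:

* `card_mul_block_sum_self` : `|G| ∑_{χ ∈ B₀} conj (χ(t)² / χ(1)) χ(y) = |C(t)|² p`;
* `block_sum_eq_zero_of_not_isConj` : if `u` is not conjugate to `t`, then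
  `∑_{χ ∈ B₀} conj (χ(u)² / χ(1)) χ(y) = 0`.

This generalizes helper78's dihedral count (`|N(P)| = 2p`) to arbitrary inertial index.
-/

namespace Cfsg.Agent.Lib.Helper72.BrauerInv

open scoped ComplexConjugate
open Cfsg.Agent.Lib.Helper78

variable {G : Type*} [Group G] {p : ℕ} [Fact p.Prime]

/-- An element inverting `y` lies in `t P` and is conjugate to `t`. -/
theorem mem_and_isConj_of_inverts [Finite G] (P : Sylow p G)
    (hP : Nat.card (P : Subgroup G) = p) (hp2 : p ≠ 2)
    (hC : Subgroup.centralizer ((P : Subgroup G) : Set G) = (P : Subgroup G))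
    {t : G} (ht : orderOf t = 2) (htN : t ∈ Subgroup.normalizer ((P : Subgroup G) : Set G))
    {y : G} (hy : y ∈ (P : Subgroup G)) (hy1 : y ≠ 1) {s : G} (hs : s * y * s⁻¹ = y⁻¹) :
    t⁻¹ * s ∈ (P : Subgroup G) ∧ IsConj t s := by
  have hp : p.Prime := Fact.out
  have hinvt := inverts_of_dihedral P hP hp2 hC ht htN
  have hodd : Odd (Nat.card (P : Subgroup G)) := by
    rw [hP]
    exact hp.odd_of_ne_two hp2
  have htt : t * t = 1 := by
    rw [← pow_two, ← ht]
    exact pow_orderOf_eq_one t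
  have htinv : t⁻¹ = t := inv_eq_of_mul_eq_one_left htt
  have h1 : t⁻¹ * s ∈ Subgroup.centralizer ({y} : Set G) := by
    rw [Subgroup.mem_centralizer_singleton_iff]
    have h2 : t * y⁻¹ * t⁻¹ = y := by
      have := hinvt y⁻¹ (inv_mem hy)
      rw [this, inv_inv]
    have h3 : t⁻¹ * y⁻¹ = (t * y⁻¹ * t⁻¹) * t⁻¹ := by
      have h4 : (t * y⁻¹ * t⁻¹) * t⁻¹ = t * y⁻¹ * (t * t)⁻¹ := by group
      rw [h4, htt, inv_one, mul_one, htinv]
    calc t⁻¹ * s * y = t⁻¹ * (s * y * s⁻¹) * s := by group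
      _ = t⁻¹ * y⁻¹ * s := by rw [hs]
      _ = (t * y⁻¹ * t⁻¹) * t⁻¹ * s := by rw [h3]
      _ = y * (t⁻¹ * s) := by rw [h2, mul_assoc]
  rw [centralizer_singleton_eq_of_card_eq_prime (P : Subgroup G) hP hy hy1, hC] at h1
  refine ⟨h1, ?_⟩
  have h4 : IsConj t (t * (t⁻¹ * s)) := isConj_mul_of_inverts (P : Subgroup G) hodd hinvt h1
  rwa [mul_inv_cancel_left] at h4

/-- The conjugates `s` of `t` with `s⁻¹ y` conjugate to `t` are the elements of `t P`. -/
theorem conj_iff [Finite G] (P : Sylow p G) (hP : Nat.card (P : Subgroup G) = p) (hp2 : p ≠ 2)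
    (hC : Subgroup.centralizer ((P : Subgroup G) : Set G) = (P : Subgroup G))
    {t : G} (ht : orderOf t = 2) (htN : t ∈ Subgroup.normalizer ((P : Subgroup G) : Set G))
    {y : G} (hy : y ∈ (P : Subgroup G)) (hy1 : y ≠ 1) (s : G) (hs : IsConj t s) :
    IsConj t (s⁻¹ * y) ↔ t⁻¹ * s ∈ (P : Subgroup G) := by
  have hp : p.Prime := Fact.out
  have htt : t * t = 1 := by
    rw [← pow_two, ← ht]
    exact pow_orderOf_eq_one t
  have hinv := inverts_of_dihedral P hP hp2 hC ht htN
  have hodd : Odd (Nat.card (P : Subgroup G)) := by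
    rw [hP]
    exact hp.odd_of_ne_two hp2
  constructor
  · intro hs'
    obtain ⟨a, ha⟩ := isConj_iff.mp hs
    obtain ⟨b, hb⟩ := isConj_iff.mp hs'
    have hss : s * s = 1 := by
      rw [← ha]
      exact Cfsg.Agent.Lib.Helper74.conj_mul_self_of_mul_self htt a
    have hss' : s⁻¹ * y * (s⁻¹ * y) = 1 := by
      rw [← hb]
      exact Cfsg.Agent.Lib.Helper74.conj_mul_self_of_mul_self htt b
    have hsinv : s⁻¹ = s := inv_eq_of_mul_eq_one_left hss
    have hsy : s * y * s⁻¹ = y⁻¹ := by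
      rw [hsinv] at hss' ⊢
      have h1 : (s * y * s) * y = 1 := by
        rw [← hss']
        simp only [mul_assoc]
      exact eq_inv_of_mul_eq_one_left h1
    exact (mem_and_isConj_of_inverts P hP hp2 hC ht htN hy hy1 hsy).1
  · intro hw
    have h1 : s⁻¹ * y = t * ((t⁻¹ * s) * y) := by
      have h2 := hinv _ hw
      have h3 : (t⁻¹ * s)⁻¹ * t = t * (t⁻¹ * s) := by
        rw [← h2]
        group
      have h4 : (t⁻¹ * s)⁻¹ * t * y = s⁻¹ * (t * t) * y := by group
      calc s⁻¹ * y = (t⁻¹ * s)⁻¹ * t * y := by rw [h4, htt, mul_one]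
        _ = t * ((t⁻¹ * s) * y) := by rw [h3, mul_assoc]
    rw [h1]
    exact isConj_mul_of_inverts (P : Subgroup G) hodd hinv (mul_mem hw hy)

open scoped Classical in
/-- The class multiplication count for a self-centralizing Sylow subgroup of prime order. -/
theorem conjProdCount_self [Fintype G] (P : Sylow p G) (hP : Nat.card (P : Subgroup G) = p)
    (hp2 : p ≠ 2)
    (hC : Subgroup.centralizer ((P : Subgroup G) : Set G) = (P : Subgroup G))
    {t : G} (ht : orderOf t = 2) (htN : t ∈ Subgroup.normalizer ((P : Subgroup G) : Set G))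
    {y : G} (hy : y ∈ (P : Subgroup G)) (hy1 : y ≠ 1) :
    Cfsg.Agent.Lib.Helper74.conjProdCount t t y =
      (Nat.card (Subgroup.centralizer ({t} : Set G)) : ℂ) ^ 2 * (p : ℂ) := by
  have hp : p.Prime := Fact.out
  have hodd : Odd (Nat.card (P : Subgroup G)) := by
    rw [hP]
    exact hp.odd_of_ne_two hp2
  have h1 := conjProdCount_eq_of_coset (P : Subgroup G) (t := t) (y := y)
    (conj_iff P hP hp2 hC ht htN hy hy1)
    (fun w hw => isConj_mul_of_inverts (P : Subgroup G) hodd
      (inverts_of_dihedral P hP hp2 hC ht htN) hw)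
  rw [h1, hP]

open scoped Classical in
/-- No two conjugates of an involution `u` not conjugate to `t` have product `y`. -/
theorem conjProdCount_eq_zero_of_not_isConj [Fintype G] (P : Sylow p G)
    (hP : Nat.card (P : Subgroup G) = p) (hp2 : p ≠ 2)
    (hC : Subgroup.centralizer ((P : Subgroup G) : Set G) = (P : Subgroup G))
    {t : G} (ht : orderOf t = 2) (htN : t ∈ Subgroup.normalizer ((P : Subgroup G) : Set G))
    {y : G} (hy : y ∈ (P : Subgroup G)) (hy1 : y ≠ 1) {u : G} (hu : orderOf u = 2)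
    (hnc : ¬ IsConj t u) : Cfsg.Agent.Lib.Helper74.conjProdCount u u y = 0 := by
  have huu : u * u = 1 := by
    rw [← pow_two, ← hu]
    exact pow_orderOf_eq_one u
  unfold Cfsg.Agent.Lib.Helper74.conjProdCount
  apply Finset.sum_eq_zero
  intro a _
  apply Finset.sum_eq_zero
  intro b _
  rw [if_neg]
  intro hab
  apply hnc
  obtain ⟨sa, hsa⟩ : ∃ sa : G, sa = a * u * a⁻¹ := ⟨_, rfl⟩
  obtain ⟨sb, hsb⟩ : ∃ sb : G, sb = b * u * b⁻¹ := ⟨_, rfl⟩
  rw [← hsa, ← hsb] at hab
  have hss : sa * sa = 1 := by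
    rw [hsa]
    exact Cfsg.Agent.Lib.Helper74.conj_mul_self_of_mul_self huu a
  have hss' : sb * sb = 1 := by
    rw [hsb]
    exact Cfsg.Agent.Lib.Helper74.conj_mul_self_of_mul_self huu b
  have hsinv : sa⁻¹ = sa := inv_eq_of_mul_eq_one_left hss
  have hsinv' : sb⁻¹ = sb := inv_eq_of_mul_eq_one_left hss'
  have hsy : sa * y * sa⁻¹ = y⁻¹ := by
    rw [← hab, mul_inv_rev, hsinv, hsinv']
    calc sa * (sa * sb) * sa = (sa * sa) * (sb * sa) := by simp only [mul_assoc]
      _ = sb * sa := by rw [hss, one_mul]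
  have h1 := (mem_and_isConj_of_inverts P hP hp2 hC ht htN hy hy1 hsy).2
  have h2 : IsConj u sa := isConj_iff.mpr ⟨a, hsa.symm⟩
  exact h1.trans h2.symm

open scoped Classical in
/-- `conjProdCount u u y` as a sum over the principal block. -/
theorem conjProdCount_eq_block_sum [Fintype G] (M : Ideal Cfsg.AlgInt)
    (hM : Cfsg.IsPModular p M) (P : Sylow p G) (hP : Nat.card (P : Subgroup G) = p)
    (hC : Subgroup.centralizer ((P : Subgroup G) : Set G) = (P : Subgroup G))
    {y : G} (hy : y ∈ (P : Subgroup G)) (hy1 : y ≠ 1) (u : G) :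
    Cfsg.Agent.Lib.Helper74.conjProdCount u u y =
      (Nat.card G : ℂ) *
      ∑ χ ∈ Finset.univ.filter (fun χ : IrrCharacter G => χ ∈ principalBlock M G),
        conj ((χ : G → ℂ) u * (χ : G → ℂ) u / (χ : G → ℂ) 1) * (χ : G → ℂ) y := by
  have hexp := congrFun (classFunction_eq_sum_irr
    (Cfsg.Agent.Lib.Helper74.isClassFunction_conjProdCount u u)) y
  rw [Finset.sum_apply] at hexp
  simp only [Pi.smul_apply, smul_eq_mul] at hexp
  rw [hexp, ← Finset.sum_filter_add_sum_filter_not Finset.univ (fun χ : IrrCharacter G =>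
    χ ∈ principalBlock M G)]
  have hz : ∑ χ ∈ Finset.univ.filter (fun χ : IrrCharacter G => ¬ χ ∈ principalBlock M G),
      classInner (Cfsg.Agent.Lib.Helper74.conjProdCount u u) (χ : G → ℂ) *
        (χ : G → ℂ) y = 0 := by
    apply Finset.sum_eq_zero
    intro χ hχ
    rw [apply_eq_zero_of_not_mem_principalBlock p M hM P hP hC hy hy1
      (Finset.mem_filter.mp hχ).2, mul_zero]
  rw [hz, add_zero, Finset.mul_sum]
  apply Finset.sum_congr rfl
  intro χ _
  rw [Cfsg.Agent.Lib.Helper74.classInner_conjProdCount_irr, mul_assoc]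

open scoped Classical in
/-- **The block sum at the involution `t ∈ N_G(P)`.** -/
theorem card_mul_block_sum_self [Finite G] (M : Ideal Cfsg.AlgInt)
    (hM : Cfsg.IsPModular p M) (P : Sylow p G) (hP : Nat.card (P : Subgroup G) = p)
    (hp2 : p ≠ 2)
    (hC : Subgroup.centralizer ((P : Subgroup G) : Set G) = (P : Subgroup G))
    {t : G} (ht : orderOf t = 2) (htN : t ∈ Subgroup.normalizer ((P : Subgroup G) : Set G))
    {y : G} (hy : y ∈ (P : Subgroup G)) (hy1 : y ≠ 1) :
    (Nat.card G : ℂ) *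
      ∑ χ ∈ Finset.univ.filter (fun χ : IrrCharacter G => χ ∈ principalBlock M G),
        conj ((χ : G → ℂ) t * (χ : G → ℂ) t / (χ : G → ℂ) 1) * (χ : G → ℂ) y =
      (Nat.card (Subgroup.centralizer ({t} : Set G)) : ℂ) ^ 2 * (p : ℂ) := by
  have hfin : Fintype G := Fintype.ofFinite G
  rw [← conjProdCount_eq_block_sum M hM P hP hC hy hy1 t,
    conjProdCount_self P hP hp2 hC ht htN hy hy1]

open scoped Classical in
/-- **The block sum at an involution not conjugate to `t`.** -/
theorem block_sum_eq_zero_of_not_isConj [Finite G] (M : Ideal Cfsg.AlgInt)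
    (hM : Cfsg.IsPModular p M) (P : Sylow p G) (hP : Nat.card (P : Subgroup G) = p)
    (hp2 : p ≠ 2)
    (hC : Subgroup.centralizer ((P : Subgroup G) : Set G) = (P : Subgroup G))
    {t : G} (ht : orderOf t = 2) (htN : t ∈ Subgroup.normalizer ((P : Subgroup G) : Set G))
    {y : G} (hy : y ∈ (P : Subgroup G)) (hy1 : y ≠ 1) {u : G} (hu : orderOf u = 2)
    (hnc : ¬ IsConj t u) :
    ∑ χ ∈ Finset.univ.filter (fun χ : IrrCharacter G => χ ∈ principalBlock M G),
        conj ((χ : G → ℂ) u * (χ : G → ℂ) u / (χ : G → ℂ) 1) * (χ : G → ℂ) y = 0 := by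
  have hfin : Fintype G := Fintype.ofFinite G
  have h1 := conjProdCount_eq_block_sum M hM P hP hC hy hy1 u
  rw [conjProdCount_eq_zero_of_not_isConj P hP hp2 hC ht htN hy hy1 hu hnc] at h1
  have hG : (Nat.card G : ℂ) ≠ 0 := by exact_mod_cast (Nat.card_pos (α := G)).ne'
  exact (mul_eq_zero.mp h1.symm).resolve_left hG

end Cfsg.Agent.Lib.Helper72.BrauerInv
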