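import Mathlib
import Cfsg.Agent.Lib.Helper72.DihedralFiveA

set_option autoImplicit false
open Cfsg

/-!
# The principal block for `|P| = p`, inertial index `p - 1` (helper72)

For `e = p - 1` there is a single "exceptional" character, and the principal block consists of `p`
characters `ψ` with signs `s ψ = ±1` such that `ψ = s ψ` on `P ∖ 1` and `∑ s ψ • ψ = 0` on
`p`-regular elements (uniform form of `DefectOneData`).
-/

namespace Cfsg.Agent.Lib.Helper72.BrauerInv

open scoped ComplexConjugate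
open Cfsg.Agent.Lib.Helper78

open scoped Classical in
theorem frobenius_block_data {G : Type*} [Group G] [Finite G] (p : ℕ) [Fact p.Prime]
    (M : Ideal Cfsg.AlgInt) (hM : Cfsg.IsPModular p M) (P : Sylow p G) (hP : Nat.card P = p)
    (hp3 : 3 ≤ p)
    (hCN : (Subgroup.centralizer ((P : Subgroup G) : Set G)).relIndex
      (Subgroup.normalizer ((P : Subgroup G) : Set G)) = p - 1) :
    ∃ (s : IrrCharacter G → ℤ) (B : Finset (IrrCharacter G)), B.card = p ∧
      (∀ ψ : IrrCharacter G, ψ ∈ B ↔ ψ ∈ principalBlock M G) ∧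
      (∀ ψ ∈ B, s ψ = 1 ∨ s ψ = -1) ∧
      (∀ ψ ∈ B, ∀ y : G, y ∈ (P : Subgroup G) → y ≠ 1 → (ψ : G → ℂ) y = (s ψ : ℂ)) ∧
      (∀ g : G, ¬ p ∣ orderOf g → ∑ ψ ∈ B, (s ψ : ℂ) * (ψ : G → ℂ) g = 0) := by
  have hp : p.Prime := Fact.out
  have hfin : Fintype G := Fintype.ofFinite G
  obtain ⟨ε, a, X, Y, D⟩ := defect_one_data p M hM P hP (p - 1) hCN
    (Cfsg.Agent.Lib.Helper77.DefOne.card_principalBlock_ge p M hM P hP (p - 1) hCN)
  have hYcard : Y.card = 1 := by
    rw [D.hYcard]
    exact Nat.div_self (by omega)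
  obtain ⟨η, hYeq⟩ := Finset.card_eq_one.mp hYcard
  have hηY : η ∈ Y := by rw [hYeq]; simp
  have hone : ¬ p ∣ orderOf (1 : G) := by
    rw [orderOf_one]
    exact hp.one_lt.ne' ∘ Nat.dvd_one.mp
  have hunion : Finset.univ.filter (fun χ : IrrCharacter G => χ ∈ principalBlock M G) =
      X ∪ Y := by
    ext χ
    simp only [Finset.mem_filter, Finset.mem_univ, true_and, Finset.mem_union]
    exact D.hmem χ
  have hεsqC : (ε : ℂ) * (ε : ℂ) = 1 := by
    rcases D.hε with h | h <;> rw [h] <;> norm_num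
  have hXY : ∀ ψ ∈ X, ψ ∉ Y := fun ψ hψ => Finset.disjoint_left.mp D.hdisj hψ
  -- the value of the exceptional character on `P ∖ 1`
  have hηval : ∀ y : G, y ∈ (P : Subgroup G) → y ≠ 1 → (η : G → ℂ) y = -(ε : ℂ) := by
    intro y hy hy1
    have hyord : p ∣ orderOf y := by
      have h1 : orderOf y ∣ p := by
        have h2 := orderOf_dvd_natCard (⟨y, hy⟩ : ↥(P : Subgroup G))
        rw [Subgroup.orderOf_mk] at h2
        have h3 : Nat.card ↥(P : Subgroup G) = p := hP
        rwa [h3] at h2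
      rcases (Nat.dvd_prime hp).mp h1 with h | h
      · exact absurd (orderOf_eq_one_iff.mp h) hy1
      · rw [h]
    have hw := weak_block_orthogonality_sum hM
      (Cfsg.Agent.Lib.Helper74.isPBlock_principalBlock G M) (1 : G) y hone hyord
    rw [hunion, Finset.sum_union D.hdisj, hYeq, Finset.sum_singleton] at hw
    have hH : (η : G → ℂ) 1 = ((charDegree (η : G → ℂ) : ℕ) : ℂ) :=
      IsCharacter.apply_one_eq_charDegree (IsIrrCharacter.isCharacter η.2)
    have hsumX : ∑ χ ∈ X, (χ : G → ℂ) y * conj ((χ : G → ℂ) 1) =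
        ∑ χ ∈ X, (a χ : ℂ) * (χ : G → ℂ) 1 := by
      apply Finset.sum_congr rfl
      intro χ hχ
      rw [D.hX χ hχ y hy hy1,
        IsCharacter.apply_one_eq_charDegree (IsIrrCharacter.isCharacter χ.2),
        Complex.conj_natCast]
    rw [hsumX, ← D.hrel 1 hone η hηY, hH, Complex.conj_natCast] at hw
    have hHne : ((charDegree (η : G → ℂ) : ℕ) : ℂ) ≠ 0 := by
      exact_mod_cast (IsIrrCharacter.charDegree_pos η.2).ne'
    have h5 : ((η : G → ℂ) y + (ε : ℂ)) * ((charDegree (η : G → ℂ) : ℕ) : ℂ) = 0 := by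
      linear_combination hw
    rcases mul_eq_zero.mp h5 with h | h
    · linear_combination h
    · exact absurd h hHne
  refine ⟨fun ψ => if ψ ∈ Y then -ε else a ψ, X ∪ Y, ?_, ?_, ?_, ?_, ?_⟩
  · rw [Finset.card_union_of_disjoint D.hdisj, D.hXcard, hYcard]
    omega
  · intro ψ
    rw [Finset.mem_union]
    exact (D.hmem ψ).symm
  · intro ψ hψ
    by_cases h : ψ ∈ Y
    · simp only [h, if_true]
      rcases D.hε with h' | h' <;> rw [h'] <;> norm_num
    · simp only [h, if_false]
      rcases Finset.mem_union.mp hψ with h' | h'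
      · exact D.haX ψ h'
      · exact absurd h' h
  · intro ψ hψ y hy hy1
    by_cases h : ψ ∈ Y
    · simp only [h, if_true]
      have hψη : ψ = η := by
        rw [hYeq] at h
        exact Finset.mem_singleton.mp h
      rw [hψη, hηval y hy hy1]
      push_cast
      ring
    · simp only [h, if_false]
      rcases Finset.mem_union.mp hψ with h' | h'
      · exact D.hX ψ h' y hy hy1
      · exact absurd h' h
  · intro g hg
    rw [Finset.sum_union D.hdisj, hYeq, Finset.sum_singleton]
    have h1 : ∑ ψ ∈ X, (((if ψ ∈ ({η} : Finset (IrrCharacter G)) then -ε else a ψ : ℤ) : ℂ)) *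
        (ψ : G → ℂ) g = ∑ ψ ∈ X, (a ψ : ℂ) * (ψ : G → ℂ) g := by
      apply Finset.sum_congr rfl
      intro ψ hψ
      have h2 : ψ ∉ ({η} : Finset (IrrCharacter G)) := by
        rw [← hYeq]
        exact hXY ψ hψ
      rw [if_neg h2]
    rw [h1, ← D.hrel g hg η hηY]
    simp only [Finset.mem_singleton, if_true]
    push_cast
    ring

end Cfsg.Agent.Lib.Helper72.BrauerInv
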