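import Mathlib
import Cfsg.Agent.Lib.Helper72.FrobeniusBlock
import Cfsg.Agent.Lib.Helper17.PrimeSylow

set_option autoImplicit false
open Cfsg

/-!
# The principal block for `|P| = p`: uniform normal form (helper72)

For a perfect group `G` with a Sylow `p`-subgroup `P` of order `p` (`p` odd) and inertial index
`e = |N(P) : C(P)|`, the principal block consists of the trivial character, `e - 1` further
"nonexceptional" characters `χ ∈ X` with constant values `a χ = ±1` on `P ∖ 1`, and `(p - 1) / e`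
"exceptional" characters, all of the degree of `η`, with `ε η(1) = 1 + ∑ a χ χ(1)`.
-/

namespace Cfsg.Agent.Lib.Helper72.DegEq

open scoped ComplexConjugate
open Cfsg.Agent.Lib.Helper78

open scoped Classical in
theorem block_uniform {G : Type*} [Group G] [Finite G]
    (hperf : commutator G = ⊤) (p : ℕ) [Fact p.Prime] (hp3 : 3 ≤ p)
    (M : Ideal Cfsg.AlgInt) (hM : Cfsg.IsPModular p M) (P : Sylow p G) (hP : Nat.card P = p)
    (e : ℕ)
    (hCN : (Subgroup.centralizer ((P : Subgroup G) : Set G)).relIndex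
      (Subgroup.normalizer ((P : Subgroup G) : Set G)) = e) :
    ∃ (X : Finset (IrrCharacter G)) (a : IrrCharacter G → ℤ) (η : IrrCharacter G) (ε : ℤ),
      (ε = 1 ∨ ε = -1) ∧ X.card + 1 = e ∧
      Cfsg.Agent.Lib.Helper3.PrincipalLin.triv G ∉ X ∧ η ∉ X ∧
      η ≠ Cfsg.Agent.Lib.Helper3.PrincipalLin.triv G ∧
      (∀ χ ∈ X, χ ∈ principalBlock M G) ∧ η ∈ principalBlock M G ∧
      (∀ χ ∈ X, a χ = 1 ∨ a χ = -1) ∧
      (∀ χ ∈ X, ∀ y : G, y ∈ (P : Subgroup G) → y ≠ 1 → (χ : G → ℂ) y = (a χ : ℂ)) ∧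
      ε * (charDegree (η : G → ℂ) : ℤ) =
        1 + ∑ χ ∈ X, a χ * (charDegree (χ : G → ℂ) : ℤ) ∧
      (∀ ψ : IrrCharacter G, ψ ∈ principalBlock M G →
        ψ = Cfsg.Agent.Lib.Helper3.PrincipalLin.triv G ∨ ψ ∈ X ∨
          charDegree (ψ : G → ℂ) = charDegree (η : G → ℂ)) ∧
      ∑ ψ ∈ Finset.univ.filter (fun ψ : IrrCharacter G => ψ ∈ principalBlock M G),
          (charDegree (ψ : G → ℂ)) ^ 2 =
        1 + ∑ χ ∈ X, (charDegree (χ : G → ℂ)) ^ 2 +
          ((p - 1) / e) * (charDegree (η : G → ℂ)) ^ 2 := by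
  have hp : p.Prime := Fact.out
  have hfin : Fintype G := Fintype.ofFinite G
  set triv : IrrCharacter G := Cfsg.Agent.Lib.Helper3.PrincipalLin.triv G with htrivdef
  have htrivB : triv ∈ principalBlock M G :=
    Cfsg.Agent.Lib.Helper3.PrincipalLin.triv_mem hM
  have htrivfun : (triv : G → ℂ) = fun _ => 1 := rfl
  have htrivdeg : charDegree (triv : G → ℂ) = 1 :=
    Cfsg.Agent.Lib.Helper3.PrincipalLin.charDegree_triv
  have hone : ¬ p ∣ orderOf (1 : G) := by
    rw [orderOf_one]
    exact hp.one_lt.ne' ∘ Nat.dvd_one.mp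
  have hdegC : ∀ ψ : IrrCharacter G,
      (ψ : G → ℂ) 1 = ((charDegree (ψ : G → ℂ) : ℕ) : ℂ) := fun ψ =>
    IsCharacter.apply_one_eq_charDegree (IsIrrCharacter.isCharacter ψ.2)
  -- a nontrivial element of `P`
  obtain ⟨y₀, hy₀P, hy₀1⟩ : ∃ y₀ : G, y₀ ∈ (P : Subgroup G) ∧ y₀ ≠ 1 := by
    by_contra hc
    push Not at hc
    have h1 : (P : Subgroup G) = ⊥ := by
      rw [Subgroup.eq_bot_iff_forall]
      exact hc
    have h2 : Nat.card (P : Subgroup G) = p := hP
    rw [h1, Subgroup.card_bot] at h2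
    omega
  have he_dvd : e ∣ p - 1 := by
    rw [← hCN]
    exact Cfsg.Agent.Lib.Helper17.relIndex_cent_norm_dvd_pred_of_card_prime P hP
  have he_pos : 0 < e := Nat.pos_of_dvd_of_pos he_dvd (by omega)
  by_cases hetop : e = p - 1
  · -- the case `e = p - 1`
    obtain ⟨s, B, hBcard, hBmem, hs, hsP, hsum⟩ :=
      Cfsg.Agent.Lib.Helper72.BrauerInv.frobenius_block_data p M hM P hP hp3 (hetop ▸ hCN)
    have htrivBB : triv ∈ B := (hBmem triv).mpr htrivB
    have hstriv : s triv = 1 := by
      have h1 := hsP triv htrivBB y₀ hy₀P hy₀1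
      rw [htrivfun] at h1
      have h2 : (1 : ℂ) = (s triv : ℂ) := h1
      exact_mod_cast h2.symm
    have hB1card : (B.erase triv).card = p - 1 := by
      rw [Finset.card_erase_of_mem htrivBB, hBcard]
    obtain ⟨η, hη⟩ : (B.erase triv).Nonempty := by
      rw [← Finset.card_pos, hB1card]
      omega
    have hηne : η ≠ triv := Finset.ne_of_mem_erase hη
    have hηB : η ∈ B := Finset.mem_of_mem_erase hη
    have hfilter : Finset.univ.filter (fun ψ : IrrCharacter G => ψ ∈ principalBlock M G) = B := by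
      ext ψ
      simp only [Finset.mem_filter, Finset.mem_univ, true_and]
      exact (hBmem ψ).symm
    have hsplit : ∀ F : IrrCharacter G → ℤ, ∑ ψ ∈ B, F ψ =
        F triv + F η + ∑ χ ∈ (B.erase triv).erase η, F χ := by
      intro F
      rw [← Finset.add_sum_erase B F htrivBB, ← Finset.add_sum_erase (B.erase triv) F hη]
      ring
    have hsplitN : ∀ F : IrrCharacter G → ℕ, ∑ ψ ∈ B, F ψ =
        F triv + F η + ∑ χ ∈ (B.erase triv).erase η, F χ := by
      intro F
      rw [← Finset.add_sum_erase B F htrivBB, ← Finset.add_sum_erase (B.erase triv) F hη]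
      ring
    have hsumZ : ∑ ψ ∈ B, s ψ * (charDegree (ψ : G → ℂ) : ℤ) = 0 := by
      have h1 := hsum 1 hone
      have h2 : ∑ ψ ∈ B, (s ψ : ℂ) * (ψ : G → ℂ) 1 =
          ((∑ ψ ∈ B, s ψ * (charDegree (ψ : G → ℂ) : ℤ) : ℤ) : ℂ) := by
        push_cast
        apply Finset.sum_congr rfl
        intro ψ _
        rw [hdegC ψ]
      rw [h2] at h1
      exact_mod_cast h1
    refine ⟨(B.erase triv).erase η, s, η, -s η, ?_, ?_, ?_, ?_, hηne, ?_, (hBmem η).mp hηB, ?_,
      ?_, ?_, ?_, ?_⟩
    · rcases hs η hηB with h | h <;> rw [h] <;> norm_num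
    · rw [Finset.card_erase_of_mem hη, hB1card, hetop]
      omega
    · intro h
      exact Finset.ne_of_mem_erase (Finset.mem_of_mem_erase h) rfl
    · intro h
      exact Finset.ne_of_mem_erase h rfl
    · intro χ hχ
      exact (hBmem χ).mp (Finset.mem_of_mem_erase (Finset.mem_of_mem_erase hχ))
    · intro χ hχ
      exact hs χ (Finset.mem_of_mem_erase (Finset.mem_of_mem_erase hχ))
    · intro χ hχ y hy hy1
      exact hsP χ (Finset.mem_of_mem_erase (Finset.mem_of_mem_erase hχ)) y hy hy1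
    · have h1 := hsplit (fun ψ => s ψ * (charDegree (ψ : G → ℂ) : ℤ))
      rw [hsumZ] at h1
      rw [hstriv, htrivdeg] at h1
      push_cast at h1
      linarith
    · intro ψ hψ
      have hψB : ψ ∈ B := (hBmem ψ).mpr hψ
      by_cases h1 : ψ = triv
      · exact Or.inl h1
      · by_cases h2 : ψ = η
        · exact Or.inr (Or.inr (by rw [h2]))
        · exact Or.inr (Or.inl (Finset.mem_erase.mpr ⟨h2, Finset.mem_erase.mpr ⟨h1, hψB⟩⟩))
    · rw [hfilter, hsplitN (fun ψ => (charDegree (ψ : G → ℂ)) ^ 2)]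
      rw [htrivdeg, hetop, Nat.div_self (by omega)]
      ring
  · -- the case `e < p - 1`
    have hYge : 2 ≤ (p - 1) / e := by
      obtain ⟨k, hk⟩ := he_dvd
      rw [hk, Nat.mul_div_cancel_left _ he_pos]
      rcases Nat.lt_or_ge k 2 with h | h
      · exfalso
        interval_cases k
        · omega
        · apply hetop
          omega
      · exact h
    obtain ⟨ε, a, X, Y, D⟩ := defect_one_data p M hM P hP e hCN
      (Cfsg.Agent.Lib.Helper77.DefOne.card_principalBlock_ge p M hM P hP e hCN)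
    have hYcard : 2 ≤ Y.card := by rw [D.hYcard]; exact hYge
    have htrivY : triv ∉ Y := by
      intro hY
      obtain ⟨η', hη', hne⟩ := Finset.exists_mem_ne (by omega : 1 < Y.card) triv
      have h1 := D.hregY 1 hone η' hη' triv hY
      rw [htrivfun] at h1
      have h2 : charDegree (η' : G → ℂ) = 1 := by
        have h3 := hdegC η'
        rw [h1] at h3
        have h4 : ((1 : ℕ) : ℂ) = (charDegree (η' : G → ℂ) : ℂ) := by
          rw [← h3]; simp
        exact_mod_cast h4.symm
      exact hne (Cfsg.Agent.Lib.Helper41.j1_eq_triv_of_degree_one hperf η' h2)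
    have htrivX : triv ∈ X := by
      rcases (D.hmem triv).mp htrivB with h | h
      · exact h
      · exact absurd h htrivY
    have hatriv : a triv = 1 := by
      have h1 := D.hX triv htrivX y₀ hy₀P hy₀1
      rw [htrivfun] at h1
      have h2 : (1 : ℂ) = (a triv : ℂ) := h1
      exact_mod_cast h2.symm
    obtain ⟨η, hηY⟩ : Y.Nonempty := Finset.card_pos.mp (by omega)
    have hηX : η ∉ X := fun h => (Finset.disjoint_left.mp D.hdisj h) hηY
    have hηne : η ≠ triv := fun h => htrivY (h ▸ hηY)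
    have hunion : Finset.univ.filter (fun χ : IrrCharacter G => χ ∈ principalBlock M G) =
        X ∪ Y := by
      ext χ
      simp only [Finset.mem_filter, Finset.mem_univ, true_and, Finset.mem_union]
      exact D.hmem χ
    have hdegY : ∀ η' ∈ Y, charDegree (η' : G → ℂ) = charDegree (η : G → ℂ) := by
      intro η' hη'
      have h1 := D.hregY 1 hone η' hη' η hηY
      rw [hdegC η', hdegC η] at h1
      exact_mod_cast h1
    refine ⟨X.erase triv, a, η, ε, D.hε, ?_, ?_, ?_, hηne, ?_, (D.hmem η).mpr (Or.inr hηY), ?_,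
      ?_, ?_, ?_, ?_⟩
    · rw [Finset.card_erase_of_mem htrivX, D.hXcard]
      omega
    · intro h
      exact Finset.ne_of_mem_erase h rfl
    · intro h
      exact hηX (Finset.mem_of_mem_erase h)
    · intro χ hχ
      exact (D.hmem χ).mpr (Or.inl (Finset.mem_of_mem_erase hχ))
    · intro χ hχ
      exact D.haX χ (Finset.mem_of_mem_erase hχ)
    · intro χ hχ y hy hy1
      exact D.hX χ (Finset.mem_of_mem_erase hχ) y hy hy1
    · have h1 := D.hrel 1 hone η hηY
      have h2 : ∑ χ ∈ X, (a χ : ℂ) * (χ : G → ℂ) 1 =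
          ((∑ χ ∈ X, a χ * (charDegree (χ : G → ℂ) : ℤ) : ℤ) : ℂ) := by
        push_cast
        apply Finset.sum_congr rfl
        intro ψ _
        rw [hdegC ψ]
      rw [h2, hdegC η] at h1
      have h3 : ε * (charDegree (η : G → ℂ) : ℤ) =
          ∑ χ ∈ X, a χ * (charDegree (χ : G → ℂ) : ℤ) := by exact_mod_cast h1
      rw [h3, ← Finset.add_sum_erase X _ htrivX, hatriv, htrivdeg]
      push_cast
      ring
    · intro ψ hψ
      rcases (D.hmem ψ).mp hψ with h | h
      · by_cases h1 : ψ = triv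
        · exact Or.inl h1
        · exact Or.inr (Or.inl (Finset.mem_erase.mpr ⟨h1, h⟩))
      · exact Or.inr (Or.inr (hdegY ψ h))
    · have hY2 : ∑ η' ∈ Y, (charDegree (η' : G → ℂ)) ^ 2 =
          ((p - 1) / e) * (charDegree (η : G → ℂ)) ^ 2 := by
        rw [Finset.sum_congr rfl (fun η' hη' => by rw [hdegY η' hη']),
          Finset.sum_const, D.hYcard, smul_eq_mul]
      rw [hunion, Finset.sum_union D.hdisj, ← Finset.add_sum_erase X _ htrivX, htrivdeg, hY2]
      ring

end Cfsg.Agent.Lib.Helper72.DegEq
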