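import Mathlib
import Cfsg.Agent.S4729
import Cfsg.Agent.Lib.Helper72.DegEqA
import Cfsg.Agent.Lib.Helper72.DegEqDefs
import Cfsg.Agent.Lib.Helper78.DihedralSylow
import Cfsg.Agent.Lib.Helper78.InvolKernel
import Cfsg.Agent.Lib.Helper78.CharMore
import Cfsg.Agent.Lib.Helper79.Integrality

set_option autoImplicit false
open Cfsg

/-!
# Existence of the degree equation data (helper72)

`exists_degData`: for a non-commutative simple group `G` of order `n` and an odd prime `p ∥ n`,
there are `d e ε s f` with `DegData n p (degSet G) d e ε s f`.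
-/

namespace Cfsg.Agent.Lib.Helper72.DegEq

open scoped ComplexConjugate
open Cfsg.Agent.Lib.Helper78 Cfsg.Agent.Lib.Helper17 Cfsg.Agent.Lib.Helper9.Sieve
open Subgroup

variable {G : Type*} [Group G] [Finite G] [IsSimpleGroup G]

/-- A nontrivial irreducible character of a simple group is faithful. -/
theorem faithful_of_ne_one {χ : G → ℂ} (hχ : IsIrrCharacter G χ) (hne : χ ≠ fun _ => 1) :
    ∀ g : G, χ g = χ 1 → g = 1 := by
  intro g hg
  by_contra hg1
  exact irr_apply_ne_of_normal_closure hχ hne (t := g) (by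
    intro K hK hgK
    rcases hK.eq_bot_or_eq_top with h | h
    · rw [h, Subgroup.mem_bot] at hgK
      exact absurd hgK hg1
    · exact h) hg

/-- The number of Sylow `p`-subgroups is not excluded by the sieve tests. -/
theorem excl_card_sylow (hG : ¬ IsMulCommutative G) {n p m : ℕ} [hp : Fact p.Prime]
    (hn : Nat.card G = n) (hnm : n = p ^ 1 * m) (hpm : ¬ p ∣ m) (hm1 : m ≠ 1) :
    excl n p 1 m (Nat.card (Sylow p G)) = false := by
  obtain ⟨hd, hdp, hd1⟩ := sylow_facts hG hn hnm hpm (by norm_num) hm1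
  by_contra hx
  rw [Bool.not_eq_false] at hx
  unfold excl at hx
  simp only [Bool.or_eq_true, Bool.and_eq_true, decide_eq_true_eq] at hx
  rcases hx with (((h1 | h2) | h3) | h4) | h5
  · have := idxExcl_card_sylow (p := p) hG hd1
    rw [hn] at this
    rw [this] at h1
    exact Bool.false_ne_true h1
  · obtain ⟨-, hg⟩ := h2
    exact false_of_gcd_eq_one hG hn hnm hpm hd hg
  · obtain ⟨⟨⟨⟨⟨-, hp2⟩, hle⟩, hlt⟩, -⟩, hnd⟩ := h3
    exact false_of_alt_normalizer hG hp2 hn hnm hd hd1 hle hlt hnd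
  · obtain ⟨⟨ha2, -⟩, -⟩ := h4
    omega
  · obtain ⟨⟨⟨-, hp2⟩, hlt⟩, hex⟩ := h5
    exact false_of_centExcl hG hp2 hn hnm hpm hd hd1 hlt hex

open scoped Classical in
theorem exists_degData (hG : ¬ IsMulCommutative G) {n : ℕ} (hn : Nat.card G = n) (p : ℕ)
    [Fact p.Prime] (hp2 : p ≠ 2) (hpn : p ∣ n) (hp2n : ¬ p ^ 2 ∣ n) :
    ∃ (d e : ℕ) (ε : ℤ) (s : Multiset ℤ) (f : ℤ), DegData n p (degSet G) d e ε s f := by
  have hp : p.Prime := Fact.out
  have hp3 : 3 ≤ p := by
    have := hp.two_le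
    omega
  have hfin : Fintype G := Fintype.ofFinite G
  have hperf : commutator G = ⊤ := Cfsg.Agent.Lib.Helper41.j1_perfect hG
  obtain ⟨m, hm⟩ := hpn
  have hnm : n = p ^ 1 * m := by rw [pow_one]; exact hm
  have hpm : ¬ p ∣ m := by
    rintro ⟨k, hk⟩
    apply hp2n
    rw [hm, hk]
    exact ⟨k, by ring⟩
  have hndiv : n / p = m := by
    rw [hm, Nat.mul_div_cancel_left _ hp.pos]
  have hm1 : m ≠ 1 := by
    intro h1
    apply hG
    have hcard : Nat.card G = p := by rw [hn, hm, h1, mul_one]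
    have hcyc : IsCyclic G := isCyclic_of_prime_card hcard
    exact ⟨⟨IsCyclic.commGroup.mul_comm⟩⟩
  have hmpos : 0 < m := by
    rcases Nat.eq_zero_or_pos m with h | h
    · exact absurd (h ▸ dvd_zero p) hpm
    · exact h
  obtain ⟨hd, hdp, hd1⟩ := sylow_facts hG hn hnm hpm (by norm_num) hm1
  set d := Nat.card (Sylow p G) with hddef
  have hdpos : 0 < d := Nat.card_pos
  obtain ⟨P⟩ := (Sylow.nonempty : Nonempty (Sylow p G))
  have hP : Nat.card (P : Subgroup G) = p := by
    have := sylow_card_of_card_eq P (hn.trans hnm) hpm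
    rwa [pow_one] at this
  have hP' : Nat.card P = p := hP
  have hdvdG : p ∣ Nat.card G := by rw [hn, hm]; exact Dvd.intro _ rfl
  set u := m / d with hudef
  have hN : Nat.card (normalizer ((P : Subgroup G) : Set G)) = p * u := by
    have := card_normalizer_eq hn hnm hd P
    rwa [pow_one] at this
  set e := (centralizer ((P : Subgroup G) : Set G)).relIndex
    (normalizer ((P : Subgroup G) : Set G)) with hedef
  have he1 : e ∣ p - 1 := relIndex_cent_norm_dvd_pred_of_card_prime P hP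
  have he2 : e ≠ 1 := relIndex_cent_norm_ne_one_of_simple hG P hdvdG
  have he3 : e ∣ u := by
    have h2 := mul_relIndex_cent_norm_dvd_of_card_prime P hP
    rw [hN] at h2
    exact Nat.dvd_of_mul_dvd_mul_left hp.pos h2
  have hepos : 0 < e := Nat.pos_of_dvd_of_pos he1 (by omega)
  have hCN : centralizer ((P : Subgroup G) : Set G) ≤ normalizer ((P : Subgroup G) : Set G) :=
    centralizer_le_normalizer _
  have hCcard : Nat.card (centralizer ((P : Subgroup G) : Set G)) * e = p * u := by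
    rw [← hN]
    exact card_mul_relIndex_of_le hCN
  have hcyc : IsCyclic (P : Subgroup G) := isCyclic_of_prime_card hP
  have hPC : (P : Subgroup G) ≤ centralizer ((P : Subgroup G) : Set G) := by
    have hcomm : IsMulCommutative (P : Subgroup G) := ⟨⟨IsCyclic.commGroup.mul_comm⟩⟩
    exact Subgroup.le_centralizer _
  obtain ⟨M, hM⟩ := exists_isPModular_of_prime' p hp
  obtain ⟨X, a, η, ε, hε, hXcard, htrivX, hηX, hηne, hXB, hηB, haX, hXP, hrel, hmemB, hsq⟩ :=
    block_uniform hperf p hp3 M hM P hP' e rfl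
  -- degrees
  have hdeg_dvd : ∀ ψ : IrrCharacter G, (charDegree (ψ : G → ℂ) : ℤ) ∣ (n : ℤ) := by
    intro ψ
    have := Cfsg.Agent.Lib.Helper79.irr_charDegree_dvd_card ψ
    rw [hn] at this
    exact_mod_cast this
  have hdeg_two : ∀ ψ : IrrCharacter G, ψ ≠ Cfsg.Agent.Lib.Helper3.PrincipalLin.triv G →
      2 ≤ charDegree (ψ : G → ℂ) := by
    intro ψ hψ
    have h1 : 0 < charDegree (ψ : G → ℂ) := IsIrrCharacter.charDegree_pos ψ.2
    have h2 : charDegree (ψ : G → ℂ) ≠ 1 := fun h =>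
      hψ (Cfsg.Agent.Lib.Helper41.j1_eq_triv_of_degree_one hperf ψ h)
    omega
  have hne_fun : ∀ ψ : IrrCharacter G, ψ ≠ Cfsg.Agent.Lib.Helper3.PrincipalLin.triv G →
      (ψ : G → ℂ) ≠ fun _ => 1 := by
    intro ψ hψ h
    apply hψ
    apply Subtype.ext
    rw [h]
    rfl
  -- big degrees when `C(P) ≠ P`
  have hbig : e < u → ∀ ψ : IrrCharacter G, ψ ∈ principalBlock M G →
      ψ ≠ Cfsg.Agent.Lib.Helper3.PrincipalLin.triv G → 2 * p ≤ charDegree (ψ : G → ℂ) := by
    intro heu ψ hψB hψne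
    by_contra hlt
    push Not at hlt
    have hpg : IsPGroup p ↥(centralizer ((P : Subgroup G) : Set G)) :=
      Cfsg.Agent.S4729.result p M hM hperf P ψ hψB (faithful_of_ne_one ψ.2 (hne_fun ψ hψne)) hlt
    obtain ⟨k, hk⟩ := IsPGroup.iff_card.mp hpg
    have hCdvd : Nat.card (centralizer ((P : Subgroup G) : Set G)) ∣ p * m := by
      rw [← hm, ← hn]
      exact Subgroup.card_subgroup_dvd_card _
    have hk1 : k ≤ 1 := by
      by_contra hc
      push Not at hc
      have h25 : p ^ 2 ∣ p ^ k := pow_dvd_pow p hc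
      have h3 : p ^ 2 ∣ p * m := (hk ▸ h25).trans hCdvd
      apply hpm
      rw [pow_two] at h3
      exact Nat.dvd_of_mul_dvd_mul_left hp.pos h3
    have hCle : Nat.card (centralizer ((P : Subgroup G) : Set G)) ≤ p := by
      rw [hk]
      calc p ^ k ≤ p ^ 1 := Nat.pow_le_pow_right hp.pos hk1
        _ = p := pow_one p
    have h5 : p * u ≤ p * e := by
      rw [← hCcard]
      exact Nat.mul_le_mul_right e hCle
    have h6 : u ≤ e := Nat.le_of_mul_le_mul_left h5 hp.pos
    omega
  -- the case `C(P) = P`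
  have hsmall : e = u → centralizer ((P : Subgroup G) : Set G) = (P : Subgroup G) := by
    intro heu
    symm
    apply Subgroup.eq_of_le_of_card_ge hPC
    rw [hP]
    have h1 : Nat.card (centralizer ((P : Subgroup G) : Set G)) * e = p * e := by
      rw [hCcard, heu]
    exact (Nat.eq_of_mul_eq_mul_right hepos h1).le
  refine ⟨d, e, ε, X.val.map (fun χ : IrrCharacter G => a χ * (charDegree (χ : G → ℂ) : ℤ)),
    (charDegree (η : G → ℂ) : ℤ), ?_⟩
  have hmem_s : ∀ x ∈ X.val.map (fun χ : IrrCharacter G => a χ * (charDegree (χ : G → ℂ) : ℤ)),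
      ∃ χ ∈ X, x = a χ * (charDegree (χ : G → ℂ) : ℤ) := by
    intro x hx
    rw [Multiset.mem_map] at hx
    obtain ⟨χ, hχ, rfl⟩ := hx
    exact ⟨χ, Finset.mem_val.mp hχ, rfl⟩
  have hXne : ∀ χ ∈ X, χ ≠ Cfsg.Agent.Lib.Helper3.PrincipalLin.triv G := by
    intro χ hχ h
    exact htrivX (h ▸ hχ)
  have hnatAbs : ∀ χ ∈ X, (a χ * (charDegree (χ : G → ℂ) : ℤ)).natAbs = charDegree (χ : G → ℂ) := by
    intro χ hχ
    rcases haX χ hχ with h | h <;> rw [h] <;> simp
  constructor
  · rw [hndiv]; exact hd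
  · exact hdp
  · exact hd1
  · rw [hndiv]; exact excl_card_sylow hG hn hnm hpm hm1
  · rw [hndiv]; exact he3
  · exact he1
  · exact he2
  · exact hε
  · rw [Multiset.card_map]
    exact hXcard
  · intro x hx
    obtain ⟨χ, hχ, rfl⟩ := hmem_s x hx
    have h1 := card_dvd_degree_sub_of_const (IsIrrCharacter.isCharacter χ.2) (P : Subgroup G)
      (a χ) (hXP χ hχ)
    rw [hP] at h1
    rcases haX χ hχ with h | h
    · rw [h] at h1 ⊢
      simpa using h1
    · rw [h] at h1 ⊢
      have h2 : (-1 : ℤ) * (charDegree (χ : G → ℂ) : ℤ) - 1 =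
          -((charDegree (χ : G → ℂ) : ℤ) - (-1)) := by ring
      rw [h2]
      exact (dvd_neg).mpr h1
  · intro x hx
    obtain ⟨χ, hχ, rfl⟩ := hmem_s x hx
    rcases haX χ hχ with h | h
    · rw [h, one_mul]; exact hdeg_dvd χ
    · rw [h, neg_one_mul]; exact (neg_dvd).mpr (hdeg_dvd χ)
  · intro x hx
    obtain ⟨χ, hχ, rfl⟩ := hmem_s x hx
    have h2 : (2 : ℤ) ≤ (charDegree (χ : G → ℂ) : ℤ) := by
      exact_mod_cast hdeg_two χ (hXne χ hχ)
    rcases haX χ hχ with h | h
    · left; rw [h, one_mul]; exact h2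
    · right; rw [h, neg_one_mul]; linarith
  · intro heu x hx
    rw [hndiv] at heu
    obtain ⟨χ, hχ, rfl⟩ := hmem_s x hx
    have h2 : (2 * p : ℤ) ≤ (charDegree (χ : G → ℂ) : ℤ) := by
      exact_mod_cast hbig heu χ (hXB χ hχ) (hXne χ hχ)
    rcases haX χ hχ with h | h
    · left; rw [h, one_mul]; exact h2
    · right; rw [h, neg_one_mul]; linarith
  · intro x hx
    obtain ⟨χ, hχ, rfl⟩ := hmem_s x hx
    rw [hnatAbs χ hχ]
    exact ⟨χ, rfl⟩
  · exact_mod_cast hdeg_two η hηne
  · exact hdeg_dvd η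
  · intro heu
    rw [hndiv] at heu
    exact_mod_cast hbig heu η hηB hηne
  · rw [Int.natAbs_natCast]
    exact ⟨η, rfl⟩
  · rw [hrel, Finset.sum_eq_multiset_sum]
  · -- squares
    have h1 : ∑ ψ ∈ Finset.univ.filter (fun ψ : IrrCharacter G => ψ ∈ principalBlock M G),
        (charDegree (ψ : G → ℂ)) ^ 2 ≤ n := by
      rw [← hn, ← sum_irr_charDegree_sq (G := G)]
      exact Finset.sum_le_sum_of_subset (Finset.filter_subset _ _)
    rw [hsq] at h1
    have h2 : (X.val.map (fun χ : IrrCharacter G => a χ * (charDegree (χ : G → ℂ) : ℤ))).map (fun x => x ^ 2) =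
        X.val.map (fun χ : IrrCharacter G => ((charDegree (χ : G → ℂ) : ℤ)) ^ 2) := by
      rw [Multiset.map_map]
      apply Multiset.map_congr rfl
      intro χ hχ
      simp only [Function.comp]
      rcases haX χ (Finset.mem_val.mp hχ) with h | h <;> rw [h] <;> ring
    rw [h2, ← Finset.sum_eq_multiset_sum]
    have h3 : ((1 + ∑ χ ∈ X, (charDegree (χ : G → ℂ)) ^ 2 +
        ((p - 1) / e) * (charDegree (η : G → ℂ)) ^ 2 : ℕ) : ℤ) ≤ (n : ℤ) := by
      exact_mod_cast h1
    push_cast at h3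
    exact h3
  · -- all degrees
    intro heu k hk
    rw [hndiv] at heu
    obtain ⟨ψ, rfl⟩ := hk
    have hC := hsmall heu
    by_cases hψB : ψ ∈ principalBlock M G
    · rcases hmemB ψ hψB with h | h | h
      · right; left
        rw [h]
        exact Cfsg.Agent.Lib.Helper3.PrincipalLin.charDegree_triv
      · right; right; right
        refine ⟨a ψ * (charDegree (ψ : G → ℂ) : ℤ), ?_, hnatAbs ψ h⟩
        rw [Multiset.mem_map]
        exact ⟨ψ, Finset.mem_val.mpr h, rfl⟩
      · right; right; left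
        rw [h]
    · left
      have h1 := card_dvd_degree_sub_of_const (IsIrrCharacter.isCharacter ψ.2) (P : Subgroup G)
        0 (by
          intro y hy hy1
          rw [apply_eq_zero_of_not_mem_principalBlock p M hM P hP hC hy hy1 hψB]
          simp)
      rw [hP, sub_zero] at h1
      exact_mod_cast h1

end Cfsg.Agent.Lib.Helper72.DegEq
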