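import Mathlib
import Cfsg.Agent.Lib.Helper72.DihedralFiveA

set_option autoImplicit false
open Cfsg

/-!
# Dihedral Sylow normalizer of order `2p`, `p ≥ 5`, in a simple group (helper72)

`dihedral_sylow_main`: Brauer's order formula `p |C(t)|² F (F + a) = |G| (F - x)²` (as in helper78's
`dihedral_sylow_formula_of_simple`, now for `p ≥ 5`), the bound `|x| ≤ F`, and: **all involutions
of `G` are conjugate**.
-/

namespace Cfsg.Agent.Lib.Helper72.DihedralFive

open scoped ComplexConjugate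
open Cfsg.Agent.Lib.Helper78

open scoped Classical in
theorem dihedral_sylow_main {G : Type*} [Group G] [Finite G] [IsSimpleGroup G]
    (hG : ¬ IsMulCommutative G) (p : ℕ) [Fact p.Prime] (hp5 : 5 ≤ p) (P : Sylow p G)
    (hP : Nat.card (P : Subgroup G) = p)
    (hN : Nat.card (Subgroup.normalizer ((P : Subgroup G) : Set G)) = 2 * p) :
    ∃ (t : G) (F x a : ℤ), orderOf t = 2 ∧
      t ∈ Subgroup.normalizer ((P : Subgroup G) : Set G) ∧
      Subgroup.centralizer ((P : Subgroup G) : Set G) = (P : Subgroup G) ∧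
      (a = 1 ∨ a = -1) ∧ 0 < F ∧ 0 < F + a ∧ F ∣ (Nat.card G : ℤ) ∧
      (F + a) ∣ (Nat.card G : ℤ) ∧ (p : ℤ) ∣ F - a ∧ x ≤ F ∧ -F ≤ x ∧
      (p : ℤ) * (Nat.card (Subgroup.centralizer ({t} : Set G)) : ℤ) ^ 2 * F * (F + a) =
        (Nat.card G : ℤ) * (F - x) ^ 2 ∧
      ∀ u : G, orderOf u = 2 → IsConj t u := by
  have hp : p.Prime := Fact.out
  have hfin : Fintype G := Fintype.ofFinite G
  have hp2 : p ≠ 2 := by omega
  obtain ⟨M, hM⟩ := exists_isPModular_of_prime' p hp
  have hdvd : p ∣ Nat.card G := by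
    rw [← hP]
    exact Subgroup.card_subgroup_dvd_card _
  -- `P` is commutative
  have hcyc : IsCyclic (P : Subgroup G) := isCyclic_of_prime_card hP
  have hPC : (P : Subgroup G) ≤ Subgroup.centralizer ((P : Subgroup G) : Set G) := by
    have hcomm : IsMulCommutative (P : Subgroup G) := ⟨⟨IsCyclic.commGroup.mul_comm⟩⟩
    exact Subgroup.le_centralizer _
  have hCNle : Subgroup.centralizer ((P : Subgroup G) : Set G) ≤
      Subgroup.normalizer ((P : Subgroup G) : Set G) := Subgroup.centralizer_le_normalizer _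
  -- `C_G(P) = P`
  have hC : Subgroup.centralizer ((P : Subgroup G) : Set G) = (P : Subgroup G) := by
    have h1 : p ∣ Nat.card (Subgroup.centralizer ((P : Subgroup G) : Set G)) := by
      have h0 := Subgroup.card_dvd_of_le hPC
      rwa [hP] at h0
    have h2 : Nat.card (Subgroup.centralizer ((P : Subgroup G) : Set G)) ∣ 2 * p := by
      rw [← hN]
      exact Subgroup.card_dvd_of_le hCNle
    obtain ⟨k, hk⟩ := h1
    have hk2 : k ∣ 2 := by
      rw [hk, mul_comm 2 p] at h2
      exact Nat.dvd_of_mul_dvd_mul_left hp.pos h2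
    have hk' : k = 1 ∨ k = 2 := (Nat.dvd_prime Nat.prime_two).mp hk2
    rcases hk' with h | h
    · symm
      apply Subgroup.eq_of_le_of_card_ge hPC
      rw [hk, h, hP, mul_one]
    · exfalso
      apply Cfsg.Agent.Lib.Helper17.not_normalizer_le_centralizer_of_simple hG P hdvd
      have h3 : Subgroup.centralizer ((P : Subgroup G) : Set G) =
          Subgroup.normalizer ((P : Subgroup G) : Set G) := by
        apply Subgroup.eq_of_le_of_card_ge hCNle
        rw [hk, h, hN, mul_comm]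
      rw [h3]
  -- an involution of the normalizer
  obtain ⟨t', ht'⟩ := exists_prime_orderOf_dvd_card' (G := Subgroup.normalizer
    ((P : Subgroup G) : Set G)) 2 (by rw [hN]; exact Dvd.intro _ rfl)
  obtain ⟨t, htdef⟩ : ∃ t : G, t = (t' : G) := ⟨_, rfl⟩
  have ht : orderOf t = 2 := by
    rw [htdef, Subgroup.orderOf_coe]
    exact ht'
  have htN : t ∈ Subgroup.normalizer ((P : Subgroup G) : Set G) := by
    rw [htdef]; exact t'.2
  have hperf : commutator G = ⊤ := Cfsg.Agent.Lib.Helper41.j1_perfect hG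
  have hCN : (Subgroup.centralizer ((P : Subgroup G) : Set G)).relIndex
      (Subgroup.normalizer ((P : Subgroup G) : Set G)) = 2 := by
    rw [hC]
    exact relIndex_normalizer_eq_two P hP hN
  obtain ⟨δ, a₁, χ₁, Y, hδ, ha₁, ⟨η₀, hη₀⟩, hYB, hχ₁B, hχ₁Y, hχ₁t, hχ₁P, hsumY, hrel, hsplit⟩ :=
    dihedral_block_data_of_perfect hperf p M hM P hP hp5 hCN
  -- a nontrivial element of `P`
  obtain ⟨y₀, hy₀⟩ : ∃ y₀ : ↥(P : Subgroup G), y₀ ≠ 1 := by
    have hfinP : Fintype ↥(P : Subgroup G) := Fintype.ofFinite _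
    by_contra hc
    push Not at hc
    have h1 : Nat.card ↥(P : Subgroup G) ≤ 1 := by
      rw [Nat.card_eq_fintype_card]
      exact Fintype.card_le_one_iff.mpr (fun a b => by rw [hc a, hc b])
    omega
  have hy₀1 : (y₀ : G) ≠ 1 := fun h => hy₀ (Subtype.ext h)
  have hone : ¬ p ∣ orderOf (1 : G) := by
    rw [orderOf_one]
    exact hp.one_lt.ne' ∘ Nat.dvd_one.mp
  have hreg2 : ∀ u : G, orderOf u = 2 → ¬ p ∣ orderOf u := by
    intro u hu
    rw [hu]
    intro h
    have := Nat.le_of_dvd (by norm_num) h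
    omega
  obtain ⟨F, hFdef⟩ : ∃ F : ℤ, F = (charDegree (χ₁ : G → ℂ) : ℤ) := ⟨_, rfl⟩
  obtain ⟨H, hHdef⟩ : ∃ H : ℤ, H = (charDegree (η₀ : G → ℂ) : ℤ) := ⟨_, rfl⟩
  have hF1 : (χ₁ : G → ℂ) 1 = (F : ℂ) := by
    rw [IsCharacter.apply_one_eq_charDegree (IsIrrCharacter.isCharacter χ₁.2), hFdef]
    push_cast
    rfl
  have hH1 : (η₀ : G → ℂ) 1 = (H : ℂ) := by
    rw [IsCharacter.apply_one_eq_charDegree (IsIrrCharacter.isCharacter η₀.2), hHdef]
    push_cast
    rfl
  have hFpos : 0 < F := by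
    rw [hFdef]
    exact_mod_cast IsIrrCharacter.charDegree_pos χ₁.2
  have hHpos : 0 < H := by
    rw [hHdef]
    exact_mod_cast IsIrrCharacter.charDegree_pos η₀.2
  have hδsq : δ * δ = 1 := by rcases hδ with h | h <;> rw [h] <;> norm_num
  have hasq : a₁ * a₁ = 1 := by rcases ha₁ with h | h <;> rw [h] <;> norm_num
  have hδsqC : (δ : ℂ) * (δ : ℂ) = 1 := by exact_mod_cast hδsq
  have hasqC : (a₁ : ℂ) * (a₁ : ℂ) = 1 := by exact_mod_cast hasq
  -- relation at 1
  have hrel1 : 1 + a₁ * F = δ * H := by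
    have h1 := hrel 1 hone η₀ hη₀
    rw [hF1, hH1] at h1
    exact_mod_cast h1
  have hη1 : ∀ η ∈ Y, (η : G → ℂ) 1 = (δ : ℂ) * (1 + (a₁ : ℂ) * (F : ℂ)) := by
    intro η hη
    have h1 := hrel 1 hone η hη
    rw [hF1] at h1
    rw [h1, ← mul_assoc, hδsqC, one_mul]
  have hFne : (F : ℂ) ≠ 0 := by exact_mod_cast hFpos.ne'
  have hδne : (δ : ℂ) ≠ 0 := by
    intro h
    rw [h, mul_zero] at hδsqC
    exact zero_ne_one hδsqC
  have hune : (1 : ℂ) + (a₁ : ℂ) * (F : ℂ) ≠ 0 := by
    have h1 : ((1 + a₁ * F : ℤ) : ℂ) ≠ 0 := by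
      rw [hrel1]
      push_cast
      exact mul_ne_zero hδne (by exact_mod_cast hHpos.ne')
    intro h
    apply h1
    push_cast
    exact h
  have hFH : F + a₁ = H := by
    rcases hδ with h | h <;> rcases ha₁ with h' | h' <;> rw [h, h'] at hrel1 <;> rw [h'] <;> omega
  -- the key evaluation of the block sum, for an arbitrary involution
  have hkey : ∀ (u : G) (xu : ℤ), orderOf u = 2 → (χ₁ : G → ℂ) u = (xu : ℂ) →
      (∑ χ ∈ Finset.univ.filter (fun χ : IrrCharacter G => χ ∈ principalBlock M G),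
        conj ((χ : G → ℂ) u * (χ : G → ℂ) u / (χ : G → ℂ) 1) * (χ : G → ℂ) y₀) *
        ((F : ℂ) * ((F : ℂ) + (a₁ : ℂ))) = ((F : ℂ) - (xu : ℂ)) ^ 2 := by
    intro u xu hu hxu
    have hηu : ∀ η ∈ Y, (η : G → ℂ) u = (δ : ℂ) * (1 + (a₁ : ℂ) * (xu : ℂ)) := by
      intro η hη
      have h1 := hrel u (hreg2 u hu) η hη
      rw [hxu] at h1
      rw [h1, ← mul_assoc, hδsqC, one_mul]
    rw [hsplit]
    have hYsum : ∑ η ∈ Y,
        conj ((η : G → ℂ) u * (η : G → ℂ) u / (η : G → ℂ) 1) * (η : G → ℂ) y₀ =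
        conj ((δ : ℂ) * (1 + (a₁ : ℂ) * (xu : ℂ)) *
          ((δ : ℂ) * (1 + (a₁ : ℂ) * (xu : ℂ))) / ((δ : ℂ) * (1 + (a₁ : ℂ) * (F : ℂ)))) *
          (-(δ : ℂ)) := by
      rw [← hsumY y₀ hy₀, Finset.mul_sum]
      apply Finset.sum_congr rfl
      intro η hη
      rw [hηu η hη, hη1 η hη]
    rw [hYsum, hxu, hF1, hχ₁P y₀ hy₀]
    simp only [map_div₀, map_mul, map_add, map_one, map_intCast, mul_one, div_one]
    have h3 : (δ : ℂ) * (1 + (a₁ : ℂ) * (xu : ℂ)) * ((δ : ℂ) * (1 + (a₁ : ℂ) * (xu : ℂ))) /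
        ((δ : ℂ) * (1 + (a₁ : ℂ) * (F : ℂ))) * (-(δ : ℂ)) =
        -((1 + (a₁ : ℂ) * (xu : ℂ)) * (1 + (a₁ : ℂ) * (xu : ℂ)) / (1 + (a₁ : ℂ) * (F : ℂ))) := by
      have h4 : (δ : ℂ) * (1 + (a₁ : ℂ) * (xu : ℂ)) * ((δ : ℂ) * (1 + (a₁ : ℂ) * (xu : ℂ))) /
          ((δ : ℂ) * (1 + (a₁ : ℂ) * (F : ℂ))) * (-(δ : ℂ)) =
          -((δ : ℂ) * (δ : ℂ)) *
            ((1 + (a₁ : ℂ) * (xu : ℂ)) * (1 + (a₁ : ℂ) * (xu : ℂ)) / (1 + (a₁ : ℂ) * (F : ℂ))) := by
        field_simp
      rw [h4, hδsqC]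
      ring
    rw [h3]
    rcases ha₁ with h | h
    · rw [h] at hune ⊢
      push_cast at hune ⊢
      have hune' : (1 : ℂ) + (F : ℂ) ≠ 0 := by simpa using hune
      have hune'' : (F : ℂ) + 1 ≠ 0 := by rw [add_comm]; exact hune'
      field_simp
      ring
    · rw [h] at hune ⊢
      push_cast at hune ⊢
      have hune' : (1 : ℂ) - (F : ℂ) ≠ 0 := by
        intro h0
        apply hune
        linear_combination h0
      have hune'' : (F : ℂ) - 1 ≠ 0 := by
        intro h0
        apply hune'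
        linear_combination -h0
      have hune3 : (1 : ℂ) + -1 * (F : ℂ) ≠ 0 := by
        intro h0
        apply hune'
        linear_combination h0
      have hune4 : (1 : ℂ) + -(F : ℂ) ≠ 0 := by
        intro h0
        apply hune'
        linear_combination h0
      field_simp
      ring
  -- the value at `t`
  obtain ⟨x, hx⟩ := Cfsg.Agent.Lib.Helper74.exists_int_apply_of_orderOf_two
    (IsIrrCharacter.isCharacter χ₁.2) t ht
  -- the count
  have hcount := conjProdCount_dihedral P hP hp2 hC hN ht htN y₀.2 hy₀1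
  -- the expansion
  have hexp := congrFun (classFunction_eq_sum_irr
    (Cfsg.Agent.Lib.Helper74.isClassFunction_conjProdCount t t)) (y₀ : G)
  rw [Finset.sum_apply] at hexp
  simp only [Pi.smul_apply, smul_eq_mul] at hexp
  have hexp2 : Cfsg.Agent.Lib.Helper74.conjProdCount t t (y₀ : G) =
      (Nat.card G : ℂ) *
      ∑ χ ∈ Finset.univ.filter (fun χ : IrrCharacter G => χ ∈ principalBlock M G),
        conj ((χ : G → ℂ) t * (χ : G → ℂ) t / (χ : G → ℂ) 1) *
          (χ : G → ℂ) y₀ := by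
    rw [hexp, ← Finset.sum_filter_add_sum_filter_not Finset.univ (fun χ : IrrCharacter G =>
      χ ∈ principalBlock M G)]
    have hz : ∑ χ ∈ Finset.univ.filter (fun χ : IrrCharacter G => ¬ χ ∈ principalBlock M G),
        classInner (Cfsg.Agent.Lib.Helper74.conjProdCount t t) (χ : G → ℂ) *
          (χ : G → ℂ) y₀ = 0 := by
      apply Finset.sum_eq_zero
      intro χ hχ
      rw [apply_eq_zero_of_not_mem_principalBlock p M hM P hP hC y₀.2 hy₀1
        (Finset.mem_filter.mp hχ).2, mul_zero]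
    rw [hz, add_zero, Finset.mul_sum]
    apply Finset.sum_congr rfl
    intro χ _
    rw [Cfsg.Agent.Lib.Helper74.classInner_conjProdCount_irr, mul_assoc]
  rw [hcount] at hexp2
  have hkeyt := hkey t x ht hx
  have hkeyC : (p : ℂ) * (Nat.card (Subgroup.centralizer ({t} : Set G)) : ℂ) ^ 2 * (F : ℂ) *
      ((F : ℂ) + (a₁ : ℂ)) = (Nat.card G : ℂ) * ((F : ℂ) - (x : ℂ)) ^ 2 := by
    rw [← hkeyt, ← mul_assoc, ← hexp2]
    ring
  -- bounds for `x`
  have hnorm := Cfsg.Agent.Lib.Helper80.norm_char_le (IsIrrCharacter.isCharacter χ₁.2) t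
  rw [hx] at hnorm
  have hnorm2 : |(x : ℝ)| ≤ (F : ℝ) := by
    have h2 : ‖((x : ℤ) : ℂ)‖ = |(x : ℝ)| := by
      rw [← Complex.ofReal_intCast, Complex.norm_real, Real.norm_eq_abs]
    rw [h2] at hnorm
    rw [hFdef]
    exact_mod_cast hnorm
  have hxle : x ≤ F := by
    have h3 : (x : ℝ) ≤ (F : ℝ) := le_trans (le_abs_self _) hnorm2
    exact_mod_cast h3
  have hxge : -F ≤ x := by
    have h3 : -(F : ℝ) ≤ (x : ℝ) := by
      have := neg_abs_le (x : ℝ)
      linarith
    exact_mod_cast h3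
  refine ⟨t, F, x, a₁, ht, htN, hC, ha₁, hFpos, ?_, ?_, ?_, ?_, hxle, hxge, ?_, ?_⟩
  · rw [hFH]
    exact hHpos
  · rw [hFdef]
    exact Int.natCast_dvd_natCast.mpr (Cfsg.Agent.Lib.Helper79.irr_charDegree_dvd_card χ₁)
  · rw [hFH, hHdef]
    exact Int.natCast_dvd_natCast.mpr (Cfsg.Agent.Lib.Helper79.irr_charDegree_dvd_card η₀)
  · have h1 := card_dvd_degree_sub_of_const (IsIrrCharacter.isCharacter χ₁.2) (P : Subgroup G) a₁
      (fun k hk hk1 => hχ₁P ⟨k, hk⟩ (fun h => hk1 (congrArg Subtype.val h)))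
    rw [hP] at h1
    rw [hFdef]
    exact h1
  · exact_mod_cast hkeyC
  · -- all involutions are conjugate to `t`
    intro u hu
    by_contra hnc
    have huu : u * u = 1 := by
      rw [← pow_two, ← hu]
      exact pow_orderOf_eq_one u
    have htt : t * t = 1 := by
      rw [← pow_two, ← ht]
      exact pow_orderOf_eq_one t
    have htinv : t⁻¹ = t := inv_eq_of_mul_eq_one_left htt
    have hinvt := inverts_of_dihedral P hP hp2 hC ht htN
    have hodd : Odd (Nat.card (P : Subgroup G)) := by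
      rw [hP]
      exact hp.odd_of_ne_two hp2
    -- no conjugate of `u` inverts `y₀`
    have hinv : ∀ g : G, (g * u * g⁻¹) * (y₀ : G) * (g * u * g⁻¹)⁻¹ ≠ (y₀ : G)⁻¹ := by
      intro g hg
      apply hnc
      obtain ⟨s, hsdef⟩ : ∃ s : G, s = g * u * g⁻¹ := ⟨_, rfl⟩
      rw [← hsdef] at hg
      have hss : s * s = 1 := by
        rw [hsdef]
        exact Cfsg.Agent.Lib.Helper74.conj_mul_self_of_mul_self huu g
      have hsinv : s⁻¹ = s := inv_eq_of_mul_eq_one_left hss
      have hsord : orderOf s = 2 := by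
        rw [hsdef, ← hu]
        have h1 : g * u * g⁻¹ = MulAut.conj g u := rfl
        rw [h1, MulEquiv.orderOf_eq]
      have hzp := zpowers_eq_of_card_eq_prime (P : Subgroup G) hP y₀.2 hy₀1
      have hfwd : ∀ h : G, h ∈ (P : Subgroup G) → s * h * s⁻¹ ∈ (P : Subgroup G) := by
        intro h hh
        rw [← hzp] at hh
        obtain ⟨k, hk⟩ := Subgroup.mem_zpowers_iff.mp hh
        rw [← hk, ← conj_zpow, hg]
        exact zpow_mem (inv_mem y₀.2) k
      have hsN : s ∈ Subgroup.normalizer ((P : Subgroup G) : Set G) := by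
        rw [Subgroup.mem_normalizer_iff]
        intro h
        constructor
        · exact hfwd h
        · intro hh
          have h1 := hfwd _ hh
          rw [hsinv] at h1
          have h2 : s * (s * h * s) * s = h := by
            calc s * (s * h * s) * s = (s * s) * h * (s * s) := by simp only [mul_assoc]
              _ = h := by rw [hss, one_mul, mul_one]
          rwa [h2] at h1
      have hidx : ((P : Subgroup G).subgroupOf
          (Subgroup.normalizer ((P : Subgroup G) : Set G))).index = 2 :=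
        relIndex_normalizer_eq_two P hP hN
      have htP : t⁻¹ ∉ (P : Subgroup G) := by
        rw [htinv]
        exact not_mem_of_orderOf_two (P : Subgroup G) hP hp2 ht
      have hsP : s ∉ (P : Subgroup G) := not_mem_of_orderOf_two (P : Subgroup G) hP hp2 hsord
      have h3 := (Subgroup.mul_mem_iff_of_index_two hidx
        (a := (⟨t⁻¹, inv_mem htN⟩ : Subgroup.normalizer ((P : Subgroup G) : Set G)))
        (b := ⟨s, hsN⟩)).mpr (by
          rw [Subgroup.mem_subgroupOf, Subgroup.mem_subgroupOf]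
          exact iff_of_false htP hsP)
      rw [Subgroup.mem_subgroupOf] at h3
      have h4 : IsConj t (t * (t⁻¹ * s)) := isConj_mul_of_inverts (P : Subgroup G) hodd hinvt h3
      rw [mul_inv_cancel_left] at h4
      have h5 : IsConj u s := by
        rw [isConj_iff]
        exact ⟨g, hsdef.symm⟩
      exact h4.trans h5.symm
    have hyord : ∃ k : ℕ, orderOf (y₀ : G) = p ^ k := by
      refine ⟨1, ?_⟩
      rw [pow_one]
      have h1 : orderOf (y₀ : G) ∣ p := by
        have h2 := orderOf_dvd_natCard y₀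
        rw [Subgroup.orderOf_coe]
        rwa [hP] at h2
      rcases (Nat.dvd_prime hp).mp h1 with h | h
      · exact absurd (orderOf_eq_one_iff.mp h) hy₀1
      · exact h
    have hzero := Cfsg.Agent.Lib.Helper74.sum_block_sq_div_mul_eq_zero hM
      (Cfsg.Agent.Lib.Helper74.isPBlock_principalBlock G M) huu hyord hinv
    obtain ⟨xu, hxu⟩ := Cfsg.Agent.Lib.Helper74.exists_int_apply_of_orderOf_two
      (IsIrrCharacter.isCharacter χ₁.2) u hu
    have hk := hkey u xu hu hxu
    rw [hzero, zero_mul] at hk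
    have hFx : (F : ℂ) - (xu : ℂ) = 0 := by
      have := pow_eq_zero_iff (n := 2) (by norm_num) |>.mp hk.symm
      exact this
    have hval : (χ₁ : G → ℂ) u = (χ₁ : G → ℂ) 1 := by
      rw [hxu, hF1]
      linear_combination -hFx
    have hu1 : u ≠ 1 := by
      intro h
      rw [h, orderOf_one] at hu
      omega
    exact irr_apply_ne_of_normal_closure χ₁.2 hχ₁t (t := u) (by
      intro K hK huK
      rcases hK.eq_bot_or_eq_top with h | h
      · rw [h, Subgroup.mem_bot] at huK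
        exact absurd huK hu1
      · exact h) hval

end Cfsg.Agent.Lib.Helper72.DihedralFive
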