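import Mathlib
import Cfsg.Agent.Lib.Helper76.FrobRedA
import Cfsg.Agent.Lib.Helper72.ActHom

/-!
# S4306 reduction, module R1 (helper72, for helper76): `FCtx` passes to quotients

`FCtx.map_mk`: the standing hypotheses `FCtx r s G f h` pass to the quotient of the ambient group
by a normal subgroup `K ≤ G`.
-/

set_option autoImplicit false
set_option linter.style.haveILetI false

namespace Cfsg.Agent.Lib.Helper72.FrobRedR1

/-- an element of prime order `t` in a subgroup of order prime to `t` is trivial -/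
theorem eq_one_of_pow_prime_of_mem {Γ : Type*} [Group Γ] {t : ℕ} [ht : Fact t.Prime]
    {K : Subgroup Γ} (hK : ¬ t ∣ Nat.card K) {x : Γ} (hx : x ^ t = 1) (hxK : x ∈ K) : x = 1 := by
  have h2 : orderOf x ∣ t := orderOf_dvd_of_pow_eq_one hx
  have h3 : orderOf x ∣ Nat.card K := Subgroup.orderOf_dvd_natCard K hxK
  rcases (Nat.dvd_prime ht.out).mp h2 with h4 | h4
  · exact orderOf_eq_one_iff.mp h4
  · exact absurd (h4 ▸ h3) hK

end Cfsg.Agent.Lib.Helper72.FrobRedR1

namespace Cfsg.Agent.Lib.Helper76.FrobRed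

open Cfsg.Agent.Lib.Helper72.ActHom Cfsg.Agent.Lib.Helper72.FrobRedR1

variable {Γ : Type*} [Group Γ] [Finite Γ] {r s : ℕ} [Fact r.Prime] [Fact s.Prime]
  {G : Subgroup Γ} {f h : Γ}

/-- **Module R1.**  The hypotheses pass to quotients by normal subgroups contained in `G`. -/
theorem FCtx.map_mk (c : FCtx r s G f h) (K : Subgroup Γ) [K.Normal] (hK : K ≤ G) :
    FCtx r s (G.map (QuotientGroup.mk' K)) (QuotientGroup.mk' K f) (QuotientGroup.mk' K h) := by
  have hrK : ¬ r ∣ Nat.card K := c.r_not_dvd_of_le hK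
  have hsK : ¬ s ∣ Nat.card K := c.s_not_dvd_of_le hK
  have hGn := c.hGn
  obtain ⟨k, hk⟩ := Subgroup.mem_zpowers_iff.mp c.hnorm
  refine ⟨?_, c.hrs, ?_, ?_, ?_, ?_, ?_, ?_, ?_, ?_, ?_⟩
  · exact Subgroup.Normal.map hGn _ (QuotientGroup.mk'_surjective K)
  · rw [← map_pow, c.hf, map_one]
  · intro h1
    have h2 : f ∈ K := (QuotientGroup.eq_one_iff f).mp h1
    exact c.hf1 (eq_one_of_pow_prime_of_mem hrK c.hf h2)
  · rw [← map_pow, c.hh, map_one]
  · intro h1
    have h2 : h ∈ K := (QuotientGroup.eq_one_iff h).mp h1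
    exact c.hh1 (eq_one_of_pow_prime_of_mem hsK c.hh h2)
  · rw [← map_inv, ← map_mul, ← map_mul, ← hk, map_zpow]
    exact Subgroup.zpow_mem_zpowers _ k
  · intro h1
    -- `h f h⁻¹ f⁻¹ = f ^ (k - 1)` lies in `K`
    have h2 : f ^ (k - 1) ∈ K := by
      rw [← QuotientGroup.eq_one_iff]
      have h3 : f ^ (k - 1) = h * f * h⁻¹ * f⁻¹ := by
        rw [zpow_sub_one, hk]
      rw [h3]
      show QuotientGroup.mk' K (h * f * h⁻¹ * f⁻¹) = 1
      rw [map_mul, map_mul, map_mul, h1, map_inv, map_inv]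
      group
    have h4 : (f ^ (k - 1)) ^ r = 1 := by
      rw [← zpow_natCast, ← zpow_mul, mul_comm, zpow_mul, zpow_natCast, c.hf, one_zpow]
    have h5 := eq_one_of_pow_prime_of_mem hrK h4 h2
    apply c.hncomm
    have h6 : h * f * h⁻¹ = f := by
      rw [← hk]
      have : f ^ k = f ^ (k - 1) * f := by rw [zpow_sub_one]; group
      rw [this, h5, one_mul]
    calc h * f = h * f * h⁻¹ * h := by group
      _ = f * h := by rw [h6]
  · intro hd
    exact c.hrG (hd.trans (Subgroup.card_map_dvd G _))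
  · intro hd
    exact c.hsG (hd.trans (Subgroup.card_map_dvd G _))
  · rintro _ ⟨g, hg, rfl⟩ hgf hgh
    -- conjugation by `f` and by `h⁻¹`
    have hα : (MulAut.conj f) ^ (r ^ 1) = 1 := by
      rw [pow_one, ← map_pow, c.hf, map_one]
    have hβ : (MulAut.conj h⁻¹) ^ (s ^ 1) = 1 := by
      rw [pow_one, ← map_pow, inv_pow, c.hh, inv_one, map_one]
    have hnorm : ∀ m : Γ, MulAut.conj f m = m →
        MulAut.conj f (MulAut.conj h⁻¹ m) = MulAut.conj h⁻¹ m := by
      intro m hm
      rw [MulAut.conj_apply] at hm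
      have hfm : f * m = m * f := by
        calc f * m = f * m * f⁻¹ * f := by group
          _ = m * f := by rw [hm]
      have hfkm : f ^ k * m = m * f ^ k := ((Commute.zpow_left (show Commute f m from hfm)) k).eq
      rw [MulAut.conj_apply, MulAut.conj_apply, inv_inv]
      -- `f (h⁻¹ m h) f⁻¹ = h⁻¹ (h f h⁻¹) m (h f h⁻¹)⁻¹ h`
      have h1 : f * (h⁻¹ * m * h) * f⁻¹ = h⁻¹ * ((h * f * h⁻¹) * m * (h * f * h⁻¹)⁻¹) * h := by
        group
      rw [h1, ← hk, hfkm]
      group
    have hKα : ∀ x ∈ K, MulAut.conj f x ∈ K := fun x hx => by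
      rw [MulAut.conj_apply]; exact Subgroup.Normal.conj_mem inferInstance x hx f
    have hKβ : ∀ x ∈ K, MulAut.conj h⁻¹ x ∈ K := fun x hx => by
      rw [MulAut.conj_apply]; exact Subgroup.Normal.conj_mem inferInstance x hx h⁻¹
    have hxα : g⁻¹ * MulAut.conj f g ∈ K := by
      rw [MulAut.conj_apply, ← QuotientGroup.eq_one_iff]
      show QuotientGroup.mk' K (g⁻¹ * (f * g * f⁻¹)) = 1
      rw [map_mul, map_mul, map_mul, ← hgf, map_inv, map_inv]
      group
    have hxβ : g⁻¹ * MulAut.conj h⁻¹ g ∈ K := by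
      rw [MulAut.conj_apply, inv_inv, ← QuotientGroup.eq_one_iff]
      show QuotientGroup.mk' K (g⁻¹ * (h⁻¹ * g * h)) = 1
      rw [map_mul, map_mul, map_mul, mul_assoc, hgh, map_inv, map_inv]
      group
    obtain ⟨y, hyK, hyf, hyh⟩ := exists_common_fixed_in_coset (MulAut.conj f) (MulAut.conj h⁻¹)
      1 1 hα hβ hnorm K hKα hKβ hrK hsK g hxα hxβ
    have hyG : y ∈ G := by
      have : y = g * (g⁻¹ * y) := by group
      rw [this]
      exact G.mul_mem hg (hK hyK)
    rw [MulAut.conj_apply] at hyf hyh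
    rw [inv_inv] at hyh
    have hy1 : y = 1 := by
      apply c.hfpf y hyG
      · calc y * f = (f * y * f⁻¹) * f := by rw [hyf]
          _ = f * y := by group
      · calc y * h = h * (h⁻¹ * y * h) := by group
          _ = h * y := by rw [hyh]
    rw [hy1, mul_one] at hyK
    have : g ∈ K := by
      have := K.inv_mem hyK
      rwa [inv_inv] at this
    exact (QuotientGroup.eq_one_iff g).mpr this

end Cfsg.Agent.Lib.Helper76.FrobRed
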