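/-
helper72 library: the p-part of |GL_p(q)| when p is odd, p ∣ q - 1, p² ∤ q - 1 is p^(p+1).
-/
import Mathlib

set_option autoImplicit false

namespace Cfsg.Agent.Lib.Helper72

open Finset

theorem glp_val_qpow_sub_one {p q : ℕ} [hp : Fact p.Prime] (hp2 : p ≠ 2) (hq : 2 ≤ q)
    (h1 : p ∣ q - 1) (h2 : ¬ p ^ 2 ∣ q - 1) (j : ℕ) (hj : j ≠ 0) :
    padicValNat p (q ^ j - 1) = 1 + padicValNat p j := by
  have hodd : Odd p := hp.out.odd_of_ne_two hp2
  have hpq : ¬ p ∣ q := by
    intro h
    have : p ∣ q - (q - 1) := Nat.dvd_sub h h1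
    have h3 : q - (q - 1) = 1 := by omega
    rw [h3] at this
    exact hp.out.one_lt.ne' (Nat.dvd_one.1 this)
  have h := padicValNat.pow_sub_pow (p := p) hodd (x := q) (y := 1) (by omega) h1 hpq hj
  rw [one_pow] at h
  rw [h]
  congr 1
  have hne : q - 1 ≠ 0 := by omega
  have a1 : 1 ≤ padicValNat p (q - 1) := by
    rw [← padicValNat_dvd_iff_le hne]; simpa using h1
  have a2 : ¬ 2 ≤ padicValNat p (q - 1) := by
    rw [← padicValNat_dvd_iff_le hne]; exact h2
  omega

theorem glp_val_card {p q : ℕ} [hp : Fact p.Prime] (hp2 : p ≠ 2) (hq : 2 ≤ q)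
    (h1 : p ∣ q - 1) (h2 : ¬ p ^ 2 ∣ q - 1) :
    (∏ i : Fin p, (q ^ p - q ^ (i : ℕ))).factorization p = p + 1 := by
  have hpp := hp.out
  have hpq : ¬ p ∣ q := by
    intro h
    have : p ∣ q - (q - 1) := Nat.dvd_sub h h1
    have h3 : q - (q - 1) = 1 := by omega
    rw [h3] at this
    exact hpp.one_lt.ne' (Nat.dvd_one.1 this)
  rw [Fin.prod_univ_eq_prod_range (fun i => q ^ p - q ^ i) p]
  have hne : ∀ i ∈ range p, q ^ p - q ^ i ≠ 0 := by
    intro i hi
    rw [mem_range] at hi
    have : q ^ i < q ^ p := Nat.pow_lt_pow_right (by omega) hi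
    omega
  rw [Nat.factorization_prod_apply hne]
  have hterm : ∀ i ∈ range p, (q ^ p - q ^ i).factorization p = if i = 0 then 2 else 1 := by
    intro i hi
    rw [mem_range] at hi
    have e1 : q ^ p - q ^ i = q ^ i * (q ^ (p - i) - 1) := by
      rw [Nat.mul_sub, mul_one, ← pow_add, Nat.add_sub_cancel' hi.le]
    have e2 : q ^ (p - i) - 1 ≠ 0 := by
      have : 1 < q ^ (p - i) := Nat.one_lt_pow (by omega) (by omega)
      omega
    rw [e1, Nat.factorization_mul (by positivity) e2, Finsupp.add_apply,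
      Nat.factorization_eq_zero_of_not_dvd (fun h => hpq (hpp.dvd_of_dvd_pow h)), zero_add,
      Nat.factorization_def _ hpp, glp_val_qpow_sub_one hp2 hq h1 h2 (p - i) (by omega)]
    split_ifs with h0
    · subst h0
      rw [Nat.sub_zero, padicValNat_self]
    · rw [padicValNat.eq_zero_of_not_dvd]
      intro hd
      have := Nat.le_of_dvd (by omega) hd
      omega
  rw [sum_congr rfl hterm, sum_ite, sum_const, sum_const, smul_eq_mul, smul_eq_mul]
  have c1 : ((range p).filter (fun i => i = 0)).card = 1 := by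
    have : (range p).filter (fun i => i = 0) = {0} := by
      ext i
      simp only [mem_filter, mem_range, mem_singleton]
      constructor
      · exact fun h => h.2
      · rintro rfl; exact ⟨hpp.pos, rfl⟩
    rw [this, card_singleton]
  have c2 : ((range p).filter (fun i => ¬ i = 0)).card = p - 1 := by
    have h := card_filter_add_card_filter_not (s := range p) (fun i => i = 0)
    rw [c1, card_range] at h
    omega
  rw [c1, c2]
  have := hpp.two_le
  omega

theorem glp_card_factorization {F : Type*} [Field F] [Fintype F] (p : ℕ) [Fact p.Prime]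
    (hp : p ≠ 2) (h1 : p ∣ Fintype.card F - 1) (h2 : ¬ p ^ 2 ∣ Fintype.card F - 1) :
    (Nat.card (Matrix.GeneralLinearGroup (Fin p) F)).factorization p = p + 1 := by
  rw [Matrix.card_GL_field]
  exact glp_val_card hp Fintype.one_lt_card h1 h2

end Cfsg.Agent.Lib.Helper72
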