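/-
helper72 library: cyclic monomial matrices `mono d i` (entry `d r` at position `(r, r + i)`),
the monomial p-subgroup `monoQ` of `GL_p(F)` and its cardinality.
-/
import Mathlib

set_option autoImplicit false
set_option linter.unusedSectionVars false

namespace Cfsg.Agent.Lib.Helper72

open Matrix Finset

section mono
variable {F : Type*} [Field F] {n : ℕ} [NeZero n]

/-- cyclic monomial matrix: entry `d r` at position `(r, r + i)` -/
def mono (d : Fin n → F) (i : Fin n) : Matrix (Fin n) (Fin n) F :=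
  Matrix.of fun r s => if s = r + i then d r else 0

omit [NeZero n] in
theorem mono_apply (d : Fin n → F) (i r s : Fin n) :
    mono d i r s = if s = r + i then d r else 0 := rfl

theorem mono_mul_apply (d : Fin n → F) (i : Fin n) (M : Matrix (Fin n) (Fin n) F) (a b : Fin n) :
    (mono d i * M) a b = d a * M (a + i) b := by
  rw [Matrix.mul_apply, Finset.sum_eq_single (a + i)]
  · rw [mono_apply, if_pos rfl]
  · intro k _ hk
    rw [mono_apply, if_neg hk, zero_mul]
  · intro h; exact absurd (Finset.mem_univ _) h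

theorem mul_mono_apply (M : Matrix (Fin n) (Fin n) F) (e : Fin n → F) (j : Fin n) (a b : Fin n) :
    (M * mono e j) a b = M a (b - j) * e (b - j) := by
  rw [Matrix.mul_apply, Finset.sum_eq_single (b - j)]
  · rw [mono_apply, if_pos (by abel)]
  · intro k _ hk
    rw [mono_apply, if_neg, mul_zero]
    intro h; apply hk; rw [h]; abel
  · intro h; exact absurd (Finset.mem_univ _) h

theorem mul_mono_zero_apply (M : Matrix (Fin n) (Fin n) F) (e : Fin n → F) (a b : Fin n) :
    (M * mono e 0) a b = M a b * e b := by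
  rw [mul_mono_apply, sub_zero]

theorem mono_mul_mono (d e : Fin n → F) (i j : Fin n) :
    mono d i * mono e j = mono (fun r => d r * e (r + i)) (i + j) := by
  ext a b
  rw [mono_mul_apply, mono_apply, mono_apply, add_assoc]
  split_ifs <;> simp

theorem mono_one_zero : mono (fun _ => (1 : F)) (0 : Fin n) = 1 := by
  ext a b
  rw [mono_apply, add_zero, Matrix.one_apply]
  by_cases h : a = b
  · subst h; simp
  · rw [if_neg h, if_neg (Ne.symm h)]

/-- the monomial matrix as an element of `GL` -/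
def monoGL (d : Fin n → Fˣ) (i : Fin n) : GL (Fin n) F where
  val := mono (fun r => (d r : F)) i
  inv := mono (fun r => (((d (r - i))⁻¹ : Fˣ) : F)) (-i)
  val_inv := by
    rw [mono_mul_mono, ← mono_one_zero]
    congr 1
    · funext r; simp
    · abel
  inv_val := by
    rw [mono_mul_mono, ← mono_one_zero]
    congr 1
    · funext r
      have : r + -i = r - i := by abel
      simp [this]
    · abel

theorem monoGL_val (d : Fin n → Fˣ) (i : Fin n) :
    ((monoGL d i : GL (Fin n) F) : Matrix (Fin n) (Fin n) F) = mono (fun r => (d r : F)) i := rfl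

theorem monoGL_mul (d e : Fin n → Fˣ) (i j : Fin n) :
    monoGL d i * monoGL e j = monoGL (fun r => d r * e (r + i)) (i + j) := by
  apply Units.ext
  rw [Units.val_mul, monoGL_val, monoGL_val, monoGL_val, mono_mul_mono]
  congr 1

theorem monoGL_one : monoGL (fun _ => (1 : Fˣ)) (0 : Fin n) = (1 : GL (Fin n) F) := by
  apply Units.ext
  rw [monoGL_val, Units.val_one]
  simpa using mono_one_zero (F := F) (n := n)

theorem monoGL_inv (d : Fin n → Fˣ) (i : Fin n) :
    (monoGL d i)⁻¹ = monoGL (fun r => (d (r - i))⁻¹) (-i) := by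
  apply inv_eq_of_mul_eq_one_right
  rw [monoGL_mul, ← monoGL_one]
  congr 1
  · funext r; simp
  · abel

theorem monoGL_inj {d e : Fin n → Fˣ} {i j : Fin n} (h : monoGL d i = monoGL e j) :
    i = j ∧ d = e := by
  have hv : mono (fun r => (d r : F)) i = mono (fun r => (e r : F)) j := by
    rw [← monoGL_val, ← monoGL_val, h]
  have hij : i = j := by
    have h0 := congrFun (congrFun hv 0) (0 + i)
    rw [mono_apply, mono_apply, if_pos rfl] at h0
    by_contra hne
    rw [if_neg] at h0
    · exact (d 0).ne_zero h0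
    · intro h'
      exact hne (add_left_cancel h')
  subst hij
  refine ⟨rfl, ?_⟩
  funext r
  have hr := congrFun (congrFun hv r) (r + i)
  rw [mono_apply, mono_apply, if_pos rfl, if_pos rfl] at hr
  exact Units.ext hr

end mono

section monoQ
variable {F : Type*} [Field F] (p : ℕ) [NeZero p]

/-- the subgroup of monomial matrices of cyclic type with entries `p`-th roots of unity -/
def monoQ : Subgroup (GL (Fin p) F) where
  carrier := {g | ∃ (d : Fin p → Fˣ) (i : Fin p), (∀ r, d r ^ p = 1) ∧ g = monoGL d i}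
  mul_mem' := by
    rintro _ _ ⟨d, i, hd, rfl⟩ ⟨e, j, he, rfl⟩
    refine ⟨_, _, ?_, monoGL_mul d e i j⟩
    intro r
    rw [mul_pow, hd, he, one_mul]
  one_mem' := ⟨fun _ => 1, 0, fun _ => one_pow _, monoGL_one.symm⟩
  inv_mem' := by
    rintro _ ⟨d, i, hd, rfl⟩
    refine ⟨_, _, ?_, monoGL_inv d i⟩
    intro r
    rw [inv_pow, hd, inv_one]

theorem mem_monoQ {g : GL (Fin p) F} :
    g ∈ monoQ (F := F) p ↔ ∃ (d : Fin p → Fˣ) (i : Fin p), (∀ r, d r ^ p = 1) ∧ g = monoGL d i :=
  Iff.rfl

theorem monoGL_mem_monoQ {d : Fin p → Fˣ} (i : Fin p) (hd : ∀ r, d r ^ p = 1) :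
    monoGL d i ∈ monoQ (F := F) p := ⟨d, i, hd, rfl⟩

theorem card_monoQ (hμ : Nat.card (rootsOfUnity p F) = p) :
    Nat.card (monoQ (F := F) p) = p ^ (p + 1) := by
  let ψ : (Fin p → rootsOfUnity p F) × Fin p → GL (Fin p) F :=
    fun x => monoGL (fun r => ((x.1 r : rootsOfUnity p F) : Fˣ)) x.2
  have hψ : Function.Injective ψ := by
    rintro ⟨d, i⟩ ⟨e, j⟩ h
    obtain ⟨h1, h2⟩ := monoGL_inj h
    simp only at h1 h2
    subst h1
    congr 1
    funext r
    exact Subtype.ext (congrFun h2 r)
  have hrange : Set.range ψ = (monoQ (F := F) p : Set (GL (Fin p) F)) := by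
    ext g
    constructor
    · rintro ⟨⟨d, i⟩, rfl⟩
      exact ⟨_, i, fun r => (mem_rootsOfUnity _ _).1 (d r).2, rfl⟩
    · rintro ⟨d, i, hd, rfl⟩
      exact ⟨(fun r => ⟨d r, (mem_rootsOfUnity _ _).2 (hd r)⟩, i), rfl⟩
  have h1 : Nat.card (monoQ (F := F) p) = Nat.card (Set.range ψ) := by
    rw [hrange]; rfl
  rw [h1, Nat.card_range_of_injective hψ, Nat.card_prod, Nat.card_fun, hμ, Nat.card_fin, pow_succ]

end monoQ

section framework
variable {G : Type*} [Group G] {p : ℕ} [Fact p.Prime]

open scoped Pointwise in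
theorem mem_smul_sylow_iff (Q : Sylow p G) (g a : G) : a ∈ g • Q ↔ g⁻¹ * a * g ∈ Q := by
  change a ∈ ((g • Q : Sylow p G) : Subgroup G) ↔ _
  rw [Sylow.coe_subgroup_smul, Subgroup.mem_pointwise_smul_iff_inv_smul_mem, MulAut.smul_def,
    MulAut.conj_inv_apply]
  rfl

/-- if `g⁻¹ x g ∈ Q` and `g` does not normalize `Q`, then `x` lies in another Sylow subgroup -/
theorem exists_sylow_ne_of_conj (Q : Sylow p G) (x g : G)
    (h1 : ∃ z ∈ Q, x * g = g * z) (h2 : ∃ y ∈ Q, ∀ z ∈ Q, g * y ≠ z * g) :
    ∃ P : Sylow p G, P ≠ Q ∧ x ∈ P := by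
  refine ⟨g • Q, ?_, ?_⟩
  · intro h
    obtain ⟨y, hy, hy'⟩ := h2
    have hmem : g * y * g⁻¹ ∈ g • Q := by
      rw [mem_smul_sylow_iff]
      have : g⁻¹ * (g * y * g⁻¹) * g = y := by group
      rw [this]; exact hy
    rw [h] at hmem
    exact hy' _ hmem (by group)
  · obtain ⟨z, hz, hxz⟩ := h1
    rw [mem_smul_sylow_iff]
    have : g⁻¹ * x * g = z := by rw [mul_assoc, hxz]; group
    rw [this]; exact hz

end framework

end Cfsg.Agent.Lib.Helper72
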