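/-
helper72 library: orbit products in `Fin p`, a cyclic Hilbert 90, powers of monomial matrices.
-/
import Mathlib
import Cfsg.Agent.Lib.Helper72.GLpB

set_option autoImplicit false
set_option linter.unusedSectionVars false

namespace Cfsg.Agent.Lib.Helper72

open Matrix Finset

section orbit
variable {p : ℕ} [hp : Fact p.Prime]

theorem fin_card_nsmul (i : Fin p) : p • i = 0 := by
  have := card_nsmul_eq_zero (G := Fin p) (x := i)
  rwa [Fintype.card_fin] at this

theorem fin_addOrderOf {i : Fin p} (hi : i ≠ 0) : addOrderOf i = p :=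
  addOrderOf_eq_prime (fin_card_nsmul i) hi

theorem fin_orbit_injOn {i : Fin p} (hi : i ≠ 0) (r : Fin p) :
    Set.InjOn (fun l : ℕ => r + l • i) (range p : Set ℕ) := by
  intro a ha b hb h
  have h' : a • i = b • i := add_left_cancel h
  have hinj := nsmul_injOn_Iio_addOrderOf (x := i)
  rw [fin_addOrderOf hi] at hinj
  apply hinj _ _ h'
  · simpa using ha
  · simpa using hb

theorem fin_orbit_image {i : Fin p} (hi : i ≠ 0) (r : Fin p) :
    (range p).image (fun l : ℕ => r + l • i) = univ := by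
  apply Finset.eq_univ_of_card
  rw [card_image_of_injOn (fin_orbit_injOn hi r), card_range, Fintype.card_fin]

theorem prod_orbit {M : Type*} [CommMonoid M] {i : Fin p} (hi : i ≠ 0) (d : Fin p → M) (r : Fin p) :
    ∏ l ∈ range p, d (r + l • i) = ∏ a, d a := by
  rw [← Finset.prod_image (f := d) (fin_orbit_injOn hi r), fin_orbit_image hi r]

theorem fin_exists_nsmul {i : Fin p} (hi : i ≠ 0) (a : Fin p) : ∃ l : ℕ, l • i = a := by
  have h : a ∈ (range p).image (fun l : ℕ => 0 + l • i) := by
    rw [fin_orbit_image hi 0]; exact mem_univ _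
  obtain ⟨l, _, hl⟩ := mem_image.1 h
  exact ⟨l, by simpa using hl⟩

theorem fin_add_self_ne {i : Fin p} (hp2 : p ≠ 2) (hi : i ≠ 0) : i + i ≠ 0 := by
  intro h
  have h2 : 2 • i = 0 := by rw [two_nsmul]; exact h
  have := addOrderOf_dvd_of_nsmul_eq_zero h2
  rw [fin_addOrderOf hi] at this
  exact hp2 ((Nat.prime_dvd_prime_iff_eq hp.out Nat.prime_two).1 this)

/-- cyclic Hilbert 90 on `Fin p` -/
theorem hilbert90_fin {M : Type*} [CommGroup M] {i : Fin p} (hi : i ≠ 0) (d : Fin p → M)
    (hd : ∏ a, d a = 1) : ∃ t : Fin p → M, ∀ a, d a * t (a + i) = t a := by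
  set s : ℕ → M := fun l => ∏ m ∈ range l, (d (m • i))⁻¹ with hs
  have hper : Function.Periodic s p := by
    intro l
    simp only [hs]
    rw [Finset.prod_range_add]
    have : ∏ x ∈ range p, (d ((l + x) • i))⁻¹ = 1 := by
      have h1 : ∀ x, (d ((l + x) • i))⁻¹ = (fun a => (d a)⁻¹) (l • i + x • i) := by
        intro x; simp only [add_nsmul]
      simp only [h1]
      rw [prod_orbit hi (fun a => (d a)⁻¹) (l • i), Finset.prod_inv_distrib, hd, inv_one]
    rw [this, mul_one]
  have hsucc : ∀ l, s (l + 1) = s l * (d (l • i))⁻¹ := by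
    intro l
    simp only [hs]
    rw [Finset.prod_range_succ]
  choose lg hlg using fin_exists_nsmul hi
  refine ⟨fun a => s (lg a), ?_⟩
  intro a
  have h1 : lg (a + i) • i = (lg a + 1) • i := by
    rw [hlg, succ_nsmul, hlg]
  have h2 : lg a + 1 ≡ lg (a + i) [MOD p] := by
    have := (nsmul_eq_nsmul_iff_modEq (x := i)).1 h1
    rw [fin_addOrderOf hi] at this
    exact this.symm
  have h3 : s (lg (a + i)) = s (lg a + 1) := by
    rw [← hper.map_mod_nat (lg (a + i)), ← hper.map_mod_nat (lg a + 1)]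
    congr 1
    exact h2.symm
  change d a * s (lg (a + i)) = s (lg a)
  rw [h3, hsucc, hlg]
  rw [mul_comm (s (lg a)), ← mul_assoc, mul_inv_cancel, one_mul]

end orbit

section power
variable {F : Type*} [Field F] {p : ℕ} [hp : Fact p.Prime]

theorem mono_pow (D : Fin p → F) (i : Fin p) (k : ℕ) :
    (mono D i) ^ k = mono (fun r => ∏ l ∈ range k, D (r + l • i)) (k • i) := by
  induction k with
  | zero =>
    rw [pow_zero, zero_nsmul]
    simp only [range_zero, prod_empty]
    exact mono_one_zero.symm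
  | succ k ih =>
    rw [pow_succ, ih, mono_mul_mono, succ_nsmul]
    congr 1
    funext r
    rw [Finset.prod_range_succ]

theorem mono_const_zero (c : F) : mono (fun _ : Fin p => c) 0 = c • (1 : Matrix (Fin p) (Fin p) F) := by
  ext a b
  rw [mono_apply, add_zero, Matrix.smul_apply, Matrix.one_apply, smul_eq_mul]
  by_cases h : a = b
  · subst h; simp
  · rw [if_neg h, if_neg (Ne.symm h), mul_zero]

theorem mono_pow_prime (D : Fin p → F) {i : Fin p} (hi : i ≠ 0) :
    (mono D i) ^ p = (∏ a, D a) • (1 : Matrix (Fin p) (Fin p) F) := by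
  rw [mono_pow, fin_card_nsmul, ← mono_const_zero]
  congr 1
  funext r
  exact prod_orbit hi D r

/-- `1 + X` is invertible if `X ^ p = c • 1` with `c ≠ -1`, `p` odd -/
theorem exists_unit_one_add {n : ℕ} (X : Matrix (Fin n) (Fin n) F) (c : F) (m : ℕ) (hm : Odd m)
    (hX : X ^ m = c • (1 : Matrix (Fin n) (Fin n) F)) (hc : 1 + c ≠ 0) :
    ∃ g : GL (Fin n) F, (g : Matrix (Fin n) (Fin n) F) = 1 + X := by
  have h1 := mul_geom_sum (-X) m
  rw [hm.neg_pow, hX] at h1
  -- (-X - 1) * S = -(c • 1) - 1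
  set S := ∑ k ∈ range m, (-X) ^ k with hS
  have h2 : (1 + X) * ((1 + c)⁻¹ • S) = 1 := by
    have h3 : (1 + X) * S = (1 + c) • (1 : Matrix (Fin n) (Fin n) F) := by
      have : (1 + X) * S = -((-X - 1) * S) := by
        rw [← neg_mul]; congr 1; abel
      rw [this, h1, add_smul, one_smul]; abel
    rw [Matrix.mul_smul, h3, smul_smul, inv_mul_cancel₀ hc, one_smul]
  exact ⟨⟨1 + X, (1 + c)⁻¹ • S, h2, mul_eq_one_comm.1 h2⟩, rfl⟩

end power

end Cfsg.Agent.Lib.Helper72
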