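/-
helper72 library: every element of the monomial Sylow p-subgroup of GL_p(F) lies in another
Sylow p-subgroup (case analysis).
-/
import Mathlib
import Cfsg.Agent.Lib.Helper72.GLpB
import Cfsg.Agent.Lib.Helper72.GLpC
import Cfsg.Agent.Lib.Helper72.GLpA

set_option autoImplicit false
set_option linter.unusedSectionVars false
set_option linter.unusedSimpArgs false

namespace Cfsg.Agent.Lib.Helper72

open Matrix Finset

section cases
variable {F : Type*} [Field F] {p : ℕ} [hp : Fact p.Prime]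

theorem exists_GL_of_det_ne_zero {n : ℕ} (A : Matrix (Fin n) (Fin n) F) (h : A.det ≠ 0) :
    ∃ g : GL (Fin n) F, (g : Matrix (Fin n) (Fin n) F) = A :=
  ⟨Matrix.GeneralLinearGroup.mkOfDetNeZero A h, rfl⟩

/-- criterion for `g` not normalizing `monoQ`, tested against a diagonal element -/
theorem not_normalize_of {g : GL (Fin p) F} (u : Fin p → Fˣ) (hu : ∀ r, u r ^ p = 1)
    (H : ∀ (j : Fin p) (z : Fin p → Fˣ),
      ¬ (∀ a b, (g : Matrix (Fin p) (Fin p) F) a b * (u b : F)
        = (z a : F) * (g : Matrix (Fin p) (Fin p) F) (a + j) b)) :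
    ∃ y ∈ monoQ (F := F) p, ∀ z ∈ monoQ (F := F) p, g * y ≠ z * g := by
  refine ⟨monoGL u 0, monoGL_mem_monoQ p 0 hu, ?_⟩
  rintro _ ⟨z, j, hz, rfl⟩ h
  apply H j z
  intro a b
  have := congrArg (fun m : GL (Fin p) F => (m : Matrix (Fin p) (Fin p) F) a b) h
  simp only [Units.val_mul, monoGL_val] at this
  rw [mul_mono_zero_apply, mono_mul_apply] at this
  exact this

theorem caseB1 (ζ : Fˣ) (hζp : ζ ^ p = 1) (hζ1 : ζ ≠ 1) (d : Fin p → Fˣ)
    (r s : Fin p) (hrs : r ≠ s) (hds : d r = d s) :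
    ∃ g : GL (Fin p) F, (monoGL d 0 * g = g * monoGL d 0) ∧
      (∃ y ∈ monoQ (F := F) p, ∀ z ∈ monoQ (F := F) p, g * y ≠ z * g) := by
  obtain ⟨g, hg⟩ := exists_GL_of_det_ne_zero (F := F) (transvection r s (1 : F))
    (by rw [det_transvection_of_ne _ _ hrs]; exact one_ne_zero)
  have hT : ∀ a b, (g : Matrix (Fin p) (Fin p) F) a b =
      (if a = b then 1 else 0) + (if r = a ∧ s = b then 1 else 0) := by
    intro a b
    rw [hg, transvection, Matrix.add_apply, Matrix.one_apply, Matrix.single_apply]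
  refine ⟨g, ?_, ?_⟩
  · apply Units.ext
    rw [Units.val_mul, Units.val_mul, monoGL_val]
    ext a b
    rw [mono_mul_apply, mul_mono_zero_apply, add_zero, hT]
    by_cases hab : a = b
    · subst hab; ring
    · rw [if_neg hab, zero_add]
      by_cases h2 : r = a ∧ s = b
      · rw [if_pos h2, ← h2.1, ← h2.2, hds]; ring
      · rw [if_neg h2]; ring
  · apply not_normalize_of (fun b => if b = r then ζ else 1)
    · intro b; split_ifs
      · exact hζp
      · exact one_pow _
    · intro j z H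
      have e1 := H r r
      have e2 := H r s
      have g_rr : (g : Matrix (Fin p) (Fin p) F) r r = 1 := by rw [hT]; simp [hrs.symm]
      have g_rs : (g : Matrix (Fin p) (Fin p) F) r s = 1 := by rw [hT]; simp [hrs]
      have g_jr : (g : Matrix (Fin p) (Fin p) F) (r + j) r = if r + j = r then 1 else 0 := by
        rw [hT]; simp [hrs.symm]
      rw [g_rr, g_jr, if_pos rfl, one_mul] at e1
      rw [g_rs, if_neg hrs.symm, one_mul] at e2
      by_cases hj : r + j = r
      · rw [hj, g_rs, mul_one] at e2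
        rw [if_pos hj, mul_one] at e1
        apply hζ1
        apply Units.ext
        rw [e1, ← e2]
      · rw [if_neg hj, mul_zero] at e1
        exact ζ.ne_zero e1

theorem caseB2 (hp3 : 2 < p) (ζ : Fˣ) (hζp : ζ ^ p = 1) (hζ1 : ζ ≠ 1) (d : Fin p → Fˣ)
    (hd : ∀ r, d r ^ p = 1) (hinj : Function.Injective d) :
    ∃ g : GL (Fin p) F, (∃ z ∈ monoQ (F := F) p, monoGL d 0 * g = g * z) ∧
      (∃ y ∈ monoQ (F := F) p, ∀ z ∈ monoQ (F := F) p, g * y ≠ z * g) := by
  set D : Fin p → F := fun r => (d r : F) with hD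
  have hDinj : Function.Injective D := fun a b h => hinj (Units.ext h)
  obtain ⟨g, hg⟩ := exists_GL_of_det_ne_zero (F := F) (vandermonde D)
    (det_vandermonde_ne_zero_iff.2 hDinj)
  have hV : ∀ a b, (g : Matrix (Fin p) (Fin p) F) a b = D a ^ (b : ℕ) := by
    intro a b; rw [hg, vandermonde_apply]
  have hDp : ∀ a, D a ^ p = 1 := by
    intro a
    simp only [hD]
    rw [← Units.val_pow_eq_pow_val, hd]; rfl
  have hp1 : 1 % p = 1 := Nat.one_mod_eq_one.2 (by omega)
  refine ⟨g, ⟨monoGL (fun _ => 1) (-1), monoGL_mem_monoQ p _ (fun _ => one_pow _), ?_⟩, ?_⟩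
  · apply Units.ext
    rw [Units.val_mul, Units.val_mul, monoGL_val, monoGL_val]
    ext a b
    rw [mono_mul_apply, mul_mono_apply, add_zero, hV, hV, Units.val_one, mul_one,
      sub_neg_eq_add, Fin.val_add, Fin.val_one', ← pow_eq_pow_mod _ (hDp a), hp1, pow_succ']
  · apply not_normalize_of (fun b => if (b : ℕ) = 0 then ζ else 1)
    · intro b; split_ifs
      · exact hζp
      · exact one_pow _
    · intro j z H
      have a : Fin p := 0
      have e0 := H a ⟨0, by omega⟩
      have e1 := H a ⟨1, by omega⟩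
      have e2 := H a ⟨2, hp3⟩
      rw [hV, hV] at e0 e1 e2
      simp only [pow_zero, pow_one, if_true, one_mul, mul_one, one_ne_zero, if_false,
        OfNat.ofNat_ne_zero, Units.val_one] at e0 e1 e2
      -- e0 : ζ = z a ; e1 : D a = z a * D (a + j) ; e2 : D a ^ 2 = z a * D (a + j) ^ 2
      have hne : (ζ : F) * D (a + j) ^ 2 ≠ 0 :=
        mul_ne_zero ζ.ne_zero (pow_ne_zero _ (d (a + j)).ne_zero)
      have h3 : (ζ : F) * ((ζ : F) * D (a + j) ^ 2) = 1 * ((ζ : F) * D (a + j) ^ 2) := by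
        calc (ζ : F) * ((ζ : F) * D (a + j) ^ 2) = ((ζ : F) * D (a + j)) ^ 2 := by ring
          _ = (D a) ^ 2 := by rw [e0, ← e1]
          _ = (ζ : F) * D (a + j) ^ 2 := by rw [e2, e0]
          _ = 1 * ((ζ : F) * D (a + j) ^ 2) := (one_mul _).symm
      have h4 := mul_right_cancel₀ hne h3
      exact hζ1 (Units.ext h4)

theorem caseA1 (hp2 : p ≠ 2) (ζ : Fˣ) (hζp : ζ ^ p = 1) (hζ1 : ζ ≠ 1) (d : Fin p → Fˣ)
    (hd : ∀ r, d r ^ p = 1) (i : Fin p) (hi : i ≠ 0) (hc : ∏ a, d a ≠ 1) :
    ∃ g : GL (Fin p) F, (monoGL d i * g = g * monoGL d i) ∧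
      (∃ y ∈ monoQ (F := F) p, ∀ z ∈ monoQ (F := F) p, g * y ≠ z * g) := by
  have hodd : Odd p := hp.out.odd_of_ne_two hp2
  set D : Fin p → F := fun r => (d r : F) with hD
  set c : F := ∏ a, D a with hcdef
  have hcu : ((∏ a, d a : Fˣ) : F) = c := by
    rw [Units.coe_prod]
  have hc1 : c ≠ 1 := by
    intro h
    apply hc
    apply Units.ext
    rw [hcu, h]; rfl
  have hcp : c ^ p = 1 := by
    rw [← hcu, ← Units.val_pow_eq_pow_val, ← Finset.prod_pow]
    simp only [hd, Finset.prod_const_one, Units.val_one]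
  have h1c : 1 + c ≠ 0 := by
    intro h
    have hcm : c = -1 := by
      have : c = -1 := by
        rw [eq_neg_iff_add_eq_zero, add_comm]; exact h
      exact this
    apply hc1
    have h2 : (-1 : F) ^ p = 1 := by rw [← hcm]; exact hcp
    rw [hodd.neg_one_pow] at h2
    rw [hcm, h2]
  obtain ⟨g, hg⟩ := exists_unit_one_add (mono D i) c p hodd (mono_pow_prime D hi) h1c
  have hG : ∀ a b, (g : Matrix (Fin p) (Fin p) F) a b =
      (if a = b then 1 else 0) + (if b = a + i then D a else 0) := by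
    intro a b
    rw [hg, Matrix.add_apply, Matrix.one_apply, mono_apply]
  have hi' : ¬ (0 : Fin p) = i := fun h => hi h.symm
  refine ⟨g, ?_, ?_⟩
  · apply Units.ext
    rw [Units.val_mul, Units.val_mul, monoGL_val, hg, mul_add, add_mul, mul_one, one_mul]
  · apply not_normalize_of (fun b => if b = 0 then ζ else 1)
    · intro b; split_ifs
      · exact hζp
      · exact one_pow _
    · intro j z H
      have e1 := H 0 0
      have e2 := H 0 i
      rw [hG, hG, zero_add, zero_add] at e1 e2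
      rw [if_pos rfl, if_neg hi', if_pos rfl, add_zero, one_mul] at e1
      rw [if_neg hi', if_pos rfl, if_neg hi, zero_add, Units.val_one, mul_one] at e2
      by_cases hj : j = 0
      · subst hj
        rw [if_pos rfl, zero_add, if_neg hi', add_zero, mul_one] at e1
        rw [if_neg hi', zero_add, zero_add, if_pos rfl] at e2
        have h3 : (z 0 : F) = 1 := by
          have h4 : (1 : F) * D 0 = (z 0 : F) * D 0 := by rw [one_mul]; exact e2
          exact (mul_right_cancel₀ (d 0).ne_zero h4).symm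
        apply hζ1
        apply Units.ext
        rw [e1, h3]; rfl
      · rw [if_neg hj, zero_add] at e1
        have hji : (0 : Fin p) = j + i := by
          by_contra hne
          rw [if_neg hne, mul_zero] at e1
          exact ζ.ne_zero e1
        have hji2 : ¬ (i = j + i) := by
          intro h
          apply hj
          have : 0 + i = j + i := by rw [zero_add]; exact h
          exact (add_right_cancel this).symm
        rw [if_neg hji2, add_zero] at e2
        have hji3 : j = i := by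
          by_contra hne
          rw [if_neg hne, mul_zero] at e2
          exact (d 0).ne_zero e2
        rw [hji3] at hji
        exact fin_add_self_ne hp2 hi hji.symm

theorem caseA2 (hp3 : 2 < p) (ζ : Fˣ) (hζ : IsPrimitiveRoot ζ p) (hζ1 : ζ ≠ 1) (d : Fin p → Fˣ)
    (i : Fin p) (hi : i ≠ 0) (hc : ∏ a, d a = 1) :
    ∃ g : GL (Fin p) F, (∃ z ∈ monoQ (F := F) p, monoGL d i * g = g * z) ∧
      (∃ y ∈ monoQ (F := F) p, ∀ z ∈ monoQ (F := F) p, g * y ≠ z * g) := by
  have hζp : ζ ^ p = 1 := hζ.pow_eq_one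
  obtain ⟨t, ht⟩ := hilbert90_fin hi d hc
  set w : F := (ζ : F) with hw
  have hwp : w ^ p = 1 := by
    rw [hw, ← Units.val_pow_eq_pow_val, hζp]; rfl
  have hw0 : w ≠ 0 := ζ.ne_zero
  set f : Fin p → F := fun b => w ^ (b : ℕ) with hf
  have hfinj : Function.Injective f := by
    intro a b h
    have h' : ζ ^ (a : ℕ) = ζ ^ (b : ℕ) := by
      apply Units.ext
      rw [Units.val_pow_eq_pow_val, Units.val_pow_eq_pow_val]
      exact h
    exact Fin.ext (hζ.pow_inj a.2 b.2 h')
  have hfp : ∀ b, f b ^ p = 1 := by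
    intro b
    simp only [hf]
    rw [← pow_mul, mul_comm, pow_mul, hwp, one_pow]
  have hdet : (diagonal (fun a => (t a : F)) * (vandermonde f)ᵀ).det ≠ 0 := by
    rw [det_mul, det_diagonal, det_transpose]
    refine mul_ne_zero ?_ (det_vandermonde_ne_zero_iff.2 hfinj)
    rw [Finset.prod_ne_zero_iff]
    intro a _
    exact (t a).ne_zero
  obtain ⟨g, hg⟩ := exists_GL_of_det_ne_zero (F := F) _ hdet
  have hG : ∀ a b, (g : Matrix (Fin p) (Fin p) F) a b = (t a : F) * f b ^ (a : ℕ) := by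
    intro a b
    rw [hg, diagonal_mul, transpose_apply, vandermonde_apply]
  refine ⟨g, ⟨monoGL (fun b => (ζ ^ (b : ℕ)) ^ (i : ℕ)) 0, monoGL_mem_monoQ p _ ?_, ?_⟩, ?_⟩
  · intro b
    calc ((ζ ^ (b : ℕ)) ^ (i : ℕ)) ^ p = (ζ ^ p) ^ ((b : ℕ) * (i : ℕ)) := by
          rw [← pow_mul, ← pow_mul, ← pow_mul]; congr 1; ring
      _ = 1 := by rw [hζp, one_pow]
  · apply Units.ext
    rw [Units.val_mul, Units.val_mul, monoGL_val, monoGL_val]
    ext a b
    rw [mono_mul_apply, mul_mono_zero_apply, hG, hG, Fin.val_add, ← pow_eq_pow_mod _ (hfp b),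
      pow_add]
    have h1 : (d a : F) * (t (a + i) : F) = (t a : F) := by
      rw [← Units.val_mul, ht]
    have h2 : (((ζ ^ (b : ℕ)) ^ (i : ℕ) : Fˣ) : F) = f b ^ (i : ℕ) := by
      simp only [hf, hw, Units.val_pow_eq_pow_val]
    rw [h2, ← h1]
    ring
  · apply not_normalize_of (fun b => if (b : ℕ) = 0 then ζ else 1)
    · intro b; split_ifs
      · exact hζp
      · exact one_pow _
    · intro j z H
      have a : Fin p := 0
      have e0 := H a ⟨0, by omega⟩
      have e1 := H a ⟨1, by omega⟩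
      have e2 := H a ⟨2, hp3⟩
      rw [hG, hG] at e0 e1 e2
      simp only [hf, pow_zero, pow_one, if_true, one_mul, mul_one, one_ne_zero, if_false,
        OfNat.ofNat_ne_zero, Units.val_one, one_pow] at e0 e1 e2
      set T : F := (t a : F) with hT
      set C : F := (z a : F) * (t (a + j) : F) with hC
      set A : F := w ^ (a : ℕ) with hA
      set B : F := w ^ ((a + j : Fin p) : ℕ) with hB
      have hT0 : T ≠ 0 := (t a).ne_zero
      have hB0 : B ≠ 0 := pow_ne_zero _ hw0
      have e0' : T * w = C := by rw [hC, ← mul_assoc] at *; linear_combination e0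
      have e1' : T * A = C * B := by rw [hC]; linear_combination e1
      have e2' : T * A ^ 2 = C * B ^ 2 := by
        rw [hC, hA, hB, ← pow_mul, ← pow_mul, mul_comm (a : ℕ) 2, mul_comm ((a + j : Fin p) : ℕ) 2,
          pow_mul, pow_mul]
        linear_combination e2
      have hAB : A = w * B := by
        have : T * A = T * (w * B) := by rw [e1', ← e0']; ring
        exact mul_left_cancel₀ hT0 this
      have h5 : (T * w * B ^ 2) * w = (T * w * B ^ 2) * 1 := by
        rw [mul_one]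
        calc (T * w * B ^ 2) * w = T * (w * B) ^ 2 := by ring
          _ = T * A ^ 2 := by rw [hAB]
          _ = C * B ^ 2 := e2'
          _ = T * w * B ^ 2 := by rw [← e0']
      have hne : T * w * B ^ 2 ≠ 0 := mul_ne_zero (mul_ne_zero hT0 hw0) (pow_ne_zero _ hB0)
      have h6 := mul_left_cancel₀ hne h5
      exact hζ1 (Units.ext h6)

end cases

section main

theorem glp_redundant_sylow {F : Type*} [Field F] [Fintype F] (p : ℕ) [hpf : Fact p.Prime]
    (hp : p ≠ 2) (h1 : p ∣ Fintype.card F - 1) (h2 : ¬ p ^ 2 ∣ Fintype.card F - 1) :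
    ∃ Q : Sylow p (Matrix.GeneralLinearGroup (Fin p) F),
      ∀ x : Matrix.GeneralLinearGroup (Fin p) F,
      (∃ k : ℕ, orderOf x = p ^ k) →
        ∃ P : Sylow p (Matrix.GeneralLinearGroup (Fin p) F), P ≠ Q ∧ x ∈ P := by
  have hp3 : 2 < p := by
    have := hpf.out.two_le
    omega
  have hcard : p ∣ Nat.card Fˣ := by
    rw [Nat.card_units, Nat.card_eq_fintype_card]; exact h1
  obtain ⟨ζ, hζo⟩ := exists_prime_orderOf_dvd_card' p hcard
  have hζ : IsPrimitiveRoot ζ p := hζo ▸ IsPrimitiveRoot.orderOf ζ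
  have hζ1 : ζ ≠ 1 := by
    rintro rfl
    rw [orderOf_one] at hζo
    exact hpf.out.ne_one hζo.symm
  have hζp : ζ ^ p = 1 := hζ.pow_eq_one
  have hμ : Nat.card (rootsOfUnity p F) = p :=
    ((IsPrimitiveRoot.coe_units_iff).2 hζ).card_rootsOfUnity
  have hQcard : Nat.card (monoQ (F := F) p) =
      p ^ (Nat.card (Matrix.GeneralLinearGroup (Fin p) F)).factorization p := by
    rw [card_monoQ p hμ, glp_card_factorization p hp h1 h2]
  let Q : Sylow p (Matrix.GeneralLinearGroup (Fin p) F) := Sylow.ofCard (monoQ (F := F) p) hQcard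
  have hQmem : ∀ z, z ∈ Q ↔ z ∈ monoQ (F := F) p := fun z => Iff.rfl
  refine ⟨Q, fun x hx => ?_⟩
  obtain ⟨k, hk⟩ := hx
  have hxp : IsPGroup p (Subgroup.zpowers x) :=
    IsPGroup.of_card (n := k) (by rw [Nat.card_zpowers, hk])
  obtain ⟨P, hP⟩ := hxp.exists_le_sylow
  by_cases hPQ : P = Q
  · have hxQ : x ∈ monoQ (F := F) p := by
      have := hP (Subgroup.mem_zpowers x)
      rw [hPQ] at this
      exact (hQmem x).1 this
    obtain ⟨d, i, hd, rfl⟩ := hxQ
    have key : ∃ g : GL (Fin p) F, (∃ z ∈ monoQ (F := F) p, monoGL d i * g = g * z) ∧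
        (∃ y ∈ monoQ (F := F) p, ∀ z ∈ monoQ (F := F) p, g * y ≠ z * g) := by
      by_cases hi : i = 0
      · subst hi
        by_cases hinj : Function.Injective d
        · exact caseB2 hp3 ζ hζp hζ1 d hd hinj
        · obtain ⟨r, s, hds, hrs⟩ := Function.not_injective_iff.1 hinj
          obtain ⟨g, hg1, hg2⟩ := caseB1 ζ hζp hζ1 d r s hrs hds
          exact ⟨g, ⟨monoGL d 0, monoGL_mem_monoQ p 0 hd, hg1⟩, hg2⟩
      · by_cases hc : ∏ a, d a = 1
        · exact caseA2 hp3 ζ hζ hζ1 d i hi hc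
        · obtain ⟨g, hg1, hg2⟩ := caseA1 hp ζ hζp hζ1 d hd i hi hc
          exact ⟨g, ⟨monoGL d i, monoGL_mem_monoQ p i hd, hg1⟩, hg2⟩
    obtain ⟨g, ⟨z, hz, hgz⟩, ⟨y, hy, hgy⟩⟩ := key
    exact exists_sylow_ne_of_conj Q _ g ⟨z, (hQmem z).2 hz, hgz⟩
      ⟨y, (hQmem y).2 hy, fun z hz => hgy z ((hQmem z).1 hz)⟩
  · exact ⟨P, hPQ, hP (Subgroup.mem_zpowers x)⟩

end main

end Cfsg.Agent.Lib.Helper72
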