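import Mathlib

/-!
# Krull–Remak–Schmidt for finite groups (helper72)

Normal endomorphisms, Fitting's lemma (dichotomy form) and the exchange argument, for
finite products of finite directly indecomposable groups.
-/

set_option autoImplicit false
set_option linter.unusedSectionVars false

namespace Cfsg.Agent.Lib.Helper72

universe u v

/-- In a finite monoid some positive power of any element is idempotent. -/
theorem krs_exists_pow_idem {M : Type*} [Monoid M] [Finite M] (x : M) :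
    ∃ n : ℕ, 0 < n ∧ x ^ n * x ^ n = x ^ n := by
  obtain ⟨i, j, hij, h⟩ : ∃ i j : ℕ, i < j ∧ x ^ i = x ^ j := by
    obtain ⟨a, b, hab, h⟩ := Finite.exists_ne_map_eq_of_infinite (fun k : ℕ => x ^ k)
    rcases lt_or_gt_of_ne hab with h1 | h1
    · exact ⟨a, b, h1, h⟩
    · exact ⟨b, a, h1, h.symm⟩
  obtain ⟨d, rfl⟩ := Nat.exists_eq_add_of_lt hij
  -- j = i + d + 1
  have hstep : ∀ k, i ≤ k → x ^ (k + (d + 1)) = x ^ k := by
    intro k hk
    obtain ⟨t, rfl⟩ := Nat.exists_eq_add_of_le hk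
    calc x ^ (i + t + (d + 1)) = x ^ (i + d + 1) * x ^ t := by rw [← pow_add]; congr 1; omega
      _ = x ^ i * x ^ t := by rw [← h]
      _ = x ^ (i + t) := by rw [← pow_add]
  have hmul : ∀ c k, i ≤ k → x ^ (k + c * (d + 1)) = x ^ k := by
    intro c
    induction c with
    | zero => intro k _; simp
    | succ c ih =>
      intro k hk
      have : k + (c + 1) * (d + 1) = (k + c * (d + 1)) + (d + 1) := by ring
      rw [this, hstep _ (by omega), ih k hk]
  refine ⟨(i + 1) * (d + 1), by positivity, ?_⟩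
  rw [← pow_add]
  exact hmul (i + 1) ((i + 1) * (d + 1)) (by nlinarith)

/-- A normal endomorphism: one commuting with all inner automorphisms. -/
def KrsNormalEnd {H : Type*} [Group H] (φ : H →* H) : Prop :=
  ∀ h x : H, φ (h * x * h⁻¹) = h * φ x * h⁻¹

/-- Direct indecomposability, in the form used by the statements. -/
def KrsIndec (H : Type*) [Group H] : Prop :=
  ∀ P Q : Subgroup H, P.Normal → Q.Normal → P ⊓ Q = ⊥ → P ⊔ Q = ⊤ → P = ⊥ ∨ Q = ⊥

theorem KrsNormalEnd.iterate {H : Type*} [Group H] {φ : H →* H} (hφ : KrsNormalEnd φ) (n : ℕ) :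
    ∀ h x : H, (⇑φ)^[n] (h * x * h⁻¹) = h * (⇑φ)^[n] x * h⁻¹ := by
  induction n with
  | zero => intro h x; rfl
  | succ n ih =>
    intro h x
    rw [Function.iterate_succ_apply', Function.iterate_succ_apply', ih, hφ]

/-- **Fitting's lemma**, dichotomy form: a normal endomorphism of a finite directly
indecomposable group is bijective or nilpotent. -/
theorem krs_fitting {H : Type*} [Group H] [Finite H] (hind : KrsIndec H)
    (φ : H →* H) (hφ : KrsNormalEnd φ) :
    Function.Bijective φ ∨ ∃ n : ℕ, ∀ x, (⇑φ)^[n] x = 1 := by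
  have : Finite (Monoid.End H) :=
    Finite.of_injective (fun f : Monoid.End H => (f : H → H)) DFunLike.coe_injective
  obtain ⟨n, hn0, hn⟩ := krs_exists_pow_idem (show Monoid.End H from φ)
  let ε : H →* H := (show Monoid.End H from φ) ^ n
  have hεn : ∀ x, ε x = (⇑φ)^[n] x := fun x => by
    show ((show Monoid.End H from φ) ^ n) x = _
    rw [Monoid.End.coe_pow]; rfl
  have hεε : ∀ x, ε (ε x) = ε x := fun x => by
    have h1 := DFunLike.congr_fun hn x
    rw [Monoid.End.coe_mul] at h1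
    exact h1
  have hεnorm : ∀ h x, ε (h * x * h⁻¹) = h * ε x * h⁻¹ := fun h x => by
    rw [hεn, hεn, hφ.iterate]
  have hQn : (ε.range).Normal := by
    refine ⟨?_⟩
    rintro _ ⟨x, rfl⟩ g
    exact ⟨g * x * g⁻¹, hεnorm g x⟩
  have hPQ : ε.ker ⊓ ε.range = ⊥ := by
    rw [eq_bot_iff]
    rintro y ⟨hy1, ⟨x, rfl⟩⟩
    have h1 : ε (ε x) = 1 := hy1
    rw [hεε] at h1
    simpa using h1
  have hsup : ε.ker ⊔ ε.range = ⊤ := by
    rw [eq_top_iff]
    intro g _
    have h1 : g * (ε g)⁻¹ ∈ ε.ker := by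
      rw [MonoidHom.mem_ker, map_mul, map_inv, hεε, mul_inv_cancel]
    have h2 : ε g ∈ ε.range := ⟨g, rfl⟩
    have := Subgroup.mul_mem_sup h1 h2
    simpa using this
  rcases hind _ _ (MonoidHom.normal_ker ε) hQn hPQ hsup with h | h
  · left
    have hinj : Function.Injective ε := (MonoidHom.ker_eq_bot_iff ε).mp h
    have hinj' : Function.Injective ((⇑φ)^[n]) := by
      intro a b hab
      apply hinj
      rw [hεn, hεn, hab]
    have hinjφ : Function.Injective φ := by
      obtain ⟨m, rfl⟩ := Nat.exists_eq_succ_of_ne_zero hn0.ne'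
      rw [Function.iterate_succ] at hinj'
      exact Function.Injective.of_comp hinj'
    exact Finite.injective_iff_bijective.mp hinjφ
  · right
    refine ⟨n, fun x => ?_⟩
    rw [← hεn]
    have : ε x ∈ ε.range := ⟨x, rfl⟩
    rw [h] at this
    simpa using this

/-- If `φ + ψ = id` for endomorphisms of a finite indecomposable group with `ψ` normal, then one
of them is bijective. -/
theorem krs_sum_lemma {H : Type*} [Group H] [Finite H] (hind : KrsIndec H)
    (φ ψ : H →* H) (hψ : KrsNormalEnd ψ) (hsum : ∀ x, φ x * ψ x = x) :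
    Function.Bijective φ ∨ Function.Bijective ψ := by
  by_cases hinj : Function.Injective φ
  · exact Or.inl (Finite.injective_iff_bijective.mp hinj)
  · right
    rw [injective_iff_map_eq_one] at hinj
    push Not at hinj
    obtain ⟨x, hx1, hx⟩ := hinj
    have hfix : ψ x = x := by
      have := hsum x
      rwa [hx1, one_mul] at this
    rcases krs_fitting hind ψ hψ with h | ⟨n, hn⟩
    · exact h
    · exfalso
      apply hx
      rw [← hn x]
      exact (Function.iterate_fixed hfix n).symm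


section Mask

variable {κ : Type*} [DecidableEq κ] (B : κ → Type*) [∀ j, Group (B j)]

/-- Projection of a product of groups onto the coordinates in `S` (others set to `1`). -/
def krsMask (S : Finset κ) : (∀ j, B j) →* (∀ j, B j) where
  toFun f j := if j ∈ S then f j else 1
  map_one' := by funext j; simp
  map_mul' f g := by funext j; by_cases h : j ∈ S <;> simp [h]

theorem krsMask_apply (S : Finset κ) (f : ∀ j, B j) (j : κ) :
    krsMask B S f j = if j ∈ S then f j else 1 := rfl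

theorem krsMask_conj (S : Finset κ) (g y : ∀ j, B j) :
    krsMask B S (g * y * g⁻¹) = g * krsMask B S y * g⁻¹ := by
  funext j
  by_cases h : j ∈ S <;> simp [krsMask_apply, h]

theorem krsMask_insert {S : Finset κ} {j : κ} (hj : j ∉ S) (f : ∀ j, B j) :
    krsMask B (insert j S) f = krsMask B {j} f * krsMask B S f := by
  funext k
  by_cases hk : k = j
  · subst hk; simp [krsMask_apply, hj]
  · by_cases hkS : k ∈ S <;> simp [krsMask_apply, hk, hkS]

theorem krsMask_empty (f : ∀ j, B j) : krsMask B ∅ f = 1 := by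
  funext k; simp [krsMask_apply]

theorem krsMask_univ [Fintype κ] (f : ∀ j, B j) : krsMask B Finset.univ f = f := by
  funext k; simp [krsMask_apply]

theorem krsMask_singleton (j : κ) (f : ∀ j, B j) : krsMask B {j} f = Pi.mulSingle j (f j) := by
  funext k
  by_cases hk : k = j
  · subst hk; simp [krsMask_apply]
  · simp [krsMask_apply, hk]

end Mask

section Exchange

variable {ι : Type*} {κ : Type*} [DecidableEq ι] [DecidableEq κ]
  {A : ι → Type u} {B : κ → Type v} [∀ i, Group (A i)] [∀ j, Group (B j)]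

/-- The endomorphism `π_{i₀} ∘ mask_S ∘ ι_{i₀}` of the factor `A i₀`. -/
def krsTheta (e : (∀ i, A i) ≃* (∀ j, B j)) (i₀ : ι) (S : Finset κ) : A i₀ →* A i₀ :=
  ((Pi.evalMonoidHom A i₀).comp e.symm.toMonoidHom).comp
    ((krsMask B S).comp (e.toMonoidHom.comp (MonoidHom.mulSingle A i₀)))

theorem krsTheta_apply (e : (∀ i, A i) ≃* (∀ j, B j)) (i₀ : ι) (S : Finset κ) (x : A i₀) :
    krsTheta e i₀ S x = (e.symm (krsMask B S (e (Pi.mulSingle i₀ x)))) i₀ := rfl

theorem krsTheta_normal (e : (∀ i, A i) ≃* (∀ j, B j)) (i₀ : ι) (S : Finset κ) :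
    KrsNormalEnd (krsTheta e i₀ S) := by
  intro h x
  simp only [krsTheta_apply]
  have h1 : (Pi.mulSingle i₀ (h * x * h⁻¹) : ∀ i, A i) =
      Pi.mulSingle i₀ h * Pi.mulSingle i₀ x * (Pi.mulSingle i₀ h)⁻¹ := by
    rw [← Pi.mulSingle_inv, ← Pi.mulSingle_mul, ← Pi.mulSingle_mul]
  have h2 : e (Pi.mulSingle i₀ h * Pi.mulSingle i₀ x * (Pi.mulSingle i₀ h)⁻¹) =
      e (Pi.mulSingle i₀ h) * e (Pi.mulSingle i₀ x) * (e (Pi.mulSingle i₀ h))⁻¹ := by
    rw [map_mul, map_mul, map_inv]
  have h3 : ∀ g y : ∀ j, B j, e.symm (g * y * g⁻¹) = e.symm g * e.symm y * (e.symm g)⁻¹ := by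
    intro g y; rw [map_mul, map_mul, map_inv]
  rw [h1, h2, krsMask_conj, h3]
  simp

theorem krsTheta_insert (e : (∀ i, A i) ≃* (∀ j, B j)) (i₀ : ι) {S : Finset κ} {j : κ}
    (hj : j ∉ S) (x : A i₀) :
    krsTheta e i₀ (insert j S) x = krsTheta e i₀ {j} x * krsTheta e i₀ S x := by
  simp only [krsTheta_apply, krsMask_insert B hj, map_mul, Pi.mul_apply]

theorem krsTheta_empty (e : (∀ i, A i) ≃* (∀ j, B j)) (i₀ : ι) (x : A i₀) :
    krsTheta e i₀ ∅ x = 1 := by
  simp [krsTheta_apply, krsMask_empty]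

theorem krsTheta_univ [Fintype κ] (e : (∀ i, A i) ≃* (∀ j, B j)) (i₀ : ι) (x : A i₀) :
    krsTheta e i₀ Finset.univ x = x := by
  simp [krsTheta_apply, krsMask_univ]

/-- Exchange: some single-coordinate `θ_j` is bijective. -/
theorem krs_exists_bijective_theta [Fintype κ] (e : (∀ i, A i) ≃* (∀ j, B j)) (i₀ : ι)
    [Finite (A i₀)] [Nontrivial (A i₀)] (hind : KrsIndec (A i₀)) :
    ∃ j, Function.Bijective (krsTheta e i₀ {j}) := by
  have key : ∀ S : Finset κ, Function.Bijective (krsTheta e i₀ S) →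
      ∃ j ∈ S, Function.Bijective (krsTheta e i₀ {j}) := by
    intro S
    induction S using Finset.induction_on with
    | empty =>
      intro hb
      exfalso
      obtain ⟨a, b, hab⟩ := exists_pair_ne (A i₀)
      apply hab
      apply hb.1
      rw [krsTheta_empty, krsTheta_empty]
    | insert j S hj ih =>
      intro hb
      let ψe : A i₀ ≃* A i₀ := MulEquiv.ofBijective (krsTheta e i₀ (insert j S)) hb
      have hψe : ∀ x, ψe x = krsTheta e i₀ (insert j S) x := fun _ => rfl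
      let φ₁ : A i₀ →* A i₀ := ψe.symm.toMonoidHom.comp (krsTheta e i₀ {j})
      let φ₂ : A i₀ →* A i₀ := ψe.symm.toMonoidHom.comp (krsTheta e i₀ S)
      have hφ₁ : ∀ x, φ₁ x = ψe.symm (krsTheta e i₀ {j} x) := fun _ => rfl
      have hφ₂a : ∀ x, φ₂ x = ψe.symm (krsTheta e i₀ S x) := fun _ => rfl
      have hsum : ∀ x, φ₁ x * φ₂ x = x := by
        intro x
        rw [hφ₁, hφ₂a, ← map_mul, ← krsTheta_insert e i₀ hj, ← hψe]
        exact ψe.symm_apply_apply x
      have hψsymm : ∀ h w, ψe.symm (h * w * h⁻¹) = h * ψe.symm w * h⁻¹ := by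
        intro h w
        apply ψe.injective
        rw [ψe.apply_symm_apply, hψe, krsTheta_normal e i₀ (insert j S), ← hψe,
          ψe.apply_symm_apply]
      have hφ₂ : KrsNormalEnd φ₂ := by
        intro h x
        rw [hφ₂a, hφ₂a, krsTheta_normal e i₀ S, hψsymm]
      rcases krs_sum_lemma hind φ₁ φ₂ hφ₂ hsum with h1 | h2
      · refine ⟨j, Finset.mem_insert_self j S, ?_⟩
        have : ⇑(krsTheta e i₀ {j}) = ⇑ψe ∘ ⇑φ₁ := by
          funext x
          rw [Function.comp_apply, hφ₁, ψe.apply_symm_apply]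
        rw [this]
        exact ψe.bijective.comp h1
      · have : ⇑(krsTheta e i₀ S) = ⇑ψe ∘ ⇑φ₂ := by
          funext x
          rw [Function.comp_apply, hφ₂a, ψe.apply_symm_apply]
        have hbS : Function.Bijective (krsTheta e i₀ S) := by
          rw [this]; exact ψe.bijective.comp h2
        obtain ⟨j', hj', hb'⟩ := ih hbS
        exact ⟨j', Finset.mem_insert_of_mem hj', hb'⟩
  have huniv : Function.Bijective (krsTheta e i₀ Finset.univ) := by
    have : ⇑(krsTheta e i₀ Finset.univ) = id := funext (krsTheta_univ e i₀)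
    rw [this]; exact Function.bijective_id
  obtain ⟨j, _, hj⟩ := key Finset.univ huniv
  exact ⟨j, hj⟩


/-- The component map `A i₀ → B j₀` induced by `e`. -/
def krsAlpha (e : (∀ i, A i) ≃* (∀ j, B j)) (i₀ : ι) (j₀ : κ) : A i₀ →* B j₀ :=
  (Pi.evalMonoidHom B j₀).comp (e.toMonoidHom.comp (MonoidHom.mulSingle A i₀))

theorem krsAlpha_apply (e : (∀ i, A i) ≃* (∀ j, B j)) (i₀ : ι) (j₀ : κ) (x : A i₀) :
    krsAlpha e i₀ j₀ x = (e (Pi.mulSingle i₀ x)) j₀ := rfl

theorem krsTheta_singleton (e : (∀ i, A i) ≃* (∀ j, B j)) (i₀ : ι) (j₀ : κ) (x : A i₀) :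
    krsTheta e i₀ {j₀} x = krsAlpha e.symm j₀ i₀ (krsAlpha e i₀ j₀ x) := by
  rw [krsTheta_apply, krsMask_singleton, krsAlpha_apply, krsAlpha_apply]

theorem krs_iterate_comp {X Y : Type*} (α : X → Y) (β : Y → X) :
    ∀ (n : ℕ) (x : X), (β ∘ α)^[n + 1] x = β ((α ∘ β)^[n] (α x)) := by
  intro n
  induction n with
  | zero => intro x; rfl
  | succ n ih =>
    intro x
    rw [Function.iterate_succ_apply, ih, Function.iterate_succ_apply]
    rfl

/-- If `θ_{j₀}` is bijective then the component map `A i₀ → B j₀` is an isomorphism. -/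
theorem krsAlpha_bijective (e : (∀ i, A i) ≃* (∀ j, B j)) (i₀ : ι) (j₀ : κ)
    [Nontrivial (A i₀)] [Finite (B j₀)] (hind : KrsIndec (B j₀))
    (hθ : Function.Bijective (krsTheta e i₀ {j₀})) :
    Function.Bijective (krsAlpha e i₀ j₀) := by
  have hβα : ⇑(krsTheta e i₀ {j₀}) = ⇑(krsAlpha e.symm j₀ i₀) ∘ ⇑(krsAlpha e i₀ j₀) :=
    funext (krsTheta_singleton e i₀ j₀)
  have hαβ : ⇑(krsTheta e.symm j₀ {i₀}) = ⇑(krsAlpha e i₀ j₀) ∘ ⇑(krsAlpha e.symm j₀ i₀) :=
    funext (krsTheta_singleton e.symm j₀ i₀)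
  have hinj : Function.Injective (krsAlpha e i₀ j₀) := by
    have := hθ.1
    rw [hβα] at this
    exact Function.Injective.of_comp this
  refine ⟨hinj, ?_⟩
  rcases krs_fitting hind (krsTheta e.symm j₀ {i₀}) (krsTheta_normal e.symm j₀ {i₀}) with h | ⟨n, hn⟩
  · have := h.2
    rw [hαβ] at this
    exact Function.Surjective.of_comp this
  · exfalso
    obtain ⟨a, b, hab⟩ := exists_pair_ne (A i₀)
    apply hab
    have hit : Function.Injective ((⇑(krsTheta e i₀ {j₀}))^[n + 1]) := hθ.1.iterate (n + 1)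
    apply hit
    rw [hβα, krs_iterate_comp, krs_iterate_comp, ← hαβ, hn, hn]

/-- Extension by `1` at the coordinate `i₀`. -/
def krsExt (i₀ : ι) : (∀ i : {i // i ≠ i₀}, A i) →* (∀ i, A i) where
  toFun x i := if h : i = i₀ then 1 else x ⟨i, h⟩
  map_one' := by funext i; by_cases h : i = i₀ <;> simp [h]
  map_mul' x y := by funext i; by_cases h : i = i₀ <;> simp [h]

theorem krsExt_apply_self (i₀ : ι) (x : ∀ i : {i // i ≠ i₀}, A i) : krsExt i₀ x i₀ = 1 := by
  show (if h : i₀ = i₀ then (1 : A i₀) else x ⟨i₀, h⟩) = 1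
  simp

theorem krsExt_apply_ne (i₀ : ι) (x : ∀ i : {i // i ≠ i₀}, A i) (i : {i // i ≠ i₀}) :
    krsExt i₀ x i.1 = x i := by
  show (if h : i.1 = i₀ then (1 : A i.1) else x ⟨i.1, h⟩) = x i
  simp [i.2]

/-- Restriction to the coordinates other than `j₀`. -/
def krsRes (j₀ : κ) : (∀ j, B j) →* (∀ j : {j // j ≠ j₀}, B j) where
  toFun f j := f j.1
  map_one' := rfl
  map_mul' _ _ := rfl

/-- The induced map between the complementary products. -/
def krsCompl (e : (∀ i, A i) ≃* (∀ j, B j)) (i₀ : ι) (j₀ : κ) :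
    (∀ i : {i // i ≠ i₀}, A i) →* (∀ j : {j // j ≠ j₀}, B j) :=
  (krsRes j₀).comp (e.toMonoidHom.comp (krsExt i₀))

theorem krsCompl_apply (e : (∀ i, A i) ≃* (∀ j, B j)) (i₀ : ι) (j₀ : κ)
    (x : ∀ i : {i // i ≠ i₀}, A i) (j : {j // j ≠ j₀}) :
    krsCompl e i₀ j₀ x j = (e (krsExt i₀ x)) j.1 := rfl

theorem krsCompl_injective (e : (∀ i, A i) ≃* (∀ j, B j)) (i₀ : ι) (j₀ : κ)
    (hθ : Function.Bijective (krsTheta e i₀ {j₀}))
    (hα : Function.Bijective (krsAlpha e i₀ j₀)) :
    Function.Injective (krsCompl e i₀ j₀) := by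
  rw [injective_iff_map_eq_one]
  intro x hx
  have hg : ∀ j, j ≠ j₀ → (e (krsExt i₀ x)) j = 1 := by
    intro j hj
    have := congrFun hx ⟨j, hj⟩
    rwa [krsCompl_apply] at this
  have hg2 : e (krsExt i₀ x) = Pi.mulSingle j₀ ((e (krsExt i₀ x)) j₀) := by
    funext j
    by_cases hj : j = j₀
    · subst hj; simp
    · rw [hg j hj, Pi.mulSingle_eq_of_ne hj]
  have h1 : (e.symm (e (krsExt i₀ x))) i₀ = 1 := by
    rw [e.symm_apply_apply, krsExt_apply_self]
  rw [hg2] at h1
  obtain ⟨h, hh⟩ := hα.2 ((e (krsExt i₀ x)) j₀)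
  rw [← hh] at h1
  have h2 : krsTheta e i₀ {j₀} h = 1 := by
    rw [krsTheta_singleton, krsAlpha_apply e.symm]
    exact h1
  have h3 : h = 1 := by
    apply hθ.1
    rw [h2, map_one]
  rw [h3, map_one] at hh
  rw [← hh, Pi.mulSingle_one] at hg2
  have h4 : krsExt i₀ x = 1 := (MulEquiv.map_eq_one_iff e).mp hg2
  funext i
  rw [← krsExt_apply_ne i₀ x i, h4]
  rfl


theorem krs_card_pi_split {ι : Type*} [Fintype ι] [DecidableEq ι] (A : ι → Type u) (i₀ : ι) :
    Nat.card (∀ i, A i) = Nat.card (A i₀) * Nat.card (∀ i : {i // i ≠ i₀}, A i) := by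
  rw [Nat.card_congr (Equiv.piSplitAt i₀ A), Nat.card_prod]

/-- The exchange step of Krull–Remak–Schmidt. -/
theorem krs_exchange [Fintype ι] [Fintype κ] (e : (∀ i, A i) ≃* (∀ j, B j)) (i₀ : ι)
    [∀ i, Finite (A i)] [∀ j, Finite (B j)] [Nontrivial (A i₀)]
    (hindA : KrsIndec (A i₀)) (hindB : ∀ j, KrsIndec (B j)) :
    ∃ j₀ : κ, Nonempty (A i₀ ≃* B j₀) ∧
      Nonempty ((∀ i : {i // i ≠ i₀}, A i) ≃* (∀ j : {j // j ≠ j₀}, B j)) := by
  obtain ⟨j₀, hθ⟩ := krs_exists_bijective_theta e i₀ hindA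
  have hα := krsAlpha_bijective e i₀ j₀ (hindB j₀) hθ
  refine ⟨j₀, ⟨MulEquiv.ofBijective (krsAlpha e i₀ j₀) hα⟩, ?_⟩
  have hinj := krsCompl_injective e i₀ j₀ hθ hα
  have h1 := krs_card_pi_split A i₀
  have h2 := krs_card_pi_split B j₀
  have h3 : Nat.card (∀ i, A i) = Nat.card (∀ j, B j) := Nat.card_congr e.toEquiv
  have h4 : Nat.card (A i₀) = Nat.card (B j₀) := Nat.card_congr (Equiv.ofBijective _ hα)
  have h5 : 0 < Nat.card (A i₀) := Nat.card_pos
  have h6 : Nat.card (∀ i : {i // i ≠ i₀}, A i) = Nat.card (∀ j : {j // j ≠ j₀}, B j) := by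
    rw [h1, h2, ← h4] at h3
    exact Nat.eq_of_mul_eq_mul_left h5 h3
  have hbij : Function.Bijective (krsCompl e i₀ j₀) :=
    hinj.bijective_of_nat_card_le h6.ge
  exact ⟨MulEquiv.ofBijective (krsCompl e i₀ j₀) hbij⟩

end Exchange

/-- **Krull–Remak–Schmidt** for finite groups, for families indexed by finite types. -/
theorem krs_main : ∀ (n : ℕ) (ι : Type) [Fintype ι] [DecidableEq ι] (κ : Type) [Fintype κ]
    [DecidableEq κ] (A : ι → Type u) (B : κ → Type v) [∀ i, Group (A i)] [∀ j, Group (B j)]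
    [∀ i, Finite (A i)] [∀ j, Finite (B j)]
    (_ : ∀ i, Nontrivial (A i) ∧ KrsIndec (A i)) (_ : ∀ j, Nontrivial (B j) ∧ KrsIndec (B j))
    (_ : (∀ i, A i) ≃* (∀ j, B j)), Fintype.card ι = n →
    ∃ σ : ι ≃ κ, ∀ i, Nonempty (A i ≃* B (σ i)) := by
  intro n
  induction n with
  | zero =>
    intro ι _ _ κ _ _ A B _ _ _ _ hA hB e hcard
    have : IsEmpty ι := Fintype.card_eq_zero_iff.mp hcard
    have hκ : IsEmpty κ := by
      by_contra hne
      rw [not_isEmpty_iff] at hne
      obtain ⟨j⟩ := hne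
      have := (hB j).1
      obtain ⟨b, b', hbb'⟩ := exists_pair_ne (B j)
      apply hbb'
      have h1 : e.symm (Pi.mulSingle j b) = e.symm (Pi.mulSingle j b') := Subsingleton.elim _ _
      exact Pi.mulSingle_injective j (e.symm.injective h1)
    exact ⟨Equiv.equivOfIsEmpty ι κ, fun i => isEmptyElim i⟩
  | succ n ih =>
    intro ι _ _ κ _ _ A B _ _ _ _ hA hB e hcard
    have hpos : 0 < Fintype.card ι := by omega
    obtain ⟨i₀⟩ := Fintype.card_pos_iff.mp hpos
    have := (hA i₀).1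
    obtain ⟨j₀, ⟨iso1⟩, ⟨iso2⟩⟩ := krs_exchange e i₀ (hA i₀).2 (fun j => (hB j).2)
    have hcard' : Fintype.card {i // i ≠ i₀} = n := by
      have h1 := Fintype.card_congr (Equiv.optionSubtypeNe i₀)
      rw [Fintype.card_option] at h1
      omega
    obtain ⟨σ', hσ'⟩ := ih {i // i ≠ i₀} {j // j ≠ j₀} (fun i => A i.1) (fun j => B j.1)
      (fun i => hA i.1) (fun j => hB j.1) iso2 hcard'
    refine ⟨(Equiv.optionSubtypeNe i₀).symm.trans
      ((Equiv.optionCongr σ').trans (Equiv.optionSubtypeNe j₀)), ?_⟩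
    intro i
    by_cases h : i = i₀
    · subst h
      have hσ : ((Equiv.optionSubtypeNe i).symm.trans
          ((Equiv.optionCongr σ').trans (Equiv.optionSubtypeNe j₀))) i = j₀ := by
        simp
      rw [hσ]
      exact ⟨iso1⟩
    · have hσ : ((Equiv.optionSubtypeNe i₀).symm.trans
          ((Equiv.optionCongr σ').trans (Equiv.optionSubtypeNe j₀))) i = (σ' ⟨i, h⟩).1 := by
        simp [Equiv.optionSubtypeNe_symm_of_ne h]
      rw [hσ]
      exact hσ' ⟨i, h⟩

end Cfsg.Agent.Lib.Helper72
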