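import Mathlib
import Cfsg.Agent.Lib.Helper73.SubgroupCount

set_option autoImplicit false

/-!
# Wielandt subset counting modulo `p²` (helper72)

Counting the `p^(b+1)`-element subsets of a finite group `G` according to the order of their
stabilizer (under left multiplication) gives a formula relating, modulo `p² · m`
(`|G| = p^(b+1) m`), the numbers of subgroups of orders `p^(b+1)` and `p^b` and the number of
incident pairs.  Comparing with the cyclic group of the same order yields a congruence mod `p²`.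
-/

namespace Cfsg.Agent.Lib.Helper72

open scoped Pointwise
open Cfsg.Agent.Lib.Helper73

section Wielandt

variable {G : Type*} [Group G]

theorem kul_stab_inv_preimage (V : Subgroup G) (t : Set (G ⧸ V)) :
    V ≤ MulAction.stabilizer G ((QuotientGroup.mk ⁻¹' t : Set G)⁻¹) := by
  intro v hv
  rw [MulAction.mem_stabilizer_iff]
  ext x
  rw [Set.mem_smul_set_iff_inv_smul_mem, Set.mem_inv, Set.mem_inv, Set.mem_preimage,
    Set.mem_preimage, smul_eq_mul, mul_inv_rev, inv_inv]
  rw [QuotientGroup.mk_mul_of_mem _ hv]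

theorem kul_preimage_image_inv (V : Subgroup G) (M : Set G)
    (hM : V ≤ MulAction.stabilizer G M) :
    (QuotientGroup.mk ⁻¹' ((QuotientGroup.mk : G → G ⧸ V) '' M⁻¹) : Set G)⁻¹ = M := by
  ext x
  rw [Set.mem_inv, Set.mem_preimage]
  constructor
  · rintro ⟨y, hy, hxy⟩
    rw [QuotientGroup.eq] at hxy
    -- y⁻¹ * x⁻¹ ∈ V
    have h1 := MulAction.mem_stabilizer_iff.mp (hM (inv_mem hxy))
    rw [Set.mem_inv] at hy
    have h2 : (y⁻¹ * x⁻¹)⁻¹ • y⁻¹ ∈ (y⁻¹ * x⁻¹)⁻¹ • M := Set.smul_mem_smul_set hy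
    rw [h1] at h2
    simpa using h2
  · intro hx
    exact ⟨x⁻¹, by simpa using hx, rfl⟩

/-- Subsets `M` with `V ≤ Stab(M)` correspond to subsets of `G ⧸ V` (via inversion). -/
noncomputable def kulInvEquiv (V : Subgroup G) :
    {M : Set G // V ≤ MulAction.stabilizer G M} ≃ Set (G ⧸ V) where
  toFun M := (QuotientGroup.mk : G → G ⧸ V) '' (M.1)⁻¹
  invFun t := ⟨(QuotientGroup.mk ⁻¹' t : Set G)⁻¹, kul_stab_inv_preimage V t⟩
  left_inv M := Subtype.ext (kul_preimage_image_inv V M.1 M.2)
  right_inv t := by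
    simp only [inv_inv]
    exact Set.image_preimage_eq t QuotientGroup.mk_surjective

theorem kul_ncard_inv_preimage [Finite G] (V : Subgroup G) (t : Set (G ⧸ V)) :
    ((QuotientGroup.mk ⁻¹' t : Set G)⁻¹).ncard = t.ncard * Nat.card V := by
  rw [Set.ncard_inv, ← Nat.card_coe_set_eq,
    Nat.card_congr (QuotientGroup.preimageMkEquivSubgroupProdSet V t), Nat.card_prod,
    Nat.card_coe_set_eq, mul_comm]

theorem kul_card_invariant_subsets [Finite G] (V : Subgroup G) (j : ℕ) :
    Nat.card {M : Set G // M.ncard = j * Nat.card V ∧ V ≤ MulAction.stabilizer G M}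
      = Nat.choose V.index j := by
  have hV : 0 < Nat.card V := Nat.card_pos
  have e : {M : Set G // M.ncard = j * Nat.card V ∧ V ≤ MulAction.stabilizer G M} ≃
      {t : Set (G ⧸ V) // t.ncard = j} :=
    { toFun := fun M => ⟨kulInvEquiv V ⟨M.1, M.2.2⟩, by
        have h1 := kul_ncard_inv_preimage V (kulInvEquiv V ⟨M.1, M.2.2⟩)
        have h2 : ((QuotientGroup.mk ⁻¹' (kulInvEquiv V ⟨M.1, M.2.2⟩) : Set G)⁻¹) = M.1 :=
          kul_preimage_image_inv V M.1 M.2.2
        rw [h2] at h1
        have h3 := M.2.1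
        exact Nat.eq_of_mul_eq_mul_right hV (h1.symm.trans h3)⟩
      invFun := fun t => ⟨((kulInvEquiv V).symm t.1).1, by
        refine ⟨?_, ((kulInvEquiv V).symm t.1).2⟩
        show ((QuotientGroup.mk ⁻¹' t.1 : Set G)⁻¹).ncard = _
        rw [kul_ncard_inv_preimage, t.2]⟩
      left_inv := by
        intro M
        apply Subtype.ext
        show ((kulInvEquiv V).symm (kulInvEquiv V ⟨M.1, M.2.2⟩)).1 = M.1
        rw [Equiv.symm_apply_apply]
      right_inv := by
        intro t
        apply Subtype.ext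
        exact (kulInvEquiv V).right_inv t.1 }
  rw [Nat.card_congr e]
  have := Set.ncard_powerset_ncard (Set.finite_univ (α := G ⧸ V)) j
  rw [Set.ncard_univ] at this
  rw [Subgroup.index, ← this, ← Nat.card_coe_set_eq]
  apply Nat.card_congr
  exact Equiv.subtypeEquivRight (fun t => by simp)

/-- Number of subgroups of order `n`. -/
noncomputable def kulN (G : Type*) [Group G] (n : ℕ) : ℕ :=
  Nat.card {U : Subgroup G // Nat.card U = n}

/-- Number of subgroups of order `n` contained in `U`. -/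
noncomputable def kulMu (n : ℕ) (U : Subgroup G) : ℕ :=
  Nat.card {V : Subgroup G // Nat.card V = n ∧ V ≤ U}

/-- Number of incident pairs `V ≤ U` with `|V| = n`, `|U| = k`. -/
noncomputable def kulI (G : Type*) [Group G] (n k : ℕ) : ℕ :=
  Nat.card {q : Subgroup G × Subgroup G // Nat.card q.1 = n ∧ Nat.card q.2 = k ∧ q.1 ≤ q.2}

theorem kulI_eq_sum [Finite G] (n k : ℕ) [Fintype {U : Subgroup G // Nat.card U = k}] :
    kulI G n k = ∑ U : {U : Subgroup G // Nat.card U = k}, kulMu n U.1 := by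
  classical
  unfold kulI kulMu
  rw [← Nat.card_sigma]
  apply Nat.card_congr
  exact
    { toFun := fun q => ⟨⟨q.1.2, q.2.2.1⟩, ⟨q.1.1, q.2.1, q.2.2.2⟩⟩
      invFun := fun s => ⟨(s.2.1, s.1.1), s.2.2.1, s.1.2, s.2.2.2⟩
      left_inv := by rintro ⟨⟨V, U⟩, h1, h2, h3⟩; rfl
      right_inv := by rintro ⟨⟨U, hU⟩, ⟨V, h1, h2⟩⟩; rfl }

/-- Double counting: pairs `(V, M)` with `|V| = n`, `|M| = j n`, `V ≤ Stab(M)`. -/
theorem kul_double_count [Finite G] (n j d : ℕ) (hn : 0 < n) (hd : Nat.card G = n * d)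
    [Fintype {M : Set G // M.ncard = j * n}] :
    ∑ M : {M : Set G // M.ncard = j * n}, kulMu n (MulAction.stabilizer G M.1)
      = kulN G n * Nat.choose d j := by
  classical
  unfold kulMu kulN
  rw [← Nat.card_sigma]
  have : Fintype {U : Subgroup G // Nat.card U = n} := Fintype.ofFinite _
  have h1 : ∀ V : {U : Subgroup G // Nat.card U = n},
      Nat.card {M : Set G // M.ncard = j * n ∧ V.1 ≤ MulAction.stabilizer G M} = Nat.choose d j := by
    intro V
    have h2 := kul_card_invariant_subsets V.1 j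
    rw [V.2] at h2
    rw [h2]
    congr 1
    have h3 := Subgroup.index_mul_card V.1
    rw [V.2, hd] at h3
    apply Nat.eq_of_mul_eq_mul_right hn
    rw [h3, mul_comm]
  have h4 : Nat.card (Σ V : {U : Subgroup G // Nat.card U = n},
      {M : Set G // M.ncard = j * n ∧ V.1 ≤ MulAction.stabilizer G M})
      = Nat.card {U : Subgroup G // Nat.card U = n} * Nat.choose d j := by
    rw [Nat.card_sigma, Finset.sum_congr rfl (fun V _ => h1 V), Finset.sum_const, Finset.card_univ,
      smul_eq_mul, Nat.card_eq_fintype_card]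
  rw [← h4]
  apply Nat.card_congr
  exact
    { toFun := fun s => ⟨⟨s.2.1, s.2.2.1⟩, ⟨s.1.1, s.1.2, s.2.2.2⟩⟩
      invFun := fun s => ⟨⟨s.2.1, s.2.2.1⟩, ⟨s.1.1, s.1.2, s.2.2.2⟩⟩
      left_inv := by rintro ⟨⟨M, hM⟩, ⟨V, h1, h2⟩⟩; rfl
      right_inv := by rintro ⟨⟨V, hV⟩, ⟨M, h1, h2⟩⟩; rfl }

/-- `kulMu` of a subgroup of order exactly `n` is `1`. -/
theorem kulMu_self [Finite G] (n : ℕ) (U : Subgroup G) (hU : Nat.card U = n) : kulMu n U = 1 := by
  unfold kulMu
  rw [Nat.card_eq_one_iff_unique]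
  refine ⟨⟨?_⟩, ⟨⟨U, hU, le_rfl⟩⟩⟩
  rintro ⟨V, h1, h2⟩ ⟨W, h3, h4⟩
  apply Subtype.ext
  show V = W
  have hV : V = U := Subgroup.eq_of_le_of_card_ge h2 (by rw [h1, hU])
  have hW : W = U := Subgroup.eq_of_le_of_card_ge h4 (by rw [h3, hU])
  rw [hV, hW]

/-- `kulMu` vanishes if `n` does not divide `|U|`. -/
theorem kulMu_eq_zero [Finite G] (n : ℕ) (U : Subgroup G) (hU : ¬ n ∣ Nat.card U) :
    kulMu n U = 0 := by
  unfold kulMu
  rw [Nat.card_eq_zero]
  left
  refine ⟨?_⟩
  rintro ⟨V, h1, h2⟩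
  exact hU (h1 ▸ Subgroup.card_dvd_of_le h2)

/-- Sets `M` of size `k` whose stabilizer has order `k` are the right cosets of the subgroups of
order `k`; a sum over them of a function of the stabilizer. -/
theorem kul_sum_stab [Finite G] (k m : ℕ) (hk : 0 < k) (hcard : Nat.card G = k * m)
    (F : Subgroup G → ℤ)
    [Fintype {M : Set G // M.ncard = k ∧ Nat.card (MulAction.stabilizer G M) = k}]
    [Fintype {U : Subgroup G // Nat.card U = k}] :
    ∑ M : {M : Set G // M.ncard = k ∧ Nat.card (MulAction.stabilizer G M) = k},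
        F (MulAction.stabilizer G M.1)
      = m * ∑ U : {U : Subgroup G // Nat.card U = k}, F U.1 := by
  classical
  have : Fintype G := Fintype.ofFinite G
  have instP : Fintype {q : Set G × G //
      (q.1.ncard = k ∧ Nat.card (MulAction.stabilizer G q.1) = k) ∧ q.2 ∈ q.1} := Fintype.ofFinite _
  have instM : ∀ M : {M : Set G // M.ncard = k ∧ Nat.card (MulAction.stabilizer G M) = k},
      Fintype ↥(M.1 : Set G) := fun M => Fintype.ofFinite _
  let e1 : {q : Set G × G // (q.1.ncard = k ∧ Nat.card (MulAction.stabilizer G q.1) = k)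
      ∧ q.2 ∈ q.1} ≃ {H : Subgroup G // Nat.card H = k} × G :=
    { toFun := fun q => (⟨MulAction.stabilizer G q.1.1, q.2.1.2⟩, q.1.2)
      invFun := fun r => ⟨(rcoset r.1.1 r.2, r.2), ⟨by rw [ncard_rcoset, r.1.2],
        by rw [stabilizer_rcoset, r.1.2]⟩, self_mem_rcoset _ _⟩
      left_inv := by
        rintro ⟨⟨M, x⟩, ⟨h1, h2⟩, h3⟩
        apply Subtype.ext
        simp only [Prod.mk.injEq, and_true]
        exact rcoset_stabilizer_eq M x h3 (by rw [h2, h1])
      right_inv := by
        rintro ⟨⟨H, hH⟩, x⟩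
        simp only [Prod.mk.injEq, and_true]
        apply Subtype.ext
        exact stabilizer_rcoset H x }
  let e2 : {q : Set G × G // (q.1.ncard = k ∧ Nat.card (MulAction.stabilizer G q.1) = k)
      ∧ q.2 ∈ q.1} ≃
      Σ M : {M : Set G // M.ncard = k ∧ Nat.card (MulAction.stabilizer G M) = k}, ↥(M.1 : Set G) :=
    { toFun := fun q => ⟨⟨q.1.1, q.2.1⟩, ⟨q.1.2, q.2.2⟩⟩
      invFun := fun s => ⟨(s.1.1, s.2.1), s.1.2, s.2.2⟩
      left_inv := by rintro ⟨⟨M, x⟩, h1, h3⟩; rfl
      right_inv := by rintro ⟨⟨M, h1⟩, ⟨x, h3⟩⟩; rfl }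
  -- the sum over pairs, computed in two ways
  have hA : ∑ q : {q : Set G × G // (q.1.ncard = k ∧ Nat.card (MulAction.stabilizer G q.1) = k)
      ∧ q.2 ∈ q.1}, F (MulAction.stabilizer G q.1.1)
      = (Nat.card G : ℤ) * ∑ U : {U : Subgroup G // Nat.card U = k}, F U.1 := by
    rw [Fintype.sum_equiv e1 (fun q => F (MulAction.stabilizer G q.1.1)) (fun r => F r.1.1)
      (fun q => rfl), Fintype.sum_prod_type]
    simp only [Finset.sum_const, Finset.card_univ, nsmul_eq_mul]
    rw [Finset.mul_sum, Nat.card_eq_fintype_card]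
  have hB : ∑ q : {q : Set G × G // (q.1.ncard = k ∧ Nat.card (MulAction.stabilizer G q.1) = k)
      ∧ q.2 ∈ q.1}, F (MulAction.stabilizer G q.1.1)
      = (k : ℤ) * ∑ M : {M : Set G // M.ncard = k ∧ Nat.card (MulAction.stabilizer G M) = k},
        F (MulAction.stabilizer G M.1) := by
    rw [Fintype.sum_equiv e2 (fun q => F (MulAction.stabilizer G q.1.1))
      (fun s => F (MulAction.stabilizer G s.1.1)) (fun q => rfl), Fintype.sum_sigma]
    rw [Finset.mul_sum]
    apply Finset.sum_congr rfl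
    intro M _
    simp only [Finset.sum_const, Finset.card_univ, nsmul_eq_mul]
    have : Fintype.card ↥(M.1 : Set G) = k := by
      rw [← Nat.card_eq_fintype_card, Nat.card_coe_set_eq]; exact M.2.1
    rw [this]
  have hk' : (k : ℤ) ≠ 0 := by exact_mod_cast hk.ne'
  apply mul_left_cancel₀ hk'
  rw [← hB, hA, hcard]
  push_cast
  ring

/-- Subsets of size `p^(b+1)` whose stabilizer has order neither `p^(b+1)` nor `p^b`:
their number is divisible by `p² m`. -/
theorem kul_small_stab_dvd [Finite G] (p b m : ℕ) (hp : p.Prime)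
    (hcard : Nat.card G = p ^ (b + 1) * m) :
    p ^ 2 * m ∣ Nat.card {M : Set G // M.ncard = p ^ (b + 1) ∧
      Nat.card (MulAction.stabilizer G M) ≠ p ^ (b + 1) ∧
      Nat.card (MulAction.stabilizer G M) ≠ p ^ b} := by
  apply dvd_card_subtype_of_dvd_index_stabilizer (G := G) (X := Set G)
    (fun M => M.ncard = p ^ (b + 1) ∧ Nat.card (MulAction.stabilizer G M) ≠ p ^ (b + 1) ∧
      Nat.card (MulAction.stabilizer G M) ≠ p ^ b)
  · rintro g M ⟨h1, h2, h3⟩
    refine ⟨by rw [Set.ncard_smul_set, h1], ?_, ?_⟩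
    · rw [MulAction.stabilizer_smul_eq_stabilizer_map_conj,
        Subgroup.card_map_of_injective (MulEquiv.injective _)]
      exact h2
    · rw [MulAction.stabilizer_smul_eq_stabilizer_map_conj,
        Subgroup.card_map_of_injective (MulEquiv.injective _)]
      exact h3
  · rintro M ⟨h1, h2, h3⟩
    have h4 := card_stabilizer_dvd_ncard M
    rw [h1] at h4
    obtain ⟨j, hj, hj'⟩ := (Nat.dvd_prime_pow hp).mp h4
    have hjb : j + 2 ≤ b + 1 := by
      by_contra hcon
      have : j = b + 1 ∨ j = b := by omega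
      rcases this with rfl | rfl
      · exact h2 hj'
      · exact h3 hj'
    have h5 := Subgroup.index_mul_card (MulAction.stabilizer G M)
    rw [hj', hcard] at h5
    obtain ⟨e, he⟩ : ∃ e, b + 1 = j + 2 + e := ⟨b + 1 - (j + 2), by omega⟩
    have h6 : (MulAction.stabilizer G M).index = p ^ 2 * m * p ^ e := by
      have hpj : 0 < p ^ j := pos_of_ne_zero (pow_ne_zero _ hp.ne_zero)
      apply Nat.eq_of_mul_eq_mul_right hpj
      rw [h5, he]; ring
    rw [h6]
    exact Dvd.intro _ rfl

/-- **Wielandt's subset count, second order.** -/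
theorem kul_wielandt_identity [Finite G] (p b m : ℕ) (hp : p.Prime)
    (hcard : Nat.card G = p ^ (b + 1) * m) :
    ∃ c : ℕ, ((Nat.choose (p ^ (b + 1) * m) (p ^ (b + 1)) : ℕ) : ℤ)
        - (kulN G (p ^ b) : ℤ) * (Nat.choose (p * m) p : ℤ)
      = (m : ℤ) * ((kulN G (p ^ (b + 1)) : ℤ) - (kulI G (p ^ b) (p ^ (b + 1)) : ℤ))
        + ((p ^ 2 * m * c : ℕ) : ℤ) := by
  classical
  have hn : 0 < p ^ b := pos_of_ne_zero (pow_ne_zero _ hp.ne_zero)
  have hk : 0 < p ^ (b + 1) := pos_of_ne_zero (pow_ne_zero _ hp.ne_zero)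
  have hkn : p ^ (b + 1) = p * p ^ b := by rw [pow_succ]; ring
  have : Fintype (Set G) := Fintype.ofFinite _
  have instA : Fintype {M : Set G // M.ncard = p * p ^ b} := Fintype.ofFinite _
  have instB : Fintype {M : Set G // M.ncard = p ^ (b + 1) ∧
      Nat.card (MulAction.stabilizer G M) = p ^ (b + 1)} := Fintype.ofFinite _
  have instU : Fintype {U : Subgroup G // Nat.card U = p ^ (b + 1)} := Fintype.ofFinite _
  obtain ⟨c, hc⟩ := kul_small_stab_dvd p b m hp hcard
  refine ⟨c, ?_⟩
  -- (E)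
  have hE : (Finset.univ.filter (fun M : Set G => M.ncard = p ^ (b + 1))).card
      = Nat.choose (p ^ (b + 1) * m) (p ^ (b + 1)) := by
    have h1 := Set.ncard_powerset_ncard (Set.finite_univ (α := G)) (p ^ (b + 1))
    rw [Set.ncard_univ, hcard] at h1
    rw [← h1, Set.ncard_eq_toFinset_card']
    congr 1
    ext M
    simp
  -- (D)
  have hD : ∑ M ∈ Finset.univ.filter (fun M : Set G => M.ncard = p ^ (b + 1)),
      (kulMu (p ^ b) (MulAction.stabilizer G M) : ℤ)
      = (kulN G (p ^ b) : ℤ) * (Nat.choose (p * m) p : ℤ) := by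
    have h1 := kul_double_count (G := G) (p ^ b) p (p * m) hn (by rw [hcard]; ring)
    rw [← Nat.cast_mul, ← h1, Nat.cast_sum]
    rw [← Finset.sum_subtype (p := fun M : Set G => M.ncard = p * p ^ b)
      (Finset.univ.filter (fun M : Set G => M.ncard = p * p ^ b))
      (by intro M; rw [Finset.mem_filter]; exact ⟨fun h => h.2, fun h => ⟨Finset.mem_univ _, h⟩⟩)
      (fun M => (kulMu (p ^ b) (MulAction.stabilizer G M) : ℤ))]
    rw [hkn]
  -- pointwise decomposition
  have hpt : ∀ M : Set G, M.ncard = p ^ (b + 1) →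
      (1 : ℤ) - (kulMu (p ^ b) (MulAction.stabilizer G M) : ℤ)
      = (if Nat.card (MulAction.stabilizer G M) = p ^ (b + 1)
          then (1 : ℤ) - (kulMu (p ^ b) (MulAction.stabilizer G M) : ℤ) else 0)
        + (if Nat.card (MulAction.stabilizer G M) ≠ p ^ (b + 1) ∧
            Nat.card (MulAction.stabilizer G M) ≠ p ^ b then (1 : ℤ) else 0) := by
    intro M hM
    by_cases h1 : Nat.card (MulAction.stabilizer G M) = p ^ (b + 1)
    · rw [if_pos h1, if_neg (fun h => h.1 h1), add_zero]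
    · by_cases h2 : Nat.card (MulAction.stabilizer G M) = p ^ b
      · rw [if_neg h1, if_neg (fun h => h.2 h2), kulMu_self _ _ h2]
        norm_num
      · rw [if_neg h1, if_pos ⟨h1, h2⟩, kulMu_eq_zero]
        · norm_num
        · have h4 := card_stabilizer_dvd_ncard M
          rw [hM] at h4
          obtain ⟨j, hj, hj'⟩ := (Nat.dvd_prime_pow hp).mp h4
          rw [hj']
          intro hdvd
          have hbj : b ≤ j := (Nat.pow_dvd_pow_iff_le_right hp.one_lt).mp hdvd
          have : j = b + 1 ∨ j = b := by omega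
          rcases this with rfl | rfl
          · exact h1 hj'
          · exact h2 hj'
  -- sum of the pointwise decomposition
  have hsum : ∑ M ∈ Finset.univ.filter (fun M : Set G => M.ncard = p ^ (b + 1)),
      ((1 : ℤ) - (kulMu (p ^ b) (MulAction.stabilizer G M) : ℤ))
      = ∑ M ∈ Finset.univ.filter (fun M : Set G => M.ncard = p ^ (b + 1)),
        (if Nat.card (MulAction.stabilizer G M) = p ^ (b + 1)
          then (1 : ℤ) - (kulMu (p ^ b) (MulAction.stabilizer G M) : ℤ) else 0)
        + ∑ M ∈ Finset.univ.filter (fun M : Set G => M.ncard = p ^ (b + 1)),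
        (if Nat.card (MulAction.stabilizer G M) ≠ p ^ (b + 1) ∧
            Nat.card (MulAction.stabilizer G M) ≠ p ^ b then (1 : ℤ) else 0) := by
    rw [← Finset.sum_add_distrib]
    apply Finset.sum_congr rfl
    intro M hM
    exact hpt M (by simpa using hM)
  -- first part: right cosets
  have hfirst : ∑ M ∈ Finset.univ.filter (fun M : Set G => M.ncard = p ^ (b + 1)),
        (if Nat.card (MulAction.stabilizer G M) = p ^ (b + 1)
          then (1 : ℤ) - (kulMu (p ^ b) (MulAction.stabilizer G M) : ℤ) else 0)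
      = (m : ℤ) * ((kulN G (p ^ (b + 1)) : ℤ) - (kulI G (p ^ b) (p ^ (b + 1)) : ℤ)) := by
    rw [← Finset.sum_filter, Finset.filter_filter]
    rw [Finset.sum_subtype (p := fun M : Set G => M.ncard = p ^ (b + 1) ∧
      Nat.card (MulAction.stabilizer G M) = p ^ (b + 1))
      (Finset.univ.filter (fun M : Set G => M.ncard = p ^ (b + 1) ∧
      Nat.card (MulAction.stabilizer G M) = p ^ (b + 1)))
      (by intro M; rw [Finset.mem_filter]; exact ⟨fun h => h.2, fun h => ⟨Finset.mem_univ _, h⟩⟩)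
      (fun M => (1 : ℤ) - (kulMu (p ^ b) (MulAction.stabilizer G M) : ℤ))]
    have h1 := kul_sum_stab (G := G) (p ^ (b + 1)) m hk hcard
      (fun U => (1 : ℤ) - (kulMu (p ^ b) U : ℤ))
    rw [h1]
    congr 1
    rw [Finset.sum_sub_distrib, kulI_eq_sum (G := G) (p ^ b) (p ^ (b + 1))]
    simp only [Finset.sum_const, Finset.card_univ, nsmul_eq_mul, mul_one, Nat.cast_sum]
    rw [kulN, Nat.card_eq_fintype_card]
  -- second part
  have hsecond : ∑ M ∈ Finset.univ.filter (fun M : Set G => M.ncard = p ^ (b + 1)),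
        (if Nat.card (MulAction.stabilizer G M) ≠ p ^ (b + 1) ∧
            Nat.card (MulAction.stabilizer G M) ≠ p ^ b then (1 : ℤ) else 0)
      = ((p ^ 2 * m * c : ℕ) : ℤ) := by
    rw [← Finset.sum_filter, Finset.filter_filter, Finset.sum_const, nsmul_eq_mul, mul_one,
      ← hc]
    congr 1
    rw [Nat.card_eq_fintype_card, Fintype.card_subtype]
  rw [← hE, ← hD, ← hfirst, ← hsecond, ← hsum, Finset.sum_sub_distrib]
  simp

end Wielandt

end Cfsg.Agent.Lib.Helper72
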