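import Mathlib
import Cfsg.Agent.Lib.Helper72.KulA

set_option autoImplicit false

/-!
# Comparison with the cyclic group (helper72)
-/

namespace Cfsg.Agent.Lib.Helper72

open Cfsg.Agent.Lib.Helper73

/-- In a finite cyclic group, subgroups of equal order are equal. -/
theorem kul_cyclic_subgroup_unique {Z : Type*} [Group Z] [Finite Z] [IsCyclic Z]
    (U U' : Subgroup Z) (h : Nat.card U = Nat.card U') : U = U' := by
  classical
  have : Fintype Z := Fintype.ofFinite Z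
  set n := Nat.card U with hn
  have hn0 : 0 < n := Nat.card_pos
  have hT : ({x : Z | x ^ n = 1} : Set Z).ncard ≤ n := by
    have h1 := IsCyclic.card_pow_eq_one_le (α := Z) hn0
    rw [Set.ncard_eq_toFinset_card']
    convert h1 using 2
    ext x
    simp
  have key : ∀ W : Subgroup Z, Nat.card W = n → (W : Set Z) = {x : Z | x ^ n = 1} := by
    intro W hW
    apply Set.eq_of_subset_of_ncard_le _ _ (Set.toFinite _)
    · intro x hx
      have := pow_card_eq_one' (G := W) (x := ⟨x, hx⟩)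
      rw [hW] at this
      have h2 := congrArg Subtype.val this
      simpa using h2
    · rw [← Nat.card_coe_set_eq (W : Set Z)]
      show _ ≤ Nat.card W
      rw [hW]; exact hT
  exact SetLike.coe_injective ((key U rfl).trans (key U' h.symm).symm)

theorem kulN_cyclic {Z : Type*} [Group Z] [Finite Z] [IsCyclic Z] (p j : ℕ) [Fact p.Prime]
    (hdvd : p ^ j ∣ Nat.card Z) : kulN Z (p ^ j) = 1 := by
  unfold kulN
  rw [Nat.card_eq_one_iff_unique]
  obtain ⟨K, hK⟩ := Sylow.exists_subgroup_card_pow_prime p hdvd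
  refine ⟨⟨?_⟩, ⟨⟨K, hK⟩⟩⟩
  rintro ⟨U, hU⟩ ⟨U', hU'⟩
  apply Subtype.ext
  exact kul_cyclic_subgroup_unique U U' (hU.trans hU'.symm)

theorem kulI_cyclic {Z : Type*} [Group Z] [Finite Z] [IsCyclic Z] (p b : ℕ) [Fact p.Prime]
    (hdvd : p ^ (b + 1) ∣ Nat.card Z) : kulI Z (p ^ b) (p ^ (b + 1)) = 1 := by
  unfold kulI
  rw [Nat.card_eq_one_iff_unique]
  obtain ⟨V, hV⟩ := Sylow.exists_subgroup_card_pow_prime p
    (dvd_trans (pow_dvd_pow p (Nat.le_succ b)) hdvd)
  obtain ⟨K, hK, hVK⟩ := Sylow.exists_subgroup_card_pow_prime_le p hdvd V hV (Nat.le_succ b)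
  refine ⟨⟨?_⟩, ⟨⟨(V, K), hV, hK, hVK⟩⟩⟩
  rintro ⟨⟨V1, U1⟩, h1, h2, h3⟩ ⟨⟨V2, U2⟩, h4, h5, h6⟩
  apply Subtype.ext
  have e1 : V1 = V2 := kul_cyclic_subgroup_unique V1 V2 (h1.trans h4.symm)
  have e2 : U1 = U2 := kul_cyclic_subgroup_unique U1 U2 (h2.trans h5.symm)
  simp only [e1, e2]

/-- **Second order Frobenius congruence** (before evaluating the incidence number). -/
theorem kul_compare {G : Type*} [Group G] [Finite G] (p b m : ℕ) (hp : p.Prime)
    (hcard : Nat.card G = p ^ (b + 1) * m) :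
    ((kulN G (p ^ (b + 1)) : ℤ) - (kulI G (p ^ b) (p ^ (b + 1)) : ℤ))
      + ((kulN G (p ^ b) : ℤ) - 1) * (Nat.choose (p * m - 1) (p - 1) : ℤ) ≡ 0 [ZMOD (p : ℤ) ^ 2] := by
  have : Fact p.Prime := ⟨hp⟩
  have hm0 : 0 < m := by
    rcases Nat.eq_zero_or_pos m with h | h
    · rw [h, mul_zero] at hcard
      have : 0 < Nat.card G := Nat.card_pos
      omega
    · exact h
  have hN0 : p ^ (b + 1) * m ≠ 0 :=
    mul_ne_zero (pow_ne_zero _ hp.ne_zero) hm0.ne'
  have : NeZero (p ^ (b + 1) * m) := ⟨hN0⟩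
  have hZcard : Nat.card (Multiplicative (ZMod (p ^ (b + 1) * m))) = p ^ (b + 1) * m := by
    rw [Nat.card_eq_fintype_card, Fintype.card_multiplicative, ZMod.card]
  obtain ⟨c1, h1⟩ := kul_wielandt_identity (G := G) p b m hp hcard
  obtain ⟨c2, h2⟩ := kul_wielandt_identity (G := Multiplicative (ZMod (p ^ (b + 1) * m))) p b m hp
    hZcard
  have hd1 : p ^ (b + 1) ∣ Nat.card (Multiplicative (ZMod (p ^ (b + 1) * m))) := by
    rw [hZcard]; exact Dvd.intro _ rfl
  have hd0 : p ^ b ∣ Nat.card (Multiplicative (ZMod (p ^ (b + 1) * m))) :=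
    dvd_trans (pow_dvd_pow p (Nat.le_succ b)) hd1
  rw [kulN_cyclic p b hd0, kulN_cyclic p (b + 1) hd1, kulI_cyclic p b hd1] at h2
  -- choose (p m) p = m * choose (p m - 1) (p - 1)
  have hch : (Nat.choose (p * m) p : ℤ) = (m : ℤ) * (Nat.choose (p * m - 1) (p - 1) : ℤ) := by
    obtain ⟨t, ht⟩ : ∃ t, p * m = t + 1 := ⟨p * m - 1, by
      have : 0 < p * m := Nat.mul_pos hp.pos hm0
      omega⟩
    obtain ⟨u, hu⟩ : ∃ u, p = u + 1 := ⟨p - 1, by have := hp.pos; omega⟩
    have h3 := Nat.add_one_mul_choose_eq t u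
    have ht' : p * m - 1 = t := by omega
    have hu' : p - 1 = u := by omega
    rw [ht', hu']
    have h4 : (p * m).choose p * p = p * m * t.choose u := by
      rw [ht]
      conv_lhs => rw [hu]
      rw [← h3]
    have h5 : (p * m).choose p = m * t.choose u := by
      apply Nat.eq_of_mul_eq_mul_right hp.pos
      rw [h4]; ring
    exact_mod_cast h5
  rw [hch] at h1 h2
  -- subtract
  have hm' : (m : ℤ) ≠ 0 := by exact_mod_cast hm0.ne'
  have key : ((kulN G (p ^ (b + 1)) : ℤ) - (kulI G (p ^ b) (p ^ (b + 1)) : ℤ))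
      + ((kulN G (p ^ b) : ℤ) - 1) * (Nat.choose (p * m - 1) (p - 1) : ℤ)
      = (p : ℤ) ^ 2 * ((c2 : ℤ) - (c1 : ℤ)) := by
    apply mul_left_cancel₀ hm'
    push_cast at h1 h2
    linear_combination h2 - h1
  rw [key]
  exact (Int.modEq_zero_iff_dvd).mpr (Dvd.intro _ rfl)

end Cfsg.Agent.Lib.Helper72
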