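import Mathlib

set_option autoImplicit false

/-!
# The number of subgroups of index `p` of a finite `p`-group (helper72)

`(p - 1) μ + 1 = p ^ r`, and `μ ≤ 1` forces the group to be cyclic; hence `μ ≡ 1 + p (mod p²)` for
non-cyclic `p`-groups.
-/

namespace Cfsg.Agent.Lib.Helper72

section IndexP

variable {Q : Type*} [Group Q]

theorem kul_index_prime_max {p : ℕ} (hp : p.Prime) (W K : Subgroup Q) (hW : W.index = p)
    (hWK : W ≤ K) : K = W ∨ K = ⊤ := by
  have h1 := Subgroup.relIndex_mul_index hWK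
  rw [hW] at h1
  have h2 : K.index ∣ p := Dvd.intro_left _ h1
  rcases (Nat.dvd_prime hp).mp h2 with h | h
  · right; exact Subgroup.index_eq_one.mp h
  · left
    rw [h] at h1
    have h3 : W.relIndex K = 1 := by
      have := hp.pos
      exact Nat.eq_of_mul_eq_mul_right this (by rw [h1, one_mul])
    exact le_antisymm (Subgroup.relIndex_eq_one.mp h3) hWK

theorem kul_card_mulZMod (p : ℕ) [Fact p.Prime] : Nat.card (Multiplicative (ZMod p)) = p := by
  rw [Nat.card_eq_fintype_card, Fintype.card_multiplicative, ZMod.card]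

theorem kul_ker_index {p : ℕ} [Fact p.Prime] (φ : Q →* Multiplicative (ZMod p)) (hφ : φ ≠ 1) :
    φ.ker.index = p := by
  rw [Subgroup.index_ker]
  have h1 : φ.range ≠ ⊥ := by
    intro h
    apply hφ
    ext x
    have : φ x ∈ φ.range := ⟨x, rfl⟩
    rw [h, Subgroup.mem_bot] at this
    rw [this]; rfl
  have hfact : Fact (Nat.card (Multiplicative (ZMod p))).Prime := by
    rw [kul_card_mulZMod]; infer_instance
  rcases Subgroup.eq_bot_or_eq_top_of_prime_card (φ.range) with h | h
  · exact absurd h h1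
  · rw [h, Subgroup.card_top, kul_card_mulZMod]

instance kul_finite_hom [Finite Q] (p : ℕ) [Fact p.Prime] :
    Finite (Q →* Multiplicative (ZMod p)) :=
  Finite.of_injective _ DFunLike.coe_injective

theorem kul_hom_isPGroup (p : ℕ) [Fact p.Prime] : IsPGroup p (Q →* Multiplicative (ZMod p)) := by
  intro φ
  refine ⟨1, ?_⟩
  ext x
  rw [pow_one, MonoidHom.pow_apply]
  have := pow_card_eq_one' (G := Multiplicative (ZMod p)) (x := φ x)
  rw [kul_card_mulZMod] at this
  rw [this]; rfl

/-- The homomorphisms into `C_p` whose kernel contains `W`. -/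
def kulHomAbove (p : ℕ) (W : Subgroup Q) : Subgroup (Q →* Multiplicative (ZMod p)) where
  carrier := {φ | W ≤ φ.ker}
  mul_mem' := by
    intro φ ψ h1 h2 x hx
    rw [MonoidHom.mem_ker, MonoidHom.mul_apply, MonoidHom.mem_ker.mp (h1 hx),
      MonoidHom.mem_ker.mp (h2 hx), one_mul]
  one_mem' := by
    intro x _
    rw [MonoidHom.mem_ker]; rfl
  inv_mem' := by
    intro φ h1 x hx
    rw [MonoidHom.mem_ker, MonoidHom.inv_apply, MonoidHom.mem_ker.mp (h1 hx), inv_one]

theorem mem_kulHomAbove (p : ℕ) (W : Subgroup Q) (φ : Q →* Multiplicative (ZMod p)) :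
    φ ∈ kulHomAbove p W ↔ W ≤ φ.ker := Iff.rfl

theorem kul_card_homAbove [Finite Q] {p : ℕ} [Fact p.Prime] (hQ : IsPGroup p Q) (W : Subgroup Q)
    (hW : W.index = p) : Nat.card (kulHomAbove p W) = p := by
  have hp := (Fact.out : p.Prime)
  -- `W` is normal
  have hcard : Nat.card Q ≠ 1 := by
    intro h
    have h1 := Subgroup.index_dvd_card W
    rw [hW, h] at h1
    exact hp.one_lt.ne' (Nat.dvd_one.mp h1)
  have hmin : (Nat.card Q).minFac = p := by
    obtain ⟨n, hn⟩ := IsPGroup.iff_card.mp hQ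
    rw [hn]
    rcases Nat.eq_zero_or_pos n with h | h
    · rw [h, pow_zero] at hn; exact absurd hn hcard
    · exact hp.pow_minFac h.ne'
  have hnorm : W.Normal := Subgroup.normal_of_index_eq_minFac_card (hW.trans hmin.symm)
  have hWtop : W ≠ ⊤ := by
    intro h
    rw [h, Subgroup.index_top] at hW
    exact hp.one_lt.ne hW
  obtain ⟨x₀, hx₀⟩ : ∃ x₀ : Q, x₀ ∉ W := by
    by_contra hcon
    push Not at hcon
    exact hWtop (eq_top_iff.mpr fun x _ => hcon x)
  -- evaluation at `x₀` is injective on `kulHomAbove`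
  let ev : kulHomAbove p W →* Multiplicative (ZMod p) :=
    { toFun := fun φ => φ.1 x₀
      map_one' := rfl
      map_mul' := fun φ ψ => rfl }
  have hev : Function.Injective ev := by
    rw [injective_iff_map_eq_one]
    rintro ⟨φ, hφ⟩ h1
    apply Subtype.ext
    show φ = 1
    rw [mem_kulHomAbove] at hφ
    have h2 : x₀ ∈ φ.ker := h1
    rcases kul_index_prime_max hp W φ.ker hW hφ with h | h
    · rw [h] at h2; exact absurd h2 hx₀
    · ext x
      have : x ∈ φ.ker := by rw [h]; trivial
      rw [MonoidHom.mem_ker.mp this]; rfl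
  have hdvd : Nat.card (kulHomAbove p W) ∣ p := by
    have := Subgroup.card_dvd_of_injective ev hev
    rwa [kul_card_mulZMod] at this
  rcases (Nat.dvd_prime hp).mp hdvd with h | h
  · exfalso
    -- there is a non-trivial element
    have hq : Nat.card (Q ⧸ W) = p := by rw [← Subgroup.index_eq_card]; exact hW
    let e := mulEquivOfPrimeCardEq hq (kul_card_mulZMod p)
    let φ₀ : Q →* Multiplicative (ZMod p) := e.toMonoidHom.comp (QuotientGroup.mk' W)
    have hk : φ₀.ker = W := by
      ext x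
      rw [MonoidHom.mem_ker]
      show e (QuotientGroup.mk' W x) = 1 ↔ _
      rw [MulEquiv.map_eq_one_iff, QuotientGroup.mk'_apply, QuotientGroup.eq_one_iff]
    have hmem : φ₀ ∈ kulHomAbove p W := by rw [mem_kulHomAbove, hk]
    have hne : φ₀ ≠ 1 := by
      intro h0
      apply hWtop
      rw [← hk, h0]
      ext x
      simp
    have hsub : Subsingleton (kulHomAbove p W) := (Nat.card_eq_one_iff_unique.mp h).1
    have := Subsingleton.elim (⟨φ₀, hmem⟩ : kulHomAbove p W) 1
    exact hne (congrArg Subtype.val this)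
  · exact h

theorem kul_fiber_card [Finite Q] {p : ℕ} [Fact p.Prime] (hQ : IsPGroup p Q) (W : Subgroup Q)
    (hW : W.index = p) :
    Nat.card {φ : Q →* Multiplicative (ZMod p) // φ.ker = W} = p - 1 := by
  classical
  have hp := (Fact.out : p.Prime)
  have hWtop : W ≠ ⊤ := by
    intro h
    rw [h, Subgroup.index_top] at hW
    exact hp.one_lt.ne hW
  have e : {φ : Q →* Multiplicative (ZMod p) // φ.ker = W} ≃
      {φ : kulHomAbove p W // φ ≠ 1} :=
    { toFun := fun φ => ⟨⟨φ.1, by rw [mem_kulHomAbove, φ.2]⟩, by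
        intro h
        apply hWtop
        have h1 : φ.1 = 1 := congrArg Subtype.val h
        rw [← φ.2, h1]
        ext x
        simp⟩
      invFun := fun φ => ⟨φ.1.1, by
        have h1 : W ≤ φ.1.1.ker := φ.1.2
        rcases kul_index_prime_max hp W φ.1.1.ker hW h1 with h | h
        · exact h
        · exfalso
          apply φ.2
          apply Subtype.ext
          ext x
          have : x ∈ φ.1.1.ker := by rw [h]; trivial
          rw [MonoidHom.mem_ker.mp this]; rfl⟩
      left_inv := by intro φ; rfl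
      right_inv := by intro φ; rfl }
  rw [Nat.card_congr e]
  have : Fintype (kulHomAbove p W) := Fintype.ofFinite _
  rw [Nat.card_eq_fintype_card, Fintype.card_subtype_compl, Fintype.card_subtype_eq,
    ← Nat.card_eq_fintype_card, kul_card_homAbove hQ W hW]

/-- `(p - 1) μ + 1 = p ^ r` for the number `μ` of subgroups of index `p` of a finite `p`-group. -/
theorem kul_index_count [Finite Q] {p : ℕ} [Fact p.Prime] (hQ : IsPGroup p Q) :
    ∃ r : ℕ, (p - 1) * Nat.card {W : Subgroup Q // W.index = p} + 1 = p ^ r := by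
  classical
  have hp := (Fact.out : p.Prime)
  obtain ⟨r, hr⟩ := IsPGroup.iff_card.mp (kul_hom_isPGroup (Q := Q) p)
  refine ⟨r, ?_⟩
  rw [← hr]
  have : Fintype {W : Subgroup Q // W.index = p} := Fintype.ofFinite _
  have e : {φ : Q →* Multiplicative (ZMod p) // φ ≠ 1} ≃
      Σ W : {W : Subgroup Q // W.index = p}, {φ : Q →* Multiplicative (ZMod p) // φ.ker = W.1} :=
    { toFun := fun φ => ⟨⟨φ.1.ker, kul_ker_index φ.1 φ.2⟩, ⟨φ.1, rfl⟩⟩
      invFun := fun s => ⟨s.2.1, by
        intro h
        have h1 := s.1.2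
        rw [← s.2.2, h] at h1
        have : (1 : Q →* Multiplicative (ZMod p)).ker = ⊤ := by ext x; simp
        rw [this, Subgroup.index_top] at h1
        exact hp.one_lt.ne h1⟩
      left_inv := by intro φ; rfl
      right_inv := by
        rintro ⟨⟨W, hW⟩, ⟨φ, hφ⟩⟩
        have hφ' : φ.ker = W := hφ
        subst hφ'
        rfl }
  have h1 : Nat.card {φ : Q →* Multiplicative (ZMod p) // φ ≠ 1}
      = (p - 1) * Nat.card {W : Subgroup Q // W.index = p} := by
    rw [Nat.card_congr e, Nat.card_sigma,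
      Finset.sum_congr rfl (fun W _ => kul_fiber_card hQ W.1 W.2), Finset.sum_const,
      Finset.card_univ, smul_eq_mul, Nat.card_eq_fintype_card, mul_comm]
  rw [← h1]
  have : Fintype (Q →* Multiplicative (ZMod p)) := Fintype.ofFinite _
  rw [Nat.card_eq_fintype_card, Nat.card_eq_fintype_card, Fintype.card_subtype_compl,
    Fintype.card_subtype_eq]
  have : 0 < Fintype.card (Q →* Multiplicative (ZMod p)) := Fintype.card_pos
  omega

/-- A finite `p`-group with at most one subgroup of index `p` is cyclic. -/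
theorem kul_cyclic_of_index_count_le_one [Finite Q] {p : ℕ} [Fact p.Prime] (hQ : IsPGroup p Q)
    (h : Nat.card {W : Subgroup Q // W.index = p} ≤ 1) : IsCyclic Q := by
  have hp := (Fact.out : p.Prime)
  obtain ⟨n, hn⟩ := IsPGroup.iff_card.mp hQ
  rcases Nat.eq_zero_or_pos n with h0 | h0
  · rw [h0, pow_zero] at hn
    have : Subsingleton Q := (Nat.card_eq_one_iff_unique.mp hn).1
    exact isCyclic_of_subsingleton
  -- every proper subgroup lies in a subgroup of index p
  have key : ∀ K : Subgroup Q, K ≠ ⊤ → ∃ W : Subgroup Q, W.index = p ∧ K ≤ W := by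
    intro K hK
    obtain ⟨j, hj⟩ := IsPGroup.iff_card.mp (hQ.to_subgroup K)
    have hjn : j ≤ n - 1 := by
      by_contra hcon
      have h1 : n ≤ j := by omega
      have h2 : Nat.card K ∣ Nat.card Q := Subgroup.card_subgroup_dvd_card K
      rw [hj, hn] at h2
      have h3 : j ≤ n := (Nat.pow_dvd_pow_iff_le_right hp.one_lt).mp h2
      have h4 : j = n := le_antisymm h3 h1
      apply hK
      apply Subgroup.eq_top_of_card_eq
      rw [hj, hn, h4]
    have hdvd : p ^ (n - 1) ∣ Nat.card Q := by rw [hn]; exact pow_dvd_pow p (Nat.sub_le n 1)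
    obtain ⟨W, hW, hKW⟩ := Sylow.exists_subgroup_card_pow_prime_le p hdvd K hj hjn
    refine ⟨W, ?_, hKW⟩
    have h1 := Subgroup.index_mul_card W
    rw [hW, hn] at h1
    have h2 : p ^ n = p * p ^ (n - 1) := by
      conv_lhs => rw [show n = (n - 1) + 1 by omega]
      rw [pow_succ]; ring
    rw [h2] at h1
    exact Nat.eq_of_mul_eq_mul_right (pos_of_ne_zero (pow_ne_zero _ hp.ne_zero)) h1
  have hbot : (⊥ : Subgroup Q) ≠ ⊤ := by
    intro hb
    have h1 : Nat.card (⊥ : Subgroup Q) = Nat.card Q := by rw [hb, Subgroup.card_top]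
    rw [Subgroup.card_bot, hn] at h1
    have : 1 < p ^ n := Nat.one_lt_pow h0.ne' hp.one_lt
    omega
  obtain ⟨W₀, hW₀, -⟩ := key ⊥ hbot
  have huniq : ∀ W : Subgroup Q, W.index = p → W = W₀ := by
    intro W hW
    have hsub : Subsingleton {W : Subgroup Q // W.index = p} := by
      have : Finite {W : Subgroup Q // W.index = p} := inferInstance
      exact Finite.card_le_one_iff_subsingleton.mp h
    exact congrArg Subtype.val (Subsingleton.elim (⟨W, hW⟩ : {W : Subgroup Q // W.index = p})
      ⟨W₀, hW₀⟩)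
  have hW₀top : W₀ ≠ ⊤ := by
    intro h1
    rw [h1, Subgroup.index_top] at hW₀
    exact hp.one_lt.ne hW₀
  obtain ⟨x, hx⟩ : ∃ x : Q, x ∉ W₀ := by
    by_contra hcon
    push Not at hcon
    exact hW₀top (eq_top_iff.mpr fun x _ => hcon x)
  refine ⟨⟨x, ?_⟩⟩
  by_contra hcon
  have h1 : Subgroup.zpowers x ≠ ⊤ := by
    intro h2
    apply hcon
    intro y
    have : y ∈ Subgroup.zpowers x := by rw [h2]; trivial
    exact this
  obtain ⟨W, hW, hxW⟩ := key _ h1
  rw [huniq W hW] at hxW
  exact hx (hxW (Subgroup.mem_zpowers x))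

/-- The number of subgroups of index `p` of a non-cyclic finite `p`-group is `≡ 1 + p (mod p²)`. -/
theorem kul_index_count_modEq [Finite Q] {p : ℕ} [Fact p.Prime] (hQ : IsPGroup p Q)
    (hnc : ¬ IsCyclic Q) :
    (Nat.card {W : Subgroup Q // W.index = p} : ℤ) ≡ 1 + p [ZMOD (p : ℤ) ^ 2] := by
  have hp := (Fact.out : p.Prime)
  obtain ⟨r, hr⟩ := kul_index_count (Q := Q) hQ
  set μ := Nat.card {W : Subgroup Q // W.index = p} with hμ
  have hμ2 : 2 ≤ μ := by
    by_contra hcon
    exact hnc (kul_cyclic_of_index_count_le_one hQ (by omega))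
  have hr2 : 2 ≤ r := by
    by_contra hcon
    have h1 : p ^ r ≤ p := by
      calc p ^ r ≤ p ^ 1 := Nat.pow_le_pow_right hp.pos (by omega)
        _ = p := pow_one p
    have h2 : (p - 1) * 2 ≤ (p - 1) * μ := Nat.mul_le_mul_left _ hμ2
    have := hp.two_le
    omega
  obtain ⟨e, he⟩ : ∃ e, r = 2 + e := ⟨r - 2, by omega⟩
  have h1 : ((p : ℤ) - 1) * (μ : ℤ) + 1 = (p : ℤ) ^ 2 * (p : ℤ) ^ e := by
    have h2 : (((p - 1) * μ + 1 : ℕ) : ℤ) = ((p ^ r : ℕ) : ℤ) := by rw [hr]
    rw [he, pow_add] at h2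
    push_cast [Nat.cast_sub hp.pos] at h2
    linarith
  have h3 : (μ : ℤ) - (1 + p) = (p : ℤ) ^ 2 * ((μ : ℤ) - ((p : ℤ) + 1) * (p : ℤ) ^ e) := by
    linear_combination (-(p : ℤ) - 1) * h1
  rw [Int.modEq_iff_dvd]
  exact ⟨-((μ : ℤ) - ((p : ℤ) + 1) * (p : ℤ) ^ e), by linear_combination -h3⟩

end IndexP

end Cfsg.Agent.Lib.Helper72
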