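import Mathlib
import Cfsg.Agent.Lib.Helper72.KulB
import Cfsg.Agent.Lib.Helper72.KulC

set_option autoImplicit false

/-!
# Evaluating the incidence number; the main congruence (helper72)

`kul_main_congr`: if `p ^ (b + 1) ∣ |G|` then
`N_b ≡ 1 + p - p * c_{b+1} (mod p ^ 2)` where `N_b` is the number of subgroups of order `p ^ b`
and `c_{b+1}` the number of cyclic subgroups of order `p ^ (b + 1)`.
-/

namespace Cfsg.Agent.Lib.Helper72

open Cfsg.Agent.Lib.Helper73

variable {G : Type*} [Group G]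

/-- Subgroups of `G` of order `n` below `U` correspond to subgroups of `U` of order `n`. -/
noncomputable def kulBelowEquiv (n : ℕ) (U : Subgroup G) :
    {V : Subgroup G // Nat.card V = n ∧ V ≤ U} ≃ {W : Subgroup U // Nat.card W = n} where
  toFun V := ⟨V.1.subgroupOf U, by
    rw [Nat.card_congr (Subgroup.subgroupOfEquivOfLe V.2.2).toEquiv]; exact V.2.1⟩
  invFun W := ⟨W.1.map U.subtype, by
    rw [Subgroup.card_map_of_injective U.subtype_injective]; exact W.2,
    Subgroup.map_subtype_le W.1⟩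
  left_inv := by
    rintro ⟨V, h1, h2⟩
    apply Subtype.ext
    simp only [Subgroup.subgroupOf_map_subtype]
    exact inf_eq_left.mpr h2
  right_inv := by
    rintro ⟨W, hW⟩
    apply Subtype.ext
    exact Subgroup.comap_map_eq_self_of_injective U.subtype_injective W

theorem kulMu_eq_kulN (n : ℕ) (U : Subgroup G) : kulMu n U = kulN U n :=
  Nat.card_congr (kulBelowEquiv n U)

/-- Number of cyclic subgroups of order `n`. -/
noncomputable def kulCyc (G : Type*) [Group G] (n : ℕ) : ℕ :=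
  Nat.card {U : Subgroup G // Nat.card U = n ∧ IsCyclic U}

theorem kulMu_cyclic [Finite G] (p b : ℕ) (hp : p.Prime) (U : Subgroup G)
    (hU : Nat.card U = p ^ (b + 1)) (hc : IsCyclic U) : kulMu (p ^ b) U = 1 := by
  have : Fact p.Prime := ⟨hp⟩
  rw [kulMu_eq_kulN]
  apply kulN_cyclic p b
  rw [hU]
  exact pow_dvd_pow p (Nat.le_succ b)

theorem kulN_eq_index_count {Q : Type*} [Group Q] [Finite Q] (p b : ℕ) (hp : p.Prime)
    (hQ : Nat.card Q = p ^ (b + 1)) :
    kulN Q (p ^ b) = Nat.card {W : Subgroup Q // W.index = p} := by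
  unfold kulN
  apply Nat.card_congr
  apply Equiv.subtypeEquivRight
  intro W
  have h := Subgroup.card_mul_index W
  rw [hQ] at h
  constructor
  · intro hW
    rw [hW, pow_succ] at h
    exact Nat.eq_of_mul_eq_mul_left (pow_pos hp.pos b) h
  · intro hW
    rw [hW, pow_succ] at h
    exact Nat.eq_of_mul_eq_mul_right hp.pos h

theorem kulMu_noncyclic [Finite G] (p b : ℕ) (hp : p.Prime) (U : Subgroup G)
    (hU : Nat.card U = p ^ (b + 1)) (hc : ¬ IsCyclic U) :
    (kulMu (p ^ b) U : ℤ) ≡ 1 + p [ZMOD (p : ℤ) ^ 2] := by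
  have : Fact p.Prime := ⟨hp⟩
  rw [kulMu_eq_kulN, kulN_eq_index_count p b hp hU]
  exact kul_index_count_modEq (IsPGroup.of_card hU) hc

theorem kulCyc_eq_sum [Finite G] (k : ℕ) [Fintype {U : Subgroup G // Nat.card U = k}]
    [DecidablePred fun U : {U : Subgroup G // Nat.card U = k} => IsCyclic U.1] :
    (kulCyc G k : ℤ) = ∑ U : {U : Subgroup G // Nat.card U = k},
      (if IsCyclic U.1 then (1 : ℤ) else 0) := by
  classical
  rw [Finset.sum_boole]
  unfold kulCyc
  rw [← Fintype.card_subtype, ← Nat.card_eq_fintype_card]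
  congr 1
  apply Nat.card_congr
  exact
    { toFun := fun U => ⟨⟨U.1, U.2.1⟩, U.2.2⟩
      invFun := fun U => ⟨U.1.1, U.1.2, U.2⟩
      left_inv := by rintro ⟨U, h1, h2⟩; rfl
      right_inv := by rintro ⟨⟨U, h1⟩, h2⟩; rfl }

theorem kulI_modEq [Finite G] (p b : ℕ) (hp : p.Prime) :
    (kulI G (p ^ b) (p ^ (b + 1)) : ℤ) ≡
      (kulN G (p ^ (b + 1)) : ℤ) * (1 + p) - p * (kulCyc G (p ^ (b + 1)) : ℤ)
      [ZMOD (p : ℤ) ^ 2] := by
  classical
  have : Fintype {U : Subgroup G // Nat.card U = p ^ (b + 1)} := Fintype.ofFinite _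
  rw [kulI_eq_sum, kulCyc_eq_sum]
  have hN : (kulN G (p ^ (b + 1)) : ℤ) =
      ∑ _U : {U : Subgroup G // Nat.card U = p ^ (b + 1)}, (1 : ℤ) := by
    unfold kulN
    rw [Nat.card_eq_fintype_card]
    simp
  rw [hN, Finset.sum_mul, Finset.mul_sum, ← Finset.sum_sub_distrib]
  push_cast
  apply Int.ModEq.sum
  rintro ⟨U, hU⟩ -
  by_cases hc : IsCyclic U
  · rw [kulMu_cyclic p b hp U hU hc, if_pos hc]
    simp
  · rw [if_neg hc]
    have := kulMu_noncyclic p b hp U hU hc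
    simpa using this

/-- **Main congruence**: `N_b ≡ 1 + p - p c_{b+1} (mod p²)`. -/
theorem kul_main_congr [Finite G] (p b : ℕ) (hp : p.Prime) (hdvd : p ^ (b + 1) ∣ Nat.card G) :
    (kulN G (p ^ b) : ℤ) ≡ 1 + p - p * (kulCyc G (p ^ (b + 1)) : ℤ) [ZMOD (p : ℤ) ^ 2] := by
  have : Fact p.Prime := ⟨hp⟩
  obtain ⟨m, hm⟩ := hdvd
  have hm0 : 0 < m := by
    rcases Nat.eq_zero_or_pos m with h | h
    · rw [h, mul_zero] at hm
      have : 0 < Nat.card G := Nat.card_pos
      omega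
    · exact h
  have h1 := kul_compare (G := G) p b m hp hm
  have h2 := kulI_modEq (G := G) p b hp
  have hd1 : p ^ (b + 1) ∣ Nat.card G := ⟨m, hm⟩
  have hd0 : p ^ b ∣ Nat.card G := dvd_trans (pow_dvd_pow p (Nat.le_succ b)) hd1
  have h3 : kulN G (p ^ (b + 1)) ≡ 1 [MOD p] :=
    card_subgroups_card_prime_pow_modEq_one p (b + 1) hp hd1
  have h4 : kulN G (p ^ b) ≡ 1 [MOD p] :=
    card_subgroups_card_prime_pow_modEq_one p b hp hd0
  have h5 : Nat.choose (p * m - 1) (p - 1) ≡ 1 [MOD p] := by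
    have := choose_pred_modEq_one p 1 m hm0
    rwa [pow_one] at this
  -- turn into integer divisibility statements
  obtain ⟨t3, ht3⟩ : ∃ t : ℤ, (kulN G (p ^ (b + 1)) : ℤ) = 1 + p * t := by
    have := (Int.natCast_modEq_iff.mpr h3).symm.dvd
    obtain ⟨t, ht⟩ := this
    exact ⟨t, by push_cast at ht; linarith⟩
  obtain ⟨t4, ht4⟩ : ∃ t : ℤ, (kulN G (p ^ b) : ℤ) = 1 + p * t := by
    have := (Int.natCast_modEq_iff.mpr h4).symm.dvd
    obtain ⟨t, ht⟩ := this
    exact ⟨t, by push_cast at ht; linarith⟩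
  obtain ⟨t5, ht5⟩ : ∃ t : ℤ, (Nat.choose (p * m - 1) (p - 1) : ℤ) = 1 + p * t := by
    have := (Int.natCast_modEq_iff.mpr h5).symm.dvd
    obtain ⟨t, ht⟩ := this
    exact ⟨t, by push_cast at ht; linarith⟩
  obtain ⟨u1, hu1⟩ := h1.symm.dvd
  obtain ⟨u2, hu2⟩ := h2.symm.dvd
  rw [Int.modEq_iff_dvd]
  refine ⟨t4 * t5 - t3 - u1 - u2, ?_⟩
  rw [ht5] at hu1
  rw [ht3] at hu1 hu2
  rw [ht4] at hu1 ⊢
  linear_combination -hu1 - hu2
end Cfsg.Agent.Lib.Helper72
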