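import Mathlib

set_option autoImplicit false

/-!
# Power formula modulo a normal elementary abelian subgroup of order `p ^ 2` (helper72)

For a finite `p`-group `Q`, `p` odd, and a normal subgroup `R` of order `p ^ 2` and exponent `p`,
`(x * r) ^ p = x ^ p` for all `x : Q`, `r ∈ R`.
-/

namespace Cfsg.Agent.Lib.Helper72

section PowerFormula

variable {Q : Type*} [Group Q]

theorem kul_pow_mul_comm (x r c : Q) (hc : ∀ g : Q, g * c = c * g) (h : r * x = x * r * c)
    (n : ℕ) : r ^ n * x = x * r ^ n * c ^ n := by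
  induction n with
  | zero => simp
  | succ n ih =>
    have h1 : c ^ n * r = r * c ^ n := ((Commute.pow_right (hc r) n).eq).symm
    calc r ^ (n + 1) * x = r ^ n * (r * x) := by rw [pow_succ, mul_assoc]
      _ = r ^ n * (x * r * c) := by rw [h]
      _ = (r ^ n * x) * (r * c) := by simp only [mul_assoc]
      _ = (x * r ^ n * c ^ n) * (r * c) := by rw [ih]
      _ = x * r ^ n * (c ^ n * r) * c := by simp only [mul_assoc]
      _ = x * r ^ n * (r * c ^ n) * c := by rw [h1]
      _ = x * (r ^ n * r) * (c ^ n * c) := by simp only [mul_assoc]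
      _ = x * r ^ (n + 1) * c ^ (n + 1) := by rw [← pow_succ, ← pow_succ]

theorem kul_mul_pow (x r c : Q) (hc : ∀ g : Q, g * c = c * g) (h : r * x = x * r * c)
    (n : ℕ) : (x * r) ^ n = x ^ n * r ^ n * c ^ (∑ i ∈ Finset.range n, i) := by
  induction n with
  | zero => simp
  | succ n ih =>
    set T := ∑ i ∈ Finset.range n, i with hT
    have h1 : c ^ T * x = x * c ^ T := ((Commute.pow_right (hc x) T).eq).symm
    have h2 : c ^ (n + T) * r = r * c ^ (n + T) := ((Commute.pow_right (hc r) (n + T)).eq).symm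
    have h3 := kul_pow_mul_comm x r c hc h n
    rw [Finset.sum_range_succ, ← hT]
    calc (x * r) ^ (n + 1) = (x * r) ^ n * (x * r) := pow_succ _ _
      _ = x ^ n * r ^ n * c ^ T * (x * r) := by rw [ih]
      _ = x ^ n * r ^ n * (c ^ T * x) * r := by simp only [mul_assoc]
      _ = x ^ n * r ^ n * (x * c ^ T) * r := by rw [h1]
      _ = x ^ n * (r ^ n * x) * c ^ T * r := by simp only [mul_assoc]
      _ = x ^ n * (x * r ^ n * c ^ n) * c ^ T * r := by rw [h3]
      _ = (x ^ n * x) * r ^ n * ((c ^ n * c ^ T) * r) := by simp only [mul_assoc]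
      _ = (x ^ n * x) * r ^ n * (r * c ^ (n + T)) := by rw [← pow_add, h2]
      _ = (x ^ n * x) * (r ^ n * r) * c ^ (n + T) := by simp only [mul_assoc]
      _ = x ^ (n + 1) * r ^ (n + 1) * c ^ (T + n) := by rw [← pow_succ, ← pow_succ, add_comm n T]

end PowerFormula

section Nilpotent

open scoped commutatorElement

variable {Q : Type*} [Group Q]

/-- In a nilpotent group, a normal subgroup `N` with `⁅N, ⊤⁆ = N` is trivial. -/
theorem kul_eq_bot_of_commutator_eq [Group.IsNilpotent Q] (N : Subgroup Q)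
    (h : ⁅N, (⊤ : Subgroup Q)⁆ = N) : N = ⊥ := by
  obtain ⟨n, hn⟩ := Subgroup.nilpotent_iff_lowerCentralSeries.mp (inferInstance : Group.IsNilpotent Q)
  have key : ∀ k, N ≤ (⊤ : Subgroup Q).lowerCentralSeries k := by
    intro k
    induction k with
    | zero => simp
    | succ k ih =>
      rw [Subgroup.lowerCentralSeries_succ, ← h]
      exact Subgroup.commutator_mono ih le_rfl
  have := key n
  rw [hn] at this
  exact le_bot_iff.mp this

/-- In a finite `p`-group, for a normal subgroup `R` of order `p ^ 2`, the subgroup `⁅R, ⊤⁆` is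
central. -/
theorem kul_commutator_le_center [Finite Q] {p : ℕ} [Fact p.Prime] (hQ : IsPGroup p Q)
    (R : Subgroup Q) [R.Normal] (hR : Nat.card R = p ^ 2) :
    ⁅R, (⊤ : Subgroup Q)⁆ ≤ Subgroup.center Q := by
  have hp := (Fact.out : p.Prime)
  have : Group.IsNilpotent Q := hQ.isNilpotent
  set Z := ⁅R, (⊤ : Subgroup Q)⁆ with hZ
  have hZR : Z ≤ R := Subgroup.commutator_le_left R ⊤
  have hZn : Z.Normal := Subgroup.commutator_normal R ⊤
  have hZne : Z ≠ R := by
    intro h
    have h1 := kul_eq_bot_of_commutator_eq R h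
    rw [h1] at hR
    simp at hR
    have := hp.one_lt
    have h2 : 1 < p ^ 2 := Nat.one_lt_pow (by norm_num) this
    omega
  have hZcard : Nat.card Z = 1 ∨ Nat.card Z = p := by
    have hdvd : Nat.card Z ∣ p ^ 2 := hR ▸ Subgroup.card_dvd_of_le hZR
    obtain ⟨j, hj, hjeq⟩ := (Nat.dvd_prime_pow hp).mp hdvd
    interval_cases j
    · left; simpa using hjeq
    · right; simpa using hjeq
    · exfalso
      apply hZne
      exact Subgroup.eq_of_le_of_card_ge hZR (by rw [hR, hjeq])
  set Z2 := ⁅Z, (⊤ : Subgroup Q)⁆ with hZ2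
  have hZ2Z : Z2 ≤ Z := Subgroup.commutator_le_left Z ⊤
  have hZ2bot : Z2 = ⊥ := by
    by_cases hZb : Z = ⊥
    · exact le_bot_iff.mp (hZb ▸ hZ2Z)
    · have hne : Z2 ≠ Z := fun h => hZb (kul_eq_bot_of_commutator_eq Z h)
      have hdvd : Nat.card Z2 ∣ Nat.card Z := Subgroup.card_dvd_of_le hZ2Z
      rcases hZcard with h1 | h1
      · exfalso
        apply hZb
        exact Subgroup.card_eq_one.mp h1
      · rw [h1] at hdvd
        rcases (Nat.dvd_prime hp).mp hdvd with h2 | h2
        · exact Subgroup.card_eq_one.mp h2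
        · exfalso
          apply hne
          exact Subgroup.eq_of_le_of_card_ge hZ2Z (by rw [h1, h2])
  have := Subgroup.commutator_eq_bot_iff_le_centralizer.mp hZ2bot
  rwa [Subgroup.coe_top, Subgroup.centralizer_univ] at this

/-- **Power formula**: `(x * r) ^ p = x ^ p` for `r` in a normal subgroup of order `p ^ 2` and
exponent `p` of a finite `p`-group, `p` odd. -/
theorem kul_mul_pow_prime [Finite Q] {p : ℕ} [Fact p.Prime] (hp2 : p ≠ 2) (hQ : IsPGroup p Q)
    (R : Subgroup Q) [R.Normal] (hR : Nat.card R = p ^ 2) (hexp : ∀ r ∈ R, r ^ p = 1)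
    (x r : Q) (hr : r ∈ R) : (x * r) ^ p = x ^ p := by
  have hp := (Fact.out : p.Prime)
  set c := ⁅r⁻¹, x⁻¹⁆ with hc
  have hcZ : c ∈ ⁅R, (⊤ : Subgroup Q)⁆ :=
    Subgroup.commutator_mem_commutator (inv_mem hr) (Subgroup.mem_top _)
  have hcR : c ∈ R := Subgroup.commutator_le_left R ⊤ hcZ
  have hcc : ∀ g : Q, g * c = c * g :=
    Subgroup.mem_center_iff.mp (kul_commutator_le_center hQ R hR hcZ)
  have hrel : r * x = x * r * c := by
    rw [hc, commutatorElement_def]
    group
  rw [kul_mul_pow x r c hcc hrel p, hexp r hr, mul_one]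
  have hodd : Odd p := hp.odd_of_ne_two hp2
  obtain ⟨t, ht⟩ := hodd
  have hT : ∑ i ∈ Finset.range p, i = p * t := by
    have h1 := Finset.sum_range_id_mul_two p
    have h2 : p - 1 = 2 * t := by omega
    rw [h2] at h1
    have h3 : (∑ i ∈ Finset.range p, i) * 2 = (p * t) * 2 := by rw [h1]; ring
    exact Nat.eq_of_mul_eq_mul_right (by norm_num) h3
  rw [hT, pow_mul, hexp c hcR, one_pow, mul_one]

/-- Iterated power formula. -/
theorem kul_mul_pow_prime_pow [Finite Q] {p : ℕ} [Fact p.Prime] (hp2 : p ≠ 2) (hQ : IsPGroup p Q)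
    (R : Subgroup Q) [R.Normal] (hR : Nat.card R = p ^ 2) (hexp : ∀ r ∈ R, r ^ p = 1)
    (x r : Q) (hr : r ∈ R) (j : ℕ) (hj : 1 ≤ j) : (x * r) ^ (p ^ j) = x ^ (p ^ j) := by
  obtain ⟨i, rfl⟩ : ∃ i, j = i + 1 := ⟨j - 1, by omega⟩
  rw [pow_succ', pow_mul, pow_mul, kul_mul_pow_prime hp2 hQ R hR hexp x r hr]

end Nilpotent

end Cfsg.Agent.Lib.Helper72
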