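import Mathlib
import Cfsg.Agent.Lib.Helper72.KulD
import Cfsg.Agent.Lib.Helper72.KulE

set_option autoImplicit false

/-!
# Miller's theorem on the number of cyclic subgroups (helper72)

In a finite `p`-group `Q`, `p` odd, with a normal subgroup `R` of order `p ^ 2` and exponent `p`,
the number of cyclic subgroups of order `p ^ k`, `k ≥ 2`, is divisible by `p`.
-/

namespace Cfsg.Agent.Lib.Helper72

section GenCount

variable {K : Type*} [Group K] [Finite K]

/-- The number of generators of a cyclic subgroup. -/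
theorem kul_card_generators (s : K) :
    Nat.card {t : K // Subgroup.zpowers t = Subgroup.zpowers s} = (orderOf s).totient := by
  classical
  have : Fintype (Subgroup.zpowers s) := Fintype.ofFinite _
  have h := IsCyclic.card_orderOf_eq_totient (α := Subgroup.zpowers s) (d := orderOf s)
    (by rw [← Nat.card_eq_fintype_card, Nat.card_zpowers])
  rw [← h, ← Fintype.card_subtype, ← Nat.card_eq_fintype_card]
  apply Nat.card_congr
  refine
    { toFun := fun t => ⟨⟨t.1, by
        have h1 : t.1 ∈ Subgroup.zpowers t.1 := Subgroup.mem_zpowers t.1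
        have h2 := t.2
        rw [h2] at h1
        exact h1⟩, ?_⟩
      invFun := fun t => ⟨t.1.1, ?_⟩
      left_inv := by rintro ⟨t, ht⟩; rfl
      right_inv := by rintro ⟨⟨t, ht⟩, ht2⟩; rfl }
  · rw [Subgroup.orderOf_mk, ← Nat.card_zpowers, t.2, Nat.card_zpowers]
  · have h1 : Subgroup.zpowers t.1.1 ≤ Subgroup.zpowers s := Subgroup.zpowers_le.mpr t.1.2
    apply Subgroup.eq_of_le_of_card_ge h1
    rw [Nat.card_zpowers, Nat.card_zpowers, Subgroup.orderOf_coe, t.2]

/-- A set closed under "generates the same cyclic subgroup" is counted by cyclic subgroups. -/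
theorem kul_card_eq_sum_generators (S : Set K)
    (hS : ∀ s ∈ S, ∀ t : K, Subgroup.zpowers t = Subgroup.zpowers s → t ∈ S)
    [Fintype (Subgroup K)]
    [DecidablePred fun D : Subgroup K => ∃ s ∈ S, Subgroup.zpowers s = D] :
    Nat.card S = ∑ D : Subgroup K,
      if (∃ s ∈ S, Subgroup.zpowers s = D) then (Nat.card D).totient else 0 := by
  classical
  have : Fintype K := Fintype.ofFinite K
  have h0 : Nat.card S = (Finset.univ.filter (· ∈ S)).card := by
    rw [Nat.card_eq_fintype_card, ← Fintype.card_subtype]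
  rw [h0, Finset.card_eq_sum_card_fiberwise (f := fun t => Subgroup.zpowers t)
    (t := Finset.univ) (fun _ _ => Finset.mem_coe.mpr (Finset.mem_univ _))]
  apply Finset.sum_congr rfl
  intro D _
  split_ifs with h
  · obtain ⟨s, hsS, hsD⟩ := h
    rw [← hsD, Nat.card_zpowers, ← kul_card_generators s, Nat.card_eq_fintype_card,
      Fintype.card_subtype]
    congr 1
    ext t
    simp only [Finset.mem_filter, Finset.mem_univ, true_and]
    constructor
    · rintro ⟨_, h2⟩; exact h2
    · intro h2; exact ⟨hS s hsS t h2, h2⟩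
  · rw [Finset.card_eq_zero, Finset.filter_eq_empty_iff]
    intro t ht hD
    simp only [Finset.mem_filter, Finset.mem_univ, true_and] at ht
    exact h ⟨t, ht, hD⟩

/-- Elements of order `n` are counted by cyclic subgroups of order `n`. -/
theorem kul_card_orderOf_eq (n : ℕ) :
    Nat.card {y : K // orderOf y = n} = kulCyc K n * n.totient := by
  classical
  have : Fintype (Subgroup K) := Fintype.ofFinite _
  have h1 := kul_card_eq_sum_generators (K := K) {y : K | orderOf y = n} (by
    intro s hs t ht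
    simp only [Set.mem_ofPred_eq] at hs ⊢
    rw [← Nat.card_zpowers, ht, Nat.card_zpowers, hs])
  have h2 : Nat.card {y : K // orderOf y = n} = Nat.card ({y : K | orderOf y = n} : Set K) := rfl
  rw [h2, h1]
  have h3 : ∀ D : Subgroup K, (if (∃ s ∈ {y : K | orderOf y = n}, Subgroup.zpowers s = D)
      then (Nat.card D).totient else 0) =
      if (Nat.card D = n ∧ IsCyclic D) then n.totient else 0 := by
    intro D
    have hiff : (∃ s ∈ {y : K | orderOf y = n}, Subgroup.zpowers s = D) ↔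
        (Nat.card D = n ∧ IsCyclic D) := by
      constructor
      · rintro ⟨s, hs, rfl⟩
        simp only [Set.mem_ofPred_eq] at hs
        refine ⟨by rw [Nat.card_zpowers, hs], ?_⟩
        exact (Subgroup.isCyclic_iff_exists_zpowers_eq_top _).mpr ⟨s, rfl⟩
      · rintro ⟨hc, hcyc⟩
        obtain ⟨g, hg⟩ := (Subgroup.isCyclic_iff_exists_zpowers_eq_top D).mp hcyc
        refine ⟨g, ?_, hg⟩
        simp only [Set.mem_ofPred_eq]
        rw [← Nat.card_zpowers, hg, hc]
    by_cases hD : (Nat.card D = n ∧ IsCyclic D)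
    · rw [if_pos hD, if_pos (hiff.mpr hD), hD.1]
    · rw [if_neg hD, if_neg (fun h => hD (hiff.mp h))]
  rw [Finset.sum_congr rfl (fun D _ => h3 D), Finset.sum_ite, Finset.sum_const_zero, add_zero,
    Finset.sum_const, smul_eq_mul]
  congr 1
  unfold kulCyc
  rw [Nat.card_eq_fintype_card, Fintype.card_subtype]

end GenCount

section Miller

variable {Q : Type*} [Group Q] [Finite Q] {p : ℕ} [Fact p.Prime]

theorem kul_orderOf_mul (hp2 : p ≠ 2) (hQ : IsPGroup p Q)
    (R : Subgroup Q) [R.Normal] (hR : Nat.card R = p ^ 2) (hexp : ∀ r ∈ R, r ^ p = 1)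
    (j : ℕ) (x r : Q) (hr : r ∈ R) (hx : orderOf x = p ^ (j + 2)) :
    orderOf (x * r) = p ^ (j + 2) := by
  have hp := (Fact.out : p.Prime)
  apply orderOf_eq_prime_pow
  · rw [kul_mul_pow_prime_pow hp2 hQ R hR hexp x r hr (j + 1) (by omega)]
    intro h
    have h1 := orderOf_dvd_of_pow_eq_one h
    rw [hx] at h1
    have h2 := (Nat.pow_dvd_pow_iff_le_right hp.one_lt).mp h1
    omega
  · rw [kul_mul_pow_prime_pow hp2 hQ R hR hexp x r hr (j + 1 + 1) (by omega), ← hx]
    exact pow_orderOf_eq_one x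

/-- The number of elements of order `p ^ (j + 2)` is divisible by `p ^ (j + 2)`. -/
theorem kul_pow_dvd_card_orderOf (hp2 : p ≠ 2) (hQ : IsPGroup p Q)
    (R : Subgroup Q) [R.Normal] (hR : Nat.card R = p ^ 2) (hexp : ∀ r ∈ R, r ^ p = 1)
    (j : ℕ) : p ^ (j + 2) ∣ Nat.card {y : Q // orderOf y = p ^ (j + 2)} := by
  classical
  have hp := (Fact.out : p.Prime)
  have : Fintype (Subgroup (Q ⧸ R)) := Fintype.ofFinite _
  set E : Set Q := {y : Q | orderOf y = p ^ (j + 2)} with hE
  set Ebar : Set (Q ⧸ R) := (QuotientGroup.mk : Q → Q ⧸ R) '' E with hEbar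
  -- (a) E is the full preimage
  have hpre : (QuotientGroup.mk : Q → Q ⧸ R) ⁻¹' Ebar = E := by
    ext y'
    constructor
    · rintro ⟨y, hy, hyy'⟩
      have h1 : y⁻¹ * y' ∈ R := QuotientGroup.eq.mp hyy'
      have h2 : y' = y * (y⁻¹ * y') := by group
      rw [h2]
      exact kul_orderOf_mul hp2 hQ R hR hexp j y _ h1 hy
    · intro h
      exact ⟨y', h, rfl⟩
  -- (b)
  have hcard : Nat.card {y : Q // orderOf y = p ^ (j + 2)} = p ^ 2 * Nat.card Ebar := by
    have h1 : Nat.card {y : Q // orderOf y = p ^ (j + 2)} = Nat.card E := rfl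
    rw [h1, ← hpre, Nat.card_congr (QuotientGroup.preimageMkEquivSubgroupProdSet R Ebar),
      Nat.card_prod, hR]
  -- (c) closure
  have hclosed : ∀ q ∈ Ebar, ∀ q' : Q ⧸ R, Subgroup.zpowers q' = Subgroup.zpowers q → q' ∈ Ebar := by
    rintro q ⟨y, hy, rfl⟩ q' hq'
    have hy' : orderOf y = p ^ (j + 2) := hy
    obtain ⟨i, hi⟩ : ∃ i : ℤ, (y : Q ⧸ R) ^ i = q' := by
      have : q' ∈ Subgroup.zpowers (y : Q ⧸ R) := hq' ▸ Subgroup.mem_zpowers q'
      exact Subgroup.mem_zpowers_iff.mp this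
    obtain ⟨i', hi'⟩ : ∃ i' : ℤ, q' ^ i' = (y : Q ⧸ R) := by
      have : (y : Q ⧸ R) ∈ Subgroup.zpowers q' := hq'.symm ▸ Subgroup.mem_zpowers _
      exact Subgroup.mem_zpowers_iff.mp this
    refine ⟨y ^ i, ?_, by rw [QuotientGroup.mk_zpow]; exact hi⟩
    show orderOf (y ^ i) = p ^ (j + 2)
    have hcomm : ∀ (t : Q) (a : ℤ) (n : ℕ), (t ^ a) ^ n = (t ^ n) ^ a := by
      intro t a n
      rw [← zpow_natCast (t ^ a) n, ← zpow_mul, mul_comm, zpow_mul, zpow_natCast]
    apply orderOf_eq_prime_pow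
    · intro h
      -- y = (y^i)^i' * r
      have h1 : (((y ^ i) ^ i' : Q) : Q ⧸ R) = (y : Q ⧸ R) := by
        rw [QuotientGroup.mk_zpow, QuotientGroup.mk_zpow, hi, hi']
      have h2 : ((y ^ i) ^ i')⁻¹ * y ∈ R := QuotientGroup.eq.mp h1
      have h3 : y = (y ^ i) ^ i' * (((y ^ i) ^ i')⁻¹ * y) := by group
      have h4 : y ^ (p ^ (j + 1)) = 1 := by
        rw [h3, kul_mul_pow_prime_pow hp2 hQ R hR hexp _ _ h2 (j + 1) (by omega), hcomm, h,
          one_zpow]
      have h5 := orderOf_dvd_of_pow_eq_one h4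
      rw [hy'] at h5
      have h6 := (Nat.pow_dvd_pow_iff_le_right hp.one_lt).mp h5
      omega
    · rw [hcomm, ← hy', pow_orderOf_eq_one, one_zpow]
  -- (d)
  have hdvd : ∀ q ∈ Ebar, p ^ j ∣ (orderOf q).totient := by
    rintro q ⟨y, hy, rfl⟩
    have hy' : orderOf y = p ^ (j + 2) := hy
    have hQR : IsPGroup p (Q ⧸ R) := hQ.to_quotient R
    obtain ⟨k', hk'⟩ := (IsPGroup.iff_orderOf.mp hQR) (y : Q ⧸ R)
    have hk'j : j + 1 ≤ k' := by
      by_contra hcon
      have h1 : (y : Q ⧸ R) ^ (p ^ j) = 1 := by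
        apply orderOf_dvd_iff_pow_eq_one.mp
        rw [hk']
        exact pow_dvd_pow p (by omega)
      have h2 : y ^ (p ^ j) ∈ R := by
        rw [← QuotientGroup.eq_one_iff, QuotientGroup.mk_pow]
        exact h1
      have h3 : y ^ (p ^ (j + 1)) = 1 := by
        rw [pow_succ, pow_mul]
        exact hexp _ h2
      have h5 := orderOf_dvd_of_pow_eq_one h3
      rw [hy'] at h5
      have h6 := (Nat.pow_dvd_pow_iff_le_right hp.one_lt).mp h5
      omega
    rw [hk', Nat.totient_prime_pow hp (by omega)]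
    exact Dvd.dvd.mul_right (pow_dvd_pow p (by omega)) _
  -- (e), (f)
  have hsum := kul_card_eq_sum_generators (K := Q ⧸ R) Ebar hclosed
  have hdvd2 : p ^ j ∣ Nat.card Ebar := by
    rw [hsum]
    apply Finset.dvd_sum
    intro D _
    split_ifs with h
    · obtain ⟨q, hq, rfl⟩ := h
      rw [Nat.card_zpowers]
      exact hdvd q hq
    · exact dvd_zero _
  rw [hcard, pow_add, mul_comm]
  exact Nat.mul_dvd_mul_left _ hdvd2

/-- **Miller's theorem** (given a normal subgroup of order `p ^ 2` and exponent `p`). -/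
theorem kul_miller_of_normal (hp2 : p ≠ 2) (hQ : IsPGroup p Q)
    (R : Subgroup Q) [R.Normal] (hR : Nat.card R = p ^ 2) (hexp : ∀ r ∈ R, r ^ p = 1)
    (j : ℕ) : p ∣ kulCyc Q (p ^ (j + 2)) := by
  have hp := (Fact.out : p.Prime)
  have h1 := kul_pow_dvd_card_orderOf hp2 hQ R hR hexp j
  rw [kul_card_orderOf_eq, Nat.totient_prime_pow hp (by omega)] at h1
  have h2 : j + 2 - 1 = j + 1 := by omega
  rw [h2] at h1
  have h3 : p ^ (j + 1) * p ∣ p ^ (j + 1) * (kulCyc Q (p ^ (j + 2)) * (p - 1)) := by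
    have : kulCyc Q (p ^ (j + 2)) * (p ^ (j + 1) * (p - 1)) =
        p ^ (j + 1) * (kulCyc Q (p ^ (j + 2)) * (p - 1)) := by ring
    rw [← this, ← pow_succ]
    exact h1
  have h4 : p ∣ kulCyc Q (p ^ (j + 2)) * (p - 1) :=
    Nat.dvd_of_mul_dvd_mul_left (pow_pos hp.pos _) h3
  have hcop : Nat.Coprime p (p - 1) := by
    rw [Nat.Prime.coprime_iff_not_dvd hp]
    intro h
    have h5 := hp.two_le
    have h6 := Nat.le_of_dvd (by omega) h
    omega
  exact Nat.Coprime.dvd_of_dvd_mul_right hcop h4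

end Miller

end Cfsg.Agent.Lib.Helper72
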