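import Mathlib
import Cfsg.Agent.S0126
import Cfsg.Agent.Lib.Helper72.KulF

set_option autoImplicit false

/-!
# Hall's congruence for the number of subgroups of order `p ^ a` (helper72)

* `kul_miller`: in a non-cyclic finite `p`-group, `p` odd, the number of cyclic subgroups of order
  `p ^ (j + 2)` is divisible by `p`.
* `kulCyc_modEq_sylow`: the number of cyclic subgroups of order `p ^ k` of `G` is congruent mod `p`
  to that of a Sylow `p`-subgroup.
* `kul_hall`: if `p ^ (a + 1) ∣ |G|` then the number of subgroups of order `p ^ a` is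
  `≡ 1` or `≡ 1 + p (mod p ^ 2)`.
-/

namespace Cfsg.Agent.Lib.Helper72

open Cfsg.Agent.Lib.Helper73

/-- **Miller's theorem**. -/
theorem kul_miller {Q : Type*} [Group Q] [Finite Q] {p : ℕ} [Fact p.Prime] (hp2 : p ≠ 2)
    (hQ : IsPGroup p Q) (hnc : ¬ IsCyclic Q) (j : ℕ) : p ∣ kulCyc Q (p ^ (j + 2)) := by
  obtain ⟨A, hAn, ⟨_, hexp⟩, hAcard⟩ := Cfsg.Agent.S0126.result hp2 hQ hnc
  exact kul_miller_of_normal hp2 hQ A hAcard hexp j

section Transfer

open scoped Pointwise

variable {G : Type*} [Group G]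

theorem kul_conj_smul_eq_iff (g : G) (C : Subgroup G) :
    MulAut.conj g • C = C ↔ g ∈ Subgroup.normalizer (C : Set G) := by
  rw [Subgroup.mem_normalizer_iff'']
  constructor
  · intro h x
    conv_lhs => rw [← h]
    rw [Subgroup.mem_pointwise_smul_iff_inv_smul_mem, MulAut.smul_def, MulAut.conj_inv_apply]
  · intro h
    ext x
    rw [Subgroup.mem_pointwise_smul_iff_inv_smul_mem, MulAut.smul_def, MulAut.conj_inv_apply]
    exact (h x).symm

/-- Conjugation action of a subgroup `H` on the subgroups satisfying an `H`-invariant predicate. -/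
@[reducible] noncomputable def kulConjAction (H : Subgroup G) (q : Subgroup G → Prop)
    (hq : ∀ g ∈ H, ∀ C : Subgroup G, q C → q (MulAut.conj g • C)) :
    MulAction H {C : Subgroup G // q C} where
  smul g C := ⟨MulAut.conj (g : G) • C.1, hq g.1 g.2 C.1 C.2⟩
  one_smul C := by
    apply Subtype.ext
    show MulAut.conj ((1 : H) : G) • C.1 = C.1
    simp
  mul_smul g h C := by
    apply Subtype.ext
    show MulAut.conj ((g * h : H) : G) • C.1 = MulAut.conj (g : G) • MulAut.conj (h : G) • C.1
    rw [Subgroup.coe_mul, map_mul, mul_smul]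

theorem kul_card_modEq_card_normalized [Finite G] {p : ℕ} [Fact p.Prime] (H : Subgroup G)
    (hH : IsPGroup p H) (q : Subgroup G → Prop)
    (hq : ∀ g ∈ H, ∀ C : Subgroup G, q C → q (MulAut.conj g • C)) :
    Nat.card {C : Subgroup G // q C} ≡
      Nat.card {C : Subgroup G // q C ∧ H ≤ Subgroup.normalizer (C : Set G)} [MOD p] := by
  let _ := kulConjAction H q hq
  have h1 := hH.card_modEq_card_fixedPoints {C : Subgroup G // q C}
  have h2 : Nat.card (MulAction.fixedPoints H {C : Subgroup G // q C}) =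
      Nat.card {C : Subgroup G // q C ∧ H ≤ Subgroup.normalizer (C : Set G)} := by
    apply Nat.card_congr
    exact
      { toFun := fun C => ⟨C.1.1, C.1.2, fun g hg =>
          (kul_conj_smul_eq_iff g C.1.1).mp (congrArg Subtype.val (C.2 ⟨g, hg⟩))⟩
        invFun := fun C => ⟨⟨C.1, C.2.1⟩, fun g =>
          Subtype.ext ((kul_conj_smul_eq_iff g.1 C.1).mpr (C.2.2 g.2))⟩
        left_inv := fun _ => rfl
        right_inv := fun _ => rfl }
  rw [h2] at h1
  exact h1

theorem kulCyc_modEq_sylow [Finite G] {p : ℕ} [Fact p.Prime] (P : Sylow p G) (k : ℕ) :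
    kulCyc G (p ^ k) ≡ kulCyc (P : Subgroup G) (p ^ k) [MOD p] := by
  set q : Subgroup G → Prop := fun C => Nat.card C = p ^ k ∧ IsCyclic C with hq
  set q2 : Subgroup G → Prop := fun C => q C ∧ C ≤ (P : Subgroup G) with hq2
  have hqinv : ∀ g : G, ∀ C : Subgroup G, q C → q (MulAut.conj g • C) := by
    intro g C hC
    refine ⟨?_, ?_⟩
    · rw [← hC.1]
      exact (Nat.card_congr (Subgroup.equivSMul (MulAut.conj g) C).toEquiv).symm
    · exact (Subgroup.equivSMul (MulAut.conj g) C).isCyclic.mp hC.2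
  have h1 := kul_card_modEq_card_normalized (P : Subgroup G) P.2 q
    (fun g _ C hC => hqinv g C hC)
  have h2 := kul_card_modEq_card_normalized (P : Subgroup G) P.2 q2
    (fun g hg C hC => ⟨hqinv g C hC.1, Subgroup.conj_smul_le_of_le hC.2 ⟨g, hg⟩⟩)
  have h3 : Nat.card {C : Subgroup G // q C ∧
      (P : Subgroup G) ≤ Subgroup.normalizer (C : Set G)} =
      Nat.card {C : Subgroup G // q2 C ∧
        (P : Subgroup G) ≤ Subgroup.normalizer (C : Set G)} := by
    apply Nat.card_congr
    apply Equiv.subtypeEquivRight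
    intro C
    constructor
    · rintro ⟨hC, hN⟩
      refine ⟨⟨hC, ?_⟩, hN⟩
      have hCp : IsPGroup p C := IsPGroup.of_card hC.1
      have hsup : IsPGroup p ((P : Subgroup G) ⊔ C : Subgroup G) :=
        IsPGroup.to_sup_of_normal_right' P.2 hCp hN
      have := P.3 hsup le_sup_left
      rw [← this]
      exact le_sup_right
    · rintro ⟨⟨hC, _⟩, hN⟩
      exact ⟨hC, hN⟩
  have h4 : Nat.card {C : Subgroup G // q2 C} = kulCyc (P : Subgroup G) (p ^ k) := by
    unfold kulCyc
    apply Nat.card_congr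
    exact
      { toFun := fun C => ⟨C.1.subgroupOf (P : Subgroup G), by
          have e := Subgroup.subgroupOfEquivOfLe C.2.2
          exact ⟨by rw [Nat.card_congr e.toEquiv]; exact C.2.1.1, e.isCyclic.mpr C.2.1.2⟩⟩
        invFun := fun W => ⟨W.1.map (P : Subgroup G).subtype, by
          have e := Subgroup.equivMapOfInjective W.1 (P : Subgroup G).subtype
            (P : Subgroup G).subtype_injective
          exact ⟨⟨by rw [← Nat.card_congr e.toEquiv]; exact W.2.1, e.isCyclic.mp W.2.2⟩,
            Subgroup.map_subtype_le W.1⟩⟩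
        left_inv := by
          rintro ⟨C, h1, h2⟩
          apply Subtype.ext
          simp only [Subgroup.subgroupOf_map_subtype]
          exact inf_eq_left.mpr h2
        right_inv := by
          rintro ⟨W, hW⟩
          apply Subtype.ext
          exact Subgroup.comap_map_eq_self_of_injective (P : Subgroup G).subtype_injective W }
  have h0 : kulCyc G (p ^ k) = Nat.card {C : Subgroup G // q C} := rfl
  rw [h0, ← h4]
  exact (h1.trans (h3 ▸ Nat.ModEq.refl _)).trans h2.symm

end Transfer

section Hall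

variable {G : Type*} [Group G] [Finite G]

omit [Finite G] in
theorem kulN_one : kulN G 1 = 1 := by
  unfold kulN
  rw [Nat.card_eq_one_iff_unique]
  refine ⟨⟨?_⟩, ⟨⟨⊥, Subgroup.card_bot⟩⟩⟩
  rintro ⟨U, hU⟩ ⟨U', hU'⟩
  apply Subtype.ext
  show U = U'
  exact (Subgroup.card_eq_one.mp hU).trans (Subgroup.card_eq_one.mp hU').symm

/-- The number of cyclic subgroups of order `p ^ (a + 1)` (with `a ≥ 1`) is `≡ 0` or `1 (mod p)`. -/
theorem kulCyc_modEq_zero_or_one (p a : ℕ) (hp : p.Prime) (ha : 1 ≤ a)
    (hdvd : p ^ (a + 1) ∣ Nat.card G) :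
    kulCyc G (p ^ (a + 1)) ≡ 0 [MOD p] ∨ kulCyc G (p ^ (a + 1)) ≡ 1 [MOD p] := by
  have : Fact p.Prime := ⟨hp⟩
  by_cases hp2 : p = 2
  · subst hp2
    rcases Nat.mod_two_eq_zero_or_one (kulCyc G (2 ^ (a + 1))) with h | h
    · left; exact h
    · right; exact h
  · obtain ⟨P⟩ : Nonempty (Sylow p G) := inferInstance
    have h1 := kulCyc_modEq_sylow P (a + 1)
    have hPcard : p ^ (a + 1) ∣ Nat.card (P : Subgroup G) := by
      rw [P.card_eq_multiplicity]
      apply pow_dvd_pow
      exact (hp.pow_dvd_iff_le_factorization Nat.card_pos.ne').mp hdvd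
    by_cases hc : IsCyclic (P : Subgroup G)
    · right
      refine h1.trans ?_
      have h2 : kulCyc (P : Subgroup G) (p ^ (a + 1)) = kulN (P : Subgroup G) (p ^ (a + 1)) := by
        unfold kulCyc kulN
        apply Nat.card_congr
        apply Equiv.subtypeEquivRight
        intro W
        constructor
        · exact fun h => h.1
        · intro h
          exact ⟨h, inferInstance⟩
      rw [h2, kulN_cyclic p (a + 1) hPcard]
    · left
      refine h1.trans ?_
      obtain ⟨j, rfl⟩ : ∃ j, a = j + 1 := ⟨a - 1, by omega⟩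
      exact (Nat.modEq_zero_iff_dvd).mpr (kul_miller hp2 P.2 hc j)

/-- **P. Hall's congruence**: if `p ^ (a + 1)` divides `|G|` then the number of subgroups of order
`p ^ a` is congruent to `1` or to `1 + p` modulo `p ^ 2`. -/
theorem kul_hall (p a : ℕ) (hp : p.Prime) (hdvd : p ^ (a + 1) ∣ Nat.card G) :
    kulN G (p ^ a) ≡ 1 [MOD p ^ 2] ∨ kulN G (p ^ a) ≡ 1 + p [MOD p ^ 2] := by
  rcases Nat.eq_zero_or_pos a with ha | ha
  · left
    rw [ha, pow_zero, kulN_one]
  · have hmain := kul_main_congr (G := G) p a hp hdvd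
    rcases kulCyc_modEq_zero_or_one p a hp ha hdvd with h | h
    · right
      obtain ⟨t, ht⟩ := (Int.natCast_modEq_iff.mpr h).symm.dvd
      obtain ⟨u, hu⟩ := hmain.symm.dvd
      apply Int.natCast_modEq_iff.mp
      rw [Int.modEq_iff_dvd]
      refine ⟨t - u, ?_⟩
      push_cast at ht ⊢
      linear_combination -hu + (p : ℤ) * ht
    · left
      obtain ⟨t, ht⟩ := (Int.natCast_modEq_iff.mpr h).symm.dvd
      obtain ⟨u, hu⟩ := hmain.symm.dvd
      apply Int.natCast_modEq_iff.mp
      rw [Int.modEq_iff_dvd]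
      refine ⟨t - u, ?_⟩
      push_cast at ht ⊢
      linear_combination -hu + (p : ℤ) * ht

end Hall

end Cfsg.Agent.Lib.Helper72
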