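import Mathlib
import Cfsg.Agent.Lib.Helper72.KulG

set_option autoImplicit false

/-!
# Elements of order `p ^ s * m` (helper72)

`kul_pow_dvd_card_orderOf_mul`: if `p` is odd, the Sylow `p`-subgroups of `G` are not cyclic, `s ≥ 2`
and `m` is coprime to `p`, then `p ^ s` divides the number of elements of order `p ^ s * m`.
-/

namespace Cfsg.Agent.Lib.Helper72

section Decomp

variable {G : Type*} [Group G]

theorem kul_orderOf_eq_of_mul (a b : ℕ) (ha : 0 < a) (hb : 0 < b) (u v : G)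
    (hcomm : Commute u v) (h1 : orderOf u ∣ a) (h2 : orderOf v ∣ b)
    (h3 : orderOf (u * v) = a * b) : orderOf u = a ∧ orderOf v = b := by
  have h4 : a * b ∣ orderOf u * orderOf v := by
    have := hcomm.orderOf_mul_dvd_lcm
    rw [h3] at this
    exact dvd_trans this (Nat.lcm_dvd_mul _ _)
  have hu0 : 0 < orderOf u := Nat.pos_of_dvd_of_pos h1 ha
  have hv0 : 0 < orderOf v := Nat.pos_of_dvd_of_pos h2 hb
  have hua : orderOf u ≤ a := Nat.le_of_dvd ha h1
  have hvb : orderOf v ≤ b := Nat.le_of_dvd hb h2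
  have h5 : a * b ≤ orderOf u * orderOf v := Nat.le_of_dvd (Nat.mul_pos hu0 hv0) h4
  constructor
  · apply Nat.le_antisymm hua
    by_contra hcon
    have : orderOf u * orderOf v < a * b := by
      calc orderOf u * orderOf v ≤ orderOf u * b := Nat.mul_le_mul_left _ hvb
        _ < a * b := Nat.mul_lt_mul_of_pos_right (by omega) hb
    omega
  · apply Nat.le_antisymm hvb
    by_contra hcon
    have : orderOf u * orderOf v < a * b := by
      calc orderOf u * orderOf v ≤ a * orderOf v := Nat.mul_le_mul_right _ hua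
        _ < a * b := Nat.mul_lt_mul_of_pos_left (by omega) ha
    omega

/-- Elements of order `a * b` (`a`, `b` coprime) correspond to commuting pairs of elements of
orders `a` and `b`. -/
noncomputable def kulOrderMulEquiv (a b : ℕ) (ha : 0 < a) (hb : 0 < b) (hab : Nat.Coprime a b) :
    {g : G // orderOf g = a * b} ≃
      {q : G × G // orderOf q.2 = a ∧ orderOf q.1 = b ∧ Commute q.2 q.1} := by
  classical
  let e1 := Nat.chineseRemainder hab 1 0
  let e2 := Nat.chineseRemainder hab 0 1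
  have he1a : (e1 : ℕ) ≡ 1 [MOD a] := e1.2.1
  have he1b : (e1 : ℕ) ≡ 0 [MOD b] := e1.2.2
  have he2a : (e2 : ℕ) ≡ 0 [MOD a] := e2.2.1
  have he2b : (e2 : ℕ) ≡ 1 [MOD b] := e2.2.2
  have hb1 : b ∣ (e1 : ℕ) := (Nat.modEq_zero_iff_dvd).mp he1b
  have ha2 : a ∣ (e2 : ℕ) := (Nat.modEq_zero_iff_dvd).mp he2a
  have hsum : ((e1 : ℕ) + (e2 : ℕ)) ≡ 1 [MOD a * b] := by
    apply (Nat.modEq_and_modEq_iff_modEq_mul hab).mp
    constructor
    · simpa using he1a.add he2a
    · simpa using he1b.add he2b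
  have hprod : ∀ g : G, orderOf g = a * b → g ^ (e1 : ℕ) * g ^ (e2 : ℕ) = g := by
    intro g hg
    rw [← pow_add]
    conv_rhs => rw [← pow_one g]
    rw [pow_eq_pow_iff_modEq, hg]
    exact hsum
  refine
    { toFun := fun g => ⟨(g.1 ^ (e2 : ℕ), g.1 ^ (e1 : ℕ)), ?_⟩
      invFun := fun q => ⟨q.1.2 * q.1.1, ?_⟩
      left_inv := ?_
      right_inv := ?_ }
  · -- orders
    obtain ⟨g, hg⟩ := g
    have hcomm : Commute (g ^ (e1 : ℕ)) (g ^ (e2 : ℕ)) := (Commute.refl g).pow_pow _ _
    have h1 : orderOf (g ^ (e1 : ℕ)) ∣ a := by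
      apply orderOf_dvd_of_pow_eq_one
      rw [← pow_mul]
      apply orderOf_dvd_iff_pow_eq_one.mp
      rw [hg, mul_comm a b]
      exact Nat.mul_dvd_mul hb1 (dvd_refl a)
    have h2 : orderOf (g ^ (e2 : ℕ)) ∣ b := by
      apply orderOf_dvd_of_pow_eq_one
      rw [← pow_mul]
      apply orderOf_dvd_iff_pow_eq_one.mp
      rw [hg]
      exact Nat.mul_dvd_mul ha2 (dvd_refl b)
    have h3 := kul_orderOf_eq_of_mul a b ha hb _ _ hcomm h1 h2 (by rw [hprod g hg]; exact hg)
    exact ⟨h3.1, h3.2, hcomm⟩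
  · obtain ⟨⟨v, u⟩, hu, hv, hc⟩ := q
    show orderOf (u * v) = a * b
    rw [hc.orderOf_mul_eq_mul_orderOf_of_coprime (by rw [hu, hv]; exact hab), hu, hv]
  · rintro ⟨g, hg⟩
    apply Subtype.ext
    exact hprod g hg
  · rintro ⟨⟨v, u⟩, hu, hv, hc⟩
    apply Subtype.ext
    have hu1 : u ^ (e1 : ℕ) = u := by
      conv_rhs => rw [← pow_one u]
      rw [pow_eq_pow_iff_modEq, hu]
      exact he1a
    have hv1 : v ^ (e1 : ℕ) = 1 := by
      apply orderOf_dvd_iff_pow_eq_one.mp
      rw [hv]; exact hb1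
    have hu2 : u ^ (e2 : ℕ) = 1 := by
      apply orderOf_dvd_iff_pow_eq_one.mp
      rw [hu]; exact ha2
    have hv2 : v ^ (e2 : ℕ) = v := by
      conv_rhs => rw [← pow_one v]
      rw [pow_eq_pow_iff_modEq, hv]
      exact he2b
    show ((u * v) ^ (e2 : ℕ), (u * v) ^ (e1 : ℕ)) = (v, u)
    rw [hc.mul_pow, hc.mul_pow, hu1, hv1, hu2, hv2, one_mul, mul_one]

/-- Counting elements of order `a * b` by their `b`-part. -/
theorem kul_card_orderOf_mul [Finite G] (a b : ℕ) (ha : 0 < a) (hb : 0 < b)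
    (hab : Nat.Coprime a b) [Fintype G] :
    Nat.card {g : G // orderOf g = a * b} =
      ∑ v : G, Nat.card {u : G // orderOf u = a ∧ orderOf v = b ∧ Commute u v} := by
  rw [Nat.card_congr (kulOrderMulEquiv a b ha hb hab),
    Nat.card_congr (Equiv.subtypeProdEquivSigmaSubtype
      (fun v u : G => orderOf u = a ∧ orderOf v = b ∧ Commute u v)), Nat.card_sigma]

/-- Counting elements of order `a * b` by their `b`-part (sum over the elements of order `b`). -/
theorem kul_card_orderOf_mul' [Finite G] (a b : ℕ) (ha : 0 < a) (hb : 0 < b)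
    (hab : Nat.Coprime a b) [Fintype {v : G // orderOf v = b}] :
    Nat.card {g : G // orderOf g = a * b} =
      ∑ v : {v : G // orderOf v = b}, Nat.card {u : G // orderOf u = a ∧ Commute u v.1} := by
  rw [Nat.card_congr (kulOrderMulEquiv a b ha hb hab), ← Nat.card_sigma]
  apply Nat.card_congr
  exact
    { toFun := fun q => ⟨⟨q.1.1, q.2.2.1⟩, ⟨q.1.2, q.2.1, q.2.2.2⟩⟩
      invFun := fun s => ⟨(s.1.1, s.2.1), s.2.2.1, s.1.2, s.2.2.2⟩
      left_inv := fun _ => rfl
      right_inv := fun _ => rfl }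

end Decomp

section Weighted

variable {P : Type*} [Group P] {V : Type*} [MulAction P V]

/-- The action of `P` on the "area under the graph" of an invariant function `f : V → ℕ`. -/
@[reducible] def kulWeightAction (f : V → ℕ) (hf : ∀ (g : P) (v : V), f (g • v) = f v) :
    MulAction P {x : V × ℕ // x.2 < f x.1} where
  smul g x := ⟨(g • x.1.1, x.1.2), by rw [hf]; exact x.2⟩
  one_smul x := by
    apply Subtype.ext
    show ((1 : P) • x.1.1, x.1.2) = x.1
    rw [one_smul]
  mul_smul g h x := by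
    apply Subtype.ext
    show ((g * h) • x.1.1, x.1.2) = (g • h • x.1.1, x.1.2)
    rw [mul_smul]

/-- **Weighted fixed point congruence**: if a `p`-group acts on a finite set `V`, `f : V → ℕ` is
invariant and `p ∣ f v` at every fixed point `v`, then `p ∣ ∑ v, f v`. -/
theorem kul_dvd_sum_of_fixedPoints [Fintype V] {p : ℕ} [Fact p.Prime] (hP : IsPGroup p P)
    (f : V → ℕ) (hf : ∀ (g : P) (v : V), f (g • v) = f v)
    (hfix : ∀ v ∈ MulAction.fixedPoints P V, p ∣ f v) : p ∣ ∑ v, f v := by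
  classical
  let _ := kulWeightAction f hf
  have eT : {x : V × ℕ // x.2 < f x.1} ≃ Σ v : V, Fin (f v) :=
    { toFun := fun x => ⟨x.1.1, ⟨x.1.2, x.2⟩⟩
      invFun := fun s => ⟨(s.1, s.2.1), s.2.2⟩
      left_inv := fun _ => rfl
      right_inv := fun _ => rfl }
  have : Finite {x : V × ℕ // x.2 < f x.1} := Finite.of_equiv _ eT.symm
  have h1 := hP.card_modEq_card_fixedPoints {x : V × ℕ // x.2 < f x.1}
  have hcardT : Nat.card {x : V × ℕ // x.2 < f x.1} = ∑ v, f v := by
    rw [Nat.card_congr eT, Nat.card_sigma]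
    simp
  have eF : MulAction.fixedPoints P {x : V × ℕ // x.2 < f x.1} ≃
      Σ v : MulAction.fixedPoints P V, Fin (f v.1) :=
    { toFun := fun x => ⟨⟨x.1.1.1, fun g => congrArg (fun y => y.1.1) (x.2 g)⟩, ⟨x.1.1.2, x.1.2⟩⟩
      invFun := fun s => ⟨⟨(s.1.1, s.2.1), s.2.2⟩, fun g => Subtype.ext (by
        show (g • s.1.1, s.2.1) = (s.1.1, s.2.1)
        rw [s.1.2 g])⟩
      left_inv := fun _ => rfl
      right_inv := fun _ => rfl }
  have hfixT : p ∣ Nat.card (MulAction.fixedPoints P {x : V × ℕ // x.2 < f x.1}) := by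
    have : Fintype (MulAction.fixedPoints P V) := Fintype.ofFinite _
    rw [Nat.card_congr eF, Nat.card_sigma]
    apply Finset.dvd_sum
    intro v _
    simp only [Nat.card_eq_fintype_card, Fintype.card_fin]
    exact hfix v.1 v.2
  rw [← hcardT]
  exact (Nat.modEq_zero_iff_dvd).mp (h1.trans ((Nat.modEq_zero_iff_dvd).mpr hfixT))

end Weighted

section Final

/-- **Miller's theorem** for arbitrary finite groups with a non-cyclic Sylow `p`-subgroup. -/
theorem kul_miller_sylow {H : Type*} [Group H] [Finite H] {p : ℕ} [Fact p.Prime] (hp2 : p ≠ 2)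
    (Q : Sylow p H) (hnc : ¬ IsCyclic (Q : Subgroup H)) (j : ℕ) : p ∣ kulCyc H (p ^ (j + 2)) :=
  (Nat.modEq_zero_iff_dvd).mp ((kulCyc_modEq_sylow Q (j + 2)).trans
    ((Nat.modEq_zero_iff_dvd).mpr (kul_miller hp2 Q.2 hnc j)))

theorem kul_pow_dvd_card_orderOf_sylow {H : Type*} [Group H] [Finite H] {p : ℕ} [Fact p.Prime]
    (hp2 : p ≠ 2) (Q : Sylow p H) (hnc : ¬ IsCyclic (Q : Subgroup H)) (j : ℕ) :
    p ^ (j + 2) ∣ Nat.card {u : H // orderOf u = p ^ (j + 2)} := by
  have hp := (Fact.out : p.Prime)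
  rw [kul_card_orderOf_eq, Nat.totient_prime_pow hp (by omega)]
  obtain ⟨c, hc⟩ := kul_miller_sylow hp2 Q hnc j
  rw [hc, show j + 2 - 1 = j + 1 by omega]
  exact ⟨c * (p - 1), by ring⟩

theorem kul_pow_pred_dvd_card_orderOf {H : Type*} [Group H] [Finite H] (p : ℕ) (hp : p.Prime)
    (s : ℕ) (hs : 0 < s) : p ^ (s - 1) ∣ Nat.card {u : H // orderOf u = p ^ s} := by
  rw [kul_card_orderOf_eq, Nat.totient_prime_pow hp hs]
  exact ⟨kulCyc H (p ^ s) * (p - 1), by ring⟩

variable {G : Type*} [Group G]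

/-- Conjugation action of a subgroup on the set of elements of a given order. -/
@[reducible] def kulConjOrderAction (H : Subgroup G) (b : ℕ) :
    MulAction H {v : G // orderOf v = b} where
  smul g v := ⟨(g : G) * v.1 * (g : G)⁻¹, by
    have h := MulEquiv.orderOf_eq (MulAut.conj (g : G)) v.1
    rw [MulAut.conj_apply] at h
    rw [h]; exact v.2⟩
  one_smul v := by
    apply Subtype.ext
    show ((1 : H) : G) * v.1 * ((1 : H) : G)⁻¹ = v.1
    simp
  mul_smul g h v := by
    apply Subtype.ext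
    show ((g * h : H) : G) * v.1 * ((g * h : H) : G)⁻¹ =
      (g : G) * ((h : G) * v.1 * (h : G)⁻¹) * (g : G)⁻¹
    simp [mul_assoc]

/-- Elements of order `a` commuting with `v` are the elements of order `a` of the centralizer. -/
noncomputable def kulCommEquivCentralizer (a : ℕ) (v : G) :
    {u : G // orderOf u = a ∧ Commute u v} ≃
      {u : Subgroup.centralizer ({v} : Set G) // orderOf u = a} where
  toFun u := ⟨⟨u.1, Subgroup.mem_centralizer_singleton_iff.mpr u.2.2.eq⟩, by
    rw [Subgroup.orderOf_mk]; exact u.2.1⟩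
  invFun w := ⟨w.1.1, by rw [Subgroup.orderOf_coe]; exact w.2,
    Subgroup.mem_centralizer_singleton_iff.mp w.1.2⟩
  left_inv := fun _ => rfl
  right_inv := fun _ => rfl

/-- If `p` is odd, the Sylow `p`-subgroups of `G` are not cyclic, `s ≥ 2` and `m` is coprime to
`p`, then `p ^ s` divides the number of elements of order `p ^ s * m`. -/
theorem kul_pow_dvd_card_orderOf_mul [Finite G] (p : ℕ) [Fact p.Prime] (hp2 : p ≠ 2)
    (P : Sylow p G) (hP : ¬ IsCyclic (P : Subgroup G)) (s m : ℕ) (hs : 1 < s)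
    (hm : Nat.Coprime p m) : p ^ s ∣ Nat.card {g : G // orderOf g = p ^ s * m} := by
  classical
  have hp := (Fact.out : p.Prime)
  have hm0 : 0 < m := by
    rcases Nat.eq_zero_or_pos m with h | h
    · rw [h, Nat.coprime_zero_right] at hm
      exact absurd hm hp.one_lt.ne'
    · exact h
  have : Fintype {v : G // orderOf v = m} := Fintype.ofFinite _
  rw [kul_card_orderOf_mul' (p ^ s) m (pow_pos hp.pos s) hm0 (Nat.Coprime.pow_left s hm)]
  set t : {v : G // orderOf v = m} → ℕ :=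
    fun v => Nat.card {u : G // orderOf u = p ^ s ∧ Commute u v.1} with ht
  have ht1 : ∀ v, p ^ (s - 1) ∣ t v := by
    intro v
    rw [ht]
    simp only
    rw [Nat.card_congr (kulCommEquivCentralizer (p ^ s) v.1)]
    exact kul_pow_pred_dvd_card_orderOf p hp s (by omega)
  let _ := kulConjOrderAction (P : Subgroup G) m
  have hsmul : ∀ (g : (P : Subgroup G)) (v : {v : G // orderOf v = m}),
      (g • v).1 = (g : G) * v.1 * (g : G)⁻¹ := fun _ _ => rfl
  have htinv : ∀ (g : (P : Subgroup G)) (v : {v : G // orderOf v = m}), t (g • v) = t v := by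
    intro g v
    rw [ht]
    simp only
    symm
    apply Nat.card_congr
    refine
      { toFun := fun u => ⟨(g : G) * u.1 * (g : G)⁻¹, ?_, ?_⟩
        invFun := fun u => ⟨(g : G)⁻¹ * u.1 * (g : G), ?_, ?_⟩
        left_inv := ?_
        right_inv := ?_ }
    · have h := MulEquiv.orderOf_eq (MulAut.conj (g : G)) u.1
      rw [MulAut.conj_apply] at h
      rw [h]; exact u.2.1
    · rw [hsmul]
      have h := u.2.2.eq
      show (g : G) * u.1 * (g : G)⁻¹ * ((g : G) * v.1 * (g : G)⁻¹) =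
        (g : G) * v.1 * (g : G)⁻¹ * ((g : G) * u.1 * (g : G)⁻¹)
      have e1 : (g : G) * u.1 * (g : G)⁻¹ * ((g : G) * v.1 * (g : G)⁻¹) =
          (g : G) * (u.1 * v.1) * (g : G)⁻¹ := by group
      have e2 : (g : G) * v.1 * (g : G)⁻¹ * ((g : G) * u.1 * (g : G)⁻¹) =
          (g : G) * (v.1 * u.1) * (g : G)⁻¹ := by group
      rw [e1, e2, h]
    · have h := MulEquiv.orderOf_eq (MulAut.conj (g : G)⁻¹) u.1
      rw [MulAut.conj_apply, inv_inv] at h
      rw [h]; exact u.2.1
    · have h : u.1 * ((g : G) * v.1 * (g : G)⁻¹) = ((g : G) * v.1 * (g : G)⁻¹) * u.1 := u.2.2.eq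
      show (g : G)⁻¹ * u.1 * (g : G) * v.1 = v.1 * ((g : G)⁻¹ * u.1 * (g : G))
      have e1 : (g : G)⁻¹ * u.1 * (g : G) * v.1 =
          (g : G)⁻¹ * (u.1 * ((g : G) * v.1 * (g : G)⁻¹)) * (g : G) := by group
      have e2 : v.1 * ((g : G)⁻¹ * u.1 * (g : G)) =
          (g : G)⁻¹ * (((g : G) * v.1 * (g : G)⁻¹) * u.1) * (g : G) := by group
      rw [e1, e2, h]
    · intro u
      apply Subtype.ext
      show (g : G)⁻¹ * ((g : G) * u.1 * (g : G)⁻¹) * (g : G) = u.1
      group
    · intro u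
      apply Subtype.ext
      show (g : G) * ((g : G)⁻¹ * u.1 * (g : G)) * (g : G)⁻¹ = u.1
      group
  have hfix : ∀ v ∈ MulAction.fixedPoints (P : Subgroup G) {v : G // orderOf v = m},
      p ∣ t v / p ^ (s - 1) := by
    intro v hv
    have hle : (P : Subgroup G) ≤ Subgroup.centralizer ({v.1} : Set G) := by
      intro g hg
      rw [Subgroup.mem_centralizer_singleton_iff]
      have h1 := congrArg Subtype.val (hv ⟨g, hg⟩)
      rw [hsmul] at h1
      have h2 : g * v.1 = g * v.1 * g⁻¹ * g := by group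
      rw [h2]
      exact congrArg (· * g) h1 |>.trans (by rfl)
    have hnc : ¬ IsCyclic ((P.subtype hle : Sylow p (Subgroup.centralizer ({v.1} : Set G))) :
        Subgroup (Subgroup.centralizer ({v.1} : Set G))) := by
      rw [Sylow.coe_subtype]
      intro hc
      exact hP ((Subgroup.subgroupOfEquivOfLe hle).isCyclic.mp hc)
    obtain ⟨j, rfl⟩ : ∃ j, s = j + 2 := ⟨s - 2, by omega⟩
    have h3 : p ^ (j + 2) ∣ t v := by
      rw [ht]
      simp only
      rw [Nat.card_congr (kulCommEquivCentralizer (p ^ (j + 2)) v.1)]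
      exact kul_pow_dvd_card_orderOf_sylow hp2 (P.subtype hle) hnc j
    obtain ⟨c, hc⟩ := h3
    rw [hc, show j + 2 - 1 = j + 1 by omega, pow_succ, mul_assoc,
      Nat.mul_div_cancel_left _ (pow_pos hp.pos _)]
    exact Dvd.intro _ rfl
  have hmain := kul_dvd_sum_of_fixedPoints P.2 (fun v => t v / p ^ (s - 1))
    (fun g v => by
      show t (g • v) / p ^ (s - 1) = t v / p ^ (s - 1)
      rw [htinv]) hfix
  have hsum : ∑ v, t v = p ^ (s - 1) * ∑ v, t v / p ^ (s - 1) := by
    rw [Finset.mul_sum]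
    apply Finset.sum_congr rfl
    intro v _
    exact (Nat.mul_div_cancel' (ht1 v)).symm
  rw [hsum]
  obtain ⟨c, hc⟩ := hmain
  rw [hc]
  exact ⟨c, by
    obtain ⟨i, rfl⟩ : ∃ i, s = i + 1 := ⟨s - 1, by omega⟩
    rw [show i + 1 - 1 = i by omega, pow_succ]
    ring⟩

end Final

end Cfsg.Agent.Lib.Helper72
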