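import Mathlib
import Cfsg.Agent.Lib.Helper72.KulF

set_option autoImplicit false

/-!
# Miller-type counting with a general power hypothesis (helper72)

Generalisation of `kul_pow_dvd_card_orderOf`: `Q` a finite `p`-group, `R` a normal subgroup of order
`p ^ 2` and exponent `p` with `(x * r) ^ (p ^ e) = x ^ (p ^ e)` for all `x`, `r ∈ R`.  Then the number
of elements of order `p ^ (i + 2)` is divisible by `p ^ (i + 2)` whenever `e ≤ i + 1`.
For `p = 2` one may take `e = 2` (`kul_mul_pow_four`).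
-/

namespace Cfsg.Agent.Lib.Helper72

section MillerGen

variable {Q : Type*} [Group Q] [Finite Q] {p : ℕ} [Fact p.Prime]

omit [Finite Q] [Fact (Nat.Prime p)] in
theorem kul_hpow_mono (R : Subgroup Q) (e : ℕ)
    (hpow : ∀ x r : Q, r ∈ R → (x * r) ^ (p ^ e) = x ^ (p ^ e)) (x r : Q) (hr : r ∈ R) (t : ℕ)
    (ht : e ≤ t) : (x * r) ^ (p ^ t) = x ^ (p ^ t) := by
  obtain ⟨d, rfl⟩ : ∃ d, t = e + d := ⟨t - e, by omega⟩
  rw [pow_add, pow_mul, pow_mul, hpow x r hr]

theorem kul_orderOf_mul_gen (R : Subgroup Q) (e : ℕ)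
    (hpow : ∀ x r : Q, r ∈ R → (x * r) ^ (p ^ e) = x ^ (p ^ e))
    (i : ℕ) (hei : e ≤ i + 1) (x r : Q) (hr : r ∈ R) (hx : orderOf x = p ^ (i + 2)) :
    orderOf (x * r) = p ^ (i + 2) := by
  have hp := (Fact.out : p.Prime)
  apply orderOf_eq_prime_pow
  · rw [kul_hpow_mono R e hpow x r hr (i + 1) hei]
    intro h
    have h1 := orderOf_dvd_of_pow_eq_one h
    rw [hx] at h1
    have h2 := (Nat.pow_dvd_pow_iff_le_right hp.one_lt).mp h1
    omega
  · rw [kul_hpow_mono R e hpow x r hr (i + 1 + 1) (by omega), ← hx]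
    exact pow_orderOf_eq_one x

/-- The number of elements of order `p ^ (i + 2)` is divisible by `p ^ (i + 2)`. -/
theorem kul_pow_dvd_card_orderOf_gen (hQ : IsPGroup p Q)
    (R : Subgroup Q) [R.Normal] (hR : Nat.card R = p ^ 2) (hexp : ∀ r ∈ R, r ^ p = 1)
    (e : ℕ) (hpow : ∀ x r : Q, r ∈ R → (x * r) ^ (p ^ e) = x ^ (p ^ e))
    (i : ℕ) (hei : e ≤ i + 1) :
    p ^ (i + 2) ∣ Nat.card {y : Q // orderOf y = p ^ (i + 2)} := by
  classical
  have hp := (Fact.out : p.Prime)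
  have : Fintype (Subgroup (Q ⧸ R)) := Fintype.ofFinite _
  set E : Set Q := {y : Q | orderOf y = p ^ (i + 2)} with hE
  set Ebar : Set (Q ⧸ R) := (QuotientGroup.mk : Q → Q ⧸ R) '' E with hEbar
  have hpre : (QuotientGroup.mk : Q → Q ⧸ R) ⁻¹' Ebar = E := by
    ext y'
    constructor
    · rintro ⟨y, hy, hyy'⟩
      have h1 : y⁻¹ * y' ∈ R := QuotientGroup.eq.mp hyy'
      have h2 : y' = y * (y⁻¹ * y') := by group
      rw [h2]
      exact kul_orderOf_mul_gen R e hpow i hei y _ h1 hy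
    · intro h
      exact ⟨y', h, rfl⟩
  have hcard : Nat.card {y : Q // orderOf y = p ^ (i + 2)} = p ^ 2 * Nat.card Ebar := by
    have h1 : Nat.card {y : Q // orderOf y = p ^ (i + 2)} = Nat.card E := rfl
    rw [h1, ← hpre, Nat.card_congr (QuotientGroup.preimageMkEquivSubgroupProdSet R Ebar),
      Nat.card_prod, hR]
  have hclosed : ∀ q ∈ Ebar, ∀ q' : Q ⧸ R, Subgroup.zpowers q' = Subgroup.zpowers q → q' ∈ Ebar := by
    rintro q ⟨y, hy, rfl⟩ q' hq'
    have hy' : orderOf y = p ^ (i + 2) := hy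
    obtain ⟨a, ha⟩ : ∃ a : ℤ, (y : Q ⧸ R) ^ a = q' := by
      have : q' ∈ Subgroup.zpowers (y : Q ⧸ R) := hq' ▸ Subgroup.mem_zpowers q'
      exact Subgroup.mem_zpowers_iff.mp this
    obtain ⟨a', ha'⟩ : ∃ a' : ℤ, q' ^ a' = (y : Q ⧸ R) := by
      have : (y : Q ⧸ R) ∈ Subgroup.zpowers q' := hq'.symm ▸ Subgroup.mem_zpowers _
      exact Subgroup.mem_zpowers_iff.mp this
    refine ⟨y ^ a, ?_, by rw [QuotientGroup.mk_zpow]; exact ha⟩
    show orderOf (y ^ a) = p ^ (i + 2)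
    have hcomm : ∀ (t : Q) (c : ℤ) (n : ℕ), (t ^ c) ^ n = (t ^ n) ^ c := by
      intro t c n
      rw [← zpow_natCast (t ^ c) n, ← zpow_mul, mul_comm, zpow_mul, zpow_natCast]
    apply orderOf_eq_prime_pow
    · intro h
      have h1 : (((y ^ a) ^ a' : Q) : Q ⧸ R) = (y : Q ⧸ R) := by
        rw [QuotientGroup.mk_zpow, QuotientGroup.mk_zpow, ha, ha']
      have h2 : ((y ^ a) ^ a')⁻¹ * y ∈ R := QuotientGroup.eq.mp h1
      have h3 : y = (y ^ a) ^ a' * (((y ^ a) ^ a')⁻¹ * y) := by group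
      have h4 : y ^ (p ^ (i + 1)) = 1 := by
        rw [h3, kul_hpow_mono R e hpow _ _ h2 (i + 1) hei, hcomm, h, one_zpow]
      have h5 := orderOf_dvd_of_pow_eq_one h4
      rw [hy'] at h5
      have h6 := (Nat.pow_dvd_pow_iff_le_right hp.one_lt).mp h5
      omega
    · rw [hcomm, ← hy', pow_orderOf_eq_one, one_zpow]
  have hdvd : ∀ q ∈ Ebar, p ^ i ∣ (orderOf q).totient := by
    rintro q ⟨y, hy, rfl⟩
    have hy' : orderOf y = p ^ (i + 2) := hy
    have hQR : IsPGroup p (Q ⧸ R) := hQ.to_quotient R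
    obtain ⟨k', hk'⟩ := (IsPGroup.iff_orderOf.mp hQR) (y : Q ⧸ R)
    have hk'j : i + 1 ≤ k' := by
      by_contra hcon
      have h1 : (y : Q ⧸ R) ^ (p ^ i) = 1 := by
        apply orderOf_dvd_iff_pow_eq_one.mp
        rw [hk']
        exact pow_dvd_pow p (by omega)
      have h2 : y ^ (p ^ i) ∈ R := by
        rw [← QuotientGroup.eq_one_iff, QuotientGroup.mk_pow]
        exact h1
      have h3 : y ^ (p ^ (i + 1)) = 1 := by
        rw [pow_succ, pow_mul]
        exact hexp _ h2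
      have h5 := orderOf_dvd_of_pow_eq_one h3
      rw [hy'] at h5
      have h6 := (Nat.pow_dvd_pow_iff_le_right hp.one_lt).mp h5
      omega
    rw [hk', Nat.totient_prime_pow hp (by omega)]
    exact Dvd.dvd.mul_right (pow_dvd_pow p (by omega)) _
  have hsum := kul_card_eq_sum_generators (K := Q ⧸ R) Ebar hclosed
  have hdvd2 : p ^ i ∣ Nat.card Ebar := by
    rw [hsum]
    apply Finset.dvd_sum
    intro D _
    split_ifs with h
    · obtain ⟨q, hq, rfl⟩ := h
      rw [Nat.card_zpowers]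
      exact hdvd q hq
    · exact dvd_zero _
  rw [hcard, pow_add, mul_comm]
  exact Nat.mul_dvd_mul_left _ hdvd2

/-- Miller-type divisibility of the number of cyclic subgroups of order `p ^ (i + 2)`. -/
theorem kul_miller_gen (hQ : IsPGroup p Q)
    (R : Subgroup Q) [R.Normal] (hR : Nat.card R = p ^ 2) (hexp : ∀ r ∈ R, r ^ p = 1)
    (e : ℕ) (hpow : ∀ x r : Q, r ∈ R → (x * r) ^ (p ^ e) = x ^ (p ^ e))
    (i : ℕ) (hei : e ≤ i + 1) : p ∣ kulCyc Q (p ^ (i + 2)) := by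
  have hp := (Fact.out : p.Prime)
  have h1 := kul_pow_dvd_card_orderOf_gen hQ R hR hexp e hpow i hei
  rw [kul_card_orderOf_eq, Nat.totient_prime_pow hp (by omega)] at h1
  have h2 : i + 2 - 1 = i + 1 := by omega
  rw [h2] at h1
  have h3 : p ^ (i + 1) * p ∣ p ^ (i + 1) * (kulCyc Q (p ^ (i + 2)) * (p - 1)) := by
    have : kulCyc Q (p ^ (i + 2)) * (p ^ (i + 1) * (p - 1)) =
        p ^ (i + 1) * (kulCyc Q (p ^ (i + 2)) * (p - 1)) := by ring
    rw [← this, ← pow_succ]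
    exact h1
  have h4 : p ∣ kulCyc Q (p ^ (i + 2)) * (p - 1) :=
    Nat.dvd_of_mul_dvd_mul_left (pow_pos hp.pos _) h3
  have hcop : Nat.Coprime p (p - 1) := by
    rw [Nat.Prime.coprime_iff_not_dvd hp]
    intro h
    have h5 := hp.two_le
    have h6 := Nat.le_of_dvd (by omega) h
    omega
  exact Nat.Coprime.dvd_of_dvd_mul_right hcop h4

end MillerGen

section TwoGroups

open scoped commutatorElement

variable {Q : Type*} [Group Q] [Finite Q]

/-- In a finite `2`-group, `(x * r) ^ 4 = x ^ 4` for `r` in a normal four-group. -/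
theorem kul_mul_pow_four (hQ : IsPGroup 2 Q) (R : Subgroup Q) [R.Normal]
    (hR : Nat.card R = 2 ^ 2) (hexp : ∀ r ∈ R, r ^ 2 = 1) (x r : Q) (hr : r ∈ R) :
    (x * r) ^ (2 ^ 2) = x ^ (2 ^ 2) := by
  have : Fact (Nat.Prime 2) := ⟨Nat.prime_two⟩
  set c := ⁅r⁻¹, x⁻¹⁆ with hc
  have hcZ : c ∈ ⁅R, (⊤ : Subgroup Q)⁆ :=
    Subgroup.commutator_mem_commutator (inv_mem hr) (Subgroup.mem_top _)
  have hcR : c ∈ R := Subgroup.commutator_le_left R ⊤ hcZ
  have hcc : ∀ g : Q, g * c = c * g :=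
    Subgroup.mem_center_iff.mp (kul_commutator_le_center hQ R hR hcZ)
  have hrel : r * x = x * r * c := by
    rw [hc, commutatorElement_def]
    group
  have hT : ∑ i ∈ Finset.range (2 ^ 2), i = 2 * 3 := by decide
  have hr4 : r ^ (2 ^ 2) = 1 := by rw [pow_two 2, pow_mul, hexp r hr, one_pow]
  rw [kul_mul_pow x r c hcc hrel (2 ^ 2), hr4, mul_one, hT, pow_mul, hexp c hcR, one_pow, mul_one]

/-- In a finite `2`-group with a normal four-group, the number of cyclic subgroups of order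
`2 ^ (i + 3)` is even. -/
theorem kul_miller_two (hQ : IsPGroup 2 Q) (R : Subgroup Q) [R.Normal]
    (hR : Nat.card R = 2 ^ 2) (hexp : ∀ r ∈ R, r ^ 2 = 1) (i : ℕ) :
    2 ∣ kulCyc Q (2 ^ (i + 3)) := by
  have : Fact (Nat.Prime 2) := ⟨Nat.prime_two⟩
  exact kul_miller_gen hQ R hR hexp 2 (fun x r hr => kul_mul_pow_four hQ R hR hexp x r hr)
    (i + 1) (by omega)

end TwoGroups

end Cfsg.Agent.Lib.Helper72
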