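import Mathlib
import Cfsg.Agent.S0519
import Cfsg.Agent.Lib.Lead.NormalBetween
import Cfsg.Agent.Lib.Helper91.MaxClass2

set_option autoImplicit false

/-!
# Normal four-subgroups of `2`-groups (helper72)

A finite `2`-group which is not cyclic and not of maximal class has a normal elementary abelian subgroup
of order `4` (`kul_exists_normal_four`).  The classification of `2`-groups all of whose normal abelian
subgroups are cyclic is taken from `Cfsg.Agent.S0519.two_case` (helper35).
-/

namespace Cfsg.Agent.Lib.Helper72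

open scoped commutatorElement

section MaxClass

variable {X : Type*} [Group X] [Finite X]

/-- A group of order `2 ^ m` with an element `a` of order `2 ^ (m - 1)` which is inverted (or
"semi-inverted") by some element has maximal class. -/
theorem kul_class_of_cyclic_index_two (m : ℕ) (hm : 3 ≤ m) (hX : Nat.card X = 2 ^ m) (a b : X)
    (ha : orderOf a = 2 ^ (m - 1))
    (hconj : b * a * b⁻¹ = a⁻¹ ∨ (4 ≤ m ∧ b * a * b⁻¹ = a ^ (2 ^ (m - 2) - 1))) :
    Group.nilpotencyClass X = m - 1 := by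
  have hf2 : Fact (Nat.Prime 2) := ⟨Nat.prime_two⟩
  have h2 : IsPGroup 2 X := IsPGroup.of_card hX
  apply Cfsg.Agent.Lib.Helper91.class_of_index_commutator m hm hX
  obtain ⟨m', rfl⟩ : ∃ m', m = m' + 3 := ⟨m - 3, by omega⟩
  have ha' : orderOf a = 2 ^ (m' + 2) := by rw [ha]; rfl
  have ha2 : orderOf (a ^ 2) = 2 ^ (m' + 1) := by
    rw [orderOf_pow_of_dvd (by norm_num) (by rw [ha']; exact ⟨2 ^ (m' + 1), by ring⟩), ha']
    rw [pow_succ]; exact Nat.mul_div_cancel _ (by norm_num)
  -- the commutator `c = [b, a]`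
  set c : X := b * a * b⁻¹ * a⁻¹ with hc
  have hcmem : c ∈ commutator X := by
    rw [commutator_def]
    have := Subgroup.commutator_mem_commutator (Subgroup.mem_top b) (Subgroup.mem_top a)
    rwa [commutatorElement_def] at this
  have hcord : orderOf c = 2 ^ (m' + 1) := by
    rcases hconj with h | ⟨h4, h⟩
    · have : c = (a ^ 2)⁻¹ := by rw [hc, h, pow_two, mul_inv_rev]
      rw [this, orderOf_inv, ha2]
    · obtain ⟨m'', rfl⟩ : ∃ m'', m' = m'' + 1 := ⟨m' - 1, by omega⟩
      have e1 : m'' + 1 + 3 - 2 = m'' + 2 := by omega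
      have e2 : 2 ^ (m'' + 2) - 1 = 2 * (2 ^ (m'' + 1) - 1) + 1 := by
        have : 1 ≤ 2 ^ (m'' + 1) := Nat.one_le_two_pow
        rw [pow_succ]; omega
      have : c = (a ^ 2) ^ (2 ^ (m'' + 1) - 1) := by
        rw [hc, h, e1, e2, pow_succ, pow_mul, mul_assoc, mul_inv_cancel, mul_one]
      rw [this, Nat.Coprime.orderOf_pow, ha2]
      rw [ha2]
      apply Nat.Coprime.pow_left
      rw [Nat.coprime_two_left]
      have : 1 ≤ 2 ^ m'' := Nat.one_le_two_pow
      refine ⟨2 ^ m'' - 1, ?_⟩
      rw [pow_succ]; omega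
  -- `⟨a⟩` has index two
  have hidx : (Subgroup.zpowers a).index = 2 := by
    have h1 := Subgroup.index_mul_card (Subgroup.zpowers a)
    rw [Nat.card_zpowers, hX, ha'] at h1
    have : (2 : ℕ) ^ (m' + 3) = 2 * 2 ^ (m' + 2) := by ring
    rw [this] at h1
    exact Nat.eq_of_mul_eq_mul_right (by positivity) h1
  have hle : commutator X ≤ Subgroup.zpowers a :=
    Cfsg.Agent.Lib.Helper91.commutator_le_of_index_two hidx
  -- the commutator subgroup has order `2 ^ j`
  obtain ⟨j, hj⟩ := (h2.to_subgroup (commutator X)).exists_card_eq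
  have hj1 : m' + 1 ≤ j := by
    have h1 : Subgroup.zpowers c ≤ commutator X := Subgroup.zpowers_le.mpr hcmem
    have h3 := Subgroup.card_le_of_le h1
    rw [Nat.card_zpowers, hcord, hj] at h3
    exact (Nat.pow_le_pow_iff_right (by norm_num)).mp h3
  have hj2 : j ≤ m' + 2 := by
    have h3 := Subgroup.card_le_of_le hle
    rw [Nat.card_zpowers, ha', hj] at h3
    exact (Nat.pow_le_pow_iff_right (by norm_num)).mp h3
  have hj3 : j ≠ m' + 2 := by
    intro hjeq
    have heq : commutator X = Subgroup.zpowers a :=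
      Subgroup.eq_of_le_of_card_ge hle (by rw [Nat.card_zpowers, ha', hj, hjeq])
    have hcard2 : Nat.card (X ⧸ commutator X) = 2 := by
      rw [← Subgroup.index_eq_card, heq, hidx]
    have hcyc : IsCyclic (X ⧸ commutator X) := isCyclic_of_prime_card hcard2
    have hbot := Cfsg.Agent.Lib.Helper91.commutator_eq_bot_of_isCyclic_quotient h2 hcyc
    rw [hbot, Subgroup.card_bot] at hj
    have : 0 < j := by omega
    have : 2 ≤ 2 ^ j := by
      calc 2 = 2 ^ 1 := by norm_num
        _ ≤ 2 ^ j := Nat.pow_le_pow_right (by norm_num) this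
    omega
  have hjeq : j = m' + 1 := by omega
  have h1 := Subgroup.index_mul_card (commutator X)
  rw [hX, hj, hjeq] at h1
  have : (2 : ℕ) ^ (m' + 3) = 4 * 2 ^ (m' + 1) := by ring
  rw [this] at h1
  exact Nat.eq_of_mul_eq_mul_right (by positivity) h1

end MaxClass

section NormalFour

variable {G : Type*} [Group G] [Finite G]

/-- The elements of order dividing `2` of a commutative subgroup. -/
def kulOmega (N : Subgroup G) (hNc : ∀ x ∈ N, ∀ y ∈ N, x * y = y * x) : Subgroup G where
  carrier := {x | x ∈ N ∧ x ^ 2 = 1}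
  one_mem' := ⟨N.one_mem, one_pow 2⟩
  mul_mem' := by
    rintro x y ⟨hx, hx2⟩ ⟨hy, hy2⟩
    refine ⟨N.mul_mem hx hy, ?_⟩
    have hc : Commute x y := hNc x hx y hy
    rw [hc.mul_pow, hx2, hy2, one_mul]
  inv_mem' := by
    rintro x ⟨hx, hx2⟩
    exact ⟨N.inv_mem hx, by rw [inv_pow, hx2, inv_one]⟩

omit [Finite G] in
theorem mem_kulOmega (N : Subgroup G) (hNc : ∀ x ∈ N, ∀ y ∈ N, x * y = y * x) (x : G) :
    x ∈ kulOmega N hNc ↔ x ∈ N ∧ x ^ 2 = 1 := Iff.rfl

omit [Finite G] in
theorem kulOmega_normal (N : Subgroup G) [hN : N.Normal] (hNc : ∀ x ∈ N, ∀ y ∈ N, x * y = y * x) :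
    (kulOmega N hNc).Normal := by
  constructor
  rintro x ⟨hx, hx2⟩ g
  exact ⟨hN.conj_mem x hx g, by rw [conj_pow, hx2, mul_one, mul_inv_cancel]⟩

/-- A noncyclic commutative normal subgroup of a finite `2`-group contains a normal four-group. -/
theorem kul_exists_normal_four_of_normal_comm (hG : IsPGroup 2 G) (N : Subgroup G) [hN : N.Normal]
    (hNc : IsMulCommutative N) (hNnc : ¬ IsCyclic N) :
    ∃ R : Subgroup G, R.Normal ∧ Nat.card R = 2 ^ 2 ∧ ∀ r ∈ R, r ^ 2 = 1 := by
  have hf2 : Fact (Nat.Prime 2) := ⟨Nat.prime_two⟩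
  have hcomm : ∀ x ∈ N, ∀ y ∈ N, x * y = y * x := fun x hx y hy =>
    congrArg Subtype.val (hNc.is_comm.comm ⟨x, hx⟩ ⟨y, hy⟩)
  set Ω := kulOmega N hcomm with hΩ
  have hΩn : Ω.Normal := kulOmega_normal N hcomm
  have hΩN : Ω ≤ N := fun x hx => hx.1
  -- `Ω` has more than two elements
  have hcard : 2 < Nat.card Ω := by
    by_contra hle
    push Not at hle
    apply hNnc
    let _ : CommGroup N := { (inferInstance : Group N) with mul_comm := hNc.is_comm.comm }
    apply Cfsg.Agent.S0016.isCyclic_of_comm 2 (hG.to_subgroup N)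
    have key : ∀ H : Subgroup N, Nat.card H = 2 → H.map N.subtype = Ω := by
      intro H hH
      have hle' : H.map N.subtype ≤ Ω := by
        rintro _ ⟨h, hh, rfl⟩
        refine ⟨h.2, ?_⟩
        have h1 : (⟨h, hh⟩ : H) ^ 2 = 1 := by rw [← hH]; exact pow_card_eq_one'
        have h2 : h ^ 2 = 1 := by
          have := congrArg Subtype.val h1
          simpa using this
        have := congrArg Subtype.val h2
        simpa using this
      apply Subgroup.eq_of_le_of_card_ge hle'
      rw [Nat.card_congr (Subgroup.equivMapOfInjective H N.subtype N.subtype_injective).symm.toEquiv,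
        hH]
      exact hle
    intro H K hH hK
    apply Subgroup.map_injective N.subtype_injective
    rw [key H hH, key K hK]
  obtain ⟨j, hj⟩ := (hG.to_subgroup Ω).exists_card_eq
  have hbotlt : (⊥ : Subgroup G) < Ω := by
    rw [bot_lt_iff_ne_bot]
    intro h
    rw [h, Subgroup.card_bot] at hcard
    omega
  obtain ⟨B₁, hB₁n, -, hB₁Ω, hB₁c⟩ :=
    Cfsg.Agent.Lib.Lead.exists_normal_between hG (⊥ : Subgroup G) Ω hbotlt
  rw [Subgroup.card_bot, mul_one] at hB₁c
  have hB₁lt : B₁ < Ω := by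
    refine lt_of_le_of_ne hB₁Ω ?_
    intro h
    rw [h] at hB₁c
    omega
  obtain ⟨B₂, hB₂n, -, hB₂Ω, hB₂c⟩ :=
    Cfsg.Agent.Lib.Lead.exists_normal_between hG B₁ Ω hB₁lt
  refine ⟨B₂, hB₂n, by rw [hB₂c, hB₁c]; norm_num, fun r hr => (hB₂Ω hr).2⟩

end NormalFour

section Main

variable {G : Type*} [Group G] [Finite G]

/-- A finite `2`-group which is neither cyclic nor of maximal class has a normal four-group. -/
theorem kul_exists_normal_four (m : ℕ) (hG : Nat.card G = 2 ^ m) (hnc : ¬ IsCyclic G)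
    (hcl : Group.nilpotencyClass G ≠ m - 1) :
    ∃ R : Subgroup G, R.Normal ∧ Nat.card R = 2 ^ 2 ∧ ∀ r ∈ R, r ^ 2 = 1 := by
  have hf2 : Fact (Nat.Prime 2) := ⟨Nat.prime_two⟩
  have hP : IsPGroup 2 G := IsPGroup.of_card hG
  by_contra hno
  have hn : ∀ A : Subgroup G, A.Normal → IsMulCommutative A → IsCyclic A := by
    intro A hAn hAc
    by_contra hA
    have := hAn
    exact hno (kul_exists_normal_four_of_normal_comm hP A hAc hA)
  obtain ⟨A, hAn, hAc, hcent⟩ := Cfsg.Agent.S0016.exists_normal_comm_self_centralizing 2 hP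
  have hAcyc : IsCyclic A := hn A hAn hAc
  obtain ⟨⟨a, haA⟩, hgen⟩ := hAcyc.exists_generator
  have hAeq : A = Subgroup.zpowers a := by
    apply le_antisymm
    · intro x hx
      have := hgen ⟨x, hx⟩
      obtain ⟨i, hi⟩ := Subgroup.mem_zpowers_iff.mp this
      rw [Subgroup.mem_zpowers_iff]
      exact ⟨i, by simpa using congrArg Subtype.val hi⟩
    · exact Subgroup.zpowers_le.mpr haA
  subst hAeq
  have htop : Subgroup.zpowers a ≠ ⊤ := by
    intro htop
    exact hnc (isCyclic_iff_exists_zpowers_eq_top.mpr ⟨a, htop⟩)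
  obtain ⟨k, hk⟩ := Cfsg.Agent.S0016.exists_orderOf_eq hP hAn hcent htop
  -- `3 ≤ m`
  have hm3 : 3 ≤ m := by
    have h1 : Nat.card (Subgroup.zpowers a) ≤ Nat.card G := Subgroup.card_le_card_group _
    have h2 : Nat.card (Subgroup.zpowers a) ≠ Nat.card G := fun h =>
      htop (Subgroup.eq_top_of_card_eq _ h)
    rw [Nat.card_zpowers, hk, hG] at h1 h2
    have h3 : k + 2 ≤ m := (Nat.pow_le_pow_iff_right (by norm_num)).mp h1
    have h4 : k + 2 ≠ m := fun h => h2 (by rw [h])
    omega
  obtain ⟨m', rfl⟩ : ∃ m', m = m' + 3 := ⟨m - 3, by omega⟩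
  have hpow : (2 : ℕ) ^ (m' + 3) = 2 * 2 ^ (m' + 2) := by ring
  have hpow' : (2 : ℕ) ^ (m' + 2) = 2 * 2 ^ (m' + 1) := by ring
  apply hcl
  rcases Cfsg.Agent.S0519.two_case hP hn hAn hcent htop with
    ⟨n, ⟨e⟩⟩ | ⟨n, hn8, ⟨e⟩⟩ | ⟨n, hn3, hcard, x, y, hx, hy, hxy⟩
  · -- generalized quaternion
    have hord : orderOf (e.symm (QuaternionGroup.a 1)) = 2 * n := by
      rw [MulEquiv.orderOf_eq, QuaternionGroup.orderOf_a_one]
    have hn0 : n ≠ 0 := by
      intro h
      have := orderOf_pos (e.symm (QuaternionGroup.a 1))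
      rw [hord, h] at this
      omega
    have : NeZero n := ⟨hn0⟩
    have hcard : Nat.card G = 4 * n := by
      rw [Nat.card_congr e.toEquiv, Nat.card_eq_fintype_card, QuaternionGroup.card]
    rw [hG, hpow] at hcard
    refine kul_class_of_cyclic_index_two (m' + 3) (by omega) hG (e.symm (QuaternionGroup.a 1))
      (e.symm (QuaternionGroup.xa 0)) ?_ (Or.inl ?_)
    · rw [hord]
      show 2 * n = 2 ^ (m' + 2)
      omega
    · rw [← map_inv, ← map_inv, ← map_mul, ← map_mul]
      congr 1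
      have h1 : (QuaternionGroup.xa (0 : ZMod (2 * n)))⁻¹ = QuaternionGroup.xa ((n : ZMod (2 * n)) + 0) := rfl
      have h2 : (QuaternionGroup.a (1 : ZMod (2 * n)))⁻¹ = QuaternionGroup.a (-1) := rfl
      have h3 : (n : ZMod (2 * n)) + n = 0 := by
        rw [← two_mul]
        exact_mod_cast ZMod.natCast_self (2 * n)
      rw [h1, h2]
      simp [h3]
  · -- dihedral
    have hord : orderOf (e.symm (DihedralGroup.r 1)) = n := by
      rw [MulEquiv.orderOf_eq, DihedralGroup.orderOf_r_one]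
    have hcard : Nat.card G = 2 * n := by
      rw [Nat.card_congr e.toEquiv, DihedralGroup.nat_card]
    rw [hG, hpow] at hcard
    refine kul_class_of_cyclic_index_two (m' + 3) (by omega) hG (e.symm (DihedralGroup.r 1))
      (e.symm (DihedralGroup.sr 0)) ?_ (Or.inl ?_)
    · rw [hord]
      show n = 2 ^ (m' + 2)
      omega
    · rw [← map_inv, ← map_inv, ← map_mul, ← map_mul]
      congr 1
      simp
  · -- quasi-dihedral
    rw [hG] at hcard
    have hmn : m' + 3 = n + 1 := Nat.pow_right_injective (le_refl 2) hcard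
    refine kul_class_of_cyclic_index_two (m' + 3) (by omega) hG x y ?_ (Or.inr ⟨by omega, ?_⟩)
    · rw [hx]
      congr 1
      omega
    · rw [hxy]
      congr 2
      congr 1
      omega

end Main

end Cfsg.Agent.Lib.Helper72
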