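import Mathlib
import Cfsg.Agent.S0226
import Cfsg.Agent.S0112
import Cfsg.Agent.Lib.Helper48.FourGroup
import Cfsg.Agent.Lib.Helper73.TwoGroup
import Cfsg.Agent.Lib.Helper73.SubgroupCount

set_option autoImplicit false

/-!
# Counting square roots of one in `2`-groups with a normal four-group (helper72)

Main result `kul_four_dvd_card_sq_eq_one`: if a group `G` of order `2 ^ m`, not of maximal class, has a
normal elementary abelian subgroup of order `4`, then the number of solutions of `x ^ 2 = 1` in `G` is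
divisible by `4`.
-/

namespace Cfsg.Agent.Lib.Helper72

section Basic

variable {K : Type*} [Group K] [Finite K]

theorem kul_card_sq_eq_one :
    Nat.card {x : K // x ^ 2 = 1} = Nat.card {x : K // orderOf x = 2} + 1 := by
  have h : {x : K | x ^ 2 = 1} = insert 1 {x : K | orderOf x = 2} := by
    ext x
    simp only [Set.mem_ofPred_eq, Set.mem_insert_iff]
    constructor
    · intro hx
      by_cases h1 : x = 1
      · exact Or.inl h1
      · exact Or.inr (orderOf_eq_prime hx h1)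
    · rintro (rfl | hx)
      · exact one_pow 2
      · rw [← hx]; exact pow_orderOf_eq_one x
  have h1 : (1 : K) ∉ {x : K | orderOf x = 2} := by
    simp only [Set.mem_ofPred_eq, orderOf_one]
    norm_num
  have h2 := Set.ncard_insert_of_notMem h1 (Set.toFinite _)
  rw [← h] at h2
  rw [← Nat.card_coe_set_eq, ← Nat.card_coe_set_eq] at h2
  exact h2

theorem kul_even_card_sq_eq_one (heven : Even (Nat.card K)) :
    Even (Nat.card {x : K // x ^ 2 = 1}) := by
  rw [kul_card_sq_eq_one]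
  exact (Cfsg.Agent.S0226.result heven).add_one

/-- In a finite group of order divisible by `4` with a central involution `z`, the number of `c` with
`c ^ 2 ∈ {1, z}` is divisible by `4`. -/
theorem kul_four_dvd_card_sq_mem (z : K) (hzc : ∀ g : K, g * z = z * g) (hz2 : z ^ 2 = 1)
    (hz1 : z ≠ 1) (h4 : 4 ∣ Nat.card K) : 4 ∣ Nat.card {c : K // c ^ 2 = 1 ∨ c ^ 2 = z} := by
  have hZn : (Subgroup.zpowers z).Normal := by
    constructor
    intro n hn g
    obtain ⟨k, rfl⟩ := Subgroup.mem_zpowers_iff.mp hn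
    have hc : Commute g (z ^ k) := (show Commute g z from hzc g).zpow_right k
    have : g * z ^ k * g⁻¹ = z ^ k := by
      rw [hc.eq, mul_assoc, mul_inv_cancel, mul_one]
    rw [this]; exact hn
  have hZcard : Nat.card (Subgroup.zpowers z) = 2 := by
    rw [Nat.card_zpowers]; exact orderOf_eq_prime hz2 hz1
  set t : Set (K ⧸ Subgroup.zpowers z) := {q | q ^ 2 = 1} with ht
  have hpre : {c : K | c ^ 2 = 1 ∨ c ^ 2 = z} =
      (QuotientGroup.mk : K → K ⧸ Subgroup.zpowers z) ⁻¹' t := by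
    ext c
    simp only [Set.mem_ofPred_eq, Set.mem_preimage, ht]
    rw [← QuotientGroup.mk_pow, QuotientGroup.eq_one_iff]
    constructor
    · rintro (h | h)
      · rw [h]; exact one_mem _
      · rw [h]; exact Subgroup.mem_zpowers z
    · intro h
      exact Cfsg.Agent.Lib.Helper48.eq_one_or_eq_of_mem_zpowers (by rw [← pow_two]; exact hz2) h
  have hcard : Nat.card {c : K // c ^ 2 = 1 ∨ c ^ 2 = z} = 2 * Nat.card t := by
    have e := QuotientGroup.preimageMkEquivSubgroupProdSet (Subgroup.zpowers z) t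
    have h1 : Nat.card {c : K // c ^ 2 = 1 ∨ c ^ 2 = z} =
        Nat.card ((QuotientGroup.mk : K → K ⧸ Subgroup.zpowers z) ⁻¹' t) := by
      rw [← hpre]
      rfl
    rw [h1, Nat.card_congr e, Nat.card_prod, hZcard]
  have heven : Even (Nat.card (K ⧸ Subgroup.zpowers z)) := by
    have h := Subgroup.card_eq_card_quotient_mul_card_subgroup (Subgroup.zpowers z)
    rw [hZcard] at h
    obtain ⟨k, hk⟩ := h4
    exact ⟨k, by omega⟩
  obtain ⟨r, hr⟩ := kul_even_card_sq_eq_one heven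
  have h2 : Nat.card t = r + r := hr
  rw [hcard, h2]
  exact ⟨r, by ring⟩

end Basic

section Exceptional

variable {G : Type*} [Group G] [Finite G]

theorem kul_four_dvd_card_sq_mem_subgroup (C : Subgroup G) (z : G) (hzC : z ∈ C)
    (hzc : ∀ g ∈ C, g * z = z * g) (hz2 : z ^ 2 = 1) (hz1 : z ≠ 1) (h4 : 4 ∣ Nat.card C) :
    4 ∣ Nat.card {c : G // c ∈ C ∧ (c ^ 2 = 1 ∨ c ^ 2 = z)} := by
  have key := kul_four_dvd_card_sq_mem (K := C) ⟨z, hzC⟩
    (fun g => Subtype.ext (by simpa using hzc g.1 g.2))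
    (Subtype.ext (by simpa using hz2))
    (fun h => hz1 (by simpa using congrArg Subtype.val h)) h4
  have e : {c : G // c ∈ C ∧ (c ^ 2 = 1 ∨ c ^ 2 = z)} ≃
      {c : C // c ^ 2 = 1 ∨ c ^ 2 = (⟨z, hzC⟩ : C)} :=
    { toFun := fun x => ⟨⟨x.1, x.2.1⟩, by
        rcases x.2.2 with h | h
        · left; exact Subtype.ext (by simpa using h)
        · right; exact Subtype.ext (by simpa using h)⟩
      invFun := fun y => ⟨y.1.1, y.1.2, by
        rcases y.2 with h | h
        · left; simpa using congrArg Subtype.val h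
        · right; simpa using congrArg Subtype.val h⟩
      left_inv := fun _ => rfl
      right_inv := fun _ => rfl }
  rw [Nat.card_congr e]
  exact key

/-- The exceptional case: some involution `x₀` outside the centralizer of `r₁` has a centralizer of
index two. -/
theorem kul_exceptional_count (m : ℕ) (hm : 4 ≤ m) (hG : Nat.card G = 2 ^ m) (z r₁ x₀ : G)
    (hzc : ∀ g : G, g * z = z * g) (hz2 : z ^ 2 = 1) (hz1 : z ≠ 1) (hr2 : r₁ ^ 2 = 1)
    (hx2 : x₀ ^ 2 = 1) (hxr : x₀ * r₁ = z * r₁ * x₀)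
    (hconj : ∀ g : G, g * r₁ = r₁ * g ∨ g * r₁ = z * r₁ * g)
    (hD : (Subgroup.centralizer ({x₀} : Set G)).index = 2) :
    4 ∣ Nat.card {x : G // x * r₁ ≠ r₁ * x ∧ x ^ 2 = 1} := by
  set D := Subgroup.centralizer ({x₀} : Set G) with hDdef
  set T := Subgroup.centralizer ({r₁} : Set G) with hTdef
  have memD : ∀ g, g ∈ D ↔ g * x₀ = x₀ * g := fun g => Subgroup.mem_centralizer_singleton_iff
  have memT : ∀ g, g ∈ T ↔ g * r₁ = r₁ * g := fun g => Subgroup.mem_centralizer_singleton_iff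
  have hzz : z * z = 1 := by rw [← pow_two]; exact hz2
  have hrr : r₁ * r₁ = 1 := by rw [← pow_two]; exact hr2
  have hxx : x₀ * x₀ = 1 := by rw [← pow_two]; exact hx2
  have hzne : ∀ g : G, z * g ≠ g := fun g h => hz1 (by simpa using h)
  -- basic conjugation identities
  have I1 : ∀ b : G, b * r₁ = r₁ * b → b * x₀ * r₁ = z * (r₁ * (b * x₀)) := by
    intro b h
    calc b * x₀ * r₁ = b * (x₀ * r₁) := mul_assoc _ _ _
      _ = b * (z * r₁ * x₀) := by rw [hxr]
      _ = (b * z) * r₁ * x₀ := by group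
      _ = (z * b) * r₁ * x₀ := by rw [hzc b]
      _ = z * (b * r₁) * x₀ := by group
      _ = z * (r₁ * b) * x₀ := by rw [h]
      _ = z * (r₁ * (b * x₀)) := by group
  have I2 : ∀ b : G, b * r₁ = z * r₁ * b → b * x₀ * r₁ = r₁ * (b * x₀) := by
    intro b h
    calc b * x₀ * r₁ = b * (x₀ * r₁) := mul_assoc _ _ _
      _ = b * (z * r₁ * x₀) := by rw [hxr]
      _ = (b * z) * r₁ * x₀ := by group
      _ = (z * b) * r₁ * x₀ := by rw [hzc b]
      _ = z * (b * r₁) * x₀ := by group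
      _ = z * (z * r₁ * b) * x₀ := by rw [h]
      _ = (z * z) * (r₁ * (b * x₀)) := by group
      _ = r₁ * (b * x₀) := by rw [hzz, one_mul]
  have hr₁D : r₁ ∉ D := by
    rw [memD]
    intro h
    rw [hxr] at h
    exact hzne (r₁ * x₀) (by rw [← mul_assoc]; exact h.symm)
  have hr₁T : r₁ ∈ T := (memT r₁).mpr rfl
  have hx₀D : x₀ ∈ D := (memD x₀).mpr rfl
  have hDsplit : ∀ g, g ∉ D → g * r₁ ∈ D := fun g hg =>
    (Subgroup.mul_mem_iff_of_index_two hD).mpr ⟨fun h => absurd h hg, fun h => absurd h hr₁D⟩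
  -- `T` has index two
  have hTidx : T.index = 2 := by
    rw [Subgroup.index_eq_two_iff]
    refine ⟨x₀, fun b => ?_⟩
    rw [memT, memT]
    rcases hconj b with h | h
    · right
      refine ⟨h, ?_⟩
      rw [I1 b h]
      exact hzne _
    · left
      refine ⟨I2 b h, ?_⟩
      rw [h, mul_assoc]
      exact hzne _
  -- `C = D ⊓ T` has order divisible by four
  set C := D ⊓ T with hCdef
  have hC4 : 4 ∣ Nat.card C := by
    have h1 : C.index ≤ 4 := by
      have := Subgroup.index_inf_le (H := D) (K := T)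
      rw [hD, hTidx] at this
      exact this
    have h2 := Subgroup.card_mul_index C
    rw [hG] at h2
    obtain ⟨c, -, hc⟩ := (Nat.dvd_prime_pow Nat.prime_two).mp
      (Dvd.intro _ h2 : Nat.card C ∣ 2 ^ m)
    rw [hc] at h2 ⊢
    have h3 : 2 ^ m ≤ 2 ^ (c + 2) := by
      rw [pow_add, ← h2]
      exact Nat.mul_le_mul_left _ h1
    have h4 : m ≤ c + 2 := (Nat.pow_le_pow_iff_right (by norm_num)).mp h3
    exact pow_dvd_pow 2 (by omega : 2 ≤ c)
  have memC : ∀ g, g ∈ C ↔ g * x₀ = x₀ * g ∧ g * r₁ = r₁ * g := by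
    intro g
    rw [hCdef, Subgroup.mem_inf, memD, memT]
  -- squares
  have hsq1 : ∀ c : G, c * x₀ = x₀ * c → (c * x₀) ^ 2 = c ^ 2 := by
    intro c hc
    have : Commute c x₀ := hc
    rw [this.mul_pow, hx2, mul_one]
  have hrx2 : (r₁ * x₀) ^ 2 = z := by
    calc (r₁ * x₀) ^ 2 = r₁ * (x₀ * r₁) * x₀ := by rw [pow_two]; group
      _ = r₁ * (z * r₁ * x₀) * x₀ := by rw [hxr]
      _ = (r₁ * z) * r₁ * (x₀ * x₀) := by group
      _ = (z * r₁) * r₁ * (x₀ * x₀) := by rw [hzc r₁]
      _ = z * (r₁ * r₁) * (x₀ * x₀) := by group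
      _ = z := by rw [hrr, hxx, mul_one, mul_one]
  have hsq2 : ∀ c : G, c * x₀ = x₀ * c → c * r₁ = r₁ * c → (c * (r₁ * x₀)) ^ 2 = c ^ 2 * z := by
    intro c hc1 hc2
    have h1 : Commute c x₀ := hc1
    have h2 : Commute c r₁ := hc2
    have : Commute c (r₁ * x₀) := h2.mul_right h1
    rw [this.mul_pow, hrx2]
  -- the two pieces
  set S₁ : Set G := {c | c ∈ C ∧ c ^ 2 = 1} with hS₁
  set S₂ : Set G := {c | c ∈ C ∧ c ^ 2 = z} with hS₂
  have hI : {x : G | x * r₁ ≠ r₁ * x ∧ x ^ 2 = 1} =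
      (fun c => c * x₀) '' S₁ ∪ (fun c => c * (r₁ * x₀)) '' S₂ := by
    ext x
    simp only [Set.mem_ofPred_eq, Set.mem_union, Set.mem_image, hS₁, hS₂]
    constructor
    · rintro ⟨hxr₁, hxsq⟩
      have hx' : x * r₁ = z * r₁ * x := (hconj x).resolve_left hxr₁
      have hyT : x * x₀ * r₁ = r₁ * (x * x₀) := I2 x hx'
      have hxe : x * x₀ * x₀ = x := by rw [mul_assoc, hxx, mul_one]
      by_cases hyD : x * x₀ ∈ D
      · left
        refine ⟨x * x₀, ⟨(memC _).mpr ⟨(memD _).mp hyD, hyT⟩, ?_⟩, hxe⟩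
        rw [← hsq1 (x * x₀) ((memD _).mp hyD), hxe, hxsq]
      · right
        have hcD : x * x₀ * r₁ ∈ D := hDsplit _ hyD
        have hcT : x * x₀ * r₁ ∈ T := T.mul_mem ((memT _).mpr hyT) hr₁T
        have hce : x * x₀ * r₁ * (r₁ * x₀) = x := by
          calc x * x₀ * r₁ * (r₁ * x₀) = x * x₀ * (r₁ * r₁) * x₀ := by group
            _ = x := by rw [hrr, mul_one, hxe]
        refine ⟨x * x₀ * r₁, ⟨(memC _).mpr ⟨(memD _).mp hcD, (memT _).mp hcT⟩, ?_⟩, hce⟩
        have h5 := hsq2 (x * x₀ * r₁) ((memD _).mp hcD) ((memT _).mp hcT)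
        rw [hce, hxsq] at h5
        calc (x * x₀ * r₁) ^ 2 = (x * x₀ * r₁) ^ 2 * (z * z) := by rw [hzz, mul_one]
          _ = ((x * x₀ * r₁) ^ 2 * z) * z := (mul_assoc _ z z).symm
          _ = z := by rw [← h5, one_mul]
    · rintro (⟨c, ⟨hcC, hc2⟩, rfl⟩ | ⟨c, ⟨hcC, hc2⟩, rfl⟩)
      · obtain ⟨h1, h2⟩ := (memC c).mp hcC
        refine ⟨?_, ?_⟩
        · rw [I1 c h2]
          exact hzne _
        · rw [hsq1 c h1, hc2]
      · obtain ⟨h1, h2⟩ := (memC c).mp hcC
        refine ⟨?_, ?_⟩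
        · have h3 : c * r₁ * r₁ = r₁ * (c * r₁) :=
            (congrArg (· * r₁) h2).trans (mul_assoc r₁ c r₁)
          have h4 := I1 (c * r₁) h3
          have e : c * (r₁ * x₀) = c * r₁ * x₀ := by group
          rw [e, h4]
          exact hzne _
        · rw [hsq2 c h1 h2, hc2, hzz]
  -- the two pieces are disjoint
  have hdisj : Disjoint ((fun c => c * x₀) '' S₁) ((fun c => c * (r₁ * x₀)) '' S₂) := by
    rw [Set.disjoint_left]
    rintro _ ⟨c, ⟨hcC, -⟩, rfl⟩ ⟨c', ⟨hcC', -⟩, h⟩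
    apply hr₁D
    have hcD : c ∈ D := ((Subgroup.mem_inf).mp hcC).1
    have hcD' : c' ∈ D := ((Subgroup.mem_inf).mp hcC').1
    have h' : c' * (r₁ * x₀) = c * x₀ := h
    have h1 : c' * r₁ = c := by
      have h2 : c' * r₁ * x₀ = c * x₀ := by rw [← h']; group
      exact mul_right_cancel h2
    have h3 : r₁ = c'⁻¹ * c := by rw [← h1]; group
    rw [h3]
    exact D.mul_mem (D.inv_mem hcD') hcD
  have hdisj' : Disjoint S₁ S₂ := by
    rw [Set.disjoint_left]
    rintro c ⟨-, h1⟩ ⟨-, h2⟩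
    exact hz1 (by rw [← h2, h1])
  have hunion : S₁ ∪ S₂ = {c : G | c ∈ C ∧ (c ^ 2 = 1 ∨ c ^ 2 = z)} := by
    ext c
    simp only [Set.mem_union, Set.mem_ofPred_eq, hS₁, hS₂]
    tauto
  have hcount : Nat.card {x : G // x * r₁ ≠ r₁ * x ∧ x ^ 2 = 1} =
      Nat.card {c : G // c ∈ C ∧ (c ^ 2 = 1 ∨ c ^ 2 = z)} := by
    have e1 : Nat.card {x : G // x * r₁ ≠ r₁ * x ∧ x ^ 2 = 1} =
        ({x : G | x * r₁ ≠ r₁ * x ∧ x ^ 2 = 1} : Set G).ncard := Nat.card_coe_set_eq _
    have e2 : Nat.card {c : G // c ∈ C ∧ (c ^ 2 = 1 ∨ c ^ 2 = z)} =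
        ({c : G | c ∈ C ∧ (c ^ 2 = 1 ∨ c ^ 2 = z)} : Set G).ncard := Nat.card_coe_set_eq _
    rw [e1, e2, hI, ← hunion, Set.ncard_union_eq hdisj (Set.toFinite _) (Set.toFinite _),
      Set.ncard_union_eq hdisj' (Set.toFinite _) (Set.toFinite _),
      Set.ncard_image_of_injective _ (mul_left_injective x₀),
      Set.ncard_image_of_injective _ (mul_left_injective (r₁ * x₀))]
  rw [hcount]
  have hzC : z ∈ C := (memC z).mpr ⟨(hzc x₀).symm, (hzc r₁).symm⟩
  exact kul_four_dvd_card_sq_mem_subgroup C z hzC (fun g _ => hzc g) hz2 hz1 hC4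

end Exceptional

section Main

variable {G : Type*} [Group G] [Finite G]

/-- Conjugation action of `G` on a conjugation-invariant subtype. -/
@[reducible] def kulConjPredAction (q : G → Prop) (hq : ∀ g x : G, q x → q (g * x * g⁻¹)) :
    MulAction G {x : G // q x} where
  smul g x := ⟨g * x.1 * g⁻¹, hq g x.1 x.2⟩
  one_smul x := by
    apply Subtype.ext
    show (1 : G) * x.1 * (1 : G)⁻¹ = x.1
    simp
  mul_smul g h x := by
    apply Subtype.ext
    show (g * h) * x.1 * (g * h)⁻¹ = g * (h * x.1 * h⁻¹) * g⁻¹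
    group

/-- If a group of order `2 ^ m`, not of maximal class, has a normal four-group, then the number of
solutions of `x ^ 2 = 1` is divisible by `4`. -/
theorem kul_four_dvd_card_sq_eq_one (m : ℕ) (hG : Nat.card G = 2 ^ m) (R : Subgroup G)
    [hRn : R.Normal] (hR : Nat.card R = 2 ^ 2) (hexp : ∀ r ∈ R, r ^ 2 = 1)
    (hcl : Group.nilpotencyClass G ≠ m - 1) : 4 ∣ Nat.card {x : G // x ^ 2 = 1} := by
  have hf2 : Fact (Nat.Prime 2) := ⟨Nat.prime_two⟩
  have hP : IsPGroup 2 G := IsPGroup.of_card hG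
  have hRbot : R ≠ ⊥ := by
    intro h
    rw [h, Subgroup.card_bot] at hR
    norm_num at hR
  obtain ⟨z, hzR, hz1, hzcen⟩ :=
    Cfsg.Agent.Lib.Helper73.exists_ne_one_mem_center_of_normal' hP R hRbot
  have hzc : ∀ g : G, g * z = z * g := Subgroup.mem_center_iff.mp hzcen
  have hz2 : z ^ 2 = 1 := hexp z hzR
  have hzz : z * z = 1 := by rw [← pow_two]; exact hz2
  have hzne : ∀ g : G, z * g ≠ g := fun g h => hz1 (by simpa using h)
  -- a second generator
  obtain ⟨r₁, hr₁R, hr₁1, hr₁z⟩ : ∃ r₁ ∈ R, r₁ ≠ 1 ∧ r₁ ≠ z := by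
    by_contra hcon
    push Not at hcon
    have hle : R ≤ Subgroup.zpowers z := by
      intro r hr
      by_cases h1 : r = 1
      · rw [h1]; exact one_mem _
      · rw [hcon r hr h1]; exact Subgroup.mem_zpowers z
    have h1 := Subgroup.card_le_of_le hle
    rw [Nat.card_zpowers, orderOf_eq_prime hz2 hz1, hR] at h1
    norm_num at h1
  have hr2 : r₁ ^ 2 = 1 := hexp r₁ hr₁R
  have hrr : r₁ * r₁ = 1 := by rw [← pow_two]; exact hr2
  have hR4 : R = Cfsg.Agent.Lib.Helper48.fourSub z r₁ := by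
    symm
    apply Subgroup.eq_of_le_of_card_ge
    · exact sup_le (Subgroup.zpowers_le.mpr hzR) (Subgroup.zpowers_le.mpr hr₁R)
    · rw [Cfsg.Agent.Lib.Helper48.card_fourSub hzz hrr (hzc r₁).symm hz1 hr₁1 (Ne.symm hr₁z), hR]
      norm_num
  have hRmem : ∀ r ∈ R, r = 1 ∨ r = z ∨ r = r₁ ∨ r = z * r₁ := by
    intro r hr
    rw [hR4] at hr
    exact (Cfsg.Agent.Lib.Helper48.mem_fourSub hzz hrr (hzc r₁).symm).mp hr
  -- conjugates of `r₁`
  have hconj : ∀ g : G, g * r₁ = r₁ * g ∨ g * r₁ = z * r₁ * g := by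
    intro g
    have h1 : g * r₁ * g⁻¹ ∈ R := hRn.conj_mem r₁ hr₁R g
    rcases hRmem _ h1 with h | h | h | h
    · exfalso
      apply hr₁1
      have : r₁ = g⁻¹ * (g * r₁ * g⁻¹) * g := by group
      rw [this, h]; group
    · exfalso
      apply hr₁z
      have : r₁ = g⁻¹ * (g * r₁ * g⁻¹) * g := by group
      rw [this, h, mul_assoc, ← hzc g, ← mul_assoc, inv_mul_cancel, one_mul]
    · left
      calc g * r₁ = (g * r₁ * g⁻¹) * g := by group
        _ = r₁ * g := by rw [h]
    · right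
      calc g * r₁ = (g * r₁ * g⁻¹) * g := by group
        _ = z * r₁ * g := by rw [h]
  -- elements commuting with `r₁` centralize `R`
  have hxR : ∀ x : G, x * r₁ = r₁ * x → ∀ r ∈ R, x * r = r * x := by
    intro x hx r hr
    rcases hRmem r hr with rfl | rfl | rfl | rfl
    · rw [mul_one, one_mul]
    · exact hzc x
    · exact hx
    · rw [← mul_assoc, hzc x, mul_assoc, hx, mul_assoc]
  have hRcomm : ∀ a ∈ R, ∀ b ∈ R, a * b = b * a := by
    intro a ha b hb
    have h1 : b * r₁ = r₁ * b := by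
      rcases hRmem b hb with rfl | rfl | rfl | rfl
      · rw [mul_one, one_mul]
      · exact (hzc r₁).symm
      · rfl
      · rw [← mul_assoc r₁ z r₁, hzc r₁]
    exact (hxR b h1 a ha).symm
  -- Part 1: elements commuting with `r₁`
  have part1 : 4 ∣ Nat.card {x : G // x * r₁ = r₁ * x ∧ x ^ 2 = 1} := by
    apply Cfsg.Agent.Lib.Helper73.dvd_card_subtype_of_dvd_index_stabilizer (G := R) (X := G)
      (fun x => x * r₁ = r₁ * x ∧ x ^ 2 = 1)
    · rintro r x ⟨hx1, hx2⟩
      have hsm : r • x = (r : G) * x := rfl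
      rw [hsm]
      refine ⟨?_, ?_⟩
      · rw [mul_assoc, hx1, ← mul_assoc, ← mul_assoc, hRcomm r.1 r.2 r₁ hr₁R]
      · have hc : Commute (r : G) x := (hxR x hx1 r.1 r.2).symm
        rw [hc.mul_pow, hexp r.1 r.2, hx2, one_mul]
    · intro x _
      have hst : MulAction.stabilizer R x = ⊥ := by
        rw [eq_bot_iff]
        intro r hr
        rw [MulAction.mem_stabilizer_iff] at hr
        have hsm : r • x = (r : G) * x := rfl
        rw [hsm] at hr
        rw [Subgroup.mem_bot]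
        exact Subtype.ext (by simpa using hr)
      rw [hst, Subgroup.index_bot, hR]
      norm_num
  -- Part 2: elements not commuting with `r₁`
  have hTconj : ∀ g y : G, y * r₁ = r₁ * y → (g * y * g⁻¹) * r₁ = r₁ * (g * y * g⁻¹) := by
    intro g y hy
    obtain ⟨w, hw, hyw⟩ : ∃ w, g⁻¹ * r₁ * g = w ∧ y * w = w * y := by
      rcases hconj g⁻¹ with h1 | h1
      · refine ⟨r₁, ?_, hy⟩
        rw [h1]; group
      · refine ⟨z * r₁, ?_, ?_⟩
        · rw [h1]; group
        · rw [← mul_assoc, hzc y, mul_assoc, hy, mul_assoc]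
    calc g * y * g⁻¹ * r₁ = g * (y * (g⁻¹ * r₁ * g)) * g⁻¹ := by group
      _ = g * (y * w) * g⁻¹ := by rw [hw]
      _ = g * (w * y) * g⁻¹ := by rw [hyw]
      _ = g * ((g⁻¹ * r₁ * g) * y) * g⁻¹ := by rw [hw]
      _ = r₁ * (g * y * g⁻¹) := by group
  have hq : ∀ g x : G, (x * r₁ ≠ r₁ * x ∧ x ^ 2 = 1) →
      ((g * x * g⁻¹) * r₁ ≠ r₁ * (g * x * g⁻¹) ∧ (g * x * g⁻¹) ^ 2 = 1) := by
    rintro g x ⟨hx1, hx2⟩
    refine ⟨?_, by rw [conj_pow, hx2, mul_one, mul_inv_cancel]⟩
    intro h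
    apply hx1
    have h1 := hTconj g⁻¹ (g * x * g⁻¹) h
    have e : g⁻¹ * (g * x * g⁻¹) * g⁻¹⁻¹ = x := by group
    rwa [e] at h1
  have part2 : 4 ∣ Nat.card {x : G // x * r₁ ≠ r₁ * x ∧ x ^ 2 = 1} := by
    let _ := kulConjPredAction (fun x : G => x * r₁ ≠ r₁ * x ∧ x ^ 2 = 1) hq
    by_cases hall : ∀ x : {x : G // x * r₁ ≠ r₁ * x ∧ x ^ 2 = 1},
        4 ∣ (MulAction.stabilizer G x).index
    · exact Cfsg.Agent.Lib.Helper73.dvd_card_of_dvd_index_stabilizer (G := G) 4 hall
    · push Not at hall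
      obtain ⟨⟨x₀, hx₀1, hx₀2⟩, hx₀⟩ := hall
      have hstab : MulAction.stabilizer G
          (⟨x₀, hx₀1, hx₀2⟩ : {x : G // x * r₁ ≠ r₁ * x ∧ x ^ 2 = 1}) =
          Subgroup.centralizer ({x₀} : Set G) := by
        ext g
        rw [MulAction.mem_stabilizer_iff, Subgroup.mem_centralizer_singleton_iff, Subtype.ext_iff]
        show g * x₀ * g⁻¹ = x₀ ↔ g * x₀ = x₀ * g
        exact mul_inv_eq_iff_eq_mul
      rw [hstab] at hx₀
      have hxr : x₀ * r₁ = z * r₁ * x₀ := (hconj x₀).resolve_left hx₀1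
      have hidx : (Subgroup.centralizer ({x₀} : Set G)).index = 2 := by
        have hdvd : (Subgroup.centralizer ({x₀} : Set G)).index ∣ 2 ^ m := by
          rw [← hG]; exact Subgroup.index_dvd_card _
        obtain ⟨j, -, hj⟩ := (Nat.dvd_prime_pow Nat.prime_two).mp hdvd
        have hj2 : j < 2 := by
          by_contra hge
          push Not at hge
          apply hx₀
          rw [hj]
          exact pow_dvd_pow 2 hge
        have hj0 : j ≠ 0 := by
          intro h0
          rw [h0, pow_zero, Subgroup.index_eq_one] at hj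
          have : r₁ ∈ Subgroup.centralizer ({x₀} : Set G) := by rw [hj]; exact Subgroup.mem_top _
          rw [Subgroup.mem_centralizer_singleton_iff] at this
          exact hx₀1 this.symm
        have : j = 1 := by omega
        rw [hj, this, pow_one]
      by_cases hm4 : 4 ≤ m
      · exact kul_exceptional_count m hm4 hG z r₁ x₀ hzc hz2 hz1 hr2 hx₀2 hxr hconj hidx
      · exfalso
        push Not at hm4
        have hRT : R ≤ Subgroup.centralizer (R : Set G) := by
          intro a ha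
          rw [Subgroup.mem_centralizer_iff]
          intro b hb
          exact hRcomm b hb a ha
        have hTtop : Subgroup.centralizer (R : Set G) ≠ ⊤ := by
          intro h
          have : x₀ ∈ Subgroup.centralizer (R : Set G) := by rw [h]; exact Subgroup.mem_top _
          rw [Subgroup.mem_centralizer_iff] at this
          exact hx₀1 (this r₁ hr₁R).symm
        have hTdvd : Nat.card (Subgroup.centralizer (R : Set G)) ∣ 2 ^ m := by
          rw [← hG]; exact Subgroup.card_subgroup_dvd_card _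
        obtain ⟨t, htm, ht⟩ := (Nat.dvd_prime_pow Nat.prime_two).mp hTdvd
        have ht2 : 2 ≤ t := by
          have h1 := Subgroup.card_le_of_le hRT
          rw [hR, ht] at h1
          exact (Nat.pow_le_pow_iff_right (by norm_num)).mp h1
        have htne : t ≠ m := by
          intro h
          apply hTtop
          apply Subgroup.eq_top_of_card_eq
          rw [ht, hG, h]
        have ht' : t = 2 := by omega
        have hm' : m = 3 := by omega
        have hTR : Subgroup.centralizer (R : Set G) = R := by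
          symm
          apply Subgroup.eq_of_le_of_card_ge hRT
          rw [ht, ht', hR]
        subst hm'
        exact hcl (Cfsg.Agent.S0112.result 3 hG R hR hTR)
  -- combine
  have hunion : {x : G | x ^ 2 = 1} =
      {x : G | x * r₁ = r₁ * x ∧ x ^ 2 = 1} ∪ {x : G | x * r₁ ≠ r₁ * x ∧ x ^ 2 = 1} := by
    ext x
    simp only [Set.mem_ofPred_eq, Set.mem_union]
    tauto
  have hdisj : Disjoint {x : G | x * r₁ = r₁ * x ∧ x ^ 2 = 1}
      {x : G | x * r₁ ≠ r₁ * x ∧ x ^ 2 = 1} := by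
    rw [Set.disjoint_left]
    rintro x ⟨h1, -⟩ ⟨h2, -⟩
    exact h2 h1
  have e0 : Nat.card {x : G // x ^ 2 = 1} = ({x : G | x ^ 2 = 1} : Set G).ncard :=
    Nat.card_coe_set_eq _
  have e1 : Nat.card {x : G // x * r₁ = r₁ * x ∧ x ^ 2 = 1} =
      ({x : G | x * r₁ = r₁ * x ∧ x ^ 2 = 1} : Set G).ncard := Nat.card_coe_set_eq _
  have e2 : Nat.card {x : G // x * r₁ ≠ r₁ * x ∧ x ^ 2 = 1} =
      ({x : G | x * r₁ ≠ r₁ * x ∧ x ^ 2 = 1} : Set G).ncard := Nat.card_coe_set_eq _
  rw [e0, hunion, Set.ncard_union_eq hdisj (Set.toFinite _) (Set.toFinite _), ← e1, ← e2]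
  exact dvd_add part1 part2

end Main

end Cfsg.Agent.Lib.Helper72
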