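import Mathlib
import Cfsg.Prelude.Def_Classical

/-!
# LIE2 / [M-OP-a]: the Siegel elements `r(A)` and the Levi elements `d(g)` of `O⁺_{2m}(F)` in characteristic 2
-/

set_option autoImplicit false

namespace Cfsg.Agent.Lib.Helper72.Lie2OP

open Matrix

variable {F : Type*} [Field F] {m : ℕ}

/-- `r(A) = [[1, A],[0, 1]]`. -/
def rMat (A : Matrix (Fin m) (Fin m) F) : Matrix (Fin m ⊕ Fin m) (Fin m ⊕ Fin m) F :=
  Matrix.fromBlocks 1 A 0 1

theorem rMat_mul (A B : Matrix (Fin m) (Fin m) F) : rMat A * rMat B = rMat (A + B) := by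
  unfold rMat
  rw [Matrix.fromBlocks_multiply]
  simp [add_comm]

theorem rMat_zero : rMat (0 : Matrix (Fin m) (Fin m) F) = 1 := by
  unfold rMat
  exact Matrix.fromBlocks_one

/-- `r(A)` as a unit. -/
def rUnit (A : Matrix (Fin m) (Fin m) F) : GL (Fin m ⊕ Fin m) F :=
  ⟨rMat A, rMat (-A), by rw [rMat_mul, add_neg_cancel, rMat_zero],
    by rw [rMat_mul, neg_add_cancel, rMat_zero]⟩

theorem rUnit_coe (A : Matrix (Fin m) (Fin m) F) :
    ((rUnit A : GL (Fin m ⊕ Fin m) F) : Matrix (Fin m ⊕ Fin m) (Fin m ⊕ Fin m) F) = rMat A := rfl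

theorem rUnit_mul (A B : Matrix (Fin m) (Fin m) F) : rUnit A * rUnit B = rUnit (A + B) := by
  apply Units.ext
  rw [Units.val_mul, rUnit_coe, rUnit_coe, rUnit_coe, rMat_mul]

theorem rUnit_zero : rUnit (0 : Matrix (Fin m) (Fin m) F) = 1 := by
  apply Units.ext
  rw [rUnit_coe, rMat_zero]; rfl

theorem rUnit_injective : Function.Injective (rUnit : Matrix (Fin m) (Fin m) F → _) := by
  intro A B h
  have h1 : rMat A = rMat B := congrArg Units.val h
  unfold rMat at h1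
  exact (Matrix.fromBlocks_inj.1 h1).2.1

/-- `d(g) = [[g, 0],[0, g⁻ᵀ]]`. -/
def dMat (g : Matrix.SpecialLinearGroup (Fin m) F) : Matrix (Fin m ⊕ Fin m) (Fin m ⊕ Fin m) F :=
  Matrix.fromBlocks (g : Matrix (Fin m) (Fin m) F) 0 0 ((g⁻¹ : Matrix.SpecialLinearGroup (Fin m) F) : Matrix (Fin m) (Fin m) F)ᵀ

theorem dMat_mul (g h : Matrix.SpecialLinearGroup (Fin m) F) : dMat g * dMat h = dMat (g * h) := by
  unfold dMat
  rw [Matrix.fromBlocks_multiply]
  simp only [Matrix.mul_zero, Matrix.zero_mul, add_zero, zero_add]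
  congr 1
  rw [_root_.mul_inv_rev, Matrix.SpecialLinearGroup.coe_mul, Matrix.transpose_mul]

theorem dMat_one : dMat (1 : Matrix.SpecialLinearGroup (Fin m) F) = 1 := by
  unfold dMat
  simp [Matrix.fromBlocks_one]

/-- `d(g)` as a unit. -/
def dUnit (g : Matrix.SpecialLinearGroup (Fin m) F) : GL (Fin m ⊕ Fin m) F :=
  ⟨dMat g, dMat g⁻¹, by rw [dMat_mul, mul_inv_cancel, dMat_one],
    by rw [dMat_mul, inv_mul_cancel, dMat_one]⟩

theorem dUnit_coe (g : Matrix.SpecialLinearGroup (Fin m) F) :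
    ((dUnit g : GL (Fin m ⊕ Fin m) F) : Matrix (Fin m ⊕ Fin m) (Fin m ⊕ Fin m) F) = dMat g := rfl

/-- `d` as a monoid hom `SL_m(F) →* GL_{2m}(F)`. -/
def dGL : Matrix.SpecialLinearGroup (Fin m) F →* GL (Fin m ⊕ Fin m) F where
  toFun := dUnit
  map_one' := by
    apply Units.ext
    rw [dUnit_coe, dMat_one]; rfl
  map_mul' g h := by
    apply Units.ext
    rw [Units.val_mul, dUnit_coe, dUnit_coe, dUnit_coe, dMat_mul]

theorem dGL_injective : Function.Injective (dGL : Matrix.SpecialLinearGroup (Fin m) F →* _) := by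
  intro g h hgh
  have h1 : dMat g = dMat h := congrArg Units.val hgh
  unfold dMat at h1
  apply Subtype.ext
  exact (Matrix.fromBlocks_inj.1 h1).1

/-- conjugation: `d(g) r(A) d(g)⁻¹ = r(g A gᵀ)`. -/
theorem dGL_conj_rUnit (g : Matrix.SpecialLinearGroup (Fin m) F) (A : Matrix (Fin m) (Fin m) F) :
    dGL g * rUnit A * (dGL g)⁻¹ =
      rUnit ((g : Matrix (Fin m) (Fin m) F) * A * (g : Matrix (Fin m) (Fin m) F)ᵀ) := by
  rw [← map_inv]
  apply Units.ext
  rw [Units.val_mul, Units.val_mul]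
  show dMat g * rMat A * dMat g⁻¹ = rMat _
  unfold dMat rMat
  rw [Matrix.fromBlocks_multiply, Matrix.fromBlocks_multiply]
  simp only [Matrix.mul_zero, Matrix.zero_mul, add_zero, zero_add, Matrix.mul_one, inv_inv]
  congr 1
  · rw [← Matrix.SpecialLinearGroup.coe_mul, mul_inv_cancel, Matrix.SpecialLinearGroup.coe_one]
  · rw [← Matrix.transpose_mul, ← Matrix.SpecialLinearGroup.coe_mul, mul_inv_cancel,
      Matrix.SpecialLinearGroup.coe_one, Matrix.transpose_one]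

/-! ### isometries -/

theorem quadFormPlus_eq (v : Fin m ⊕ Fin m → F) :
    Cfsg.quadFormPlus m F v = (v ∘ Sum.inl) ⬝ᵥ (v ∘ Sum.inr) := rfl

theorem rMat_mulVec (A : Matrix (Fin m) (Fin m) F) (v : Fin m ⊕ Fin m → F) :
    rMat A *ᵥ v = Sum.elim (v ∘ Sum.inl + A *ᵥ (v ∘ Sum.inr)) (v ∘ Sum.inr) := by
  unfold rMat
  rw [Matrix.fromBlocks_mulVec]
  simp

theorem dMat_mulVec (g : Matrix.SpecialLinearGroup (Fin m) F) (v : Fin m ⊕ Fin m → F) :
    dMat g *ᵥ v = Sum.elim ((g : Matrix (Fin m) (Fin m) F) *ᵥ (v ∘ Sum.inl))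
      (((g⁻¹ : Matrix.SpecialLinearGroup (Fin m) F) : Matrix (Fin m) (Fin m) F)ᵀ *ᵥ (v ∘ Sum.inr)) := by
  unfold dMat
  rw [Matrix.fromBlocks_mulVec]
  simp

/-- `d(g)` preserves the hyperbolic quadratic form. -/
theorem dGL_mem_isometryGroup (g : Matrix.SpecialLinearGroup (Fin m) F) :
    dGL g ∈ Cfsg.isometryGroup F (Cfsg.quadFormPlus m F) := by
  intro u _
  show Cfsg.quadFormPlus m F (dMat g *ᵥ u) = Cfsg.quadFormPlus m F u
  rw [quadFormPlus_eq, quadFormPlus_eq, dMat_mulVec]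
  simp only [Sum.elim_comp_inl, Sum.elim_comp_inr]
  rw [Matrix.dotProduct_mulVec, Matrix.vecMul_transpose, Matrix.mulVec_mulVec,
    ← Matrix.SpecialLinearGroup.coe_mul, inv_mul_cancel, Matrix.SpecialLinearGroup.coe_one,
    Matrix.one_mulVec]

/-- In characteristic 2, `r(B + Bᵀ)` preserves the hyperbolic quadratic form. -/
theorem rUnit_mem_isometryGroup [CharP F 2] (B : Matrix (Fin m) (Fin m) F) :
    rUnit (B + Bᵀ) ∈ Cfsg.isometryGroup F (Cfsg.quadFormPlus m F) := by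
  intro u _
  show Cfsg.quadFormPlus m F (rMat (B + Bᵀ) *ᵥ u) = Cfsg.quadFormPlus m F u
  rw [quadFormPlus_eq, quadFormPlus_eq, rMat_mulVec]
  simp only [Sum.elim_comp_inl, Sum.elim_comp_inr]
  rw [add_dotProduct, Matrix.add_mulVec, add_dotProduct]
  have h1 : (Bᵀ *ᵥ (u ∘ Sum.inr)) ⬝ᵥ (u ∘ Sum.inr) = (B *ᵥ (u ∘ Sum.inr)) ⬝ᵥ (u ∘ Sum.inr) := by
    rw [Matrix.mulVec_transpose, ← Matrix.dotProduct_mulVec, dotProduct_comm]
  rw [h1]
  have h2 : ∀ x : F, x + x = 0 := fun x => CharTwo.add_self_eq_zero x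
  rw [h2, add_zero]

end Cfsg.Agent.Lib.Helper72.Lie2OP
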