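import Mathlib
import Cfsg.Agent.Lib.Helper72.Lie2OPa
import Cfsg.Agent.Lib.Helper72.Lie2Gen
import Cfsg.Agent.Lib.Helper45.PSLAut.Unitri
import Cfsg.Agent.Lib.Helper86.PSLUnitriA
import Cfsg.Agent.Lib.Helper86.PSLUnitriB
import Cfsg.Agent.Lib.Helper5.SLGen

/-!
# LIE2 / [M-OP-b]: the subgroup `U = R ⋊ L` of `O⁺_{2m}(F)` (char 2): order, 2-group, inside `Ω`,
generated by involutions
-/

set_option autoImplicit false
set_option linter.unusedSectionVars false

namespace Cfsg.Agent.Lib.Helper72.Lie2OP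

open Matrix Cfsg.Agent.Lib.Helper45.PSLAut Cfsg.Agent.Lib.Helper86.PSLFus
open scoped commutatorElement

variable {F : Type*} [Field F] {m : ℕ}

/-- the isometry group of the hyperbolic form, as a type -/
abbrev OG (m : ℕ) (F : Type*) [Field F] : Type _ :=
  ↥(Cfsg.isometryGroup F (Cfsg.quadFormPlus m F))

section char2
variable [CharP F 2]

/-- `B ↦ r(B + Bᵀ)` as a monoid hom into the isometry group. -/
def rO : Multiplicative (Matrix (Fin m) (Fin m) F) →* OG m F where
  toFun B := ⟨rUnit (Multiplicative.toAdd B + (Multiplicative.toAdd B)ᵀ), rUnit_mem_isometryGroup _⟩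
  map_one' := by
    apply Subtype.ext
    show rUnit _ = 1
    rw [toAdd_one, Matrix.transpose_zero, add_zero, rUnit_zero]
  map_mul' B C := by
    apply Subtype.ext
    show rUnit _ = rUnit _ * rUnit _
    rw [rUnit_mul, toAdd_mul, Matrix.transpose_add]
    congr 1
    abel

theorem rO_coe (B : Matrix (Fin m) (Fin m) F) :
    ((rO (Multiplicative.ofAdd B) : OG m F) : GL (Fin m ⊕ Fin m) F) = rUnit (B + Bᵀ) := rfl

theorem rO_sq (B : Multiplicative (Matrix (Fin m) (Fin m) F)) : rO B ^ 2 = 1 := by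
  rw [← map_pow]
  have : B ^ 2 = 1 := by
    apply Multiplicative.toAdd.injective
    rw [toAdd_pow, toAdd_one]
    rw [two_nsmul]
    ext i j
    exact CharTwo.add_self_eq_zero _
  rw [this, map_one]

end char2

/-- `d` as a monoid hom into the isometry group. -/
def dO : Matrix.SpecialLinearGroup (Fin m) F →* OG m F :=
  dGL.codRestrict _ dGL_mem_isometryGroup

theorem dO_coe (g : Matrix.SpecialLinearGroup (Fin m) F) :
    ((dO g : OG m F) : GL (Fin m ⊕ Fin m) F) = dGL g := rfl

theorem dO_injective : Function.Injective (dO : Matrix.SpecialLinearGroup (Fin m) F →* OG m F) := by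
  intro g h hgh
  apply dGL_injective
  have := congrArg (fun x : OG m F => (x : GL (Fin m ⊕ Fin m) F)) hgh
  exact this

section char2
variable [CharP F 2]

theorem dO_conj_rO (g : Matrix.SpecialLinearGroup (Fin m) F) (B : Matrix (Fin m) (Fin m) F) :
    dO g * rO (Multiplicative.ofAdd B) * (dO g)⁻¹ =
      rO (Multiplicative.ofAdd ((g : Matrix (Fin m) (Fin m) F) * B * (g : Matrix (Fin m) (Fin m) F)ᵀ)) := by
  apply Subtype.ext
  show dGL g * rUnit (B + Bᵀ) * (dGL g)⁻¹ = rUnit _
  rw [dGL_conj_rUnit]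
  congr 1
  show _ = (g : Matrix (Fin m) (Fin m) F) * B * (g : Matrix (Fin m) (Fin m) F)ᵀ +
    ((g : Matrix (Fin m) (Fin m) F) * B * (g : Matrix (Fin m) (Fin m) F)ᵀ)ᵀ
  rw [Matrix.mul_add, Matrix.add_mul, Matrix.transpose_mul, Matrix.transpose_mul,
    Matrix.transpose_transpose, Matrix.mul_assoc, Matrix.mul_assoc]

end char2

/-! ### the subgroups `R`, `L`, `U` -/

section fin
variable [Finite F] [CharP F 2]

/-- `R`: the image of `rO`. -/
def RR (m : ℕ) (F : Type*) [Field F] [CharP F 2] : Subgroup (OG m F) :=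
  (rO (m := m) (F := F)).range

/-- `L`: the image of the upper unitriangular group under `dO`. -/
def LL (m : ℕ) (F : Type*) [Field F] [Finite F] : Subgroup (OG m F) :=
  (UU m F).map dO

/-- `U = R L`. -/
def UO (m : ℕ) (F : Type*) [Field F] [Finite F] [CharP F 2] : Subgroup (OG m F) :=
  RR m F ⊔ LL m F

theorem dO_mem_normalizer_RR (g : Matrix.SpecialLinearGroup (Fin m) F) :
    dO g ∈ Subgroup.normalizer (RR m F : Set (OG m F)) := by
  rw [Subgroup.mem_normalizer_iff]
  intro h
  constructor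
  · rintro ⟨B, rfl⟩
    exact ⟨_, (dO_conj_rO g (Multiplicative.toAdd B)).symm⟩
  · rintro ⟨C, hC⟩
    have h1 : h = dO g⁻¹ * rO C * (dO g⁻¹)⁻¹ := by
      rw [hC, map_inv, inv_inv]
      group
    rw [h1]
    exact ⟨_, (dO_conj_rO g⁻¹ (Multiplicative.toAdd C)).symm⟩

theorem LL_le_normalizer_RR : LL m F ≤ Subgroup.normalizer (RR m F : Set (OG m F)) := by
  rintro x ⟨g, _, rfl⟩
  exact dO_mem_normalizer_RR g

theorem disjoint_RR_LL : Disjoint (RR m F) (LL m F) := by
  rw [Subgroup.disjoint_def]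
  rintro x ⟨B, rfl⟩ ⟨g, _, hg⟩
  have h1 : dGL g = rUnit (Multiplicative.toAdd B + (Multiplicative.toAdd B)ᵀ) :=
    congrArg (fun x : OG m F => (x : GL (Fin m ⊕ Fin m) F)) hg
  have h2 : dMat g = rMat (Multiplicative.toAdd B + (Multiplicative.toAdd B)ᵀ) :=
    congrArg Units.val h1
  unfold dMat rMat at h2
  have h3 := (Matrix.fromBlocks_inj.1 h2).1
  have h4 : g = 1 := by
    apply Subtype.ext
    rw [h3]; rfl
  rw [← hg, h4, map_one]

/-- the injection `UU → R`, `s ↦ r(s + sᵀ)` -/
theorem card_UU_le_card_RR : Nat.card (UU m F) ≤ Nat.card (RR m F) := by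
  have : Finite (OG m F) := by unfold OG; infer_instance
  let f : UU m F → RR m F := fun s =>
    ⟨rO (Multiplicative.ofAdd ((s : Matrix.SpecialLinearGroup (Fin m) F) : Matrix (Fin m) (Fin m) F)),
      ⟨_, rfl⟩⟩
  apply Nat.card_le_card_of_injective f
  intro s t hst
  have h1 : rUnit (((s : Matrix.SpecialLinearGroup (Fin m) F) : Matrix (Fin m) (Fin m) F) +
        ((s : Matrix.SpecialLinearGroup (Fin m) F) : Matrix (Fin m) (Fin m) F)ᵀ) =
      rUnit (((t : Matrix.SpecialLinearGroup (Fin m) F) : Matrix (Fin m) (Fin m) F) +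
        ((t : Matrix.SpecialLinearGroup (Fin m) F) : Matrix (Fin m) (Fin m) F)ᵀ) :=
    congrArg (fun x : RR m F => ((x : OG m F) : GL (Fin m ⊕ Fin m) F)) hst
  have h2 := rUnit_injective h1
  apply Subtype.ext
  apply Subtype.ext
  ext i j
  rcases lt_or_ge i j with hij | hij
  · have h3 := congrFun (congrFun h2 i) j
    simp only [Matrix.add_apply, Matrix.transpose_apply] at h3
    rw [(mem_UU.1 s.2) j i hij.le, (mem_UU.1 t.2) j i hij.le] at h3
    exact add_right_cancel h3
  · rw [(mem_UU.1 s.2) i j hij, (mem_UU.1 t.2) i j hij]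

theorem card_LL : Nat.card (LL m F) = Nat.card (UU m F) :=
  Subgroup.card_map_of_injective dO_injective

theorem card_UO_ge : Nat.card (UU m F) * Nat.card (UU m F) ≤ Nat.card (UO m F) := by
  have : Finite (OG m F) := by unfold OG; infer_instance
  have h1 : Nat.card (RR m F) * Nat.card (LL m F) ≤ Nat.card (UO m F) := by
    rw [← Nat.card_prod]
    let f : RR m F × LL m F → UO m F := fun x =>
      ⟨(x.1 : OG m F) * (x.2 : OG m F), mul_mem (le_sup_left (a := RR m F) (b := LL m F) x.1.2)
        (le_sup_right (a := RR m F) (b := LL m F) x.2.2)⟩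
    apply Nat.card_le_card_of_injective f
    intro x y hxy
    apply Subgroup.mul_injective_of_disjoint (disjoint_RR_LL (m := m) (F := F))
    exact congrArg Subtype.val hxy
  calc Nat.card (UU m F) * Nat.card (UU m F) ≤ Nat.card (RR m F) * Nat.card (LL m F) := by
        rw [card_LL]
        exact Nat.mul_le_mul_right _ card_UU_le_card_RR
    _ ≤ _ := h1

theorem isPGroup_UO : IsPGroup 2 (UO m F) := by
  have : Fact (Nat.Prime 2) := ⟨Nat.prime_two⟩
  have : Fintype F := Fintype.ofFinite F
  obtain ⟨n, _, hn⟩ := FiniteField.card F 2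
  have hR : IsPGroup 2 (RR m F) := by
    rintro ⟨x, B, rfl⟩
    refine ⟨1, ?_⟩
    apply Subtype.ext
    rw [pow_one]
    exact rO_sq B
  have hL : IsPGroup 2 (LL m F) := (isPGroup_UU (n := m) hn).map dO
  exact IsPGroup.to_sup_of_normal_left' hR hL LL_le_normalizer_RR

/-! ### `U ≤ Ω` -/

theorem dO_mem_commutator (hm : 3 ≤ m) (g : Matrix.SpecialLinearGroup (Fin m) F) :
    dO g ∈ commutator (OG m F) := by
  have h1 : g ∈ commutator (Matrix.SpecialLinearGroup (Fin m) F) := by
    rw [Cfsg.Agent.Lib.Helper5.commutator_SL_eq_top_of_three_le_card (by rw [Fintype.card_fin]; exact hm)]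
    exact Subgroup.mem_top g
  rw [commutator_def] at h1 ⊢
  have h2 : dO g ∈ Subgroup.map dO ⁅(⊤ : Subgroup (Matrix.SpecialLinearGroup (Fin m) F)),
      (⊤ : Subgroup (Matrix.SpecialLinearGroup (Fin m) F))⁆ :=
    Subgroup.mem_map_of_mem _ h1
  rw [Subgroup.map_commutator] at h2
  exact Subgroup.commutator_mono le_top le_top h2

/-- the key commutator identity: `[d(1 + a φᵀ), r(u vᵀ + v uᵀ)] = r(u aᵀ + a uᵀ)`. -/
theorem rO_vecMulVec_mem (u a φ v : Fin m → F) (h1 : φ ⬝ᵥ a = 0) (h2 : φ ⬝ᵥ u = 0)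
    (h3 : φ ⬝ᵥ v = 1) :
    rO (Multiplicative.ofAdd (vecMulVec u a)) ∈ commutator (OG m F) := by
  have key : rO (Multiplicative.ofAdd (vecMulVec u a)) =
      ⁅dO (tv a φ), rO (Multiplicative.ofAdd (vecMulVec u v))⁆ := by
    rw [commutatorElement_def, dO_conj_rO, ← map_inv, ← map_mul]
    congr 1
    rw [← ofAdd_neg, ← ofAdd_add]
    congr 1
    rw [tv_coe h1, Matrix.mul_vecMulVec, Matrix.vecMulVec_mul, Matrix.vecMul_transpose,
      tvMat_mulVec, tvMat_mulVec, h2, h3, zero_smul, one_smul, add_zero, Matrix.vecMulVec_add]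
    abel
  rw [key]
  exact Subgroup.commutator_mem_commutator (Subgroup.mem_top _) (Subgroup.mem_top _)

theorem rO_single_mem (hm : 3 ≤ m) (i j : Fin m) (c : F) :
    rO (Multiplicative.ofAdd (Matrix.single i j c)) ∈ commutator (OG m F) := by
  by_cases hij : i = j
  · subst hij
    have : rO (Multiplicative.ofAdd (Matrix.single i i c)) = 1 := by
      apply Subtype.ext
      show rUnit (Matrix.single i i c + (Matrix.single i i c)ᵀ) = 1
      rw [Matrix.transpose_single, ← rUnit_zero]
      congr 1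
      ext a b
      exact CharTwo.add_self_eq_zero _
    rw [this]
    exact one_mem _
  · obtain ⟨k, hki, hkj⟩ : ∃ k : Fin m, k ≠ i ∧ k ≠ j :=
      Cfsg.Agent.Lib.Helper5.exists_ne_ne_of_three_le_card (by rw [Fintype.card_fin]; exact hm) i j
    have h0 : Matrix.single i j c = vecMulVec (Pi.single i c) (Pi.single j (1 : F)) := by
      have := Matrix.single_eq_single_vecMulVec_single (α := F) i j
      rw [show Matrix.single i j c = c • Matrix.single i j (1 : F) by
        rw [Matrix.smul_single, smul_eq_mul, mul_one], this, ← Matrix.smul_vecMulVec]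
      congr 1
      ext x
      simp [Pi.single_apply]
    rw [h0]
    apply rO_vecMulVec_mem (Pi.single i c) (Pi.single j 1) (Pi.single k 1) (Pi.single k 1)
    · simp [hkj]
    · simp [hki]
    · simp

theorem rO_mem_commutator (hm : 3 ≤ m) (B : Multiplicative (Matrix (Fin m) (Fin m) F)) :
    rO B ∈ commutator (OG m F) := by
  have h1 : B = ∏ i : Fin m, ∏ j : Fin m,
      Multiplicative.ofAdd (Matrix.single i j ((Multiplicative.toAdd B) i j)) := by
    apply Multiplicative.toAdd.injective
    rw [toAdd_prod]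
    simp_rw [toAdd_prod, toAdd_ofAdd]
    exact Matrix.matrix_eq_sum_single _
  have h2 : B ∈ (commutator (OG m F)).comap (rO (m := m) (F := F)) := by
    rw [h1]
    apply Subgroup.prod_mem
    intro i _
    apply Subgroup.prod_mem
    intro j _
    rw [Subgroup.mem_comap]
    exact rO_single_mem hm i j _
  exact h2

theorem UO_le_commutator (hm : 3 ≤ m) : UO m F ≤ commutator (OG m F) := by
  unfold UO
  rw [sup_le_iff]
  constructor
  · rintro x ⟨B, rfl⟩
    exact rO_mem_commutator hm B
  · rintro x ⟨g, _, rfl⟩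
    exact dO_mem_commutator hm g

/-! ### generation by involutions -/

theorem sqComm_UO : Lie2.SqComm (UO m F) := by
  let S : Set (OG m F) := Set.range (rO (m := m) (F := F)) ∪
    {x | ∃ (k : Fin m) (w : Fin m → F), (∀ i : Fin m, k ≤ i → w i = 0) ∧ x = dO (tv w (eb k))}
  apply Lie2.sqComm_of_closure_sq_eq_one (UO m F) S
  · apply le_antisymm
    · rw [Subgroup.closure_le]
      rintro x (⟨B, rfl⟩ | ⟨k, w, hw, rfl⟩)
      · exact le_sup_left (a := RR m F) (b := LL m F) ⟨B, rfl⟩
      · exact le_sup_right (a := RR m F) (b := LL m F) ⟨_, tv_col_mem_UU k w hw, rfl⟩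
    · unfold UO
      rw [sup_le_iff]
      constructor
      · rintro x ⟨B, rfl⟩
        exact Subgroup.subset_closure (Or.inl ⟨B, rfl⟩)
      · unfold LL
        rw [Subgroup.map_le_iff_le_comap]
        apply UU_le_of_tv_mem
        intro k w hw
        rw [Subgroup.mem_comap]
        exact Subgroup.subset_closure (Or.inr ⟨k, w, hw, rfl⟩)
  · rintro x (⟨B, rfl⟩ | ⟨k, w, hw, rfl⟩)
    · exact rO_sq B
    · have h0 : (eb k : Fin m → F) ⬝ᵥ w = 0 := by
        rw [eb, single_dotProduct, hw k le_rfl, mul_zero]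
      rw [← map_pow, tv_pow h0, two_nsmul]
      have : (eb k + eb k : Fin m → F) = 0 := by
        funext i
        exact CharTwo.add_self_eq_zero _
      rw [this, tv_zero_right, map_one]

end fin

end Cfsg.Agent.Lib.Helper72.Lie2OP
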