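import Mathlib
import Cfsg.Agent.Lib.Helper72.Lie2OPb
import Cfsg.Agent.Lib.Helper44.POmegaOrder
import Cfsg.Agent.Lib.Helper37.OrthEvenCount
import Cfsg.Agent.S0287

/-!
# LIE2 / [M-OP-c]: `U` is a Sylow 2-subgroup of `Ω⁺_{2m}(F)` (char 2); module statement `sqComm_POmegaPlus`
-/

set_option autoImplicit false
set_option linter.unusedSectionVars false

namespace Cfsg.Agent.Lib.Helper72.Lie2OP

open Matrix Cfsg.Agent.Lib.Helper45.PSLAut

/-- `SqComm` is an isomorphism invariant of the subgroup as an abstract group. -/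
theorem sqComm_of_subgroup_mulEquiv {G H : Type*} [Group G] [Group H] {P : Subgroup G}
    {Q : Subgroup H} (e : P ≃* Q) (h : Lie2.SqComm P) : Lie2.SqComm Q := by
  intro y
  obtain ⟨x, rfl⟩ := e.surjective y
  have h1 := h x
  have h2 : e (x ^ 2) ∈ (commutator P).map e.toMonoidHom := Subgroup.mem_map_of_mem _ h1
  rw [commutator_def, Subgroup.map_commutator] at h2
  rw [← map_pow, commutator_def]
  exact Subgroup.commutator_mono le_top le_top h2

theorem prod_sq_eq (q m : ℕ) :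
    (∏ j : Fin m, q ^ (j : ℕ)) * (∏ j : Fin m, q ^ (j : ℕ)) = q ^ (m * (m - 1)) := by
  rw [Finset.prod_pow_eq_pow_sum, ← pow_add, Fin.sum_univ_eq_sum_range (fun j => j) m, ← mul_two,
    Finset.sum_range_id_mul_two]

section main
variable {F : Type} [Field F] [Fintype F] [CharP F 2]

/-- [M-OP] -/
theorem sqComm_POmegaPlus (m : ℕ) (hm : 4 ≤ m)
    (P : Sylow 2 (Cfsg.POmega F (Cfsg.quadFormPlus m F))) :
    Lie2.SqComm (P : Subgroup (Cfsg.POmega F (Cfsg.quadFormPlus m F))) := by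
  have hp2 : Fact (Nat.Prime 2) := ⟨Nat.prime_two⟩
  have hfinO : Finite (OG m F) := by unfold OG; infer_instance
  have h20 : (2 : F) = 0 := by exact_mod_cast CharP.cast_eq_zero F 2
  obtain ⟨f, _, hf⟩ := FiniteField.card F 2
  -- order of Ω
  have hidx : (Cfsg.Omega F (Cfsg.quadFormPlus m F)).index = 2 := by
    have h := Cfsg.Agent.Lib.Helper44.index_Omega_of_two_eq_zero
      (Cfsg.Agent.Lib.Helper37.OrthEven.plusQ m F) (Cfsg.Agent.Lib.Helper37.OrthEven.plusQ_nondeg m F)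
      (by rw [Fintype.card_sum, Fintype.card_fin]; omega) h20
    rw [Cfsg.Agent.Lib.Helper37.OrthEven.plusQ_coe] at h
    exact h
  have hO := Cfsg.Agent.S0287.result (F := F) hf m (by omega)
  have hΩ : Nat.card (Cfsg.Omega F (Cfsg.quadFormPlus m F)) =
      ((2 : ℕ) ^ (f : ℕ)) ^ (m * (m - 1)) * ((((2 : ℕ) ^ (f : ℕ)) ^ m - 1) *
        ∏ i ∈ Finset.range (m - 1), (((2 : ℕ) ^ (f : ℕ)) ^ (2 * (i + 1)) - 1)) := by
    have h1 := Subgroup.card_mul_index (Cfsg.Omega F (Cfsg.quadFormPlus m F))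
    rw [hidx, hO] at h1
    have : (2 : ℕ) ≠ 0 := by norm_num
    apply Nat.eq_of_mul_eq_mul_right (by norm_num : 0 < 2)
    rw [h1]
    ring
  -- the subgroup U' of Ω
  have hle : UO m F ≤ Cfsg.Omega F (Cfsg.quadFormPlus m F) := UO_le_commutator (by omega)
  set U' : Subgroup (Cfsg.Omega F (Cfsg.quadFormPlus m F)) :=
    (UO m F).subgroupOf (Cfsg.Omega F (Cfsg.quadFormPlus m F)) with hU'
  let e : U' ≃* UO m F := Subgroup.subgroupOfEquivOfLe hle
  have hpU' : IsPGroup 2 U' := (isPGroup_UO (m := m) (F := F)).of_equiv e.symm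
  have hcardU' : ((2 : ℕ) ^ (f : ℕ)) ^ (m * (m - 1)) ≤ Nat.card U' := by
    rw [Nat.card_congr e.toEquiv, ← prod_sq_eq, ← hf, ← card_UU (n := m) (F := F)]
    exact card_UO_ge
  have hsq : Lie2.SqComm U' := sqComm_of_subgroup_mulEquiv e.symm sqComm_UO
  have hnd : ¬ 2 ∣ U'.index := by
    intro hdvd
    obtain ⟨a, ha⟩ := hpU'.exists_card_eq
    have h1 := Subgroup.card_mul_index U'
    rw [hΩ, ha] at h1
    rw [ha, ← pow_mul] at hcardU'
    have h2 : (f : ℕ) * (m * (m - 1)) ≤ a := (Nat.pow_le_pow_iff_right (by norm_num)).1 hcardU'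
    obtain ⟨t, ht⟩ := hdvd
    rw [ht, ← pow_mul] at h1
    have hodd : Odd (((2 : ℕ) ^ (f : ℕ)) ^ m - 1) := by
      apply Nat.Even.sub_odd
      · exact Nat.one_le_pow _ _ (by positivity)
      · rw [← pow_mul]
        exact (Nat.even_pow.2 ⟨even_two, by have := f.pos; positivity⟩)
      · exact odd_one
    have hodd2 : Odd (∏ i ∈ Finset.range (m - 1), (((2 : ℕ) ^ (f : ℕ)) ^ (2 * (i + 1)) - 1)) := by
      apply Finset.prod_induction _ Odd (fun a b ha hb => ha.mul hb) odd_one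
      intro i _
      apply Nat.Even.sub_odd
      · exact Nat.one_le_pow _ _ (by positivity)
      · rw [← pow_mul]
        exact (Nat.even_pow.2 ⟨even_two, by have := f.pos; positivity⟩)
      · exact odd_one
    have hD := hodd.mul hodd2
    set D := (((2 : ℕ) ^ (f : ℕ)) ^ m - 1) *
        ∏ i ∈ Finset.range (m - 1), (((2 : ℕ) ^ (f : ℕ)) ^ (2 * (i + 1)) - 1) with hDdef
    -- 2^(a+1) * t = 2^(f m (m-1)) * D
    have h3 : 2 ^ (a + 1) ∣ 2 ^ ((f : ℕ) * (m * (m - 1))) * D := by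
      refine ⟨t, ?_⟩
      rw [← h1]
      ring
    have hcop : Nat.Coprime (2 ^ (a + 1)) D := by
      apply Nat.Coprime.pow_left
      rw [Nat.coprime_two_left]
      exact hD
    have h4 := hcop.dvd_of_dvd_mul_right h3
    have h5 := (Nat.pow_dvd_pow_iff_le_right (by norm_num : 1 < 2)).1 h4
    omega
  have hall : ∀ Q : Sylow 2 (Cfsg.Omega F (Cfsg.quadFormPlus m F)),
      Lie2.SqComm (Q : Subgroup (Cfsg.Omega F (Cfsg.quadFormPlus m F))) := by
    apply Lie2.sqComm_all_sylow_of_one (hpU'.toSylow hnd)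
    rw [IsPGroup.toSylow_coe]
    exact hsq
  exact Lie2.sqComm_sylow_of_surjective
    (QuotientGroup.mk' (Subgroup.center (Cfsg.Omega F (Cfsg.quadFormPlus m F))))
    (QuotientGroup.mk'_surjective _) hall P

end main

end Cfsg.Agent.Lib.Helper72.Lie2OP
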