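import Mathlib
import Cfsg.Prelude.Def_EvenType
import Cfsg.Agent.Lib.Helper72.Lie2OPc

/-!
# LIE2 / [R-OP]: 2-rank at least 3 for `PΩ⁺_{2m}(F)`, char 2, `m ≥ 4`
-/

set_option autoImplicit false
set_option linter.unusedSectionVars false

namespace Cfsg.Agent.Lib.Helper72.Lie2OP

open Matrix Cfsg.Agent.Lib.Helper45.PSLAut

/-- general: an elementary abelian subgroup `A ≤ H` meeting `Z(H)` trivially... here: trivial centre.
If `H ≤ G` has trivial centre and `A ≤ H` is commutative of exponent `p` with `p ^ k ≤ |A|`, then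
`H ⧸ Z(H)` has `p`-rank at least `k`. -/
theorem rank_quot_center_of_subgroup {G : Type*} [Group G] (H A : Subgroup G) (hAH : A ≤ H)
    [hA : IsMulCommutative A] (p k : ℕ) (hexp : ∀ a ∈ A, a ^ p = 1) (hcard : p ^ k ≤ Nat.card A)
    (hZ : Subgroup.center H = ⊥) :
    Cfsg.PRankAtLeast p k (H ⧸ Subgroup.center H) := by
  refine ⟨(A.subgroupOf H).map (QuotientGroup.mk' (Subgroup.center H)), inferInstance, ?_, ?_⟩
  · rintro _ ⟨x, hx, rfl⟩
    rw [← map_pow]
    have : x ^ p = 1 := by
      apply Subtype.ext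
      exact hexp x hx
    rw [this, map_one]
  · have hinj : Function.Injective (QuotientGroup.mk' (Subgroup.center H)) := by
      rw [← MonoidHom.ker_eq_bot_iff, QuotientGroup.ker_mk', hZ]
    rw [Subgroup.card_map_of_injective hinj,
      Nat.card_congr (Subgroup.subgroupOfEquivOfLe hAH).toEquiv]
    exact hcard

section main
variable {F : Type} [Field F] [Fintype F] [CharP F 2]

/-- [R-OP] -/
theorem rank_POmegaPlus (m : ℕ) (hm : 4 ≤ m) :
    Cfsg.PRankAtLeast 2 3 (Cfsg.POmega F (Cfsg.quadFormPlus m F)) := by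
  have h20 : (2 : F) = 0 := by exact_mod_cast CharP.cast_eq_zero F 2
  have hZ : Subgroup.center (Cfsg.Omega F (Cfsg.quadFormPlus m F)) = ⊥ := by
    have h := Cfsg.Agent.Lib.Helper44.card_center_Omega_eq_one
      (Cfsg.Agent.Lib.Helper37.OrthEven.plusQ m F) (Cfsg.Agent.Lib.Helper37.OrthEven.plusQ_nondeg m F)
      (by rw [Fintype.card_sum, Fintype.card_fin]; omega) (Or.inl h20)
    rw [Cfsg.Agent.Lib.Helper37.OrthEven.plusQ_coe] at h
    exact Subgroup.card_eq_one.1 h
  have hle : RR m F ≤ Cfsg.Omega F (Cfsg.quadFormPlus m F) :=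
    le_trans (le_sup_left (a := RR m F) (b := LL m F)) (UO_le_commutator (by omega))
  have hcomm : IsMulCommutative (RR m F) := by
    unfold RR
    infer_instance
  apply rank_quot_center_of_subgroup (Cfsg.Omega F (Cfsg.quadFormPlus m F)) (RR m F) hle 2 3 _ _ hZ
  · rintro x ⟨B, rfl⟩
    exact rO_sq B
  · refine le_trans ?_ (card_UU_le_card_RR (m := m) (F := F))
    rw [card_UU, Finset.prod_pow_eq_pow_sum]
    have h1 : 2 ≤ Fintype.card F := Fintype.one_lt_card
    have h2 : 3 ≤ ∑ j : Fin m, (j : ℕ) := by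
      have := Finset.single_le_sum (f := fun j : Fin m => (j : ℕ)) (fun _ _ => Nat.zero_le _)
        (Finset.mem_univ (⟨3, by omega⟩ : Fin m))
      exact this
    calc 2 ^ 3 ≤ Fintype.card F ^ 3 := Nat.pow_le_pow_left h1 3
      _ ≤ _ := Nat.pow_le_pow_right (by omega) h2

end main

end Cfsg.Agent.Lib.Helper72.Lie2OP
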