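import Mathlib
import Cfsg.Agent.Lib.Helper14.M11F
import Cfsg.Agent.Lib.Helper40.FrobeniusDiv

set_option autoImplicit false
set_option linter.unusedSectionVars false
set_option linter.unusedVariables false

/-!
# Simple groups of order 7920: the Sylow 3-normalizer, part A (helper72)

Basic facts: involution data, `|N(P)| ∈ {9, 36, 144}` and `|N(P)| ≠ 9` for a Sylow `3`-subgroup `P`.
-/

namespace Cfsg.Agent.Lib.Helper72.M11Syl

open MulAction Subgroup Cfsg.Agent.Lib.Helper17 Cfsg.Agent.Lib.Helper14.M11

theorem fact3 : Fact (Nat.Prime 3) := ⟨by norm_num⟩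
theorem fact2 : Fact (Nat.Prime 2) := ⟨by norm_num⟩

attribute [local instance] fact11 fact5 fact3 fact2

/-- A `q`-element normalizing a finite subgroup `H` with `|H| ≢ 1 mod q` commutes with some
nontrivial element of `H`. -/
theorem exists_ne_one_commute_of_mem_normalizer {G : Type*} [Group G] (H : Subgroup G) [Finite H]
    (y : G) (hy : y ∈ normalizer (H : Set G)) (q : ℕ) [hq : Fact q.Prime] (hyq : orderOf y = q)
    (hH : ¬ Nat.card H ≡ 1 [MOD q]) : ∃ p ∈ H, p ≠ 1 ∧ y * p = p * y := by
  set y' : normalizer (H : Set G) := ⟨y, hy⟩ with hy'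
  have hZ : IsPGroup q (zpowers y') := by
    apply IsPGroup.of_card (n := 1)
    rw [Nat.card_zpowers, pow_one, ← hyq, hy', Subgroup.orderOf_mk]
  have h1 := hZ.card_modEq_card_fixedPoints (H : Type _)
  by_contra hcon
  push Not at hcon
  have h2 : fixedPoints (zpowers y') H = {1} := by
    ext p
    constructor
    · intro hp
      have h3 : y' • p = p := hp ⟨y', mem_zpowers y'⟩
      have h4 : y * (p : G) * y⁻¹ = p := congrArg Subtype.val h3
      have h5 : y * (p : G) = p * y := by
        calc y * (p : G) = (y * (p : G) * y⁻¹) * y := by group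
          _ = p * y := by rw [h4]
      by_contra hne
      have hne' : (p : G) ≠ 1 := fun h => hne (by
        rw [Set.mem_singleton_iff]; exact Subtype.ext h)
      exact hcon p p.2 hne' h5
    · intro hp
      rw [Set.mem_singleton_iff] at hp
      rw [hp]
      intro z
      exact smul_one z
  rw [h2] at h1
  apply hH
  simpa using h1

section

variable {G : Type*} [Group G] [Finite G] [IsSimpleGroup G]

theorem card_centralizer_sylow5' (hc : Nat.card G = 7920) (Y : Sylow 5 G) :
    Nat.card (centralizer ((Y : Subgroup G) : Set G)) = 5 := by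
  rcases card_centralizer_sylow5 hc Y with h | h
  · exact h
  · exact (case_two_false hc Y h).elim

/-- Involution centralizers have order 48. -/
theorem card_centralizer_involution (hc : Nat.card G = 7920) (t : G) (ht : orderOf t = 2) :
    Nat.card (centralizer ({t} : Set G)) = 48 :=
  case_one hc (card_centralizer_sylow5' hc) t ht

theorem card_involutions_le_165 (hc : Nat.card G = 7920) :
    Nat.card {s : G // orderOf s = 2} ≤ 165 := by
  have := card_involutions_le hc 5
    (fun Y => card_involutions_normalizer_le_five hc Y (card_centralizer_sylow5' hc Y))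
  omega

/-- An element commuting with an element of order 5 has order dividing 5. -/
theorem orderOf_dvd_five_of_commute (hc : Nat.card G = 7920) (y g : G) (hy : orderOf y = 5)
    (hg : g * y = y * g) : orderOf g ∣ 5 := by
  obtain ⟨Y, hY⟩ := exists_sylow5_eq_zpowers hc y hy
  have hyY : y ∈ (Y : Subgroup G) := by rw [hY]; exact Subgroup.mem_zpowers y
  have h1 := mem_centralizer_sylow5_of_commute hc Y y g hy hyY hg
  have h2 := Subgroup.orderOf_dvd_natCard _ h1
  rwa [card_centralizer_sylow5' hc Y] at h2

/-- An element commuting with an element of order 11 has order dividing 11. -/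
theorem orderOf_dvd_eleven_of_commute (hc : Nat.card G = 7920) (y g : G) (hy : orderOf y = 11)
    (hg : g * y = y * g) : orderOf g ∣ 11 :=
  not_commute_11 hc y g hy hg

/-- A subgroup without elements of order 5 or 11 has order dividing 144. -/
theorem card_dvd_144 (hc : Nat.card G = 7920) (H : Subgroup G)
    (h5 : ∀ y ∈ H, orderOf y ≠ 5) (h11 : ∀ y ∈ H, orderOf y ≠ 11) : Nat.card H ∣ 144 := by
  have h5' : ¬ 5 ∣ Nat.card H := by
    intro hdvd
    obtain ⟨y, hyC, hy⟩ := exists_mem_orderOf_eq_of_dvd_card H 5 hdvd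
    exact h5 y hyC hy
  have h11' : ¬ 11 ∣ Nat.card H := by
    intro hdvd
    obtain ⟨y, hyC, hy⟩ := exists_mem_orderOf_eq_of_dvd_card H 11 hdvd
    exact h11 y hyC hy
  have hdvd : Nat.card H ∣ 144 * 55 := by
    have := Subgroup.card_subgroup_dvd_card H
    rw [hc] at this
    norm_num
    exact this
  have hcop : (Nat.card H).Coprime 55 := by
    have : (55 : ℕ) = 5 * 11 := by norm_num
    rw [this]
    apply Nat.Coprime.mul_right
    · rw [Nat.coprime_comm]; exact (Nat.Prime.coprime_iff_not_dvd (by norm_num)).2 h5'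
    · rw [Nat.coprime_comm]; exact (Nat.Prime.coprime_iff_not_dvd (by norm_num)).2 h11'
  exact hcop.dvd_of_dvd_mul_right hdvd

/-- The centralizer of an element of order 2 or 3 has order dividing 144. -/
theorem card_centralizer_dvd_144' (hc : Nat.card G = 7920) (x : G)
    (hx : orderOf x = 2 ∨ orderOf x = 3) : Nat.card (centralizer ({x} : Set G)) ∣ 144 := by
  apply card_dvd_144 hc
  · intro y hy hy5
    have h1 : x * y = y * x := (Subgroup.mem_centralizer_singleton_iff.1 hy).symm
    have := orderOf_dvd_five_of_commute hc y x hy5 h1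
    rcases hx with hx | hx <;> rw [hx] at this <;> norm_num at this
  · intro y hy hy11
    have h1 : x * y = y * x := (Subgroup.mem_centralizer_singleton_iff.1 hy).symm
    have := orderOf_dvd_eleven_of_commute hc y x hy11 h1
    rcases hx with hx | hx <;> rw [hx] at this <;> norm_num at this

theorem card_sylow3_sub (hc : Nat.card G = 7920) (P : Sylow 3 G) :
    Nat.card (P : Subgroup G) = 9 := by
  have := sylow_card_of_card_eq P (k := 2) (m := 880) (by rw [hc]; norm_num) (by norm_num)
  simpa using this

/-- Elements of a Sylow 3-subgroup have order dividing 9. -/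
theorem orderOf_dvd_nine_of_mem (hc : Nat.card G = 7920) (P : Sylow 3 G) {p : G}
    (hp : p ∈ (P : Subgroup G)) : orderOf p ∣ 9 := by
  have := Subgroup.orderOf_dvd_natCard _ hp
  rwa [card_sylow3_sub hc P] at this

/-- No element of order 5 or 11 normalizes a Sylow 3-subgroup. -/
theorem orderOf_ne_of_mem_normalizer_sylow3 (hc : Nat.card G = 7920) (P : Sylow 3 G) (y : G)
    (hy : y ∈ normalizer ((P : Subgroup G) : Set G)) : orderOf y ≠ 5 ∧ orderOf y ≠ 11 := by
  have hP := card_sylow3_sub hc P
  constructor
  · intro hy5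
    obtain ⟨p, hpP, hp1, hcomm⟩ := exists_ne_one_commute_of_mem_normalizer (P : Subgroup G) y hy 5
      hy5 (by rw [hP]; decide)
    have h1 := orderOf_dvd_five_of_commute hc y p hy5 hcomm.symm
    have h2 := orderOf_dvd_nine_of_mem hc P hpP
    have h3 : orderOf p ∣ Nat.gcd 5 9 := Nat.dvd_gcd h1 h2
    norm_num at h3
    exact hp1 h3
  · intro hy11
    obtain ⟨p, hpP, hp1, hcomm⟩ := exists_ne_one_commute_of_mem_normalizer (P : Subgroup G) y hy 11
      hy11 (by rw [hP]; decide)
    have h1 := orderOf_dvd_eleven_of_commute hc y p hy11 hcomm.symm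
    have h2 := orderOf_dvd_nine_of_mem hc P hpP
    have h3 : orderOf p ∣ Nat.gcd 11 9 := Nat.dvd_gcd h1 h2
    norm_num at h3
    exact hp1 h3

/-- The normalizer of a Sylow 3-subgroup has order 9, 36 or 144. -/
theorem card_normalizer_sylow3_mem (hc : Nat.card G = 7920) (P : Sylow 3 G) :
    Nat.card (normalizer ((P : Subgroup G) : Set G)) = 9 ∨
    Nat.card (normalizer ((P : Subgroup G) : Set G)) = 36 ∨
    Nat.card (normalizer ((P : Subgroup G) : Set G)) = 144 := by
  have h144 : Nat.card (normalizer ((P : Subgroup G) : Set G)) ∣ 144 :=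
    card_dvd_144 hc _ (fun y hy => (orderOf_ne_of_mem_normalizer_sylow3 hc P y hy).1)
      (fun y hy => (orderOf_ne_of_mem_normalizer_sylow3 hc P y hy).2)
  have h9 : 9 ∣ Nat.card (normalizer ((P : Subgroup G) : Set G)) := by
    rw [← card_sylow3_sub hc P]
    exact Subgroup.card_dvd_of_le Subgroup.le_normalizer
  have hmul := card_sylow_mul_card_normalizer P
  rw [hc] at hmul
  have hmod : Nat.card (Sylow 3 G) ≡ 1 [MOD 3] := card_sylow_modEq_one 3 G
  obtain ⟨k, hk⟩ := h9
  rw [hk] at h144 hmul ⊢
  have hk16 : k ∣ 16 := by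
    have : 9 * k ∣ 9 * 16 := by norm_num; exact h144
    exact Nat.dvd_of_mul_dvd_mul_left (by norm_num) this
  have hk5 : k ∈ Nat.divisors 16 := Nat.mem_divisors.2 ⟨hk16, by norm_num⟩
  have hd : Nat.divisors 16 = {1, 2, 4, 8, 16} := by decide
  rw [hd] at hk5
  simp only [Finset.mem_insert, Finset.mem_singleton] at hk5
  unfold Nat.ModEq at hmod
  rcases hk5 with h | h | h | h | h <;> subst h
  · left; rfl
  · exfalso
    have : Nat.card (Sylow 3 G) = 440 := by omega
    omega
  · right; left; rfl
  · exfalso
    have : Nat.card (Sylow 3 G) = 110 := by omega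
    omega
  · right; right; rfl

/-- A Sylow 3-subgroup is commutative. -/
theorem sylow3_comm (hc : Nat.card G = 7920) (P : Sylow 3 G) :
    ∀ a ∈ (P : Subgroup G), ∀ b ∈ (P : Subgroup G), a * b = b * a := by
  have h := IsPGroup.isMulCommutative_of_card_eq_prime_sq (p := 3) (G := (P : Subgroup G))
    (by rw [card_sylow3_sub hc P]; norm_num)
  intro a ha b hb
  have := h.is_comm.comm ⟨a, ha⟩ ⟨b, hb⟩
  exact congrArg Subtype.val this

theorem sylow3_isMulCommutative (hc : Nat.card G = 7920) (P : Sylow 3 G) :
    IsMulCommutative (P : Subgroup G) :=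
  ⟨⟨fun a b => Subtype.ext (sylow3_comm hc P a a.2 b b.2)⟩⟩

/-- The normalizer of a Sylow 3-subgroup does not have order 9. -/
theorem card_normalizer_sylow3_ne_nine (hc : Nat.card G = 7920) (P : Sylow 3 G) :
    Nat.card (normalizer ((P : Subgroup G) : Set G)) ≠ 9 := by
  intro h9
  have hPN : (P : Subgroup G) = normalizer ((P : Subgroup G) : Set G) := by
    apply Subgroup.eq_of_le_of_card_ge Subgroup.le_normalizer
    rw [h9, card_sylow3_sub hc P]
  apply not_normalizer_le_centralizer_of_simple (not_comm hc) P (by rw [hc]; norm_num)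
  intro n hn
  rw [← hPN] at hn
  rw [Subgroup.mem_centralizer_iff]
  intro p hp
  exact sylow3_comm hc P p hp n hn

end

end Cfsg.Agent.Lib.Helper72.M11Syl
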