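import Mathlib
import Cfsg.Agent.Lib.Helper72.M11SylA

set_option autoImplicit false
set_option linter.unusedSectionVars false
set_option linter.unusedVariables false

/-!
# Simple groups of order 7920: the Sylow 3-normalizer, part B (helper72)

Structure under the (contradictory) hypothesis that there are 220 Sylow 3-subgroups.
-/

namespace Cfsg.Agent.Lib.Helper72.M11Syl

open MulAction Subgroup Cfsg.Agent.Lib.Helper17 Cfsg.Agent.Lib.Helper14.M11

attribute [local instance] fact11 fact5 fact3 fact2

/-- number of Sylow 3-subgroups containing `z` -/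
noncomputable def mS {G : Type*} [Group G] (z : G) : ℕ :=
  Nat.card {R : Sylow 3 G // z ∈ (R : Subgroup G)}

/-- number of involutions commuting with `z` -/
noncomputable def iC {G : Type*} [Group G] (z : G) : ℕ :=
  Nat.card {u : G // orderOf u = 2 ∧ u * z = z * u}

section

variable {G : Type*} [Group G] [Finite G] [IsSimpleGroup G]

theorem card_normalizer_eq_36 (hc : Nat.card G = 7920) (hn : Nat.card (Sylow 3 G) = 220)
    (R : Sylow 3 G) : Nat.card (normalizer ((R : Subgroup G) : Set G)) = 36 := by
  have hmul := card_sylow_mul_card_normalizer R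
  rw [hc, hn] at hmul
  omega

/-- Under `n_3 = 220`, a Sylow 3-subgroup is self-centralizing. -/
theorem centralizer_sylow3_eq (hc : Nat.card G = 7920) (hn : Nat.card (Sylow 3 G) = 220)
    (P : Sylow 3 G) : centralizer ((P : Subgroup G) : Set G) = (P : Subgroup G) := by
  have hP := card_sylow3_sub hc P
  have hN := card_normalizer_eq_36 hc hn P
  have hle : (P : Subgroup G) ≤ centralizer ((P : Subgroup G) : Set G) := by
    intro p hp
    rw [Subgroup.mem_centralizer_iff]
    intro q hq
    exact sylow3_comm hc P q hq p hp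
  symm
  apply Subgroup.eq_of_le_of_card_ge hle
  have h1 : Nat.card (centralizer ((P : Subgroup G) : Set G)) ∣ 36 := by
    rw [← hN]
    exact Subgroup.card_dvd_of_le (Subgroup.centralizer_le_normalizer _)
  have h2 : 9 ∣ Nat.card (centralizer ((P : Subgroup G) : Set G)) := by
    rw [← hP]
    exact Subgroup.card_dvd_of_le hle
  rw [hP]
  by_contra hlt
  have h3 : 2 ∣ Nat.card (centralizer ((P : Subgroup G) : Set G)) := by
    obtain ⟨k, hk⟩ := h2
    rw [hk] at h1 hlt ⊢
    have hk4 : k ∣ 4 := by
      have : 9 * k ∣ 9 * 4 := by norm_num; exact h1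
      exact Nat.dvd_of_mul_dvd_mul_left (by norm_num) this
    have hk5 : k ∈ Nat.divisors 4 := Nat.mem_divisors.2 ⟨hk4, by norm_num⟩
    have hd : Nat.divisors 4 = {1, 2, 4} := by decide
    rw [hd] at hk5
    simp only [Finset.mem_insert, Finset.mem_singleton] at hk5
    rcases hk5 with h | h | h <;> subst h
    · omega
    · norm_num
    · norm_num
  obtain ⟨t, htC, ht⟩ := exists_mem_orderOf_eq_of_dvd_card _ 2 h3
  have h48 := card_centralizer_involution hc t ht
  have h4 : (P : Subgroup G) ≤ centralizer ({t} : Set G) := by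
    intro p hp
    rw [Subgroup.mem_centralizer_singleton_iff]
    exact ((Subgroup.mem_centralizer_iff.1 htC) p hp)
  have h5 := Subgroup.card_dvd_of_le h4
  rw [hP, h48] at h5
  norm_num at h5

/-- Under `n_3 = 220`, Sylow 3-subgroups have exponent 3. -/
theorem pow_three_eq_one_of_mem (hc : Nat.card G = 7920) (hn : Nat.card (Sylow 3 G) = 220)
    (P : Sylow 3 G) {p : G} (hp : p ∈ (P : Subgroup G)) : p ^ 3 = 1 := by
  have hP := card_sylow3_sub hc P
  have hN := card_normalizer_eq_36 hc hn P
  by_contra hne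
  have h9 : orderOf p = 9 := by
    have h1 := orderOf_dvd_nine_of_mem hc P hp
    have h2 : orderOf p ∈ Nat.divisors 9 := Nat.mem_divisors.2 ⟨h1, by norm_num⟩
    have hd : Nat.divisors 9 = {1, 3, 9} := by decide
    rw [hd] at h2
    simp only [Finset.mem_insert, Finset.mem_singleton] at h2
    rcases h2 with h | h | h
    · exfalso; apply hne; rw [orderOf_eq_one_iff.1 h]; simp
    · exfalso; apply hne; rw [← h]; exact pow_orderOf_eq_one p
    · exact h
  have hcyc : IsCyclic (P : Subgroup G) := by
    apply isCyclic_of_orderOf_eq_card (⟨p, hp⟩ : (P : Subgroup G))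
    rw [Subgroup.orderOf_mk, h9, hP]
  have h1 := relIndex_centralizer_normalizer_dvd_card_mulAut (P : Subgroup G)
  rw [IsCyclic.card_mulAut, hP] at h1
  have h2 := card_mul_relIndex_of_le
    (Subgroup.centralizer_le_normalizer (s := ((P : Subgroup G) : Set G)))
  rw [hN, centralizer_sylow3_eq hc hn P, hP] at h2
  have h3 : (centralizer ((P : Subgroup G) : Set G)).relIndex
      (normalizer ((P : Subgroup G) : Set G)) = 4 := by
    rw [centralizer_sylow3_eq hc hn P]; omega
  rw [h3] at h1
  have : Nat.totient 9 = 6 := by decide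
  rw [this] at h1
  norm_num at h1

theorem orderOf_eq_three_of_mem (hc : Nat.card G = 7920) (hn : Nat.card (Sylow 3 G) = 220)
    (P : Sylow 3 G) {p : G} (hp : p ∈ (P : Subgroup G)) (hp1 : p ≠ 1) : orderOf p = 3 :=
  orderOf_eq_prime (pow_three_eq_one_of_mem hc hn P hp) hp1

/-- Under `n_3 = 220`, an element whose cube is not one is in no Sylow 3-subgroup; in particular
there is no element of order 9. -/
theorem orderOf_ne_nine (hc : Nat.card G = 7920) (hn : Nat.card (Sylow 3 G) = 220) (g : G) :
    orderOf g ≠ 9 := by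
  intro h9
  have hZ : IsPGroup 3 (zpowers g) := by
    apply IsPGroup.of_card (n := 2)
    rw [Nat.card_zpowers, h9]; norm_num
  obtain ⟨R, hR⟩ := hZ.exists_le_sylow
  have h1 := pow_three_eq_one_of_mem hc hn R (hR (mem_zpowers g))
  have h2 := orderOf_dvd_of_pow_eq_one h1
  rw [h9] at h2
  norm_num at h2

/-- The order of `C_N(x)` for `1 ≠ x ∈ P` is 9 or 18. -/
theorem card_CN_mem (hc : Nat.card G = 7920) (hn : Nat.card (Sylow 3 G) = 220)
    (P : Sylow 3 G) {x : G} (hx : x ∈ (P : Subgroup G)) (hx1 : x ≠ 1) :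
    Nat.card (centralizer ({x} : Set G) ⊓ normalizer ((P : Subgroup G) : Set G) : Subgroup G) = 9 ∨
    Nat.card (centralizer ({x} : Set G) ⊓ normalizer ((P : Subgroup G) : Set G) : Subgroup G) = 18
    := by
  have hP := card_sylow3_sub hc P
  have hN := card_normalizer_eq_36 hc hn P
  set CN := (centralizer ({x} : Set G) ⊓ normalizer ((P : Subgroup G) : Set G) : Subgroup G)
    with hCN
  have hPle : (P : Subgroup G) ≤ CN := by
    intro p hp
    apply Subgroup.mem_inf.2
    refine ⟨?_, Subgroup.le_normalizer hp⟩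
    rw [Subgroup.mem_centralizer_singleton_iff]
    exact sylow3_comm hc P p hp x hx
  have h1 : Nat.card CN ∣ 36 := by
    rw [← hN]; exact Subgroup.card_dvd_of_le inf_le_right
  have h2 : 9 ∣ Nat.card CN := by
    rw [← hP]; exact Subgroup.card_dvd_of_le hPle
  have h3 : Nat.card CN ≠ 36 := by
    intro h36
    have hEq : CN = normalizer ((P : Subgroup G) : Set G) := by
      apply Subgroup.eq_of_le_of_card_ge inf_le_right
      rw [h36, hN]
    have := sylow3_isMulCommutative hc P
    apply hx1
    apply eq_one_of_mem_sylow_of_commute_normalizer (not_comm hc) P x hx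
    intro n hnN
    rw [← hEq] at hnN
    exact (Subgroup.mem_centralizer_singleton_iff.1 hnN.1)
  obtain ⟨k, hk⟩ := h2
  rw [hk] at h1 h3 ⊢
  have hk4 : k ∣ 4 := by
    have : 9 * k ∣ 9 * 4 := by norm_num; exact h1
    exact Nat.dvd_of_mul_dvd_mul_left (by norm_num) this
  have hk5 : k ∈ Nat.divisors 4 := Nat.mem_divisors.2 ⟨hk4, by norm_num⟩
  have hd : Nat.divisors 4 = {1, 2, 4} := by decide
  rw [hd] at hk5
  simp only [Finset.mem_insert, Finset.mem_singleton] at hk5
  rcases hk5 with h | h | h <;> subst h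
  · left; rfl
  · right; rfl
  · exact absurd rfl h3

/-- A Sylow 3-subgroup containing `x` is contained in the centralizer of `x`. -/
theorem sylow3_le_centralizer (hc : Nat.card G = 7920) (R : Sylow 3 G) {x : G}
    (hx : x ∈ (R : Subgroup G)) : (R : Subgroup G) ≤ centralizer ({x} : Set G) := by
  intro p hp
  rw [Subgroup.mem_centralizer_singleton_iff]
  exact sylow3_comm hc R p hp x hx

/-- The Sylow 3-subgroups containing `x ∈ P` correspond to the Sylow 3-subgroups of `C(x)`. -/
theorem mS_eq_card_sylow_centralizer (hc : Nat.card G = 7920) (P : Sylow 3 G) {x : G}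
    (hx : x ∈ (P : Subgroup G)) : mS x = Nat.card (Sylow 3 (centralizer ({x} : Set G))) := by
  unfold mS
  set K := centralizer ({x} : Set G) with hK
  let f : {R : Sylow 3 G // x ∈ (R : Subgroup G)} → Sylow 3 K :=
    fun R => R.1.subtype (sylow3_le_centralizer hc R.1 R.2)
  apply Nat.card_congr
  apply Equiv.ofBijective f
  constructor
  · intro R R' h
    exact Subtype.ext (Sylow.subtype_injective h)
  · intro Q
    obtain ⟨k, hk⟩ := MulAction.exists_smul_eq K (P.subtype (sylow3_le_centralizer hc P hx)) Q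
    have hxk : x ∈ ((k • P : Sylow 3 G) : Subgroup G) := by
      have h1 : ((k : G) • P : Sylow 3 G) = k • P := rfl
      rw [← h1, mem_smul_sylow_iff]
      have h2 : (k : G) * x = x * k := Subgroup.mem_centralizer_singleton_iff.1 k.2
      have h3 : (k : G)⁻¹ * x * k = x := by
        rw [mul_assoc, ← h2]; group
      rw [h3]; exact hx
    refine ⟨⟨k • P, hxk⟩, ?_⟩
    show (k • P).subtype _ = Q
    rw [← hk, Sylow.smul_subtype]

/-- Sylow counting in the centralizer of `x ∈ P`. -/
theorem mS_mul_card_CN (hc : Nat.card G = 7920) (P : Sylow 3 G) {x : G}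
    (hx : x ∈ (P : Subgroup G)) :
    mS x * Nat.card (centralizer ({x} : Set G) ⊓ normalizer ((P : Subgroup G) : Set G) :
      Subgroup G) = Nat.card (centralizer ({x} : Set G)) := by
  rw [mS_eq_card_sylow_centralizer hc P hx]
  set K := centralizer ({x} : Set G) with hK
  have hPK : (P : Subgroup G) ≤ K := sylow3_le_centralizer hc P hx
  have h1 : Nat.card (Sylow 3 K) =
      (normalizer (((P : Subgroup G).subgroupOf K : Subgroup K) : Set K)).index :=
    (P.subtype hPK).card_eq_index_normalizer
  rw [← subgroupOf_normalizer_eq hPK] at h1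
  have h2 : ((normalizer ((P : Subgroup G) : Set G)).subgroupOf K).index =
      (normalizer ((P : Subgroup G) : Set G)).relIndex K := rfl
  rw [h2, ← Subgroup.inf_relIndex_right, inf_comm] at h1
  rw [h1, mul_comm]
  exact card_mul_relIndex_of_le inf_le_left

theorem mS_modEq_one (hc : Nat.card G = 7920) (P : Sylow 3 G) {x : G}
    (hx : x ∈ (P : Subgroup G)) : mS x ≡ 1 [MOD 3] := by
  rw [mS_eq_card_sylow_centralizer hc P hx]
  exact card_sylow_modEq_one 3 _

/-- For `1 ≠ x ∈ P`: `m_x ∈ {1, 4, 16}` and `|C(x)| = m_x |C_N(x)|` with `|C_N(x)| ∈ {9, 18}`;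
moreover `m_x = 16` forces `|C_N(x)| = 9`. -/
theorem mS_cases (hc : Nat.card G = 7920) (hn : Nat.card (Sylow 3 G) = 220)
    (P : Sylow 3 G) {x : G} (hx : x ∈ (P : Subgroup G)) (hx1 : x ≠ 1) :
    (mS x = 1 ∨ mS x = 4 ∨ mS x = 16) ∧
    (Nat.card (centralizer ({x} : Set G)) = 9 * mS x ∨
      (Nat.card (centralizer ({x} : Set G)) = 18 * mS x ∧ mS x ≠ 16)) := by
  have h1 := mS_mul_card_CN hc P hx
  have h2 := mS_modEq_one hc P hx
  have h3 := card_CN_mem hc hn P hx hx1
  have h4 := card_centralizer_dvd_144' hc x (Or.inr (orderOf_eq_three_of_mem hc hn P hx hx1))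
  set m := mS x with hm
  set c := Nat.card (centralizer ({x} : Set G)) with hc'
  unfold Nat.ModEq at h2
  rcases h3 with h3 | h3
  · rw [h3] at h1
    have h5 : m ∣ 16 := by
      have : 9 * m ∣ 9 * 16 := by rw [mul_comm 9 m, h1]; norm_num; exact h4
      exact Nat.dvd_of_mul_dvd_mul_left (by norm_num) this
    have hk5 : m ∈ Nat.divisors 16 := Nat.mem_divisors.2 ⟨h5, by norm_num⟩
    have hd : Nat.divisors 16 = {1, 2, 4, 8, 16} := by decide
    rw [hd] at hk5
    simp only [Finset.mem_insert, Finset.mem_singleton] at hk5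
    refine ⟨?_, Or.inl (by omega)⟩
    rcases hk5 with h | h | h | h | h <;> rw [h] at h2 <;> omega
  · rw [h3] at h1
    have h5 : m ∣ 8 := by
      have : 18 * m ∣ 18 * 8 := by rw [mul_comm 18 m, h1]; norm_num; exact h4
      exact Nat.dvd_of_mul_dvd_mul_left (by norm_num) this
    have hk5 : m ∈ Nat.divisors 8 := Nat.mem_divisors.2 ⟨h5, by norm_num⟩
    have hd : Nat.divisors 8 = {1, 2, 4, 8} := by decide
    rw [hd] at hk5
    simp only [Finset.mem_insert, Finset.mem_singleton] at hk5
    have h6 : m = 1 ∨ m = 4 := by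
      rcases hk5 with h | h | h | h <;> rw [h] at h2 <;> omega
    refine ⟨by omega, Or.inr ⟨by omega, by omega⟩⟩

end

end Cfsg.Agent.Lib.Helper72.M11Syl
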