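import Mathlib
import Cfsg.Agent.Lib.Helper72.M11SylB

set_option autoImplicit false
set_option linter.unusedSectionVars false
set_option linter.unusedVariables false

/-!
# Simple groups of order 7920: the Sylow 3-normalizer, part C (helper72)

Conjugation invariance, double counting over Sylow 3-subgroups, Frobenius and parity.
-/

namespace Cfsg.Agent.Lib.Helper72.M11Syl

open MulAction Subgroup Cfsg.Agent.Lib.Helper17 Cfsg.Agent.Lib.Helper14.M11

attribute [local instance] fact11 fact5 fact3 fact2

open scoped Classical in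
/-- A finite set closed under a fixed point free involution has even cardinality. -/
theorem even_card_of_inv_closed {G : Type*} [Group G] (s : Finset G) (h1 : ∀ z ∈ s, z⁻¹ ∈ s)
    (h2 : ∀ z ∈ s, z⁻¹ ≠ z) : 2 ∣ s.card := by
  have h := Finset.sum_involution (s := s) (f := fun _ => (1 : ZMod 2)) (fun a _ => a⁻¹)
    (fun a ha => by decide) (fun a ha _ => h2 a ha) (fun a ha => h1 a ha)
    (fun a ha => inv_inv a)
  rw [Finset.sum_const, nsmul_eq_mul, mul_one] at h
  exact (ZMod.natCast_eq_zero_iff _ 2).1 h

section

variable {G : Type*} [Group G]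

theorem mS_conj (g z : G) : mS (g * z * g⁻¹) = mS z := by
  unfold mS
  apply Nat.card_congr
  refine Equiv.subtypeEquiv (MulAction.toPerm g⁻¹) ?_
  intro R
  rw [MulAction.toPerm_apply, mem_smul_sylow_iff, inv_inv]

theorem mS_inv (z : G) : mS z⁻¹ = mS z := by
  unfold mS
  apply Nat.card_congr
  refine Equiv.subtypeEquivRight ?_
  intro R
  exact inv_mem_iff

theorem orderOf_conj_inv (g u : G) : orderOf (g⁻¹ * u * g) = orderOf u := by
  have := orderOf_conj_eq g⁻¹ u
  rwa [inv_inv] at this

theorem iC_conj (g z : G) : iC (g * z * g⁻¹) = iC z := by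
  unfold iC
  apply Nat.card_congr
  refine Equiv.subtypeEquiv (MulAut.conj g⁻¹).toEquiv ?_
  intro u
  simp only [MulEquiv.toEquiv_eq_coe, EquivLike.coe_coe, MulAut.conj_apply, inv_inv]
  rw [orderOf_conj_inv]
  constructor
  · rintro ⟨h1, h2⟩
    refine ⟨h1, ?_⟩
    have : g⁻¹ * u * g * z = g⁻¹ * (u * (g * z * g⁻¹)) * g := by group
    rw [this, h2]; group
  · rintro ⟨h1, h2⟩
    refine ⟨h1, ?_⟩
    have : u * (g * z * g⁻¹) = g * ((g⁻¹ * u * g) * z) * g⁻¹ := by group
    rw [this, h2]; group

theorem iC_inv (z : G) : iC z⁻¹ = iC z := by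
  unfold iC
  apply Nat.card_congr
  refine Equiv.subtypeEquivRight ?_
  intro u
  constructor
  · rintro ⟨h1, h2⟩
    refine ⟨h1, ?_⟩
    have : u * z = z * (z⁻¹ * u) * z := by group
    rw [this, ← h2]; group
  · rintro ⟨h1, h2⟩
    refine ⟨h1, ?_⟩
    have : u * z⁻¹ = z⁻¹ * (z * u) * z⁻¹ := by group
    rw [this, ← h2]; group

end

section

variable {G : Type*} [Group G] [Finite G] [IsSimpleGroup G]

open scoped Classical in
/-- **Double counting** over pairs (element of order 3, Sylow 3-subgroup containing it). -/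
theorem double_count [Fintype G] (hc : Nat.card G = 7920) (hn : Nat.card (Sylow 3 G) = 220)
    (P : Sylow 3 G) (f : G → ℕ) (hf : ∀ g z : G, f (g * z * g⁻¹) = f z) :
    ∑ z ∈ Finset.univ.filter (fun z : G => orderOf z = 3), mS z * f z =
      220 * ∑ x ∈ Finset.univ.filter (fun x : G => x ∈ (P : Subgroup G) ∧ x ≠ 1), f x := by
  have := Fintype.ofFinite (Sylow 3 G)
  have h1 : ∀ z : G, mS z = (Finset.univ.filter (fun R : Sylow 3 G => z ∈ (R : Subgroup G))).card := by
    intro z
    unfold mS
    rw [Nat.card_eq_fintype_card, Fintype.card_subtype]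
  have h2 : ∀ z : G, mS z * f z = ∑ R : Sylow 3 G, if z ∈ (R : Subgroup G) then f z else 0 := by
    intro z
    rw [h1, ← Finset.sum_filter, Finset.sum_const, smul_eq_mul]
  simp_rw [h2]
  rw [Finset.sum_comm]
  have h3 : ∀ R : Sylow 3 G,
      ∑ z ∈ Finset.univ.filter (fun z : G => orderOf z = 3),
        (if z ∈ (R : Subgroup G) then f z else 0) =
      ∑ x ∈ Finset.univ.filter (fun x : G => x ∈ (P : Subgroup G) ∧ x ≠ 1), f x := by
    intro R
    rw [← Finset.sum_filter, Finset.filter_filter]
    obtain ⟨g, hg⟩ := MulAction.exists_smul_eq G P R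
    symm
    apply Finset.sum_bij (fun x _ => g * x * g⁻¹)
    · intro x hx
      simp only [Finset.mem_filter, Finset.mem_univ, true_and] at hx ⊢
      have hmem : g * x * g⁻¹ ∈ (R : Subgroup G) := by
        rw [← hg]; exact (conj_mem_smul_sylow_iff P g x).2 hx.1
      refine ⟨?_, hmem⟩
      rw [orderOf_conj_eq]
      exact orderOf_eq_three_of_mem hc hn P hx.1 hx.2
    · intro x hx y hy hxy
      have : g⁻¹ * (g * x * g⁻¹) * g = g⁻¹ * (g * y * g⁻¹) * g := by rw [hxy]
      simpa [mul_assoc] using this
    · intro z hz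
      simp only [Finset.mem_filter, Finset.mem_univ, true_and] at hz
      refine ⟨g⁻¹ * z * g, ?_, by group⟩
      simp only [Finset.mem_filter, Finset.mem_univ, true_and]
      constructor
      · have := hz.2
        rw [← hg, mem_smul_sylow_iff] at this
        exact this
      · intro h
        have : z = 1 := by
          have h' : g * (g⁻¹ * z * g) * g⁻¹ = g * 1 * g⁻¹ := by rw [h]
          simpa [mul_assoc] using h'
        rw [this, orderOf_one] at hz
        omega
    · intro x hx
      exact (hf g x).symm
  simp_rw [h3]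
  rw [Finset.sum_const, smul_eq_mul, Finset.card_univ, ← Nat.card_eq_fintype_card, hn]

open scoped Classical in
/-- Frobenius' theorem for `n = 9`: the number of elements of order 3 is `≡ 8 mod 9`. -/
theorem nine_dvd_succ_card_order_three [Fintype G] (hc : Nat.card G = 7920)
    (hn : Nat.card (Sylow 3 G) = 220) :
    9 ∣ 1 + (Finset.univ.filter (fun z : G => orderOf z = 3)).card := by
  have h1 := Cfsg.Agent.Lib.Helper40.frobenius_dvd (G := G) 9 (by rw [hc]; norm_num)
  have h2 : Nat.card {x : G // x ^ 9 = 1} =
      (insert (1 : G) (Finset.univ.filter (fun z : G => orderOf z = 3))).card := by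
    rw [Nat.card_eq_fintype_card, Fintype.card_subtype]
    congr 1
    ext x
    simp only [Finset.mem_filter, Finset.mem_univ, true_and, Finset.mem_insert]
    constructor
    · intro hx
      have h3 := orderOf_dvd_of_pow_eq_one hx
      have h4 : orderOf x ∈ Nat.divisors 9 := Nat.mem_divisors.2 ⟨h3, by norm_num⟩
      have hd : Nat.divisors 9 = {1, 3, 9} := by decide
      rw [hd] at h4
      simp only [Finset.mem_insert, Finset.mem_singleton] at h4
      rcases h4 with h | h | h
      · left; exact orderOf_eq_one_iff.1 h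
      · right; exact h
      · exact absurd h (orderOf_ne_nine hc hn x)
    · rintro (h | h)
      · rw [h]; simp
      · have := pow_orderOf_eq_one x
        rw [h] at this
        calc x ^ 9 = (x ^ 3) ^ 3 := by rw [← pow_mul]
          _ = 1 := by rw [this]; simp
  rw [h2, Finset.card_insert_of_notMem, add_comm] at h1
  · exact h1
  · simp

end

end Cfsg.Agent.Lib.Helper72.M11Syl
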