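import Mathlib
import Cfsg.Agent.Lib.Helper72.M11SylC

set_option autoImplicit false
set_option linter.unusedSectionVars false
set_option linter.unusedVariables false

/-!
# Simple groups of order 7920: the Sylow 3-normalizer, part D (helper72)

Involutions: one class of 165; each involution commutes with 2 or 8 elements of order 3;
the count of commuting pairs (involution, element of order 3).
-/

namespace Cfsg.Agent.Lib.Helper72.M11Syl

open MulAction Subgroup Cfsg.Agent.Lib.Helper17 Cfsg.Agent.Lib.Helper14.M11

attribute [local instance] fact11 fact5 fact3 fact2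

/-- number of elements of order 3 commuting with `t` -/
noncomputable def wC {G : Type*} [Group G] (t : G) : ℕ :=
  Nat.card {z : G // orderOf z = 3 ∧ z * t = t * z}

theorem wC_conj {G : Type*} [Group G] (g t : G) : wC (g * t * g⁻¹) = wC t := by
  unfold wC
  apply Nat.card_congr
  refine Equiv.subtypeEquiv (MulAut.conj g⁻¹).toEquiv ?_
  intro u
  simp only [MulEquiv.toEquiv_eq_coe, EquivLike.coe_coe, MulAut.conj_apply, inv_inv]
  rw [orderOf_conj_inv]
  constructor
  · rintro ⟨h1, h2⟩
    refine ⟨h1, ?_⟩
    have : g⁻¹ * u * g * t = g⁻¹ * (u * (g * t * g⁻¹)) * g := by group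
    rw [this, h2]; group
  · rintro ⟨h1, h2⟩
    refine ⟨h1, ?_⟩
    have : u * (g * t * g⁻¹) = g * ((g⁻¹ * u * g) * t) * g⁻¹ := by group
    rw [this, h2]; group

section

variable {G : Type*} [Group G] [Finite G] [IsSimpleGroup G]

/-- All involutions are conjugate. -/
theorem isConj_of_orderOf_two (hc : Nat.card G = 7920) (t s : G) (ht : orderOf t = 2)
    (hs : orderOf s = 2) : IsConj t s := by
  have h1 := card_conj_mul_card_centralizer t
  rw [card_centralizer_involution hc t ht, hc] at h1
  have h2 : Nat.card {y : G // IsConj t y} = 165 := by omega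
  let f : {y : G // IsConj t y} → {s : G // orderOf s = 2} :=
    fun y => ⟨y.1, by rw [orderOf_eq_of_isConj y.2]; exact ht⟩
  have hf : Function.Injective f := by
    intro a b hab
    exact Subtype.ext (congrArg (fun x => x.1) hab)
  have hb := hf.bijective_of_nat_card_le (by rw [h2]; exact card_involutions_le_165 hc)
  obtain ⟨y, hy⟩ := hb.2 ⟨s, hs⟩
  have : y.1 = s := congrArg (fun x => x.1) hy
  rw [← this]
  exact y.2

theorem card_involutions (hc : Nat.card G = 7920) : Nat.card {s : G // orderOf s = 2} = 165 := by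
  obtain ⟨t, ht⟩ := exists_prime_orderOf_dvd_card' (G := G) 2 (by rw [hc]; norm_num)
  have h1 := card_conj_mul_card_centralizer t
  rw [card_centralizer_involution hc t ht, hc] at h1
  have h2 : Nat.card {y : G // IsConj t y} = 165 := by omega
  rw [← h2]
  apply Nat.card_congr
  refine Equiv.subtypeEquivRight ?_
  intro s
  constructor
  · intro hs; exact isConj_of_orderOf_two hc t s ht hs
  · intro h; rw [orderOf_eq_of_isConj h]; exact ht

theorem wC_eq_of_orderOf_two (hc : Nat.card G = 7920) (t s : G) (ht : orderOf t = 2)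
    (hs : orderOf s = 2) : wC s = wC t := by
  obtain ⟨g, hg⟩ := isConj_iff.1 (isConj_of_orderOf_two hc t s ht hs)
  rw [← hg, wC_conj]

/-- An involution commutes with exactly 2 or 8 elements of order 3. -/
theorem wC_mem (hc : Nat.card G = 7920) (t : G) (ht : orderOf t = 2) : wC t = 2 ∨ wC t = 8 := by
  set L := centralizer ({t} : Set G) with hL
  have hLc : Nat.card L = 48 := card_centralizer_involution hc t ht
  have h1 : wC t = Nat.card {g : L // orderOf g = 3} := by
    unfold wC
    apply Nat.card_congr
    refine ⟨fun z => ⟨⟨z.1, Subgroup.mem_centralizer_singleton_iff.2 z.2.2⟩, ?_⟩,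
      fun g => ⟨g.1.1, ?_, ?_⟩, ?_, ?_⟩
    · rw [Subgroup.orderOf_mk]; exact z.2.1
    · rw [Subgroup.orderOf_coe]; exact g.2
    · exact Subgroup.mem_centralizer_singleton_iff.1 g.1.2
    · intro z; rfl
    · intro g; rfl
  have hQ : ∀ Q : Sylow 3 L, Nat.card (Q : Subgroup L) = 3 := by
    intro Q
    have := sylow_card_of_card_eq Q (k := 1) (m := 16) (by rw [hLc]; norm_num) (by norm_num)
    simpa using this
  have h2 := card_orderOf_eq_prime (G := L) (p := 3) hQ
  have h3 : Nat.card (Sylow 3 L) ∣ 16 :=
    card_sylow_dvd_of_card_eq (p := 3) (k := 1) (m := 16) (by rw [hLc]; norm_num) (by norm_num)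
  have h4 : Nat.card (Sylow 3 L) ≡ 1 [MOD 3] := card_sylow_modEq_one 3 L
  obtain ⟨Q⟩ := (Sylow.nonempty : Nonempty (Sylow 3 L))
  have h5 := card_sylow_mul_card_normalizer Q
  rw [hLc] at h5
  have h6 : 2 ∣ Nat.card (normalizer ((Q : Subgroup L) : Set L)) := by
    have htL : t ∈ L := Subgroup.mem_centralizer_singleton_iff.2 rfl
    have hmem : (⟨t, htL⟩ : L) ∈ normalizer ((Q : Subgroup L) : Set L) := by
      rw [Subgroup.mem_normalizer_iff]
      intro h
      have hcomm : (⟨t, htL⟩ : L) * h * (⟨t, htL⟩ : L)⁻¹ = h := by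
        apply Subtype.ext
        have h7 : (h : G) * t = t * h := Subgroup.mem_centralizer_singleton_iff.1 h.2
        show t * (h : G) * t⁻¹ = h
        rw [← h7]; group
      rw [hcomm]
    have := Subgroup.orderOf_dvd_natCard _ hmem
    rwa [Subgroup.orderOf_mk, ht] at this
  have hk5 : Nat.card (Sylow 3 L) ∈ Nat.divisors 16 := Nat.mem_divisors.2 ⟨h3, by norm_num⟩
  have hd : Nat.divisors 16 = {1, 2, 4, 8, 16} := by decide
  rw [hd] at hk5
  simp only [Finset.mem_insert, Finset.mem_singleton] at hk5
  unfold Nat.ModEq at h4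
  rw [h1, h2]
  rcases hk5 with h | h | h | h | h <;> rw [h] at h4 h5 ⊢
  · left; rfl
  · omega
  · right; rfl
  · omega
  · exfalso
    have : Nat.card (normalizer ((Q : Subgroup L) : Set L)) = 3 := by omega
    rw [this] at h6
    norm_num at h6

open scoped Classical in
/-- The number of commuting pairs (involution, element of order 3), counted in two ways. -/
theorem sum_iC_eq [Fintype G] (hc : Nat.card G = 7920) (t : G) (ht : orderOf t = 2) :
    ∑ z ∈ Finset.univ.filter (fun z : G => orderOf z = 3), iC z = 165 * wC t := by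
  have h1 : ∀ z : G, iC z =
      ∑ u ∈ Finset.univ.filter (fun u : G => orderOf u = 2), if u * z = z * u then 1 else 0 := by
    intro z
    unfold iC
    rw [Nat.card_eq_fintype_card, Fintype.card_subtype, ← Finset.sum_filter, Finset.filter_filter,
      Finset.sum_const, smul_eq_mul, mul_one]
  have h2 : ∀ u : G, wC u =
      ∑ z ∈ Finset.univ.filter (fun z : G => orderOf z = 3), if u * z = z * u then 1 else 0 := by
    intro u
    unfold wC
    rw [Nat.card_eq_fintype_card, Fintype.card_subtype, ← Finset.sum_filter, Finset.filter_filter,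
      Finset.sum_const, smul_eq_mul, mul_one]
    congr 1
    ext z
    simp only [Finset.mem_filter, Finset.mem_univ, true_and]
    constructor
    · rintro ⟨h, h'⟩; exact ⟨h, h'.symm⟩
    · rintro ⟨h, h'⟩; exact ⟨h, h'.symm⟩
  simp_rw [h1]
  rw [Finset.sum_comm]
  simp_rw [← h2]
  have h3 : ∀ u ∈ Finset.univ.filter (fun u : G => orderOf u = 2), wC u = wC t := by
    intro u hu
    simp only [Finset.mem_filter, Finset.mem_univ, true_and] at hu
    exact wC_eq_of_orderOf_two hc t u ht hu
  rw [Finset.sum_congr rfl h3, Finset.sum_const, smul_eq_mul]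
  congr 1
  have := card_involutions hc
  rw [Nat.card_eq_fintype_card, Fintype.card_subtype] at this
  exact this

end

end Cfsg.Agent.Lib.Helper72.M11Syl
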