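import Mathlib
import Cfsg.Agent.Lib.Helper72.M11SylD

set_option autoImplicit false
set_option linter.unusedSectionVars false
set_option linter.unusedVariables false

/-!
# Simple groups of order 7920: the Sylow 3-normalizer, part E (helper72)

Local lemmas on involutions in the centralizer of an element of order 3.
-/

namespace Cfsg.Agent.Lib.Helper72.M11Syl

open MulAction Subgroup Cfsg.Agent.Lib.Helper17 Cfsg.Agent.Lib.Helper14.M11

attribute [local instance] fact11 fact5 fact3 fact2

section

variable {G : Type*} [Group G] [Finite G] [IsSimpleGroup G]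

/-- Two Sylow 3-subgroups sharing `x` of order 3 and some `y ∉ ⟨x⟩` are equal. -/
theorem sylow3_eq_of_mem (hc : Nat.card G = 7920) (R R' : Sylow 3 G) {x y : G}
    (hx3 : orderOf x = 3) (hxR : x ∈ (R : Subgroup G)) (hxR' : x ∈ (R' : Subgroup G))
    (hyR : y ∈ (R : Subgroup G)) (hyR' : y ∈ (R' : Subgroup G)) (hy : y ∉ zpowers x) :
    R = R' := by
  set I : Subgroup G := (R : Subgroup G) ⊓ (R' : Subgroup G) with hI
  have h1 : zpowers x ≤ I := (zpowers_le).2 (Subgroup.mem_inf.2 ⟨hxR, hxR'⟩)
  have h2 : y ∈ I := Subgroup.mem_inf.2 ⟨hyR, hyR'⟩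
  have h3 : Nat.card (zpowers x) = 3 := by rw [Nat.card_zpowers, hx3]
  have h4 : Nat.card I ∣ 9 := by
    rw [← card_sylow3_sub hc R]; exact Subgroup.card_dvd_of_le inf_le_left
  have h5 : 3 ∣ Nat.card I := by rw [← h3]; exact Subgroup.card_dvd_of_le h1
  have h6 : Nat.card I ≠ 3 := by
    intro h
    have : zpowers x = I := Subgroup.eq_of_le_of_card_ge h1 (by rw [h, h3])
    rw [← this] at h2
    exact hy h2
  have h7 : Nat.card I = 9 := by
    have h8 : Nat.card I ∈ Nat.divisors 9 := Nat.mem_divisors.2 ⟨h4, by norm_num⟩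
    have hd : Nat.divisors 9 = {1, 3, 9} := by decide
    rw [hd] at h8
    simp only [Finset.mem_insert, Finset.mem_singleton] at h8
    rcases h8 with h | h | h
    · rw [h] at h5; norm_num at h5
    · exact absurd h h6
    · exact h
  have h8 : I = (R : Subgroup G) :=
    Subgroup.eq_of_le_of_card_ge inf_le_left (by rw [h7, card_sylow3_sub hc R])
  have h9 : I = (R' : Subgroup G) :=
    Subgroup.eq_of_le_of_card_ge inf_le_right (by rw [h7, card_sylow3_sub hc R'])
  exact Sylow.ext (h8.symm.trans h9)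

/-- An involution normalizing `P` inverts some nontrivial element of `P`. -/
theorem exists_inverted (hc : Nat.card G = 7920) (hn : Nat.card (Sylow 3 G) = 220)
    (P : Sylow 3 G) {s : G} (hs2 : orderOf s = 2)
    (hsN : s ∈ normalizer ((P : Subgroup G) : Set G)) :
    ∃ y ∈ (P : Subgroup G), y ≠ 1 ∧ s * y * s⁻¹ = y⁻¹ := by
  have hsC : s ∉ centralizer ((P : Subgroup G) : Set G) := by
    rw [centralizer_sylow3_eq hc hn P]
    intro hsP
    have := orderOf_dvd_nine_of_mem hc P hsP
    rw [hs2] at this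
    norm_num at this
  rw [Subgroup.mem_centralizer_iff] at hsC
  push Not at hsC
  obtain ⟨p, hp, hps⟩ := hsC
  have hq : s * p * s⁻¹ ∈ (P : Subgroup G) := (Subgroup.mem_normalizer_iff.1 hsN p).1 hp
  have hss : s * s = 1 := sq_eq_one_of_orderOf_eq_two hs2
  have hsinv : s⁻¹ = s := inv_eq_of_mul_eq_one_left hss
  have e1 : s⁻¹ * s⁻¹ = 1 := by rw [hsinv]; exact hss
  refine ⟨p * (s * p * s⁻¹)⁻¹, mul_mem hp (inv_mem hq), ?_, ?_⟩
  · intro h
    apply hps
    have h' : p = s * p * s⁻¹ := by rwa [mul_inv_eq_one] at h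
    calc p * s = (s * p * s⁻¹) * s := by rw [← h']
      _ = s * p := by group
  · calc s * (p * (s * p * s⁻¹)⁻¹) * s⁻¹ = s * p * s * p⁻¹ * (s⁻¹ * s⁻¹) := by group
      _ = s * p * s * p⁻¹ := by rw [e1, mul_one]
      _ = s * p * s⁻¹ * p⁻¹ := by rw [hsinv]
      _ = (p * (s * p * s⁻¹)⁻¹)⁻¹ := by group

/-- Class size of an element `u` inside the centralizer of `z` (explicit form). -/
theorem class_size_inf {G : Type*} [Group G] [Finite G] (z u : G) (huz : u * z = z * u) :
    Nat.card {v : centralizer ({z} : Set G) //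
        IsConj (⟨u, Subgroup.mem_centralizer_singleton_iff.2 huz⟩ : centralizer ({z} : Set G)) v}
      * Nat.card (centralizer ({u} : Set G) ⊓ centralizer ({z} : Set G) : Subgroup G) =
      Nat.card (centralizer ({z} : Set G)) := by
  set K := centralizer ({z} : Set G) with hK
  set u' : K := ⟨u, Subgroup.mem_centralizer_singleton_iff.2 huz⟩ with hu'
  have h1 := card_conj_mul_card_centralizer u'
  have h2 : centralizer ({u'} : Set K) = (centralizer ({u} : Set G)).subgroupOf K := by
    ext v
    rw [Subgroup.mem_subgroupOf, Subgroup.mem_centralizer_singleton_iff,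
      Subgroup.mem_centralizer_singleton_iff]
    constructor
    · intro h; exact congrArg Subtype.val h
    · intro h; exact Subtype.ext h
  rw [h2, ← Subgroup.inf_subgroupOf_right] at h1
  rw [← h1]
  congr 1
  exact Nat.card_congr (Subgroup.subgroupOfEquivOfLe inf_le_right).toEquiv.symm

/-- Class size of an involution `u` inside the centralizer of `z`. -/
theorem class_size (hc : Nat.card G = 7920) (z u : G) (hu : orderOf u = 2)
    (huz : u * z = z * u) :
    ∃ c : ℕ, Nat.card {v : centralizer ({z} : Set G) //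
        IsConj (⟨u, Subgroup.mem_centralizer_singleton_iff.2 huz⟩ : centralizer ({z} : Set G)) v}
      * c = Nat.card (centralizer ({z} : Set G)) ∧ c ∣ 48 := by
  refine ⟨_, class_size_inf z u huz, ?_⟩
  rw [← card_centralizer_involution hc u hu]
  exact Subgroup.card_dvd_of_le inf_le_left

theorem class_le_iC (z u : G) (hu : orderOf u = 2) (huz : u * z = z * u) :
    Nat.card {v : centralizer ({z} : Set G) //
        IsConj (⟨u, Subgroup.mem_centralizer_singleton_iff.2 huz⟩ : centralizer ({z} : Set G)) v}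
      ≤ iC z := by
  unfold iC
  apply Nat.card_le_card_of_injective
    (fun v => (⟨v.1.1, by
      rw [Subgroup.orderOf_coe, orderOf_eq_of_isConj v.2, Subgroup.orderOf_mk]; exact hu,
      Subgroup.mem_centralizer_singleton_iff.1 v.1.2⟩ : {w : G // orderOf w = 2 ∧ w * z = z * w}))
  intro a b h
  apply Subtype.ext; apply Subtype.ext
  exact congrArg (fun w => w.1) h

/-- If `C(z)` has even order, the number of involutions in it is odd. -/
theorem iC_odd (z : G) (h2 : 2 ∣ Nat.card (centralizer ({z} : Set G))) : iC z % 2 = 1 := by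
  set K := centralizer ({z} : Set G) with hK
  have h1 := Cfsg.Agent.Lib.Helper40.frobenius_dvd (G := K) 2 h2
  have h3 := card_subtype_and_add (fun k : K => k ^ 2 = 1) (fun k : K => k = 1)
  have h4 : Nat.card {k : K // k ^ 2 = 1 ∧ k = 1} = 1 := by
    rw [Nat.card_eq_one_iff_unique]
    refine ⟨⟨?_⟩, ⟨⟨1, by simp⟩⟩⟩
    intro a b
    apply Subtype.ext
    rw [a.2.2, b.2.2]
  have h5 : Nat.card {k : K // k ^ 2 = 1 ∧ ¬ k = 1} = iC z := by
    unfold iC
    apply Nat.card_congr
    refine ⟨fun k => ⟨k.1.1, ?_, Subgroup.mem_centralizer_singleton_iff.1 k.1.2⟩,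
      fun w => ⟨⟨w.1, Subgroup.mem_centralizer_singleton_iff.2 w.2.2⟩, ?_⟩, ?_, ?_⟩
    · have h6 : orderOf (k.1 : K) = 2 := orderOf_eq_prime_iff.2 k.2
      exact (Subgroup.orderOf_coe k.1).trans h6
    · have h7 : orderOf (⟨w.1, Subgroup.mem_centralizer_singleton_iff.2 w.2.2⟩ : K) = 2 :=
        (Subgroup.orderOf_mk w.1 _).trans w.2.1
      exact orderOf_eq_prime_iff.1 h7
    · intro k; rfl
    · intro w; rfl
  rw [h4, h5] at h3
  omega

/-- If `C(z)` has order 36 or 72, it contains at least 3 involutions. -/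
theorem three_le_iC (hc : Nat.card G = 7920) (z : G)
    (hz : Nat.card (centralizer ({z} : Set G)) = 36 ∨ Nat.card (centralizer ({z} : Set G)) = 72) :
    3 ≤ iC z := by
  have h2 : 2 ∣ Nat.card (centralizer ({z} : Set G)) := by
    rcases hz with h | h <;> rw [h] <;> norm_num
  obtain ⟨u, huK, hu⟩ := exists_mem_orderOf_eq_of_dvd_card _ 2 h2
  have huz : u * z = z * u := Subgroup.mem_centralizer_singleton_iff.1 huK
  obtain ⟨c, h3, h4⟩ := class_size hc z u hu huz
  have h5 := class_le_iC z u hu huz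
  set n := Nat.card {v : centralizer ({z} : Set G) //
    IsConj (⟨u, Subgroup.mem_centralizer_singleton_iff.2 huz⟩ : centralizer ({z} : Set G)) v}
    with hn
  have h6 : c ∣ Nat.card (centralizer ({z} : Set G)) := Dvd.intro_left _ h3
  by_contra hlt
  have hn2 : n ≤ 2 := by omega
  rcases hz with h | h
  · rw [h] at h3 h6
    have h7 : c ∣ Nat.gcd 48 36 := Nat.dvd_gcd h4 h6
    have h8 : c ≤ 12 := Nat.le_of_dvd (by norm_num) h7
    nlinarith
  · rw [h] at h3 h6
    have h7 : c ∣ Nat.gcd 48 72 := Nat.dvd_gcd h4 h6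
    have h8 : c ≤ 24 := Nat.le_of_dvd (by norm_num) h7
    nlinarith

end

end Cfsg.Agent.Lib.Helper72.M11Syl
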