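import Mathlib
import Cfsg.Agent.Lib.Helper72.M11SylE

set_option autoImplicit false
set_option linter.unusedSectionVars false
set_option linter.unusedVariables false

/-!
# Simple groups of order 7920: the Sylow 3-normalizer, part F (helper72)

If `|C_N(x)| = 18` and `x` lies in four Sylow 3-subgroups then `C(x)` has at least six involutions.
-/

namespace Cfsg.Agent.Lib.Helper72.M11Syl

open MulAction Subgroup Cfsg.Agent.Lib.Helper17 Cfsg.Agent.Lib.Helper14.M11

attribute [local instance] fact11 fact5 fact3 fact2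

section

variable {G : Type*} [Group G] [Finite G] [IsSimpleGroup G]

/-- If `s` inverts `y` of order 3, conjugates of `s` by powers of `y` coincide only for
exponents congruent mod 3. -/
theorem conj_zpow_eq_imp {s y : G} (hsy : s * y * s⁻¹ = y⁻¹) (hy3 : orderOf y = 3) (i j : ℤ)
    (h : y ^ i * s * (y ^ i)⁻¹ = y ^ j * s * (y ^ j)⁻¹) : (3 : ℤ) ∣ i - j := by
  have h1 : y ^ (i - j) * s = s * y ^ (i - j) := by
    have : y ^ (i - j) * s = (y ^ j)⁻¹ * (y ^ i * s * (y ^ i)⁻¹) * y ^ i := by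
      rw [zpow_sub]; group
    rw [this, h, zpow_sub]; group
  have h2 := conj_zpow_of_inverts hsy (i - j)
  have h3 : s * y ^ (i - j) * s⁻¹ = y ^ (i - j) := by rw [← h1]; group
  rw [h3] at h2
  have h4 : y ^ (2 * (i - j)) = 1 := by
    rw [two_mul, zpow_add]
    nth_rewrite 1 [h2]
    group
  have h5 := (orderOf_dvd_iff_zpow_eq_one).2 h4
  rw [hy3] at h5
  have : (3 : ℤ) ∣ 2 * (i - j) := by exact_mod_cast h5
  omega

/-- An element conjugating `x` and `y ∉ ⟨x⟩` into `P` normalizes `P`. -/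
theorem mem_normalizer_of_conj_mem (hc : Nat.card G = 7920) (P : Sylow 3 G) {x y h : G}
    (hx3 : orderOf x = 3) (hxP : x ∈ (P : Subgroup G)) (hyP : y ∈ (P : Subgroup G))
    (hyx : y ∉ zpowers x) (hhx : h⁻¹ * x * h ∈ (P : Subgroup G))
    (hhy : h⁻¹ * y * h ∈ (P : Subgroup G)) : h ∈ normalizer ((P : Subgroup G) : Set G) := by
  have h1 : x ∈ ((h • P : Sylow 3 G) : Subgroup G) := (mem_smul_sylow_iff P h x).2 hhx
  have h2 : y ∈ ((h • P : Sylow 3 G) : Subgroup G) := (mem_smul_sylow_iff P h y).2 hhy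
  have h3 := sylow3_eq_of_mem hc (h • P) P hx3 h1 hxP h2 hyP hyx
  exact Sylow.smul_eq_iff_mem_normalizer.1 h3

/-- **Key local lemma**: if `|C_N(x)| = 18` and `x` lies in exactly four Sylow 3-subgroups, then
at least six involutions commute with `x`. -/
theorem six_le_iC (hc : Nat.card G = 7920) (hn : Nat.card (Sylow 3 G) = 220)
    (P : Sylow 3 G) {x : G} (hx : x ∈ (P : Subgroup G)) (hx1 : x ≠ 1)
    (hCN : Nat.card (centralizer ({x} : Set G) ⊓ normalizer ((P : Subgroup G) : Set G) :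
      Subgroup G) = 18) (hm : mS x = 4) : 6 ≤ iC x := by
  have hx3 := orderOf_eq_three_of_mem hc hn P hx hx1
  set K := centralizer ({x} : Set G) with hK
  have hKc : Nat.card K = 72 := by
    have h0 : mS x * Nat.card (K ⊓ normalizer ((P : Subgroup G) : Set G) : Subgroup G) =
        Nat.card K := mS_mul_card_CN hc P hx
    rw [hm, hCN] at h0
    omega
  have hPK : (P : Subgroup G) ≤ K := sylow3_le_centralizer hc P hx
  -- the involution `s` and the inverted element `y`
  obtain ⟨s, hsCN, hs2⟩ := exists_mem_orderOf_eq_of_dvd_card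
    (centralizer ({x} : Set G) ⊓ normalizer ((P : Subgroup G) : Set G)) 2 (by rw [hCN]; norm_num)
  have hsK : s ∈ K := (Subgroup.mem_inf.1 hsCN).1
  have hsN : s ∈ normalizer ((P : Subgroup G) : Set G) := (Subgroup.mem_inf.1 hsCN).2
  have hsx : s * x = x * s := Subgroup.mem_centralizer_singleton_iff.1 hsK
  obtain ⟨y, hyP, hy1, hsy⟩ := exists_inverted hc hn P hs2 hsN
  have hy3 := orderOf_eq_three_of_mem hc hn P hyP hy1
  have hss : s * s = 1 := sq_eq_one_of_orderOf_eq_two hs2
  have hyK : ∀ k : ℤ, y ^ k ∈ K := fun k => hPK (zpow_mem hyP k)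
  have hyx : y ∉ zpowers x := by
    intro hmem
    obtain ⟨k, hk⟩ := Subgroup.mem_zpowers_iff.1 hmem
    have h1 : s * y * s⁻¹ = y := by
      rw [← hk]
      have : Commute s (x ^ k) := (Commute.zpow_right hsx k)
      rw [this.eq]; group
    rw [h1] at hsy
    have h2 : y ^ 2 = 1 := by
      rw [pow_two]
      nth_rewrite 1 [hsy]
      group
    have h3 := orderOf_dvd_of_pow_eq_one h2
    rw [hy3] at h3
    norm_num at h3
  -- class size
  obtain ⟨c, h3, h4⟩ := class_size hc x s hs2 hsx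
  have h5 := class_le_iC x s hs2 hsx
  set s' : K := ⟨s, Subgroup.mem_centralizer_singleton_iff.2 hsx⟩ with hs'
  set n := Nat.card {v : K // IsConj s' v} with hn'
  rw [hKc] at h3
  have h6 : c ∣ 72 := Dvd.intro_left _ h3
  have h7 : c ∣ Nat.gcd 48 72 := Nat.dvd_gcd h4 h6
  have h8 : c ≤ 24 := Nat.le_of_dvd (by norm_num) h7
  by_contra hlt
  have hn5 : n ≤ 5 := by omega
  have hn3 : n = 3 := by
    have : 3 ≤ n := by nlinarith
    interval_cases n
    · rfl
    · exfalso
      have : c = 18 := by omega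
      rw [this] at h7
      norm_num at h7
    · omega
  -- the three conjugates
  let e : Fin 3 → ℤ := ![0, 1, 2]
  let g : Fin 3 → {v : K // IsConj s' v} := fun i =>
    ⟨⟨y ^ (e i), hyK _⟩ * s' * ⟨y ^ (e i), hyK _⟩⁻¹, isConj_iff.2 ⟨⟨y ^ (e i), hyK _⟩, rfl⟩⟩
  have hgval : ∀ i, ((g i).1 : G) = y ^ (e i) * s * (y ^ (e i))⁻¹ := fun i => rfl
  have hginj : Function.Injective g := by
    intro i j hij
    have h9 : y ^ (e i) * s * (y ^ (e i))⁻¹ = y ^ (e j) * s * (y ^ (e j))⁻¹ := by
      rw [← hgval i, ← hgval j, hij]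
    have h10 := conj_zpow_eq_imp hsy hy3 _ _ h9
    fin_cases i <;> fin_cases j <;> simp [e] at h10 ⊢
  have hgbij := hginj.bijective_of_nat_card_le (by rw [← hn', hn3]; simp)
  have hkey : ∀ h ∈ K, ∃ a : ℤ, h * s * h⁻¹ = y ^ a * s * (y ^ a)⁻¹ := by
    intro h hh
    obtain ⟨i, hi⟩ := hgbij.2 ⟨⟨h, hh⟩ * s' * ⟨h, hh⟩⁻¹, isConj_iff.2 ⟨⟨h, hh⟩, rfl⟩⟩
    refine ⟨e i, ?_⟩
    rw [← hgval i, hi]
    rfl
  -- every element of `K` conjugates `y` into `⟨y⟩`
  have hy2 : y ^ (-2 : ℤ) = y := by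
    have h9 : y ^ (3 : ℤ) = 1 := by
      have := pow_orderOf_eq_one y
      rw [hy3] at this
      exact_mod_cast this
    calc y ^ (-2 : ℤ) = y ^ (-2 : ℤ) * y ^ (3 : ℤ) := by rw [h9, mul_one]
      _ = y := by rw [← zpow_add]; norm_num
  have hconj : ∀ h ∈ K, h * y * h⁻¹ ∈ zpowers y := by
    intro h hh
    obtain ⟨a, ha⟩ := hkey h hh
    obtain ⟨b, hb⟩ := hkey (h * y) (mul_mem hh (hPK hyP))
    have h9 : s * (y * s * y⁻¹) = y := by
      have := conj_mul_conj_of_inverts hsy hss 0 1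
      simp only [zpow_zero, one_mul, inv_one, mul_one, zpow_one] at this
      rw [this]
      have : (2 * 0 - 2 : ℤ) = -2 := by norm_num
      rw [this]
      exact hy2
    have h10 : h * y * h⁻¹ = (h * s * h⁻¹) * ((h * y) * s * (h * y)⁻¹) := by
      nth_rewrite 1 [← h9]
      group
    rw [h10, ha, hb, conj_mul_conj_of_inverts hsy hss]
    exact zpow_mem (mem_zpowers y) _
  have hKN : K ≤ normalizer ((P : Subgroup G) : Set G) := by
    intro h hh
    have hh' : h⁻¹ ∈ K := inv_mem hh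
    apply mem_normalizer_of_conj_mem hc P hx3 hx hyP hyx
    · have : h⁻¹ * x * h = x := by
        have h9 : h * x = x * h := Subgroup.mem_centralizer_singleton_iff.1 hh
        rw [mul_assoc, ← h9]; group
      rw [this]; exact hx
    · have := hconj h⁻¹ hh'
      rw [inv_inv] at this
      exact (zpowers_le.2 hyP) this
  have : K ⊓ normalizer ((P : Subgroup G) : Set G) = K := inf_eq_left.2 hKN
  rw [this, hKc] at hCN
  norm_num at hCN

end

end Cfsg.Agent.Lib.Helper72.M11Syl
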