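import Mathlib
import Cfsg.Agent.Lib.Helper72.M11SylF

set_option autoImplicit false
set_option linter.unusedSectionVars false
set_option linter.unusedVariables false

/-!
# Simple groups of order 7920: the Sylow 3-normalizer, part G (helper72)

The global counting: classification of the multiplicities `m_x` on `P#`, and elimination of all
cases but "every `C(x)` has order 36 with exactly three involutions".
-/

namespace Cfsg.Agent.Lib.Helper72.M11Syl

open MulAction Subgroup Cfsg.Agent.Lib.Helper17 Cfsg.Agent.Lib.Helper14.M11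

attribute [local instance] fact11 fact5 fact3 fact2

theorem alpha_arith (a1 a4 a16 t1 t4 t16 : ℕ) (d1 : 1 * t1 = 220 * a1) (d4 : 4 * t4 = 220 * a4)
    (d16 : 16 * t16 = 220 * a16) (s1 : 8 = a1 + a4 + a16) (h9 : 9 ∣ 1 + (t1 + t4 + t16))
    (e1 : 2 ∣ t1) (e4 : 2 ∣ t4) (e16 : 2 ∣ t16) :
    a4 = 8 ∨ (a4 = 2 ∧ a16 = 0 ∧ t4 = 110 ∧ t16 = 0) := by
  have ha1 : a1 ≤ 8 := by clear d1 d4 d16 h9 e1 e4 e16; omega
  have ha4 : a4 ≤ 8 := by clear d1 d4 d16 h9 e1 e4 e16; omega
  have ht1 : t1 = 220 * a1 := by clear h9 e1 e4 e16; omega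
  have ht4 : t4 = 55 * a4 := by clear h9 e1 e4 e16; omega
  subst ht1 ht4
  have ha16 : a16 = 8 - a1 - a4 := by clear d1 d4 d16 h9 e1 e4 e16; omega
  interval_cases a1 <;> interval_cases a4 <;> simp at ha16 <;> subst ha16 <;> omega

section

variable {G : Type*} [Group G] [Finite G] [IsSimpleGroup G]

/-- Every element of order 3 is conjugate to a nontrivial element of `P`. -/
theorem exists_conj_mem (P : Sylow 3 G) (z : G) (hz : orderOf z = 3) :
    ∃ g x : G, x ∈ (P : Subgroup G) ∧ x ≠ 1 ∧ z = g * x * g⁻¹ := by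
  obtain ⟨R, hR⟩ := exists_sylow_mem_of_orderOf_eq z hz
  obtain ⟨g, hg⟩ := MulAction.exists_smul_eq G P R
  refine ⟨g, g⁻¹ * z * g, ?_, ?_, by group⟩
  · rw [← hg, mem_smul_sylow_iff] at hR
    exact hR
  · intro h
    have : z = 1 := by
      have h' : g * (g⁻¹ * z * g) * g⁻¹ = g * 1 * g⁻¹ := by rw [h]
      simpa [mul_assoc] using h'
    rw [this, orderOf_one] at hz
    omega

theorem mS_mem_of_orderOf_three (hc : Nat.card G = 7920) (hn : Nat.card (Sylow 3 G) = 220)
    (P : Sylow 3 G) (z : G) (hz : orderOf z = 3) : mS z = 1 ∨ mS z = 4 ∨ mS z = 16 := by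
  obtain ⟨g, x, hx, hx1, rfl⟩ := exists_conj_mem P z hz
  rw [mS_conj]
  exact (mS_cases hc hn P hx hx1).1

open scoped Classical in
/-- Double counting restricted to the elements with `m = j`. -/
theorem dc_ind [Fintype G] (hc : Nat.card G = 7920) (hn : Nat.card (Sylow 3 G) = 220)
    (P : Sylow 3 G) (j : ℕ) (f : G → ℕ) (hf : ∀ g z : G, f (g * z * g⁻¹) = f z) :
    j * ∑ z ∈ (Finset.univ.filter (fun z : G => orderOf z = 3)).filter (fun z => mS z = j), f z =
      220 * ∑ x ∈ (Finset.univ.filter
        (fun x : G => x ∈ (P : Subgroup G) ∧ x ≠ 1)).filter (fun x => mS x = j), f x := by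
  have h := double_count hc hn P (fun z => if mS z = j then f z else 0)
    (by intro g z; simp only [mS_conj, hf])
  rw [Finset.sum_filter, Finset.sum_filter (s := Finset.univ.filter
    (fun x : G => x ∈ (P : Subgroup G) ∧ x ≠ 1)), Finset.mul_sum, ← h]
  apply Finset.sum_congr rfl
  intro z hz
  by_cases hj : mS z = j
  · simp [hj]
  · simp [hj]

open scoped Classical in
theorem sum_split {G : Type*} [Group G] (s : Finset G) (f : G → ℕ)
    (hs : ∀ z ∈ s, mS z = 1 ∨ mS z = 4 ∨ mS z = 16) :
    ∑ z ∈ s, f z = ∑ z ∈ s.filter (fun z => mS z = 1), f z +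
      ∑ z ∈ s.filter (fun z => mS z = 4), f z + ∑ z ∈ s.filter (fun z => mS z = 16), f z := by
  rw [Finset.sum_filter, Finset.sum_filter, Finset.sum_filter, ← Finset.sum_add_distrib,
    ← Finset.sum_add_distrib]
  apply Finset.sum_congr rfl
  intro z hz
  rcases hs z hz with h | h | h <;> simp [h]

open scoped Classical in
theorem card_Pf [Fintype G] (hc : Nat.card G = 7920) (P : Sylow 3 G) :
    (Finset.univ.filter (fun x : G => x ∈ (P : Subgroup G) ∧ x ≠ 1)).card = 8 := by
  have h := card_subgroup_ne_one (P : Subgroup G)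
  rw [card_sylow3_sub hc P, Nat.card_eq_fintype_card, Fintype.card_subtype] at h
  exact h

open scoped Classical in
theorem even_card_filter_mS [Fintype G] (j : ℕ) :
    2 ∣ ((Finset.univ.filter (fun z : G => orderOf z = 3)).filter (fun z => mS z = j)).card := by
  apply even_card_of_inv_closed
  · intro z hz
    simp only [Finset.mem_filter, Finset.mem_univ, true_and] at hz ⊢
    exact ⟨by rw [orderOf_inv]; exact hz.1, by rw [mS_inv]; exact hz.2⟩
  · intro z hz hzz
    simp only [Finset.mem_filter, Finset.mem_univ, true_and] at hz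
    have h1 : z ^ 2 = 1 := by
      rw [pow_two]
      nth_rewrite 1 [← hzz]
      exact inv_mul_cancel z
    have h2 := orderOf_dvd_of_pow_eq_one h1
    rw [hz.1] at h2
    norm_num at h2

open scoped Classical in
/-- The multiplicity pattern on `P#` is `(0,8,0)` or `(6,2,0)`. -/
theorem alpha_cases [Fintype G] (hc : Nat.card G = 7920) (hn : Nat.card (Sylow 3 G) = 220)
    (P : Sylow 3 G) :
    (∀ x ∈ Finset.univ.filter (fun x : G => x ∈ (P : Subgroup G) ∧ x ≠ 1), mS x = 4) ∨
    (((Finset.univ.filter (fun x : G => x ∈ (P : Subgroup G) ∧ x ≠ 1)).filter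
        (fun x => mS x = 4)).card = 2 ∧
      ((Finset.univ.filter (fun x : G => x ∈ (P : Subgroup G) ∧ x ≠ 1)).filter
        (fun x => mS x = 16)).card = 0 ∧
      ((Finset.univ.filter (fun z : G => orderOf z = 3)).filter (fun z => mS z = 4)).card = 110 ∧
      ((Finset.univ.filter (fun z : G => orderOf z = 3)).filter (fun z => mS z = 16)).card = 0)
    := by
  set T := Finset.univ.filter (fun z : G => orderOf z = 3) with hT
  set Pf := Finset.univ.filter (fun x : G => x ∈ (P : Subgroup G) ∧ x ≠ 1) with hPf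
  have hone : ∀ g z : G, (fun _ : G => (1 : ℕ)) (g * z * g⁻¹) = (fun _ : G => (1 : ℕ)) z :=
    fun _ _ => rfl
  have d1 := dc_ind hc hn P 1 (fun _ => 1) hone
  have d4 := dc_ind hc hn P 4 (fun _ => 1) hone
  have d16 := dc_ind hc hn P 16 (fun _ => 1) hone
  simp only [Finset.sum_const, smul_eq_mul, mul_one] at d1 d4 d16
  have hPs : ∀ x ∈ Pf, mS x = 1 ∨ mS x = 4 ∨ mS x = 16 := by
    intro x hx
    simp only [hPf, Finset.mem_filter, Finset.mem_univ, true_and] at hx
    exact (mS_cases hc hn P hx.1 hx.2).1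
  have hTs : ∀ z ∈ T, mS z = 1 ∨ mS z = 4 ∨ mS z = 16 := by
    intro z hz
    simp only [hT, Finset.mem_filter, Finset.mem_univ, true_and] at hz
    exact mS_mem_of_orderOf_three hc hn P z hz
  have s1 := sum_split Pf (fun _ => 1) hPs
  have s2 := sum_split T (fun _ => 1) hTs
  simp only [Finset.sum_const, smul_eq_mul, mul_one] at s1 s2
  have h8 : Pf.card = 8 := card_Pf hc P
  have h9 := nine_dvd_succ_card_order_three hc hn
  rw [← hT] at h9
  have e1 := even_card_filter_mS (G := G) 1
  have e4 := even_card_filter_mS (G := G) 4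
  have e16 := even_card_filter_mS (G := G) 16
  rw [← hT] at e1 e4 e16
  have key := alpha_arith _ _ _ _ _ _ d1 d4 d16 (h8.symm.trans s1) (by rw [← s2]; exact h9) e1 e4 e16
  rcases key with h | h
  · left
    have : (Pf.filter (fun x => mS x = 4)).card = Pf.card := by rw [h8]; exact h
    exact Finset.card_filter_eq_iff.1 this
  · right; exact h

end

end Cfsg.Agent.Lib.Helper72.M11Syl
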