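import Mathlib
import Cfsg.Agent.Lib.Helper72.M11SylG

set_option autoImplicit false
set_option linter.unusedSectionVars false
set_option linter.unusedVariables false

/-!
# Simple groups of order 7920: the Sylow 3-normalizer, part H (helper72)

Elimination of the pattern `(6,2,0)` and reduction of the pattern `(0,8,0)`.
-/

namespace Cfsg.Agent.Lib.Helper72.M11Syl

open MulAction Subgroup Cfsg.Agent.Lib.Helper17 Cfsg.Agent.Lib.Helper14.M11

attribute [local instance] fact11 fact5 fact3 fact2

section

variable {G : Type*} [Group G] [Finite G] [IsSimpleGroup G]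

theorem centralizer_inv_eq {G : Type*} [Group G] (x : G) :
    centralizer ({x⁻¹} : Set G) = centralizer ({x} : Set G) := by
  ext g
  rw [Subgroup.mem_centralizer_singleton_iff, Subgroup.mem_centralizer_singleton_iff]
  constructor
  · intro h
    have : g * x = x * (x⁻¹ * g) * x := by group
    rw [this, ← h]; group
  · intro h
    have : g * x⁻¹ = x⁻¹ * (x * g) * x⁻¹ := by group
    rw [this, ← h]; group

open scoped Classical in
/-- The pattern `(0,8,0)`: all centralizers of elements of order 3 have order 36 and contain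
exactly three involutions, and each involution commutes with 8 elements of order 3. -/
theorem caseA [Fintype G] (hc : Nat.card G = 7920) (hn : Nat.card (Sylow 3 G) = 220)
    (P : Sylow 3 G)
    (hA : ∀ x ∈ Finset.univ.filter (fun x : G => x ∈ (P : Subgroup G) ∧ x ≠ 1), mS x = 4)
    (t : G) (ht : orderOf t = 2) :
    wC t = 8 ∧ ∀ x ∈ Finset.univ.filter (fun x : G => x ∈ (P : Subgroup G) ∧ x ≠ 1),
      (Nat.card (centralizer ({x} : Set G)) = 36 ∧ iC x = 3) := by
  set T := Finset.univ.filter (fun z : G => orderOf z = 3) with hT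
  set Pf := Finset.univ.filter (fun x : G => x ∈ (P : Subgroup G) ∧ x ≠ 1) with hPf
  have hTm : ∀ z ∈ T, mS z = 4 := by
    intro z hz
    simp only [hT, Finset.mem_filter, Finset.mem_univ, true_and] at hz
    obtain ⟨g, x, hx, hx1, rfl⟩ := exists_conj_mem P z hz
    rw [mS_conj]
    apply hA
    simp only [hPf, Finset.mem_filter, Finset.mem_univ, true_and]
    exact ⟨hx, hx1⟩
  have d := double_count hc hn P iC iC_conj
  rw [← hT, ← hPf] at d
  have d' : ∑ z ∈ T, mS z * iC z = 4 * ∑ z ∈ T, iC z := by
    rw [Finset.mul_sum]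
    apply Finset.sum_congr rfl
    intro z hz
    rw [hTm z hz]
  rw [d', sum_iC_eq hc t ht] at d
  have hcC : ∀ x ∈ Pf, Nat.card (centralizer ({x} : Set G)) = 36 ∨
      Nat.card (centralizer ({x} : Set G)) = 72 := by
    intro x hx
    have hm := hA x hx
    simp only [hPf, Finset.mem_filter, Finset.mem_univ, true_and] at hx
    have := (mS_cases hc hn P hx.1 hx.2).2
    rw [hm] at this
    rcases this with h | ⟨h, -⟩
    · left; rw [h]
    · right; rw [h]
  have h3 : ∀ x ∈ Pf, 3 ≤ iC x := fun x hx => three_le_iC hc x (hcC x hx)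
  have h24 : Pf.card • 3 ≤ ∑ x ∈ Pf, iC x := Finset.card_nsmul_le_sum _ _ _ h3
  rw [card_Pf hc P, smul_eq_mul] at h24
  have hw := wC_mem hc t ht
  have hw8 : wC t = 8 := by
    rcases hw with h | h
    · rw [h] at d; omega
    · exact h
  rw [hw8] at d
  have hsum : ∑ x ∈ Pf, iC x = 24 := by omega
  have heq : ∀ x ∈ Pf, 3 = iC x := by
    apply (Finset.sum_eq_sum_iff_of_le h3).1
    rw [Finset.sum_const, card_Pf hc P, hsum]
    rfl
  refine ⟨hw8, fun x hx => ⟨?_, (heq x hx).symm⟩⟩
  rcases hcC x hx with h | h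
  · exact h
  · exfalso
    have hm := hA x hx
    have hx' := hx
    simp only [hPf, Finset.mem_filter, Finset.mem_univ, true_and] at hx'
    have h1 := mS_mul_card_CN hc P hx'.1
    rw [hm, h] at h1
    have h2 : Nat.card (centralizer ({x} : Set G) ⊓ normalizer ((P : Subgroup G) : Set G) :
      Subgroup G) = 18 := by omega
    have := six_le_iC hc hn P hx'.1 hx'.2 h2 hm
    rw [← heq x hx] at this
    omega

open scoped Classical in
/-- The pattern `(6,2,0)` is impossible. -/
theorem caseB_false [Fintype G] (hc : Nat.card G = 7920) (hn : Nat.card (Sylow 3 G) = 220)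
    (P : Sylow 3 G)
    (h4 : ((Finset.univ.filter (fun x : G => x ∈ (P : Subgroup G) ∧ x ≠ 1)).filter
        (fun x => mS x = 4)).card = 2)
    (h16 : ((Finset.univ.filter (fun x : G => x ∈ (P : Subgroup G) ∧ x ≠ 1)).filter
        (fun x => mS x = 16)).card = 0)
    (hT4 : ((Finset.univ.filter (fun z : G => orderOf z = 3)).filter
        (fun z => mS z = 4)).card = 110)
    (hT16 : ((Finset.univ.filter (fun z : G => orderOf z = 3)).filter
        (fun z => mS z = 16)).card = 0) : False := by
  set T := Finset.univ.filter (fun z : G => orderOf z = 3) with hT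
  set Pf := Finset.univ.filter (fun x : G => x ∈ (P : Subgroup G) ∧ x ≠ 1) with hPf
  obtain ⟨t, ht⟩ := exists_prime_orderOf_dvd_card' (G := G) 2 (by rw [hc]; norm_num)
  -- pick `x` with `m_x = 4`
  have hne : (Pf.filter (fun x => mS x = 4)).Nonempty := by
    rw [← Finset.card_pos, h4]; norm_num
  obtain ⟨x, hxF⟩ := hne
  have hxF' := hxF
  simp only [hPf, Finset.mem_filter, Finset.mem_univ, true_and] at hxF'
  obtain ⟨⟨hxP, hx1⟩, hm⟩ := hxF'
  have hx3 := orderOf_eq_three_of_mem hc hn P hxP hx1
  have hxinv : x⁻¹ ≠ x := by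
    intro hzz
    have h1 : x ^ 2 = 1 := by
      rw [pow_two]
      nth_rewrite 1 [← hzz]
      exact inv_mul_cancel x
    have h2 := orderOf_dvd_of_pow_eq_one h1
    rw [hx3] at h2
    norm_num at h2
  have hxinvF : x⁻¹ ∈ Pf.filter (fun x => mS x = 4) := by
    simp only [hPf, Finset.mem_filter, Finset.mem_univ, true_and]
    exact ⟨⟨inv_mem hxP, fun h => hx1 (inv_eq_one.1 h)⟩, by rw [mS_inv]; exact hm⟩
  have hpair : ({x, x⁻¹} : Finset G) = Pf.filter (fun x => mS x = 4) := by
    apply Finset.eq_of_subset_of_card_le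
    · intro a ha
      simp only [Finset.mem_insert, Finset.mem_singleton] at ha
      rcases ha with rfl | rfl
      · exact hxF
      · exact hxinvF
    · rw [h4, Finset.card_pair hxinv.symm]
  -- `|C(x)| = 72`
  have hcl := card_conj_mul_card_centralizer x
  rw [hc] at hcl
  have hcl_le : Nat.card {y : G // IsConj x y} ≤ 110 := by
    rw [← hT4, Nat.card_eq_fintype_card, Fintype.card_subtype]
    apply Finset.card_le_card
    intro y hy
    simp only [Finset.mem_filter, Finset.mem_univ, true_and] at hy
    simp only [hT, Finset.mem_filter, Finset.mem_univ, true_and]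
    obtain ⟨g, rfl⟩ := isConj_iff.1 hy
    exact ⟨by rw [orderOf_conj_eq]; exact hx3, by rw [mS_conj]; exact hm⟩
  have hcases := (mS_cases hc hn P hxP hx1).2
  rw [hm] at hcases
  have hC72 : Nat.card (centralizer ({x} : Set G)) = 72 := by
    rcases hcases with h | ⟨h, -⟩
    · rw [h] at hcl; nlinarith
    · rw [h]
  have h1 := mS_mul_card_CN hc P hxP
  rw [hm, hC72] at h1
  have hCN : Nat.card (centralizer ({x} : Set G) ⊓ normalizer ((P : Subgroup G) : Set G) :
      Subgroup G) = 18 := by omega
  have h6 := six_le_iC hc hn P hxP hx1 hCN hm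
  have hodd := iC_odd x (by rw [hC72]; norm_num)
  -- the sums
  have hTs : ∀ z ∈ T, mS z = 1 ∨ mS z = 4 ∨ mS z = 16 := by
    intro z hz
    simp only [hT, Finset.mem_filter, Finset.mem_univ, true_and] at hz
    exact mS_mem_of_orderOf_three hc hn P z hz
  have s := sum_split T iC hTs
  have d1 := dc_ind hc hn P 1 iC iC_conj
  have d4 := dc_ind hc hn P 4 iC iC_conj
  rw [← hT, ← hPf] at d1 d4
  rw [← hpair, Finset.sum_pair hxinv.symm, iC_inv] at d4
  have hE : T.filter (fun z => mS z = 16) = ∅ := Finset.card_eq_zero.1 hT16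
  rw [hE, Finset.sum_empty, sum_iC_eq hc t ht] at s
  have hw := wC_mem hc t ht
  rcases hw with hw | hw <;> rw [hw] at s <;> omega

end

end Cfsg.Agent.Lib.Helper72.M11Syl
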