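import Mathlib
import Cfsg.Agent.Lib.Helper72.M11SylH

set_option autoImplicit false
set_option linter.unusedSectionVars false
set_option linter.unusedVariables false

/-!
# Simple groups of order 7920: the Sylow 3-normalizer, part I (helper72)

The last case: every element of order 3 has centralizer of order 36 with exactly three involutions
and lies in exactly four Sylow 3-subgroups.  Structure of these centralizers and element orders.
-/

namespace Cfsg.Agent.Lib.Helper72.M11Syl

open MulAction Subgroup Cfsg.Agent.Lib.Helper17 Cfsg.Agent.Lib.Helper14.M11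

attribute [local instance] fact11 fact5 fact3 fact2

section

variable {G : Type*} [Group G] [Finite G] [IsSimpleGroup G]

/-- If `z` of order 3 lies in four Sylow 3-subgroups, at least 27 elements of `C(z)` have cube 1. -/
theorem card_cube_one (hc : Nat.card G = 7920) (hn : Nat.card (Sylow 3 G) = 220) (z : G)
    (hz3 : orderOf z = 3) (hm : mS z = 4) :
    27 ≤ Nat.card {g : G // g * z = z * g ∧ g ^ 3 = 1} := by
  classical
  have := Fintype.ofFinite {R : Sylow 3 G // z ∈ (R : Subgroup G)}
  have hD : ∀ R : {R : Sylow 3 G // z ∈ (R : Subgroup G)},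
      Nat.card {g : G // g ∈ (R.1 : Subgroup G) ∧ ¬ g ∈ zpowers z} = 6 := by
    intro R
    have h1 := card_subtype_and_add (fun g : G => g ∈ (R.1 : Subgroup G))
      (fun g => g ∈ zpowers z)
    have h2 : Nat.card {g : G // g ∈ (R.1 : Subgroup G) ∧ g ∈ zpowers z} = 3 := by
      have hz3c : Nat.card (zpowers z) = 3 := by rw [Nat.card_zpowers, hz3]
      refine Eq.trans ?_ hz3c
      apply Nat.card_congr
      refine Equiv.subtypeEquivRight ?_
      intro g
      exact ⟨fun h => h.2, fun h => ⟨(zpowers_le.2 R.2) h, h⟩⟩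
    have h3 : Nat.card {g : G // g ∈ (R.1 : Subgroup G)} = 9 := card_sylow3_sub hc R.1
    omega
  have hzp : ∀ g ∈ zpowers z, g * z = z * g ∧ g ^ 3 = 1 := by
    intro g hg
    obtain ⟨k, rfl⟩ := Subgroup.mem_zpowers_iff.1 hg
    refine ⟨((Commute.refl z).zpow_left k).eq, ?_⟩
    rw [← zpow_natCast, ← zpow_mul, mul_comm, zpow_mul, zpow_natCast]
    have := pow_orderOf_eq_one z
    rw [hz3] at this
    rw [this, one_zpow]
  let φ : ((Σ R : {R : Sylow 3 G // z ∈ (R : Subgroup G)},
      {g : G // g ∈ (R.1 : Subgroup G) ∧ ¬ g ∈ zpowers z}) ⊕ zpowers z) →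
      {g : G // g * z = z * g ∧ g ^ 3 = 1} := fun a =>
    Sum.elim (fun p => ⟨p.2.1, sylow3_comm hc p.1.1 p.2.1 p.2.2.1 z p.1.2,
      pow_three_eq_one_of_mem hc hn p.1.1 p.2.2.1⟩) (fun g => ⟨g.1, hzp g.1 g.2⟩) a
  have hφ : Function.Injective φ := by
    rintro (⟨R, g⟩ | g) (⟨R', g'⟩ | g') h
    · have hgg : g.1 = g'.1 := congrArg Subtype.val h
      have hRR : R.1 = R'.1 := by
        apply sylow3_eq_of_mem hc R.1 R'.1 hz3 R.2 R'.2 g.2.1 _ g.2.2
        rw [hgg]; exact g'.2.1
      have hRR' : R = R' := Subtype.ext hRR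
      subst hRR'
      have : g = g' := Subtype.ext hgg
      rw [this]
    · exfalso
      have hgg : g.1 = g'.1 := congrArg Subtype.val h
      exact g.2.2 (by rw [hgg]; exact g'.2)
    · exfalso
      have hgg : g.1 = g'.1 := congrArg Subtype.val h
      exact g'.2.2 (by rw [← hgg]; exact g.2)
    · have hgg : (φ (Sum.inr g)).1 = (φ (Sum.inr g')).1 := congrArg Subtype.val h
      have hgg' : g.1 = g'.1 := hgg
      rw [Subtype.ext hgg']
  have hcard := Nat.card_le_card_of_injective φ hφ
  rw [Nat.card_sum, Nat.card_sigma] at hcard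
  simp only [hD, Finset.sum_const, Finset.card_univ, smul_eq_mul] at hcard
  rw [Nat.card_zpowers, hz3, ← Nat.card_eq_fintype_card] at hcard
  unfold mS at hm
  rw [hm] at hcard
  omega

/-- Under the hypotheses of the last case, every element of `C(z)` has order dividing 6. -/
theorem pow_six_eq_one (hc : Nat.card G = 7920) (hn : Nat.card (Sylow 3 G) = 220) (z : G)
    (hz3 : orderOf z = 3) (hm : mS z = 4) (hcC : Nat.card (centralizer ({z} : Set G)) = 36)
    (hi : iC z = 3) (g₀ : G) (hg₀ : g₀ * z = z * g₀) : g₀ ^ 6 = 1 := by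
  by_contra hne
  have h27 := card_cube_one hc hn z hz3 hm
  have h1 := card_subtype_and_add (fun g : G => g * z = z * g) (fun g => g ^ 3 = 1)
  have h36 : Nat.card {g : G // g * z = z * g} = 36 := by
    rw [← hcC]
    apply Nat.card_congr
    refine Equiv.subtypeEquivRight ?_
    intro g
    exact Subgroup.mem_centralizer_singleton_iff.symm
  have hz3' : z ^ 3 = 1 := by
    have := pow_orderOf_eq_one z
    rwa [hz3] at this
  have hpow : ∀ (u : G) (k n : ℕ), u * z = z * u → (u * z ^ k) ^ n = u ^ n * z ^ (k * n) := by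
    intro u k n hu
    have hcomm : Commute u (z ^ k) := Commute.pow_right hu k
    rw [hcomm.mul_pow, ← pow_mul]
  let ψ : Option ({u : G // orderOf u = 2 ∧ u * z = z * u} × Fin 3) →
      {g : G // g * z = z * g ∧ ¬ g ^ 3 = 1} := fun a =>
    match a with
    | none => ⟨g₀, hg₀, fun h => hne (by
        calc g₀ ^ 6 = (g₀ ^ 3) ^ 2 := by rw [← pow_mul]
          _ = 1 := by rw [h, one_pow])⟩
    | some (u, k) => ⟨u.1 * z ^ (k : ℕ), by
        have hcomm : Commute u.1 z := u.2.2
        exact ((hcomm.mul_left (Commute.pow_left (Commute.refl z) _)).eq), by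
        rw [hpow u.1 k 3 u.2.2, mul_comm (k : ℕ) 3, pow_mul, hz3', one_pow, mul_one]
        have h2 : u.1 ^ 2 = 1 := by
          have := pow_orderOf_eq_one u.1
          rwa [u.2.1] at this
        intro h3
        have h4 : u.1 = 1 := by
          calc u.1 = u.1 ^ 3 * (u.1 ^ 2)⁻¹ := by group
            _ = 1 := by rw [h3, h2]; simp
        have h5 := u.2.1
        rw [h4, orderOf_one] at h5
        omega⟩
  have hu2 : ∀ u : {u : G // orderOf u = 2 ∧ u * z = z * u}, u.1 ^ 2 = 1 := by
    intro u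
    have := pow_orderOf_eq_one u.1
    rwa [u.2.1] at this
  have hψ : Function.Injective ψ := by
    rintro (_ | ⟨u, k⟩) (_ | ⟨u', k'⟩) h
    · rfl
    · exfalso
      have h2 : g₀ = u'.1 * z ^ (k' : ℕ) := congrArg Subtype.val h
      apply hne
      rw [h2, hpow u'.1 k' 6 u'.2.2]
      have : u'.1 ^ 6 = 1 := by
        calc u'.1 ^ 6 = (u'.1 ^ 2) ^ 3 := by rw [← pow_mul]
          _ = 1 := by rw [hu2 u', one_pow]
      rw [this, one_mul, mul_comm (k' : ℕ) 6, show 6 = 3 * 2 from rfl, mul_assoc, pow_mul, hz3',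
        one_pow]
    · exfalso
      have h2 : u.1 * z ^ (k : ℕ) = g₀ := congrArg Subtype.val h
      apply hne
      rw [← h2, hpow u.1 k 6 u.2.2]
      have : u.1 ^ 6 = 1 := by
        calc u.1 ^ 6 = (u.1 ^ 2) ^ 3 := by rw [← pow_mul]
          _ = 1 := by rw [hu2 u, one_pow]
      rw [this, one_mul, mul_comm (k : ℕ) 6, show 6 = 3 * 2 from rfl, mul_assoc, pow_mul, hz3',
        one_pow]
    · have h2 : u.1 * z ^ (k : ℕ) = u'.1 * z ^ (k' : ℕ) := congrArg Subtype.val h
      have h3 : (u.1 * z ^ (k : ℕ)) ^ 3 = (u'.1 * z ^ (k' : ℕ)) ^ 3 := by rw [h2]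
      rw [hpow u.1 k 3 u.2.2, hpow u'.1 k' 3 u'.2.2, mul_comm (k : ℕ) 3, mul_comm (k' : ℕ) 3,
        pow_mul, pow_mul, hz3', one_pow, one_pow, mul_one, mul_one] at h3
      have h4 : u.1 = u'.1 := by
        calc u.1 = u.1 ^ 3 * (u.1 ^ 2)⁻¹ := by group
          _ = u'.1 ^ 3 * (u'.1 ^ 2)⁻¹ := by rw [h3, hu2 u, hu2 u']
          _ = u'.1 := by group
      have h5 : u = u' := Subtype.ext h4
      subst h5
      have h6 : z ^ (k : ℕ) = z ^ (k' : ℕ) := mul_left_cancel h2
      have h7 : (k : ℕ) = (k' : ℕ) := by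
        apply pow_injOn_Iio_orderOf (x := z)
        · rw [hz3]; exact k.2
        · rw [hz3]; exact k'.2
        · exact h6
      rw [Fin.ext h7]
  have hcard := Nat.card_le_card_of_injective ψ hψ
  rw [Finite.card_option, Nat.card_prod, Nat.card_fin] at hcard
  unfold iC at hi
  rw [hi] at hcard
  omega

end

end Cfsg.Agent.Lib.Helper72.M11Syl
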