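import Mathlib
import Cfsg.Agent.Lib.Helper72.M11SylI

set_option autoImplicit false
set_option linter.unusedSectionVars false
set_option linter.unusedVariables false

/-!
# Simple groups of order 7920: the Sylow 3-normalizer, part J (helper72)

The last case, continued: element orders and the count of elements of order 3 or 6.
-/

namespace Cfsg.Agent.Lib.Helper72.M11Syl

open MulAction Subgroup Cfsg.Agent.Lib.Helper17 Cfsg.Agent.Lib.Helper14.M11

attribute [local instance] fact11 fact5 fact3 fact2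

section

variable {G : Type*} [Group G] [Finite G] [IsSimpleGroup G]

/-- In the last case every element is a 2-element, has order 5 or 11, or has order 3 or 6. -/
theorem order_classes (hc : Nat.card G = 7920) (hn : Nat.card (Sylow 3 G) = 220)
    (H : ∀ z : G, orderOf z = 3 →
      mS z = 4 ∧ Nat.card (centralizer ({z} : Set G)) = 36 ∧ iC z = 3) (g : G) :
    g ^ 16 = 1 ∨ orderOf g = 5 ∨ orderOf g = 11 ∨ (g ^ 6 = 1 ∧ g ^ 2 ≠ 1) := by
  set n := orderOf g with hn'
  have hn0 : 0 < n := orderOf_pos g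
  have hdvd : n ∣ 7920 := by rw [← hc]; exact orderOf_dvd_natCard g
  have hpowc : ∀ k : ℕ, g * g ^ k = g ^ k * g := fun k => ((Commute.refl g).pow_right k).eq
  have hord : ∀ p : ℕ, p ∣ n → 0 < p → orderOf (g ^ (n / p)) = p := by
    intro p hp hp0
    have h1 : n / p ≠ 0 := by
      have := Nat.div_pos (Nat.le_of_dvd hn0 hp) hp0
      omega
    rw [orderOf_pow_of_dvd h1 (Nat.div_dvd_of_dvd hp), ← hn', Nat.div_div_self hp hn0.ne']
  by_cases h5 : 5 ∣ n
  · right; left
    have hy := hord 5 h5 (by norm_num)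
    have := orderOf_dvd_five_of_commute hc _ g hy (hpowc _)
    exact Nat.dvd_antisymm this h5
  by_cases h11 : 11 ∣ n
  · right; right; left
    have hy := hord 11 h11 (by norm_num)
    have := orderOf_dvd_eleven_of_commute hc _ g hy (hpowc _)
    exact Nat.dvd_antisymm this h11
  have h144 : n ∣ 144 := by
    have hcop : Nat.Coprime n 55 := by
      have : (55 : ℕ) = 5 * 11 := by norm_num
      rw [this]
      apply Nat.Coprime.mul_right
      · rw [Nat.coprime_comm]; exact (Nat.Prime.coprime_iff_not_dvd (by norm_num)).2 h5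
      · rw [Nat.coprime_comm]; exact (Nat.Prime.coprime_iff_not_dvd (by norm_num)).2 h11
    have h2 : n ∣ 144 * 55 := by norm_num; exact hdvd
    exact hcop.dvd_of_dvd_mul_right h2
  by_cases h3 : 3 ∣ n
  · right; right; right
    have hz := hord 3 h3 (by norm_num)
    obtain ⟨hm, hcC, hi⟩ := H _ hz
    refine ⟨pow_six_eq_one hc hn _ hz hm hcC hi g (hpowc _), ?_⟩
    intro h2
    have := orderOf_dvd_of_pow_eq_one h2
    have h4 : 3 ∣ 2 := h3.trans this
    norm_num at h4
  · left
    have hcop : Nat.Coprime n 9 := by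
      have : (9 : ℕ) = 3 ^ 2 := by norm_num
      rw [this]
      apply Nat.Coprime.pow_right
      rw [Nat.coprime_comm]; exact (Nat.Prime.coprime_iff_not_dvd (by norm_num)).2 h3
    have h2 : n ∣ 16 * 9 := by norm_num; exact h144
    have h16 : n ∣ 16 := hcop.dvd_of_dvd_mul_right h2
    exact orderOf_dvd_iff_pow_eq_one.1 h16

/-- The number of solutions of `v ^ 2 = 1` in `C(z)` is `1 + iC z`. -/
theorem card_sq_eq_one_centralizer (z : G) :
    Nat.card {v : G // v ^ 2 = 1 ∧ v * z = z * v} = 1 + iC z := by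
  have h3 := card_subtype_and_add (fun v : G => v ^ 2 = 1 ∧ v * z = z * v) (fun v : G => v = 1)
  have h4 : Nat.card {v : G // (v ^ 2 = 1 ∧ v * z = z * v) ∧ v = 1} = 1 := by
    rw [Nat.card_eq_one_iff_unique]
    refine ⟨⟨?_⟩, ⟨⟨1, by simp⟩⟩⟩
    intro a b
    apply Subtype.ext
    rw [a.2.2, b.2.2]
  have h5 : Nat.card {v : G // (v ^ 2 = 1 ∧ v * z = z * v) ∧ ¬ v = 1} = iC z := by
    unfold iC
    apply Nat.card_congr
    refine Equiv.subtypeEquivRight ?_
    intro v
    constructor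
    · rintro ⟨⟨h1, h2⟩, h3⟩
      exact ⟨orderOf_eq_prime_iff.2 ⟨h1, h3⟩, h2⟩
    · rintro ⟨h1, h2⟩
      have := orderOf_eq_prime_iff.1 h1
      exact ⟨⟨this.1, h2⟩, this.2⟩
  omega

/-- In the last case there are at most 1760 elements of order 3 or 6. -/
theorem card_order_three_or_six
    (H : ∀ z : G, orderOf z = 3 →
      mS z = 4 ∧ Nat.card (centralizer ({z} : Set G)) = 36 ∧ iC z = 3)
    (h440 : Nat.card {z : G // orderOf z = 3} = 440) :
    Nat.card {g : G // g ^ 6 = 1 ∧ g ^ 2 ≠ 1} ≤ 1760 := by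
  classical
  have := Fintype.ofFinite {z : G // orderOf z = 3}
  have h4ne : ∀ g : G, g ^ 6 = 1 → g ^ 2 ≠ 1 → orderOf (g ^ 4) = 3 := by
    intro g h6 h2
    apply orderOf_eq_prime
    · rw [← pow_mul]
      calc g ^ (4 * 3) = (g ^ 6) ^ 2 := by rw [← pow_mul]
        _ = 1 := by rw [h6, one_pow]
    · intro h4
      apply h2
      calc g ^ 2 = g ^ 6 * (g ^ 4)⁻¹ := by group
        _ = 1 := by rw [h6, h4]; simp
  let χ : {g : G // g ^ 6 = 1 ∧ g ^ 2 ≠ 1} →
      (Σ z : {z : G // orderOf z = 3}, {v : G // v ^ 2 = 1 ∧ v * z.1 = z.1 * v}) := fun g =>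
    ⟨⟨g.1 ^ 4, h4ne g.1 g.2.1 g.2.2⟩, ⟨g.1 ^ 3, by
      rw [← pow_mul]; exact g.2.1, (pow_mul_comm g.1 3 4)⟩⟩
  have hχ : Function.Injective χ := by
    intro a b h
    have h1 : a.1 ^ 4 = b.1 ^ 4 := congrArg (fun p => p.1.1) h
    have h2 : a.1 ^ 3 = b.1 ^ 3 := by
      have := congrArg (fun p => p.2.1) h
      exact this
    apply Subtype.ext
    calc a.1 = a.1 ^ 4 * (a.1 ^ 3)⁻¹ := by group
      _ = b.1 ^ 4 * (b.1 ^ 3)⁻¹ := by rw [h1, h2]
      _ = b.1 := by group
  have hcard := Nat.card_le_card_of_injective χ hχ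
  rw [Nat.card_sigma] at hcard
  have h4 : ∀ z : {z : G // orderOf z = 3},
      Nat.card {v : G // v ^ 2 = 1 ∧ v * z.1 = z.1 * v} = 4 := by
    intro z
    rw [card_sq_eq_one_centralizer, (H z.1 z.2).2.2]
  simp only [h4, Finset.sum_const, Finset.card_univ, smul_eq_mul] at hcard
  rw [← Nat.card_eq_fintype_card, h440] at hcard
  omega

end

end Cfsg.Agent.Lib.Helper72.M11Syl
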