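import Mathlib
import Cfsg.Agent.Lib.Helper72.M11SylJ

set_option autoImplicit false
set_option linter.unusedSectionVars false
set_option linter.unusedVariables false

/-!
# Simple groups of order 7920: the Sylow 3-normalizer, part K (helper72)

The last case, concluded: each involution centralizer contains at most sixteen 2-elements, which is
too few for the group.
-/

namespace Cfsg.Agent.Lib.Helper72.M11Syl

open MulAction Subgroup Cfsg.Agent.Lib.Helper17 Cfsg.Agent.Lib.Helper14.M11

attribute [local instance] fact11 fact5 fact3 fact2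

/-- powers of `v * z` for commuting `v` of order dividing 2 and `z` of order dividing 3 -/
theorem mul_pow_two_three {G : Type*} [Group G] {v z : G} (hv : v ^ 2 = 1) (hz : z ^ 3 = 1)
    (hvz : v * z = z * v) : (v * z) ^ 3 = v ∧ (v * z) ^ 16 = z := by
  have hcomm : Commute v z := hvz
  constructor
  · rw [hcomm.mul_pow, hz, mul_one]
    calc v ^ 3 = v ^ 2 * v := by group
      _ = v := by rw [hv, one_mul]
  · rw [hcomm.mul_pow]
    have h1 : v ^ 16 = 1 := by
      calc v ^ 16 = (v ^ 2) ^ 8 := by rw [← pow_mul]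
        _ = 1 := by rw [hv, one_pow]
    have h2 : z ^ 16 = z := by
      calc z ^ 16 = (z ^ 3) ^ 5 * z := by rw [← pow_mul]; group
        _ = z := by rw [hz, one_pow, one_mul]
    rw [h1, h2, one_mul]

section

variable {G : Type*} [Group G] [Finite G] [IsSimpleGroup G]

/-- In the last case, an involution `t` and an element `z₀` of order 3 commuting with it commute
with a further involution. -/
theorem exists_other_involution (hc : Nat.card G = 7920) (hn : Nat.card (Sylow 3 G) = 220)
    (H : ∀ z : G, orderOf z = 3 →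
      mS z = 4 ∧ Nat.card (centralizer ({z} : Set G)) = 36 ∧ iC z = 3)
    (t z₀ : G) (ht : orderOf t = 2) (hz₀ : orderOf z₀ = 3) (htz : t * z₀ = z₀ * t) :
    ∃ u : G, orderOf u = 2 ∧ u ≠ t ∧ u * t = t * u ∧ u * z₀ = z₀ * u := by
  obtain ⟨hm, hcC, hi⟩ := H z₀ hz₀
  set K' : Subgroup G := centralizer ({t} : Set G) ⊓ centralizer ({z₀} : Set G) with hK'
  have h1 := class_size_inf z₀ t htz
  have h2 := class_le_iC z₀ t ht htz
  rw [hi] at h2
  rw [hcC] at h1
  have h3 : Nat.card K' ∣ 48 := by
    rw [← card_centralizer_involution hc t ht]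
    exact Subgroup.card_dvd_of_le inf_le_left
  have h4 : Nat.card K' ∣ 36 := Dvd.intro_left _ h1
  have h5 : Nat.card K' ∣ Nat.gcd 48 36 := Nat.dvd_gcd h3 h4
  have h6 : Nat.card K' ≤ 12 := Nat.le_of_dvd (by norm_num) h5
  have h12 : Nat.card K' = 12 := by
    set n := Nat.card {v : centralizer ({z₀} : Set G) //
      IsConj (⟨t, Subgroup.mem_centralizer_singleton_iff.2 htz⟩ :
        centralizer ({z₀} : Set G)) v}
    nlinarith
  have hfrob := Cfsg.Agent.Lib.Helper40.frobenius_dvd (G := K') 4 (by rw [h12]; norm_num)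
  have hpos : 0 < Nat.card {x : K' // x ^ 4 = 1} := by
    have : Nonempty {x : K' // x ^ 4 = 1} := ⟨⟨1, one_pow 4⟩⟩
    exact Nat.card_pos
  have h4le : 4 ≤ Nat.card {x : K' // x ^ 4 = 1} := Nat.le_of_dvd hpos hfrob
  have htK : t ∈ K' := Subgroup.mem_inf.2
    ⟨Subgroup.mem_centralizer_singleton_iff.2 rfl, Subgroup.mem_centralizer_singleton_iff.2 htz⟩
  have hex : ∃ g : K', g ^ 4 = 1 ∧ g ≠ 1 ∧ g ≠ ⟨t, htK⟩ := by
    by_contra hcon
    push Not at hcon
    classical
    let β : {x : K' // x ^ 4 = 1} → Bool := fun x => decide (x.1 = 1)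
    have hβ : Function.Injective β := by
      intro a b hab
      apply Subtype.ext
      by_cases ha : a.1 = 1
      · have hb : b.1 = 1 := by
          have : decide (a.1 = 1) = decide (b.1 = 1) := hab
          simpa [ha] using this
        rw [ha, hb]
      · have hb : ¬ b.1 = 1 := by
          have : decide (a.1 = 1) = decide (b.1 = 1) := hab
          simpa [ha] using this
        rw [hcon a.1 a.2 ha, hcon b.1 b.2 hb]
    have := Nat.card_le_card_of_injective β hβ
    rw [Nat.card_eq_fintype_card (α := Bool), Fintype.card_bool] at this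
    omega
  obtain ⟨g, hg4, hg1, hgt⟩ := hex
  have hgt' : (g : G) * t = t * g :=
    Subgroup.mem_centralizer_singleton_iff.1 (Subgroup.mem_inf.1 g.2).1
  have hgz : (g : G) * z₀ = z₀ * g :=
    Subgroup.mem_centralizer_singleton_iff.1 (Subgroup.mem_inf.1 g.2).2
  have hg4' : (g : G) ^ 4 = 1 := by
    have := congrArg Subtype.val hg4
    simpa using this
  have hg6 : (g : G) ^ 6 = 1 := pow_six_eq_one hc hn z₀ hz₀ hm hcC hi g hgz
  have hg2 : (g : G) ^ 2 = 1 := by
    calc (g : G) ^ 2 = (g : G) ^ 6 * ((g : G) ^ 4)⁻¹ := by group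
      _ = 1 := by rw [hg6, hg4']; simp
  have hg1' : (g : G) ≠ 1 := fun h => hg1 (Subtype.ext h)
  refine ⟨g, orderOf_eq_prime hg2 hg1', ?_, hgt', hgz⟩
  intro h
  exact hgt (Subtype.ext h)

/-- In the last case, an involution centralizer contains at most sixteen 2-elements. -/
theorem card_two_elements_centralizer (hc : Nat.card G = 7920) (hn : Nat.card (Sylow 3 G) = 220)
    (H : ∀ z : G, orderOf z = 3 →
      mS z = 4 ∧ Nat.card (centralizer ({z} : Set G)) = 36 ∧ iC z = 3)
    (hw : ∀ t : G, orderOf t = 2 → wC t = 8) (t : G) (ht : orderOf t = 2) :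
    Nat.card {g : G // g * t = t * g ∧ g ^ 16 = 1} ≤ 16 := by
  classical
  set L := centralizer ({t} : Set G) with hL
  have hLc : Nat.card L = 48 := card_centralizer_involution hc t ht
  have hfrob := Cfsg.Agent.Lib.Helper40.frobenius_dvd (G := L) 16 (by rw [hLc]; norm_num)
  have e : Nat.card {g : L // g ^ 16 = 1} = Nat.card {g : G // g * t = t * g ∧ g ^ 16 = 1} := by
    apply Nat.card_congr
    refine ⟨fun g => ⟨g.1.1, Subgroup.mem_centralizer_singleton_iff.1 g.1.2, ?_⟩,
      fun g => ⟨⟨g.1, Subgroup.mem_centralizer_singleton_iff.2 g.2.1⟩, ?_⟩, ?_, ?_⟩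
    · have := congrArg Subtype.val g.2
      simpa using this
    · apply Subtype.ext
      simpa using g.2.2
    · intro g; rfl
    · intro g; rfl
  rw [e] at hfrob
  have hsplit := card_subtype_and_add (fun g : G => g * t = t * g) (fun g => g ^ 16 = 1)
  have h48 : Nat.card {g : G // g * t = t * g} = 48 := by
    rw [← hLc]
    apply Nat.card_congr
    refine Equiv.subtypeEquivRight ?_
    intro g
    exact Subgroup.mem_centralizer_singleton_iff.symm
  rw [h48] at hsplit
  -- seventeen elements which are not 2-elements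
  have hW : Nat.card {z : G // orderOf z = 3 ∧ z * t = t * z} = 8 := hw t ht
  have hWne : Nonempty {z : G // orderOf z = 3 ∧ z * t = t * z} := by
    have : 0 < Nat.card {z : G // orderOf z = 3 ∧ z * t = t * z} := by rw [hW]; norm_num
    exact (Nat.card_pos_iff.1 this).1
  obtain ⟨z₀⟩ := hWne
  obtain ⟨u, hu2, hut, hutc, huz⟩ :=
    exists_other_involution hc hn H t z₀.1 ht z₀.2.1 z₀.2.2.symm
  have ht2 : t ^ 2 = 1 := by
    have := pow_orderOf_eq_one t
    rwa [ht] at this
  have hu2' : u ^ 2 = 1 := by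
    have := pow_orderOf_eq_one u
    rwa [hu2] at this
  have ht1 : t ≠ 1 := by
    intro h; rw [h, orderOf_one] at ht; omega
  have hu1 : u ≠ 1 := by
    intro h; rw [h, orderOf_one] at hu2; omega
  have hz3 : ∀ z : {z : G // orderOf z = 3 ∧ z * t = t * z}, z.1 ^ 3 = 1 := by
    intro z
    have := pow_orderOf_eq_one z.1
    rwa [z.2.1] at this
  have hz1 : ∀ z : {z : G // orderOf z = 3 ∧ z * t = t * z}, z.1 ≠ 1 := by
    intro z h
    have := z.2.1
    rw [h, orderOf_one] at this
    omega
  let vf : Option (Bool × {z : G // orderOf z = 3 ∧ z * t = t * z}) → G := fun a =>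
    match a with
    | none => u
    | some (false, _) => 1
    | some (true, _) => t
  let zf : Option (Bool × {z : G // orderOf z = 3 ∧ z * t = t * z}) →
      {z : G // orderOf z = 3 ∧ z * t = t * z} := fun a =>
    match a with
    | none => z₀
    | some (_, z) => z
  have hv2 : ∀ a, (vf a) ^ 2 = 1 := by
    rintro (_ | ⟨_ | _, z⟩)
    · exact hu2'
    · exact one_pow 2
    · exact ht2
  have hvt : ∀ a, vf a * t = t * vf a := by
    rintro (_ | ⟨_ | _, z⟩)
    · exact hutc
    · simp [vf]
    · rfl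
  have hvz : ∀ a, vf a * (zf a).1 = (zf a).1 * vf a := by
    rintro (_ | ⟨_ | _, z⟩)
    · exact huz
    · simp [vf]
    · exact z.2.2.symm
  let ψ : Option (Bool × {z : G // orderOf z = 3 ∧ z * t = t * z}) →
      {g : G // g * t = t * g ∧ ¬ g ^ 16 = 1} := fun a =>
    ⟨vf a * (zf a).1, by
      rw [mul_assoc, (zf a).2.2, ← mul_assoc, hvt a, mul_assoc], by
      rw [(mul_pow_two_three (hv2 a) (hz3 (zf a)) (hvz a)).2]
      exact hz1 (zf a)⟩
  have hψ : Function.Injective ψ := by
    intro a b hab
    have h0 : vf a * (zf a).1 = vf b * (zf b).1 := congrArg Subtype.val hab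
    have h1 : vf a = vf b := by
      have : (vf a * (zf a).1) ^ 3 = (vf b * (zf b).1) ^ 3 := by rw [h0]
      rwa [(mul_pow_two_three (hv2 a) (hz3 (zf a)) (hvz a)).1,
        (mul_pow_two_three (hv2 b) (hz3 (zf b)) (hvz b)).1] at this
    have h2 : (zf a).1 = (zf b).1 := by
      have : (vf a * (zf a).1) ^ 16 = (vf b * (zf b).1) ^ 16 := by rw [h0]
      rwa [(mul_pow_two_three (hv2 a) (hz3 (zf a)) (hvz a)).2,
        (mul_pow_two_three (hv2 b) (hz3 (zf b)) (hvz b)).2] at this
    have h2' : zf a = zf b := Subtype.ext h2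
    rcases a with (_ | ⟨_ | _, z⟩) <;> rcases b with (_ | ⟨_ | _, z'⟩)
    · rfl
    · exact absurd h1 hu1
    · exact absurd h1 hut
    · exact absurd h1.symm hu1
    · have : z = z' := h2'
      rw [this]
    · exact absurd h1.symm ht1
    · exact absurd h1.symm hut
    · exact absurd h1 ht1
    · have : z = z' := h2'
      rw [this]
  have hcard := Nat.card_le_card_of_injective ψ hψ
  rw [Finite.card_option, Nat.card_prod, hW, Nat.card_eq_fintype_card (α := Bool),
    Fintype.card_bool] at hcard
  obtain ⟨k, hk⟩ := hfrob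
  omega

end

end Cfsg.Agent.Lib.Helper72.M11Syl
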