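import Mathlib
import Cfsg.Agent.Lib.Helper72.M11SylK

set_option autoImplicit false
set_option linter.unusedSectionVars false
set_option linter.unusedVariables false

/-!
# Simple groups of order 7920: the Sylow 3-normalizer, part L (helper72)

Final count and the main theorem: `|N_G(P)| = 144` for a Sylow 3-subgroup `P`.
-/

namespace Cfsg.Agent.Lib.Helper72.M11Syl

open MulAction Subgroup Cfsg.Agent.Lib.Helper17 Cfsg.Agent.Lib.Helper14.M11

attribute [local instance] fact11 fact5 fact3 fact2

section

variable {G : Type*} [Group G] [Finite G] [IsSimpleGroup G]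

open scoped Classical in
/-- In the last case there are at most 2641 elements of 2-power order. -/
theorem card_two_elements [Fintype G] (hc : Nat.card G = 7920)
    (hn : Nat.card (Sylow 3 G) = 220)
    (H : ∀ z : G, orderOf z = 3 →
      mS z = 4 ∧ Nat.card (centralizer ({z} : Set G)) = 36 ∧ iC z = 3)
    (hw : ∀ t : G, orderOf t = 2 → wC t = 8) :
    (Finset.univ.filter (fun g : G => g ^ 16 = 1)).card ≤ 2641 := by
  set Inv := Finset.univ.filter (fun t : G => orderOf t = 2) with hInv
  have hInvc : Inv.card = 165 := by
    have := card_involutions hc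
    rw [Nat.card_eq_fintype_card, Fintype.card_subtype] at this
    exact this
  have hsub : Finset.univ.filter (fun g : G => g ^ 16 = 1) ⊆
      insert (1 : G) (Inv.biUnion (fun t => Finset.univ.filter
        (fun g : G => g * t = t * g ∧ g ^ 16 = 1))) := by
    intro g hg
    simp only [Finset.mem_filter, Finset.mem_univ, true_and] at hg
    rw [Finset.mem_insert]
    by_cases hg1 : g = 1
    · left; exact hg1
    · right
      rw [Finset.mem_biUnion]
      set n := orderOf g with hn'
      have hn0 : 0 < n := orderOf_pos g
      have hn16 : n ∣ 2 ^ 4 := by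
        have := orderOf_dvd_of_pow_eq_one hg
        norm_num
        exact this
      obtain ⟨k, hk4, hk⟩ := (Nat.dvd_prime_pow Nat.prime_two).1 hn16
      have hk0 : k ≠ 0 := by
        intro h0
        rw [h0, pow_zero] at hk
        exact hg1 (orderOf_eq_one_iff.1 (hn'.trans hk))
      have h2n : 2 ∣ n := by
        rw [hk]; exact dvd_pow_self 2 hk0
      have h1 : n / 2 ≠ 0 := by
        have := Nat.div_pos (Nat.le_of_dvd hn0 h2n) (by norm_num : 0 < 2)
        omega
      have hord : orderOf (g ^ (n / 2)) = 2 := by
        rw [orderOf_pow_of_dvd h1 (Nat.div_dvd_of_dvd h2n), ← hn', Nat.div_div_self h2n hn0.ne']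
      refine ⟨g ^ (n / 2), ?_, ?_⟩
      · simp only [hInv, Finset.mem_filter, Finset.mem_univ, true_and]
        exact hord
      · simp only [Finset.mem_filter, Finset.mem_univ, true_and]
        exact ⟨((Commute.refl g).pow_right _).eq, hg⟩
  have h1 := Finset.card_le_card hsub
  have h2 := Finset.card_insert_le (1 : G) (Inv.biUnion (fun t => Finset.univ.filter
        (fun g : G => g * t = t * g ∧ g ^ 16 = 1)))
  have h3 : (Inv.biUnion (fun t => Finset.univ.filter
      (fun g : G => g * t = t * g ∧ g ^ 16 = 1))).card ≤ Inv.card * 16 := by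
    apply Finset.card_biUnion_le_card_mul
    intro t ht
    simp only [hInv, Finset.mem_filter, Finset.mem_univ, true_and] at ht
    have := card_two_elements_centralizer hc hn H hw t ht
    rw [Nat.card_eq_fintype_card, Fintype.card_subtype] at this
    exact this
  rw [hInvc] at h3
  omega

open scoped Classical in
/-- The last case is impossible. -/
theorem lastCase_false [Fintype G] (hc : Nat.card G = 7920) (hn : Nat.card (Sylow 3 G) = 220)
    (H : ∀ z : G, orderOf z = 3 →
      mS z = 4 ∧ Nat.card (centralizer ({z} : Set G)) = 36 ∧ iC z = 3)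
    (hw : ∀ t : G, orderOf t = 2 → wC t = 8)
    (h440 : Nat.card {z : G // orderOf z = 3} = 440) : False := by
  have hA := card_two_elements hc hn H hw
  have hB : (Finset.univ.filter (fun g : G => orderOf g = 5)).card = 1584 := by
    have := card_orderOf_eq_prime (G := G) (p := 5) (card_sylow5_sub hc)
    rw [card_sylow5 hc, Nat.card_eq_fintype_card, Fintype.card_subtype] at this
    rw [this]
  have hC : (Finset.univ.filter (fun g : G => orderOf g = 11)).card = 1440 := by
    have := card_orderOf_eq_prime (G := G) (p := 11) (card_sylow11_sub hc)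
    rw [card_sylow11 hc, Nat.card_eq_fintype_card, Fintype.card_subtype] at this
    rw [this]
  have hD : (Finset.univ.filter (fun g : G => g ^ 6 = 1 ∧ g ^ 2 ≠ 1)).card ≤ 1760 := by
    have := card_order_three_or_six H h440
    rw [Nat.card_eq_fintype_card, Fintype.card_subtype] at this
    exact this
  have hsub : (Finset.univ : Finset G) ⊆
      ((Finset.univ.filter (fun g : G => g ^ 16 = 1)) ∪
        (Finset.univ.filter (fun g : G => orderOf g = 5))) ∪
      ((Finset.univ.filter (fun g : G => orderOf g = 11)) ∪
        (Finset.univ.filter (fun g : G => g ^ 6 = 1 ∧ g ^ 2 ≠ 1))) := by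
    intro g _
    simp only [Finset.mem_union, Finset.mem_filter, Finset.mem_univ, true_and]
    rcases order_classes hc hn H g with h | h | h | h
    · left; left; exact h
    · left; right; exact h
    · right; left; exact h
    · right; right; exact h
  have h1 := Finset.card_le_card hsub
  have h2 := Finset.card_union_le
    ((Finset.univ.filter (fun g : G => g ^ 16 = 1)) ∪
        (Finset.univ.filter (fun g : G => orderOf g = 5)))
    ((Finset.univ.filter (fun g : G => orderOf g = 11)) ∪
        (Finset.univ.filter (fun g : G => g ^ 6 = 1 ∧ g ^ 2 ≠ 1)))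
  have h3 := Finset.card_union_le (Finset.univ.filter (fun g : G => g ^ 16 = 1))
    (Finset.univ.filter (fun g : G => orderOf g = 5))
  have h4 := Finset.card_union_le (Finset.univ.filter (fun g : G => orderOf g = 11))
    (Finset.univ.filter (fun g : G => g ^ 6 = 1 ∧ g ^ 2 ≠ 1))
  rw [Finset.card_univ, ← Nat.card_eq_fintype_card, hc] at h1
  omega

/-- A simple group of order 7920 does not have 220 Sylow 3-subgroups. -/
theorem card_sylow3_ne_220 (hc : Nat.card G = 7920) : Nat.card (Sylow 3 G) ≠ 220 := by
  intro hn
  classical
  have := Fintype.ofFinite G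
  obtain ⟨P⟩ := (Sylow.nonempty : Nonempty (Sylow 3 G))
  rcases alpha_cases hc hn P with hA | ⟨h4, h16, hT4, hT16⟩
  · obtain ⟨t, ht⟩ := exists_prime_orderOf_dvd_card' (G := G) 2 (by rw [hc]; norm_num)
    obtain ⟨hw8, hall⟩ := caseA hc hn P hA t ht
    have hw : ∀ t' : G, orderOf t' = 2 → wC t' = 8 := by
      intro t' ht'
      rw [wC_eq_of_orderOf_two hc t t' ht ht', hw8]
    have H : ∀ z : G, orderOf z = 3 →
        mS z = 4 ∧ Nat.card (centralizer ({z} : Set G)) = 36 ∧ iC z = 3 := by
      intro z hz
      obtain ⟨g, x, hx, hx1, rfl⟩ := exists_conj_mem P z hz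
      have hxP : x ∈ Finset.univ.filter (fun x : G => x ∈ (P : Subgroup G) ∧ x ≠ 1) := by
        simp only [Finset.mem_filter, Finset.mem_univ, true_and]
        exact ⟨hx, hx1⟩
      refine ⟨by rw [mS_conj]; exact hA x hxP, ?_, by rw [iC_conj]; exact (hall x hxP).2⟩
      rw [card_centralizer_eq_of_isConj (isConj_iff.2 ⟨g, rfl⟩)]
      exact (hall x hxP).1
    have h440 : Nat.card {z : G // orderOf z = 3} = 440 := by
      have d := double_count hc hn P (fun _ => 1) (fun _ _ => rfl)
      have d' : ∑ z ∈ Finset.univ.filter (fun z : G => orderOf z = 3), mS z * 1 =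
          4 * (Finset.univ.filter (fun z : G => orderOf z = 3)).card := by
        rw [Finset.card_eq_sum_ones, Finset.mul_sum]
        apply Finset.sum_congr rfl
        intro z hz
        simp only [Finset.mem_filter, Finset.mem_univ, true_and] at hz
        rw [(H z hz).1]
      rw [d', Finset.sum_const, card_Pf hc P, smul_eq_mul] at d
      rw [Nat.card_eq_fintype_card, Fintype.card_subtype]
      omega
    exact lastCase_false hc hn H hw h440
  · exact caseB_false hc hn P h4 h16 hT4 hT16

/-- **Main theorem**: in a simple group of order 7920, the normalizer of a Sylow 3-subgroup has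
order 144. -/
theorem card_normalizer_sylow3 (hc : Nat.card G = 7920) (P : Sylow 3 G) :
    Nat.card (normalizer ((P : Subgroup G) : Set G)) = 144 := by
  rcases card_normalizer_sylow3_mem hc P with h | h | h
  · exact absurd h (card_normalizer_sylow3_ne_nine hc P)
  · exfalso
    apply card_sylow3_ne_220 hc
    have hmul := card_sylow_mul_card_normalizer P
    rw [hc, h] at hmul
    omega
  · exact h

end

end Cfsg.Agent.Lib.Helper72.M11Syl
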