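import Mathlib

/-!
# Groups in which every `p`-element has class size prime to `p`

* the condition passes to normal subgroups and to quotients;
* if `N ⊴ G`, the Sylow `p`-subgroups of `N` and of `G ⧸ N` are abelian and every `p`-element of
  `G` has class size prime to `p`, then the Sylow `p`-subgroups of `G` are abelian
  (`P = (P ∩ N) Z(P)`).
-/

namespace Cfsg.Agent.Lib.Helper72

open Subgroup Pointwise

variable {G : Type*} [Group G]

/-- For `M` normal, `[HM : H] = [M : M ∩ H]`. -/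
theorem pcs_card_mul_relIndex {H K : Subgroup G} (h : H ≤ K) :
    Nat.card H * H.relIndex K = Nat.card K := by
  have h1 := (H.subgroupOf K).card_mul_index
  rwa [Nat.card_congr (Subgroup.subgroupOfEquivOfLe h).toEquiv] at h1

/-- For `M` normal, `[HM : H] = [M : M ∩ H]`. -/
theorem pcs_relIndex_sup_of_normal [Finite G] (H M : Subgroup G) [M.Normal] :
    H.relIndex (H ⊔ M) = H.relIndex M := by
  have e1 := pcs_card_mul_relIndex (le_sup_left : H ≤ H ⊔ M)
  have e2 := pcs_card_mul_relIndex (le_sup_right : M ≤ H ⊔ M)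
  rw [Subgroup.relIndex_sup_right] at e2
  have e3 := pcs_card_mul_relIndex (inf_le_left : H ⊓ M ≤ H)
  rw [Subgroup.inf_relIndex_left] at e3
  have e4 := pcs_card_mul_relIndex (inf_le_right : H ⊓ M ≤ M)
  rw [Subgroup.inf_relIndex_right] at e4
  have hpos : 0 < Nat.card H := Nat.card_pos
  apply Nat.eq_of_mul_eq_mul_left hpos
  rw [e1, ← e2, ← e4, ← e3]
  ring

/-- For `M` normal, `[M : M ∩ H]` divides `[G : H]`. -/
theorem pcs_relIndex_dvd_index [Finite G] (H M : Subgroup G) [M.Normal] :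
    H.relIndex M ∣ H.index := by
  rw [← pcs_relIndex_sup_of_normal H M]
  exact Dvd.intro _ (Subgroup.relIndex_mul_index (le_sup_left : H ≤ H ⊔ M))

/-- A subgroup of index prime to `p` contains a Sylow `p`-subgroup. -/
theorem pcs_exists_sylow_le [Finite G] (p : ℕ) [Fact p.Prime] (H : Subgroup G)
    (h : ¬ p ∣ H.index) : ∃ S : Sylow p G, (S : Subgroup G) ≤ H := by
  obtain ⟨P1⟩ : Nonempty (Sylow p H) := inferInstance
  have hP2 : IsPGroup p ((P1 : Subgroup H).map H.subtype) := P1.2.map _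
  have hP2idx : ¬ p ∣ ((P1 : Subgroup H).map H.subtype).index := by
    rw [Subgroup.index_map_subtype]
    exact Nat.Prime.not_dvd_mul Fact.out P1.not_dvd_index h
  refine ⟨hP2.toSylow hP2idx, ?_⟩
  intro x hx
  have hx' : x ∈ (P1 : Subgroup H).map H.subtype := (IsPGroup.mem_toSylow hP2 hP2idx).mp hx
  exact Subgroup.map_subtype_le _ hx'

/-- The class-size condition passes to a normal subgroup. -/
theorem pcs_sub [Finite G] {p : ℕ} (N : Subgroup G) [N.Normal] (x : N)
    (h : ¬ p ∣ (centralizer ({(x : G)} : Set G)).index) :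
    ¬ p ∣ (centralizer ({x} : Set N)).index := by
  have hc : centralizer ({x} : Set N) = (centralizer ({(x : G)} : Set G)).subgroupOf N := by
    ext y
    rw [mem_subgroupOf, mem_centralizer_iff, mem_centralizer_iff]
    constructor
    · intro hy t ht
      rw [Set.mem_singleton_iff] at ht
      subst ht
      have := hy x rfl
      exact congrArg Subtype.val this
    · intro hy t ht
      rw [Set.mem_singleton_iff] at ht
      subst ht
      exact Subtype.ext (hy _ rfl)
  rw [hc]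
  exact fun hd => h (hd.trans (pcs_relIndex_dvd_index _ N))

/-- Elements of a `p`-subgroup have `p`-power order. -/
theorem pcs_orderOf_of_mem {p : ℕ} [Fact p.Prime] {Q : Subgroup G} (hQ : IsPGroup p Q) {x : G}
    (hx : x ∈ Q) : ∃ k : ℕ, orderOf x = p ^ k := by
  obtain ⟨k, hk⟩ := hQ ⟨x, hx⟩
  have hk' : x ^ p ^ k = 1 := by
    have := congrArg Subtype.val hk
    simpa using this
  obtain ⟨j, _, hj⟩ := (Nat.dvd_prime_pow Fact.out).1 (orderOf_dvd_of_pow_eq_one hk')
  exact ⟨j, hj⟩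

/-- The class-size condition passes to a quotient. -/
theorem pcs_quot [Finite G] {p : ℕ} [Fact p.Prime] (N : Subgroup G) [N.Normal]
    (hcl : ∀ x : G, (∃ k : ℕ, orderOf x = p ^ k) →
      ¬ p ∣ (centralizer ({x} : Set G)).index)
    (y : G ⧸ N) (hy : ∃ k : ℕ, orderOf y = p ^ k) :
    ¬ p ∣ (centralizer ({y} : Set (G ⧸ N))).index := by
  obtain ⟨k, hk⟩ := hy
  have hz : IsPGroup p (zpowers y) := by
    apply IsPGroup.of_card (n := k)
    rw [Nat.card_zpowers, hk]
  obtain ⟨Qb, hQb⟩ := hz.exists_le_sylow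
  obtain ⟨Q, hQ⟩ := Sylow.mapSurjective_surjective (QuotientGroup.mk'_surjective N) p Qb
  have hyQ : y ∈ (Q : Subgroup G).map (QuotientGroup.mk' N) := by
    have : y ∈ (Qb : Subgroup (G ⧸ N)) := hQb (mem_zpowers y)
    rw [← hQ] at this
    exact this
  obtain ⟨x, hxQ, hxy⟩ := hyQ
  have hx := hcl x (pcs_orderOf_of_mem Q.2 hxQ)
  have hle : centralizer ({x} : Set G) ≤
      (centralizer ({y} : Set (G ⧸ N))).comap (QuotientGroup.mk' N) := by
    intro g hg
    rw [mem_comap, mem_centralizer_iff]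
    intro t ht
    rw [Set.mem_singleton_iff] at ht
    subst ht
    rw [mem_centralizer_iff] at hg
    have := hg x rfl
    rw [← hxy, ← map_mul, ← map_mul, this]
  intro hd
  apply hx
  refine hd.trans ?_
  rw [← index_comap_of_surjective _ (QuotientGroup.mk'_surjective N)]
  exact index_dvd_of_le hle

/-- For `N` normal and `P` a Sylow `p`-subgroup of `G`, `P ∩ N` is a Sylow `p`-subgroup of `N`. -/
theorem pcs_sylow_inf [Finite G] {p : ℕ} [Fact p.Prime] (N : Subgroup G) [N.Normal]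
    (P : Sylow p G) : ∃ A : Sylow p N, (A : Subgroup N) = (P : Subgroup G).subgroupOf N := by
  have h1 : IsPGroup p ((P : Subgroup G).subgroupOf N) := P.2.comap_subtype
  have h2 : ¬ p ∣ ((P : Subgroup G).subgroupOf N).index := fun hd =>
    P.not_dvd_index (hd.trans (pcs_relIndex_dvd_index _ N))
  exact ⟨h1.toSylow h2, IsPGroup.toSylow_coe h1 h2⟩

/-- Two Sylow `p`-subgroups contained in a subgroup `H` are conjugate by an element of `H`. -/
theorem pcs_conj_in [Finite G] {p : ℕ} [Fact p.Prime] (P Q : Sylow p G) (H : Subgroup G)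
    (hP : (P : Subgroup G) ≤ H) (hQ : (Q : Subgroup G) ≤ H) :
    ∃ d : G, d ∈ H ∧ d • Q = P := by
  obtain ⟨d, hd⟩ := MulAction.exists_smul_eq H (Q.subtype hQ) (P.subtype hP)
  refine ⟨d, d.2, ?_⟩
  rw [Sylow.smul_subtype] at hd
  exact Sylow.subtype_injective hd

/-- Key decomposition: `P = (P ∩ N) Z(P)`. -/
theorem pcs_decomp [Finite G] {p : ℕ} [Fact p.Prime] (N : Subgroup G) [N.Normal]
    (hcl : ∀ x : G, (∃ k : ℕ, orderOf x = p ^ k) →
      ¬ p ∣ (centralizer ({x} : Set G)).index)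
    (hQ : ∀ B : Sylow p (G ⧸ N), IsMulCommutative B)
    (P : Sylow p G) (x : G) (hx : x ∈ P) :
    ∃ n z : G, n ∈ N ∧ n ∈ P ∧ z ∈ P ∧ (∀ y ∈ P, z * y = y * z) ∧ x = n * z := by
  have hxo := pcs_orderOf_of_mem P.2 hx
  obtain ⟨Q, hQC⟩ := pcs_exists_sylow_le p _ (hcl x hxo)
  have hQx : ∀ g ∈ Q, g * x = x * g := by
    intro g hg
    have := hQC hg
    rw [mem_centralizer_iff] at this
    exact (this x rfl).symm
  -- `x ∈ Q`
  have hxQ : x ∈ Q := by
    have hz : IsPGroup p (zpowers x) := by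
      obtain ⟨k, hk⟩ := hxo
      apply IsPGroup.of_card (n := k)
      rw [Nat.card_zpowers, hk]
    have := hz.inf_normalizer_sylow Q
    have hmem : x ∈ zpowers x ⊓ (Q : Subgroup G) := by
      rw [← this]
      refine ⟨mem_zpowers x, ?_⟩
      apply centralizer_le_normalizer
      rw [mem_centralizer_iff]
      intro g hg
      exact hQx g hg
    exact hmem.2
  let H : Subgroup G := (centralizer ({(QuotientGroup.mk' N x)} : Set (G ⧸ N))).comap
    (QuotientGroup.mk' N)
  have hQH : (Q : Subgroup G) ≤ H := by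
    intro g hg
    change QuotientGroup.mk' N g ∈ centralizer _
    rw [mem_centralizer_iff]
    intro t ht
    rw [Set.mem_singleton_iff] at ht
    subst ht
    rw [← map_mul, ← map_mul, hQx g hg]
  have hPH : (P : Subgroup G) ≤ H := by
    intro g hg
    change QuotientGroup.mk' N g ∈ centralizer _
    rw [mem_centralizer_iff]
    intro t ht
    rw [Set.mem_singleton_iff] at ht
    subst ht
    have hB := hQ (P.mapSurjective (QuotientGroup.mk'_surjective N))
    rw [isMulCommutative_iff] at hB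
    have h1 : QuotientGroup.mk' N g ∈ (P.mapSurjective (QuotientGroup.mk'_surjective N)) :=
      Subgroup.mem_map_of_mem _ hg
    have h2 : QuotientGroup.mk' N x ∈ (P.mapSurjective (QuotientGroup.mk'_surjective N)) :=
      Subgroup.mem_map_of_mem _ hx
    have := hB ⟨_, h2⟩ ⟨_, h1⟩
    exact congrArg Subtype.val this
  obtain ⟨d, hdH, hd⟩ := pcs_conj_in P Q H hPH hQH
  have hmemP : ∀ y : G, y ∈ P ↔ d⁻¹ * y * d ∈ Q := by
    intro y
    have h1 : y ∈ P ↔ y ∈ ((d • Q : Sylow p G) : Subgroup G) := by rw [hd]; rfl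
    rw [h1, Sylow.coe_subgroup_smul,
      Subgroup.mem_pointwise_smul_iff_inv_smul_mem, MulAut.smul_def, ← map_inv,
      MulAut.conj_apply, inv_inv]
    rfl
  have hzP : d * x * d⁻¹ ∈ P := by
    rw [hmemP]
    have : d⁻¹ * (d * x * d⁻¹) * d = x := by group
    rw [this]; exact hxQ
  refine ⟨x * (d * x * d⁻¹)⁻¹, d * x * d⁻¹, ?_, ?_, hzP, ?_, ?_⟩
  · -- in `N`
    have hdc : QuotientGroup.mk' N d ∈ centralizer ({(QuotientGroup.mk' N x)} : Set (G ⧸ N)) := hdH
    rw [mem_centralizer_iff] at hdc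
    have h := hdc _ rfl
    rw [← QuotientGroup.ker_mk' N, MonoidHom.mem_ker]
    rw [map_mul, map_inv, map_mul, map_mul, map_inv, ← h]
    group
  · exact mul_mem hx (inv_mem hzP)
  · intro y hy
    have hq := (hmemP y).1 hy
    have h := hQx _ hq
    -- `(d⁻¹ y d) * x = x * (d⁻¹ y d)`
    calc d * x * d⁻¹ * y = d * (x * (d⁻¹ * y * d)) * d⁻¹ := by group
      _ = d * ((d⁻¹ * y * d) * x) * d⁻¹ := by rw [h]
      _ = y * (d * x * d⁻¹) := by group
  · group

/-- If `N ⊴ G`, the Sylow `p`-subgroups of `N` and `G ⧸ N` are abelian, and every `p`-element of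
`G` has class size prime to `p`, then the Sylow `p`-subgroups of `G` are abelian. -/
theorem pcs_sylow_comm [Finite G] {p : ℕ} [Fact p.Prime] (N : Subgroup G) [N.Normal]
    (hcl : ∀ x : G, (∃ k : ℕ, orderOf x = p ^ k) →
      ¬ p ∣ (centralizer ({x} : Set G)).index)
    (hN : ∀ A : Sylow p N, IsMulCommutative A)
    (hQ : ∀ B : Sylow p (G ⧸ N), IsMulCommutative B)
    (P : Sylow p G) : IsMulCommutative P := by
  obtain ⟨A, hA⟩ := pcs_sylow_inf N P
  have hAc := hN A
  rw [isMulCommutative_iff] at hAc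
  have hnn : ∀ n₁ n₂ : G, n₁ ∈ N → n₁ ∈ P → n₂ ∈ N → n₂ ∈ P → n₁ * n₂ = n₂ * n₁ := by
    intro n₁ n₂ h1 h1' h2 h2'
    have m1 : (⟨n₁, h1⟩ : N) ∈ (A : Subgroup N) := by
      rw [hA, mem_subgroupOf]; exact h1'
    have m2 : (⟨n₂, h2⟩ : N) ∈ (A : Subgroup N) := by
      rw [hA, mem_subgroupOf]; exact h2'
    have := hAc ⟨_, m1⟩ ⟨_, m2⟩
    have := congrArg Subtype.val this
    exact congrArg Subtype.val this
  rw [isMulCommutative_iff]
  intro a b
  obtain ⟨n₁, z₁, hn₁, hn₁', hz₁, hc₁, e₁⟩ := pcs_decomp N hcl hQ P a a.2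
  obtain ⟨n₂, z₂, hn₂, hn₂', hz₂, hc₂, e₂⟩ := pcs_decomp N hcl hQ P b b.2
  apply Subtype.ext
  rw [Subgroup.coe_mul, Subgroup.coe_mul, e₁, e₂]
  have k1 : z₁ * n₂ = n₂ * z₁ := hc₁ n₂ hn₂'
  have k2 : z₂ * n₁ = n₁ * z₂ := hc₂ n₁ hn₁'
  have k3 : z₁ * z₂ = z₂ * z₁ := hc₁ z₂ hz₂
  have k4 := hnn n₁ n₂ hn₁ hn₁' hn₂ hn₂'
  calc n₁ * z₁ * (n₂ * z₂) = n₁ * (z₁ * n₂) * z₂ := by group
    _ = n₁ * (n₂ * z₁) * z₂ := by rw [k1]
    _ = (n₁ * n₂) * (z₁ * z₂) := by group
    _ = (n₂ * n₁) * (z₂ * z₁) := by rw [k4, k3]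
    _ = n₂ * (n₁ * z₂) * z₁ := by group
    _ = n₂ * (z₂ * n₁) * z₁ := by rw [k2]
    _ = n₂ * z₂ * (n₁ * z₁) := by group

end Cfsg.Agent.Lib.Helper72
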