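import Mathlib

/-!
# Solvability of small symmetric groups and of colour-preserving permutation groups

* `isSolvable_perm_fin_four`: `Perm (Fin 4)` is solvable.
* `isSolvable_perm_of_card_le_four`: `Perm β` is solvable when `card β ≤ 4`.
* `isSolvable_of_preserves_coloring`: a subgroup of `Perm α` all of whose elements preserve a
  colouring `col : α → ι` whose fibres have at most 4 elements is solvable.
-/

set_option autoImplicit false

namespace Cfsg.Agent.Lib.Helper72

open Equiv

theorem isSolvable_alternatingGroup_fin_four : Group.IsSolvable (alternatingGroup (Fin 4)) := by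
  have hα4 : Nat.card (Fin 4) = 4 := by simp
  have h1 : Group.IsSolvable (alternatingGroup.kleinFour (Fin 4)) := by
    have hc := alternatingGroup.kleinFour_card_of_card_eq_four hα4
    have : Fact (Nat.Prime 2) := ⟨Nat.prime_two⟩
    have hp : IsPGroup 2 (alternatingGroup.kleinFour (Fin 4)) := IsPGroup.of_card (n := 2) (by rw [hc]; norm_num)
    have := hp.isNilpotent
    infer_instance
  refine Group.isSolvable_of_ker_le_range (alternatingGroup.kleinFour (Fin 4)).subtype
    (Abelianization.of (G := alternatingGroup (Fin 4))) ?_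
  rw [Abelianization.ker_of, Subgroup.range_subtype, alternatingGroup.kleinFour_eq_commutator hα4]

theorem isSolvable_perm_fin_four : Group.IsSolvable (Equiv.Perm (Fin 4)) := by
  have := isSolvable_alternatingGroup_fin_four
  refine Group.isSolvable_of_ker_le_range (alternatingGroup (Fin 4)).subtype
    (Equiv.Perm.sign (α := Fin 4)) ?_
  rw [Subgroup.range_subtype]
  exact le_of_eq rfl

theorem isSolvable_perm_of_card_le_four {β : Type*} [Fintype β] (h : Fintype.card β ≤ 4) :
    Group.IsSolvable (Equiv.Perm β) := by
  have := isSolvable_perm_fin_four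
  obtain ⟨ι⟩ : Nonempty (β ↪ Fin 4) :=
    Function.Embedding.nonempty_of_card_le (by rw [Fintype.card_fin]; exact h)
  exact Group.isSolvable_of_isSolvable_injective (Equiv.Perm.viaEmbeddingHom_injective ι)

/-- uniform bound on the derived length of `Perm β` for `card β ≤ 4`. -/
theorem exists_derivedSeries_perm_eq_bot :
    ∃ n0 : ℕ, ∀ (β : Type*) [Fintype β], Fintype.card β ≤ 4 → derivedSeries (Equiv.Perm β) n0 = ⊥ := by
  obtain ⟨n0, hn0⟩ := isSolvable_perm_fin_four.solvable
  refine ⟨n0, fun β _ h => ?_⟩
  obtain ⟨ι⟩ : Nonempty (β ↪ Fin 4) :=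
    Function.Embedding.nonempty_of_card_le (by rw [Fintype.card_fin]; exact h)
  have h1 := map_derivedSeries_le_derivedSeries (Equiv.Perm.viaEmbeddingHom ι) n0
  rw [hn0, le_bot_iff, Subgroup.map_eq_bot_iff_of_injective _ (Equiv.Perm.viaEmbeddingHom_injective ι)] at h1
  exact h1

/-- restriction of a colour-preserving permutation to a colour class, as a homomorphism. -/
def restrictFiberHom {α ι : Type*} (col : α → ι) (K : Subgroup (Equiv.Perm α))
    (hK : ∀ σ ∈ K, ∀ x, col (σ x) = col x) (y : ι) : K →* Equiv.Perm {x // col x = y} where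
  toFun k := Equiv.Perm.subtypePerm k.1 (fun x => by rw [hK k.1 k.2 x])
  map_one' := by ext x; rfl
  map_mul' k1 k2 := by ext x; rfl

theorem isSolvable_of_preserves_coloring {α ι : Type*} [Fintype α] [DecidableEq ι] (col : α → ι)
    (hfib : ∀ y : ι, (Finset.univ.filter (fun x => col x = y)).card ≤ 4)
    (K : Subgroup (Equiv.Perm α)) (hK : ∀ σ ∈ K, ∀ x, col (σ x) = col x) :
    Group.IsSolvable K := by
  obtain ⟨n0, hn0⟩ := exists_derivedSeries_perm_eq_bot
  refine ⟨⟨n0, ?_⟩⟩
  rw [eq_bot_iff]
  intro k hk
  rw [Subgroup.mem_bot]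
  apply Subtype.ext
  apply Equiv.ext
  intro x
  have h1 := map_derivedSeries_le_derivedSeries (restrictFiberHom col K hK (col x)) n0
  have hcard : Fintype.card {z // col z = col x} ≤ 4 := by
    rw [Fintype.card_subtype]; exact hfib (col x)
  rw [hn0 _ hcard, le_bot_iff] at h1
  have h2 : restrictFiberHom col K hK (col x) k = 1 := by
    have : restrictFiberHom col K hK (col x) k ∈
        Subgroup.map (restrictFiberHom col K hK (col x)) (derivedSeries K n0) :=
      Subgroup.mem_map_of_mem _ hk
    rw [h1] at this
    exact this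
  have h3 := congrArg (fun f : Equiv.Perm {z // col z = col x} => (f ⟨x, rfl⟩ : α)) h2
  exact h3

end Cfsg.Agent.Lib.Helper72
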