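import Mathlib
import Cfsg.Agent.Lib.Helper72.DegEqB

set_option autoImplicit false
open Cfsg

/-!
# Wrappers: from an arithmetic leaf `DegData n p .. → False` to `Nat.card G ≠ n` (helper72, S0983)
-/

namespace Cfsg.Agent.Lib.Helper72.DegEq

variable {G : Type*} [Group G] [Finite G] [IsSimpleGroup G]

/-- One prime. -/
theorem false_of_arith (hG : ¬ IsMulCommutative G) {n : ℕ} (h : Nat.card G = n) (p : ℕ)
    (hp : p.Prime) (hp2 : p ≠ 2) (hpn : p ∣ n) (hp2n : ¬ p ^ 2 ∣ n)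
    (harith : ∀ (d e : ℕ) (ε : ℤ) (s : Multiset ℤ) (f : ℤ),
      DegData n p (degSet G) d e ε s f → False) : False := by
  haveI : Fact p.Prime := ⟨hp⟩
  obtain ⟨d, e, ε, s, f, D⟩ := exists_degData hG h p hp2 hpn hp2n
  exact harith d e ε s f D

/-- Two primes. -/
theorem false_of_arith_two (hG : ¬ IsMulCommutative G) {n : ℕ} (h : Nat.card G = n) (p q : ℕ)
    (hp : p.Prime) (hp2 : p ≠ 2) (hpn : p ∣ n) (hp2n : ¬ p ^ 2 ∣ n)
    (hq : q.Prime) (hq2 : q ≠ 2) (hqn : q ∣ n) (hq2n : ¬ q ^ 2 ∣ n)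
    (harith : ∀ (d e : ℕ) (ε : ℤ) (s : Multiset ℤ) (f : ℤ) (d' e' : ℕ) (ε' : ℤ) (s' : Multiset ℤ)
      (f' : ℤ), DegData n p (degSet G) d e ε s f → DegData n q (degSet G) d' e' ε' s' f' → False) :
    False := by
  haveI : Fact p.Prime := ⟨hp⟩
  haveI : Fact q.Prime := ⟨hq⟩
  obtain ⟨d, e, ε, s, f, D⟩ := exists_degData hG h p hp2 hpn hp2n
  obtain ⟨d', e', ε', s', f', D'⟩ := exists_degData hG h q hq2 hqn hq2n
  exact harith d e ε s f d' e' ε' s' f' D D'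

end Cfsg.Agent.Lib.Helper72.DegEq
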