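import Mathlib
import Cfsg.Agent.Lib.Helper72.Range6232Wrap
import Cfsg.Agent.Lib.Helper3.Range6232A3696
import Cfsg.Agent.Lib.Helper86.Range6232A3780
import Cfsg.Agent.Lib.Helper3.Range6232A3960
import Cfsg.Agent.Lib.Helper45.Range6232A4200
import Cfsg.Agent.Lib.Helper86.Range6232A4212
import Cfsg.Agent.Lib.Helper3.Range6232A4400
import Cfsg.Agent.Lib.Helper45.Range6232A4536
import Cfsg.Agent.Lib.Helper3.Range6232A4680
import Cfsg.Agent.Lib.Helper3.Range6232A4760
import Cfsg.Agent.Lib.Helper86.Range6232A4800
import Cfsg.Agent.Lib.Helper65.Range6232A4928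
import Cfsg.Agent.Lib.Helper65.Range6232A4960
import Cfsg.Agent.Lib.Helper44.Range6232A5104
import Cfsg.Agent.Lib.Helper44.Range6232A5148
import Cfsg.Agent.Lib.Helper44.Range6232A5200
import Cfsg.Agent.Lib.Helper45.Range6232A5376
import Cfsg.Agent.Lib.Helper86.Range6232A5600
import Cfsg.Agent.Lib.Helper44.Range6232A5724
import Cfsg.Agent.Lib.Helper86.Range6232A5880
import Cfsg.Agent.Lib.Helper44.Range6232A5940
import Cfsg.Agent.Lib.Helper45.Range6232A4620
import Cfsg.Agent.Lib.Helper45.Range6232A5460

set_option autoImplicit false
open Cfsg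

/-!
# The 22 orders in (3640, 6232] refuted by the degree equation (helper72, S0983)

Arithmetic leaves by helper3, helper44, helper45, helper65, helper86.
-/

namespace Cfsg.Agent.Lib.Helper72.Range6232

open Cfsg.Agent.Lib.Helper72.DegEq Cfsg.Agent.Lib.Helper17

variable {G : Type*} [Group G] [Finite G] [IsSimpleGroup G]

theorem not_simple_of_card_3696 (h : Nat.card G = 3696) : False := by
  have hG : ¬ IsMulCommutative G := not_comm_of_simple_of_not_prime (by rw [h]; norm_num)
  exact false_of_arith hG h 11 (by norm_num) (by norm_num) (by norm_num) (by norm_num)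
    (fun _ _ _ _ _ D => Cfsg.Agent.Lib.Helper3.Range6232.arith_3696 D)

theorem not_simple_of_card_3780 (h : Nat.card G = 3780) : False := by
  have hG : ¬ IsMulCommutative G := not_comm_of_simple_of_not_prime (by rw [h]; norm_num)
  exact false_of_arith hG h 7 (by norm_num) (by norm_num) (by norm_num) (by norm_num)
    (fun _ _ _ _ _ D => Cfsg.Agent.Lib.Helper86.Range6232.arith_3780 D)

theorem not_simple_of_card_3960 (h : Nat.card G = 3960) : False := by
  have hG : ¬ IsMulCommutative G := not_comm_of_simple_of_not_prime (by rw [h]; norm_num)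
  exact false_of_arith hG h 11 (by norm_num) (by norm_num) (by norm_num) (by norm_num)
    (fun _ _ _ _ _ D => Cfsg.Agent.Lib.Helper3.Range6232.arith_3960 D)

theorem not_simple_of_card_4200 (h : Nat.card G = 4200) : False := by
  have hG : ¬ IsMulCommutative G := not_comm_of_simple_of_not_prime (by rw [h]; norm_num)
  exact false_of_arith hG h 7 (by norm_num) (by norm_num) (by norm_num) (by norm_num)
    (fun _ _ _ _ _ D => Cfsg.Agent.Lib.Helper45.Range6232.arith_4200 D)

theorem not_simple_of_card_4212 (h : Nat.card G = 4212) : False := by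
  have hG : ¬ IsMulCommutative G := not_comm_of_simple_of_not_prime (by rw [h]; norm_num)
  exact false_of_arith hG h 13 (by norm_num) (by norm_num) (by norm_num) (by norm_num)
    (fun _ _ _ _ _ D => Cfsg.Agent.Lib.Helper86.Range6232.arith_4212 D)

theorem not_simple_of_card_4400 (h : Nat.card G = 4400) : False := by
  have hG : ¬ IsMulCommutative G := not_comm_of_simple_of_not_prime (by rw [h]; norm_num)
  exact false_of_arith hG h 11 (by norm_num) (by norm_num) (by norm_num) (by norm_num)
    (fun _ _ _ _ _ D => Cfsg.Agent.Lib.Helper3.Range6232.arith_4400 D)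

theorem not_simple_of_card_4536 (h : Nat.card G = 4536) : False := by
  have hG : ¬ IsMulCommutative G := not_comm_of_simple_of_not_prime (by rw [h]; norm_num)
  exact false_of_arith hG h 7 (by norm_num) (by norm_num) (by norm_num) (by norm_num)
    (fun _ _ _ _ _ D => Cfsg.Agent.Lib.Helper45.Range6232.arith_4536 D)

theorem not_simple_of_card_4620 (h : Nat.card G = 4620) : False := by
  have hG : ¬ IsMulCommutative G := not_comm_of_simple_of_not_prime (by rw [h]; norm_num)
  exact false_of_arith_two hG h 11 7 (by norm_num) (by norm_num) (by norm_num) (by norm_num)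
    (by norm_num) (by norm_num) (by norm_num) (by norm_num)
    (fun _ _ _ _ _ _ _ _ _ _ D D' => Cfsg.Agent.Lib.Helper45.Range6232.arith_4620 D D')

theorem not_simple_of_card_4680 (h : Nat.card G = 4680) : False := by
  have hG : ¬ IsMulCommutative G := not_comm_of_simple_of_not_prime (by rw [h]; norm_num)
  exact false_of_arith hG h 13 (by norm_num) (by norm_num) (by norm_num) (by norm_num)
    (fun _ _ _ _ _ D => Cfsg.Agent.Lib.Helper3.Range6232.arith_4680 D)

theorem not_simple_of_card_4760 (h : Nat.card G = 4760) : False := by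
  have hG : ¬ IsMulCommutative G := not_comm_of_simple_of_not_prime (by rw [h]; norm_num)
  exact false_of_arith hG h 5 (by norm_num) (by norm_num) (by norm_num) (by norm_num)
    (fun _ _ _ _ _ D => Cfsg.Agent.Lib.Helper3.Range6232.arith_4760 D)

theorem not_simple_of_card_4800 (h : Nat.card G = 4800) : False := by
  have hG : ¬ IsMulCommutative G := not_comm_of_simple_of_not_prime (by rw [h]; norm_num)
  exact false_of_arith hG h 3 (by norm_num) (by norm_num) (by norm_num) (by norm_num)
    (fun _ _ _ _ _ D => Cfsg.Agent.Lib.Helper86.Range6232.arith_4800 D)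

theorem not_simple_of_card_4928 (h : Nat.card G = 4928) : False := by
  have hG : ¬ IsMulCommutative G := not_comm_of_simple_of_not_prime (by rw [h]; norm_num)
  exact false_of_arith hG h 11 (by norm_num) (by norm_num) (by norm_num) (by norm_num)
    (fun _ _ _ _ _ D => Cfsg.Agent.Lib.Helper65.Range6232.arith_4928 D)

theorem not_simple_of_card_4960 (h : Nat.card G = 4960) : False := by
  have hG : ¬ IsMulCommutative G := not_comm_of_simple_of_not_prime (by rw [h]; norm_num)
  exact false_of_arith hG h 31 (by norm_num) (by norm_num) (by norm_num) (by norm_num)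
    (fun _ _ _ _ _ D => Cfsg.Agent.Lib.Helper65.Range6232.arith_4960 D)

theorem not_simple_of_card_5104 (h : Nat.card G = 5104) : False := by
  have hG : ¬ IsMulCommutative G := not_comm_of_simple_of_not_prime (by rw [h]; norm_num)
  exact false_of_arith hG h 29 (by norm_num) (by norm_num) (by norm_num) (by norm_num)
    (fun _ _ _ _ _ D => Cfsg.Agent.Lib.Helper44.Range6232.arith_5104 D)

theorem not_simple_of_card_5148 (h : Nat.card G = 5148) : False := by
  have hG : ¬ IsMulCommutative G := not_comm_of_simple_of_not_prime (by rw [h]; norm_num)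
  exact false_of_arith hG h 11 (by norm_num) (by norm_num) (by norm_num) (by norm_num)
    (fun _ _ _ _ _ D => Cfsg.Agent.Lib.Helper44.Range6232.arith_5148 D)

theorem not_simple_of_card_5200 (h : Nat.card G = 5200) : False := by
  have hG : ¬ IsMulCommutative G := not_comm_of_simple_of_not_prime (by rw [h]; norm_num)
  exact false_of_arith hG h 13 (by norm_num) (by norm_num) (by norm_num) (by norm_num)
    (fun _ _ _ _ _ D => Cfsg.Agent.Lib.Helper44.Range6232.arith_5200 D)

theorem not_simple_of_card_5376 (h : Nat.card G = 5376) : False := by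
  have hG : ¬ IsMulCommutative G := not_comm_of_simple_of_not_prime (by rw [h]; norm_num)
  exact false_of_arith hG h 7 (by norm_num) (by norm_num) (by norm_num) (by norm_num)
    (fun _ _ _ _ _ D => Cfsg.Agent.Lib.Helper45.Range6232.arith_5376 D)

theorem not_simple_of_card_5460 (h : Nat.card G = 5460) : False := by
  have hG : ¬ IsMulCommutative G := not_comm_of_simple_of_not_prime (by rw [h]; norm_num)
  exact false_of_arith_two hG h 13 7 (by norm_num) (by norm_num) (by norm_num) (by norm_num)
    (by norm_num) (by norm_num) (by norm_num) (by norm_num)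
    (fun _ _ _ _ _ _ _ _ _ _ D D' => Cfsg.Agent.Lib.Helper45.Range6232.arith_5460 D D')

theorem not_simple_of_card_5600 (h : Nat.card G = 5600) : False := by
  have hG : ¬ IsMulCommutative G := not_comm_of_simple_of_not_prime (by rw [h]; norm_num)
  exact false_of_arith hG h 7 (by norm_num) (by norm_num) (by norm_num) (by norm_num)
    (fun _ _ _ _ _ D => Cfsg.Agent.Lib.Helper86.Range6232.arith_5600 D)

theorem not_simple_of_card_5724 (h : Nat.card G = 5724) : False := by
  have hG : ¬ IsMulCommutative G := not_comm_of_simple_of_not_prime (by rw [h]; norm_num)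
  exact false_of_arith hG h 53 (by norm_num) (by norm_num) (by norm_num) (by norm_num)
    (fun _ _ _ _ _ D => Cfsg.Agent.Lib.Helper44.Range6232.arith_5724 D)

theorem not_simple_of_card_5880 (h : Nat.card G = 5880) : False := by
  have hG : ¬ IsMulCommutative G := not_comm_of_simple_of_not_prime (by rw [h]; norm_num)
  exact false_of_arith hG h 5 (by norm_num) (by norm_num) (by norm_num) (by norm_num)
    (fun _ _ _ _ _ D => Cfsg.Agent.Lib.Helper86.Range6232.arith_5880 D)

theorem not_simple_of_card_5940 (h : Nat.card G = 5940) : False := by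
  have hG : ¬ IsMulCommutative G := not_comm_of_simple_of_not_prime (by rw [h]; norm_num)
  exact false_of_arith hG h 11 (by norm_num) (by norm_num) (by norm_num) (by norm_num)
    (fun _ _ _ _ _ D => Cfsg.Agent.Lib.Helper44.Range6232.arith_5940 D)

end Cfsg.Agent.Lib.Helper72.Range6232
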