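import Mathlib
import Cfsg.Agent.Lib.Helper9.SmallOrderSieveC

/-!
# The sieve for the orders in `(3640, 6232]` (helper72, for S0983)

helper9's certificate checker (`Sieve.checkSyl`, generic in the order) with a new table, generated by a script
(`notes/helper72/S0983_sieve.py`): a non-commutative simple group of order in `(3640, 6232]` has one of 34
listed orders.  The table is cut into chunks of 200 orders, each checked by the kernel.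
-/

set_option autoImplicit false
set_option linter.unusedSectionVars false
set_option linter.style.haveILetI false
set_option linter.unusedVariables false

namespace Cfsg.Agent.Lib.Helper72.Range6232Sieve

open Cfsg.Agent.Lib.Helper9.Sieve Cfsg.Agent.Lib.Helper17 Subgroup MulAction

variable {G : Type*} [Group G] [Finite G] [IsSimpleGroup G]

/-- The orders that the sieve does not treat. -/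
def listed : List ℕ := [3648, 3696, 3744, 3780, 3960, 4032, 4080, 4200, 4212, 4320, 4400, 4536, 4620, 4680, 4760,
  4800, 4928, 4960, 5040, 5104, 5148, 5200, 5376, 5400, 5460, 5472, 5600, 5616, 5724, 5760, 5880, 5940, 6048, 6072]

/-- Primality test by trial division below `80`, for `p < 6400`. -/
def isPrimeS (p : ℕ) : Bool :=
  decide (2 ≤ p) && decide (p < 6400) &&
    (List.range 80).all (fun d => decide (d < 2) || decide (p ≤ d) || decide (p % d ≠ 0))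

theorem prime_of_isPrimeS {p : ℕ} (h : isPrimeS p = true) : p.Prime := by
  unfold isPrimeS at h
  simp only [Bool.and_eq_true, decide_eq_true_eq, List.all_eq_true] at h
  obtain ⟨⟨h2, hlt⟩, hall⟩ := h
  rw [Nat.prime_def_le_sqrt]
  refine ⟨h2, fun m hm2 hmle hdvd => ?_⟩
  have hs : Nat.sqrt p < 80 := Nat.sqrt_lt'.mpr (by norm_num; exact hlt)
  have hsp : Nat.sqrt p < p := Nat.sqrt_lt_self (by omega)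
  have := hall m (List.mem_range.mpr (by omega))
  rw [Bool.or_eq_true, Bool.or_eq_true, decide_eq_true_eq, decide_eq_true_eq, decide_eq_true_eq] at this
  rcases this with (h | h) | h
  · omega
  · omega
  · exact h (Nat.mod_eq_zero_of_dvd hdvd)

/-- The certificate checker (as helper9's `checkCert`, with the new list and the faster primality test). -/
def checkCert2 (n : ℕ) (c : ℕ × ℕ × ℕ × ℕ × ℕ) : Bool :=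
  if c.1 = 0 then isPrimeS c.2.1 && isPrimeS c.2.2.2.1 && decide (n = c.2.1 ^ c.2.2.1 * c.2.2.2.1 ^ c.2.2.2.2)
  else if c.1 = 1 then decide (n % 4 = 2)
  else if c.1 = 2 then decide (n % 8 = 4) && decide (n % 3 ≠ 0)
  else if c.1 = 3 then checkSyl n c.2.1 c.2.2.1 c.2.2.2.1
  else if c.1 = 4 then decide (n ∈ listed)
  else false

theorem mem_listed_of_checkCert2 (hG : ¬ IsMulCommutative G) {n : ℕ} (hn : Nat.card G = n)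
    (c : ℕ × ℕ × ℕ × ℕ × ℕ) (h : checkCert2 n c = true) : n ∈ listed := by
  unfold checkCert2 at h
  split_ifs at h with h0 h1 h2 h3 h4
  · exfalso
    simp only [Bool.and_eq_true, decide_eq_true_eq] at h
    obtain ⟨⟨hp, hq⟩, hnpq⟩ := h
    have hs : Group.IsSolvable G :=
      Cfsg.Agent.S0144.result _ _ _ _ (prime_of_isPrimeS hp) (prime_of_isPrimeS hq) (hn.trans hnpq)
    exact hG ⟨⟨IsSimpleGroup.comm_iff_isSolvable.mpr hs⟩⟩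
  · exfalso
    rw [decide_eq_true_eq] at h
    exact Cfsg.Agent.S0493.false_of_card_mod_four hG (by rw [hn]; exact h)
  · exfalso
    simp only [Bool.and_eq_true, decide_eq_true_eq] at h
    obtain ⟨h8, h3'⟩ := h
    haveI : Fact (Nat.Prime 2) := ⟨Nat.prime_two⟩
    obtain ⟨T⟩ := (Sylow.nonempty : Nonempty (Sylow 2 G))
    have heven : Even (Nat.card G) := by
      rw [hn, Nat.even_iff]; omega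
    have hn8 : ¬ 8 ∣ Nat.card G := by
      rw [hn]; intro hd; have := Nat.mod_eq_zero_of_dvd hd; omega
    obtain ⟨-, hrel⟩ := Cfsg.Agent.S0992.result hG heven hn8 T
    have h3 : 3 ∣ Nat.card G := by
      rw [← hrel]
      exact (Subgroup.relIndex_dvd_card _ _).trans (Subgroup.card_subgroup_dvd_card _)
    rw [hn] at h3
    exact h3' (Nat.mod_eq_zero_of_dvd h3)
  · exact (false_of_checkSyl hG hn h).elim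
  · rw [decide_eq_true_eq] at h
    exact h

/-- The check of a chunk: the certificates `t` are valid for the orders `lo, lo + 1, ...`. -/
def chunkOk (lo len : ℕ) (t : List (ℕ × ℕ × ℕ × ℕ × ℕ)) : Bool :=
  (List.range len).all (fun r => checkCert2 (lo + r) (t.getD r (5, 0, 0, 0, 0)))

theorem mem_listed_of_chunkOk (hG : ¬ IsMulCommutative G) {lo len : ℕ}
    {t : List (ℕ × ℕ × ℕ × ℕ × ℕ)} (h : chunkOk lo len t = true) (h1 : lo ≤ Nat.card G)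
    (h2 : Nat.card G < lo + len) : Nat.card G ∈ listed := by
  unfold chunkOk at h
  rw [List.all_eq_true] at h
  have h3 := h (Nat.card G - lo) (List.mem_range.mpr (by omega))
  have h4 : lo + (Nat.card G - lo) = Nat.card G := by omega
  rw [h4] at h3
  exact mem_listed_of_checkCert2 hG rfl _ h3

/-- The certificates for the orders `3641, ..., 3840`. -/
def table0 : List (ℕ × ℕ × ℕ × ℕ × ℕ) := [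
  (0, 11, 1, 331, 1), (1, 0, 0, 0, 0), (0, 3643, 1, 2, 0), (0, 2, 2, 911, 1), (0, 3, 6, 5, 1), (0, 2, 1, 1823, 1),
  (0, 7, 1, 521, 1), (4, 0, 0, 0, 0), (0, 41, 1, 89, 1), (1, 0, 0, 0, 0), (0, 3, 1, 1217, 1), (2, 0, 0, 0, 0),
  (0, 13, 1, 281, 1), (1, 0, 0, 0, 0), (3, 43, 1, 85, 0), (0, 2, 3, 457, 1), (3, 53, 1, 69, 0), (1, 0, 0, 0, 0),
  (0, 3659, 1, 2, 0), (3, 61, 1, 60, 0), (0, 7, 1, 523, 1), (0, 2, 1, 1831, 1), (3, 37, 1, 99, 0), (0, 2, 4, 229, 1),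
  (0, 5, 1, 733, 1), (1, 0, 0, 0, 0), (0, 19, 1, 193, 1), (2, 0, 0, 0, 0), (0, 3, 1, 1223, 1), (1, 0, 0, 0, 0),
  (0, 3671, 1, 2, 0), (3, 17, 1, 216, 0), (0, 3673, 1, 2, 0), (1, 0, 0, 0, 0), (3, 7, 2, 75, 0), (0, 2, 2, 919, 1),
  (0, 3677, 1, 2, 0), (1, 0, 0, 0, 0), (0, 13, 1, 283, 1), (3, 23, 1, 160, 0), (0, 3, 2, 409, 1), (1, 0, 0, 0, 0),
  (0, 29, 1, 127, 1), (3, 307, 1, 12, 0), (3, 67, 1, 55, 0), (1, 0, 0, 0, 0), (0, 3, 1, 1229, 1), (0, 2, 3, 461, 1),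
  (3, 31, 1, 119, 0), (1, 0, 0, 0, 0), (0, 3691, 1, 2, 0), (2, 0, 0, 0, 0), (0, 3, 1, 1231, 1), (0, 2, 1, 1847, 1),
  (0, 5, 1, 739, 1), (4, 0, 0, 0, 0), (0, 3697, 1, 2, 0), (0, 2, 1, 43, 2), (0, 3, 3, 137, 1), (2, 0, 0, 0, 0),
  (0, 3701, 1, 2, 0), (1, 0, 0, 0, 0), (0, 7, 1, 23, 2), (0, 2, 3, 463, 1), (3, 19, 1, 195, 0), (1, 0, 0, 0, 0),
  (0, 11, 1, 337, 1), (3, 103, 1, 36, 0), (0, 3709, 1, 2, 0), (1, 0, 0, 0, 0), (0, 3, 1, 1237, 1), (0, 2, 7, 29, 1),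
  (0, 47, 1, 79, 1), (1, 0, 0, 0, 0), (0, 5, 1, 743, 1), (0, 2, 2, 929, 1), (3, 59, 1, 63, 0), (1, 0, 0, 0, 0),
  (0, 3719, 1, 2, 0), (3, 31, 1, 120, 0), (0, 61, 2, 2, 0), (0, 2, 1, 1861, 1), (3, 73, 1, 51, 0), (2, 0, 0, 0, 0),
  (0, 5, 2, 149, 1), (1, 0, 0, 0, 0), (0, 3727, 1, 2, 0), (0, 2, 4, 233, 1), (3, 113, 1, 33, 0), (1, 0, 0, 0, 0),
  (3, 41, 1, 91, 0), (3, 311, 1, 12, 0), (0, 3733, 1, 2, 0), (0, 2, 1, 1867, 1), (3, 83, 1, 45, 0), (0, 2, 3, 467, 1),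
  (0, 37, 1, 101, 1), (1, 0, 0, 0, 0), (0, 3739, 1, 2, 0), (2, 0, 0, 0, 0), (3, 43, 1, 87, 0), (0, 2, 1, 1871, 1),
  (0, 19, 1, 197, 1), (4, 0, 0, 0, 0), (3, 107, 1, 35, 0), (0, 2, 1, 1873, 1), (0, 3, 1, 1249, 1), (0, 2, 2, 937, 1),
  (0, 23, 1, 163, 1), (1, 0, 0, 0, 0), (0, 11, 2, 31, 1), (3, 67, 1, 56, 0), (0, 3, 3, 139, 1), (0, 2, 1, 1877, 1),
  (0, 5, 1, 751, 1), (3, 313, 1, 12, 0), (0, 13, 1, 17, 2), (0, 2, 1, 1879, 1), (3, 179, 1, 21, 0), (3, 47, 1, 80, 0),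
  (0, 3761, 1, 2, 0), (1, 0, 0, 0, 0), (0, 53, 1, 71, 1), (0, 2, 2, 941, 1), (3, 251, 1, 15, 0), (1, 0, 0, 0, 0),
  (0, 3767, 1, 2, 0), (3, 157, 1, 24, 0), (0, 3769, 1, 2, 0), (1, 0, 0, 0, 0), (0, 3, 2, 419, 1), (2, 0, 0, 0, 0),
  (0, 7, 3, 11, 1), (1, 0, 0, 0, 0), (0, 5, 2, 151, 1), (0, 2, 6, 59, 1), (0, 3, 1, 1259, 1), (0, 2, 1, 1889, 1),
  (0, 3779, 1, 2, 0), (4, 0, 0, 0, 0), (0, 19, 1, 199, 1), (1, 0, 0, 0, 0), (3, 97, 1, 39, 0), (3, 43, 1, 88, 0),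
  (0, 5, 1, 757, 1), (1, 0, 0, 0, 0), (0, 7, 1, 541, 1), (0, 2, 2, 947, 1), (0, 3, 2, 421, 1), (1, 0, 0, 0, 0),
  (0, 17, 1, 223, 1), (3, 79, 1, 48, 0), (0, 3793, 1, 2, 0), (1, 0, 0, 0, 0), (3, 23, 1, 165, 0), (2, 0, 0, 0, 0),
  (0, 3797, 1, 2, 0), (1, 0, 0, 0, 0), (0, 29, 1, 131, 1), (3, 19, 1, 200, 0), (3, 181, 1, 21, 0), (0, 2, 1, 1901, 1),
  (0, 3803, 1, 2, 0), (3, 317, 1, 12, 0), (0, 5, 1, 761, 1), (1, 0, 0, 0, 0), (0, 3, 4, 47, 1), (3, 17, 1, 224, 0),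
  (0, 13, 1, 293, 1), (1, 0, 0, 0, 0), (0, 37, 1, 103, 1), (0, 2, 2, 953, 1), (3, 41, 1, 93, 0), (0, 2, 1, 1907, 1),
  (3, 109, 1, 35, 0), (3, 53, 1, 72, 0), (0, 11, 1, 347, 1), (1, 0, 0, 0, 0), (3, 67, 1, 57, 0), (2, 0, 0, 0, 0),
  (0, 3821, 1, 2, 0), (1, 0, 0, 0, 0), (0, 3823, 1, 2, 0), (0, 2, 4, 239, 1), (3, 17, 1, 225, 0), (0, 2, 1, 1913, 1),
  (0, 43, 1, 89, 1), (3, 29, 1, 132, 0), (0, 7, 1, 547, 1), (1, 0, 0, 0, 0), (0, 3, 1, 1277, 1), (0, 2, 3, 479, 1),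
  (0, 3833, 1, 2, 0), (1, 0, 0, 0, 0), (3, 59, 1, 65, 0), (2, 0, 0, 0, 0), (0, 3, 1, 1279, 1), (1, 0, 0, 0, 0),
  (0, 11, 1, 349, 1), (3, 2, 8, 15, 0)]

set_option maxRecDepth 100000 in
theorem table0_ok : chunkOk 3641 200 table0 = true := by
  decide +kernel

/-- The certificates for the orders `3841, ..., 4040`. -/
def table1 : List (ℕ × ℕ × ℕ × ℕ × ℕ) := [
  (0, 23, 1, 167, 1), (1, 0, 0, 0, 0), (3, 61, 1, 63, 0), (0, 2, 2, 31, 2), (0, 5, 1, 769, 1), (1, 0, 0, 0, 0),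
  (0, 3847, 1, 2, 0), (3, 37, 1, 104, 0), (0, 3, 1, 1283, 1), (1, 0, 0, 0, 0), (0, 3851, 1, 2, 0), (3, 107, 1, 36, 0),
  (0, 3853, 1, 2, 0), (1, 0, 0, 0, 0), (3, 257, 1, 15, 0), (0, 2, 4, 241, 1), (3, 29, 1, 133, 0), (1, 0, 0, 0, 0),
  (0, 17, 1, 227, 1), (2, 0, 0, 0, 0), (3, 13, 1, 297, 0), (0, 2, 1, 1931, 1), (0, 3863, 1, 2, 0), (3, 23, 1, 168, 0),
  (0, 5, 1, 773, 1), (0, 2, 1, 1933, 1), (0, 3, 1, 1289, 1), (0, 2, 2, 967, 1), (0, 53, 1, 73, 1), (1, 0, 0, 0, 0),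
  (0, 7, 2, 79, 1), (0, 2, 5, 11, 2), (0, 3, 1, 1291, 1), (1, 0, 0, 0, 0), (0, 5, 3, 31, 1), (3, 19, 1, 204, 0),
  (0, 3877, 1, 2, 0), (1, 0, 0, 0, 0), (0, 3, 2, 431, 1), (3, 97, 1, 40, 0), (0, 3881, 1, 2, 0), (1, 0, 0, 0, 0),
  (0, 11, 1, 353, 1), (0, 2, 2, 971, 1), (3, 37, 1, 105, 0), (1, 0, 0, 0, 0), (0, 13, 2, 23, 1), (0, 2, 4, 3, 5),
  (0, 3889, 1, 2, 0), (1, 0, 0, 0, 0), (0, 3, 1, 1297, 1), (2, 0, 0, 0, 0), (0, 17, 1, 229, 1), (1, 0, 0, 0, 0),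
  (3, 41, 1, 95, 0), (0, 2, 3, 487, 1), (0, 3, 2, 433, 1), (0, 2, 1, 1949, 1), (0, 7, 1, 557, 1), (3, 13, 1, 300, 0),
  (0, 47, 1, 83, 1), (0, 2, 1, 1951, 1), (0, 3, 1, 1301, 1), (0, 2, 6, 61, 1), (3, 71, 1, 55, 0), (1, 0, 0, 0, 0),
  (0, 3907, 1, 2, 0), (0, 2, 2, 977, 1), (0, 3, 1, 1303, 1), (1, 0, 0, 0, 0), (0, 3911, 1, 2, 0), (3, 163, 1, 24, 0),
  (3, 43, 1, 91, 0), (1, 0, 0, 0, 0), (3, 29, 1, 135, 0), (2, 0, 0, 0, 0), (0, 3917, 1, 2, 0), (1, 0, 0, 0, 0),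
  (0, 3919, 1, 2, 0), (3, 7, 2, 80, 0), (0, 3, 1, 1307, 1), (1, 0, 0, 0, 0), (0, 3923, 1, 2, 0), (3, 109, 1, 36, 0),
  (0, 5, 2, 157, 1), (1, 0, 0, 0, 0), (3, 17, 1, 231, 0), (0, 2, 3, 491, 1), (0, 3929, 1, 2, 0), (1, 0, 0, 0, 0),
  (0, 3931, 1, 2, 0), (0, 2, 2, 983, 1), (3, 23, 1, 171, 0), (1, 0, 0, 0, 0), (0, 5, 1, 787, 1), (3, 41, 1, 96, 0),
  (0, 31, 1, 127, 1), (1, 0, 0, 0, 0), (3, 101, 1, 39, 0), (2, 0, 0, 0, 0), (0, 7, 1, 563, 1), (1, 0, 0, 0, 0),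
  (0, 3943, 1, 2, 0), (3, 29, 1, 136, 0), (3, 263, 1, 15, 0), (0, 2, 1, 1973, 1), (0, 3947, 1, 2, 0), (3, 47, 1, 84, 0),
  (0, 11, 1, 359, 1), (1, 0, 0, 0, 0), (0, 3, 2, 439, 1), (3, 19, 1, 208, 0), (0, 59, 1, 67, 1), (1, 0, 0, 0, 0),
  (3, 113, 1, 35, 0), (2, 0, 0, 0, 0), (0, 3, 1, 1319, 1), (0, 2, 1, 1979, 1), (0, 37, 1, 107, 1), (4, 0, 0, 0, 0),
  (0, 17, 1, 233, 1), (1, 0, 0, 0, 0), (0, 3, 1, 1321, 1), (0, 2, 2, 991, 1), (3, 61, 1, 65, 0), (1, 0, 0, 0, 0),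
  (0, 3967, 1, 2, 0), (0, 2, 7, 31, 1), (0, 3, 4, 7, 2), (1, 0, 0, 0, 0), (0, 11, 1, 19, 2), (3, 331, 1, 12, 0),
  (0, 29, 1, 137, 1), (0, 2, 1, 1987, 1), (3, 53, 1, 75, 0), (3, 71, 1, 56, 0), (0, 41, 1, 97, 1), (1, 0, 0, 0, 0),
  (0, 23, 1, 173, 1), (2, 0, 0, 0, 0), (0, 3, 1, 1327, 1), (1, 0, 0, 0, 0), (0, 7, 1, 569, 1), (3, 83, 1, 48, 0),
  (0, 5, 1, 797, 1), (0, 2, 1, 1993, 1), (0, 3, 2, 443, 1), (0, 2, 2, 997, 1), (0, 3989, 1, 2, 0), (1, 0, 0, 0, 0),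
  (0, 13, 1, 307, 1), (0, 2, 3, 499, 1), (0, 3, 1, 11, 3), (0, 2, 1, 1997, 1), (3, 47, 1, 85, 0), (3, 37, 1, 108, 0),
  (0, 7, 1, 571, 1), (0, 2, 1, 1999, 1), (3, 43, 1, 93, 0), (0, 2, 5, 5, 3), (0, 4001, 1, 2, 0), (1, 0, 0, 0, 0),
  (0, 4003, 1, 2, 0), (2, 0, 0, 0, 0), (3, 89, 1, 45, 0), (0, 2, 1, 2003, 1), (0, 4007, 1, 2, 0), (3, 167, 1, 24, 0),
  (0, 19, 1, 211, 1), (1, 0, 0, 0, 0), (3, 191, 1, 21, 0), (2, 0, 0, 0, 0), (0, 4013, 1, 2, 0), (1, 0, 0, 0, 0),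
  (3, 73, 1, 55, 0), (0, 2, 4, 251, 1), (3, 103, 1, 39, 0), (1, 0, 0, 0, 0), (0, 4019, 1, 2, 0), (3, 67, 1, 60, 0),
  (0, 4021, 1, 2, 0), (0, 2, 1, 2011, 1), (0, 3, 3, 149, 1), (0, 2, 3, 503, 1), (3, 23, 1, 175, 0), (1, 0, 0, 0, 0),
  (0, 4027, 1, 2, 0), (2, 0, 0, 0, 0), (3, 79, 1, 51, 0), (1, 0, 0, 0, 0), (0, 29, 1, 139, 1), (4, 0, 0, 0, 0),
  (0, 37, 1, 109, 1), (0, 2, 1, 2017, 1), (3, 269, 1, 15, 0), (0, 2, 2, 1009, 1), (0, 11, 1, 367, 1), (1, 0, 0, 0, 0),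
  (0, 7, 1, 577, 1), (3, 101, 1, 40, 0)]

set_option maxRecDepth 100000 in
theorem table1_ok : chunkOk 3841 200 table1 = true := by
  decide +kernel

/-- The certificates for the orders `4041, ..., 4240`. -/
def table2 : List (ℕ × ℕ × ℕ × ℕ × ℕ) := [
  (0, 3, 2, 449, 1), (1, 0, 0, 0, 0), (0, 13, 1, 311, 1), (3, 337, 1, 12, 0), (0, 5, 1, 809, 1), (1, 0, 0, 0, 0),
  (3, 71, 1, 57, 0), (3, 23, 1, 176, 0), (0, 4049, 1, 2, 0), (1, 0, 0, 0, 0), (0, 4051, 1, 2, 0), (0, 2, 2, 1013, 1),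
  (3, 193, 1, 21, 0), (0, 2, 1, 2027, 1), (0, 5, 1, 811, 1), (3, 13, 2, 24, 0), (0, 4057, 1, 2, 0), (0, 2, 1, 2029, 1),
  (3, 41, 1, 99, 0), (2, 0, 0, 0, 0), (0, 31, 1, 131, 1), (1, 0, 0, 0, 0), (0, 17, 1, 239, 1), (0, 2, 5, 127, 1),
  (3, 271, 1, 15, 0), (1, 0, 0, 0, 0), (0, 7, 2, 83, 1), (3, 113, 1, 36, 0), (0, 13, 1, 313, 1), (1, 0, 0, 0, 0),
  (3, 59, 1, 69, 0), (0, 2, 3, 509, 1), (0, 4073, 1, 2, 0), (1, 0, 0, 0, 0), (0, 5, 2, 163, 1), (0, 2, 2, 1019, 1),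
  (0, 3, 3, 151, 1), (0, 2, 1, 2039, 1), (0, 4079, 1, 2, 0), (4, 0, 0, 0, 0), (3, 53, 1, 77, 0), (1, 0, 0, 0, 0),
  (0, 3, 1, 1361, 1), (0, 2, 2, 1021, 1), (3, 43, 1, 95, 0), (1, 0, 0, 0, 0), (0, 61, 1, 67, 1), (3, 73, 1, 56, 0),
  (3, 47, 1, 87, 0), (1, 0, 0, 0, 0), (0, 4091, 1, 2, 0), (3, 31, 1, 132, 0), (0, 4093, 1, 2, 0), (1, 0, 0, 0, 0),
  (3, 5, 1, 819, 0), (0, 2, 12, 3, 0), (0, 17, 1, 241, 1), (1, 0, 0, 0, 0), (0, 4099, 1, 2, 0), (2, 0, 0, 0, 0),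
  (0, 3, 1, 1367, 1), (1, 0, 0, 0, 0), (0, 11, 1, 373, 1), (3, 19, 1, 216, 0), (0, 5, 1, 821, 1), (0, 2, 1, 2053, 1),
  (0, 3, 1, 37, 2), (2, 0, 0, 0, 0), (0, 7, 1, 587, 1), (1, 0, 0, 0, 0), (0, 4111, 1, 2, 0), (0, 2, 4, 257, 1),
  (0, 3, 2, 457, 1), (1, 0, 0, 0, 0), (0, 5, 1, 823, 1), (3, 7, 3, 12, 0), (0, 23, 1, 179, 1), (1, 0, 0, 0, 0),
  (0, 3, 1, 1373, 1), (3, 103, 1, 40, 0), (0, 13, 1, 317, 1), (1, 0, 0, 0, 0), (3, 31, 1, 133, 0), (0, 2, 2, 1031, 1),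
  (3, 11, 1, 375, 0), (0, 2, 1, 2063, 1), (0, 4127, 1, 2, 0), (3, 43, 1, 96, 0), (0, 4129, 1, 2, 0), (1, 0, 0, 0, 0),
  (0, 3, 5, 17, 1), (0, 2, 2, 1033, 1), (0, 4133, 1, 2, 0), (1, 0, 0, 0, 0), (0, 5, 1, 827, 1), (3, 47, 1, 88, 0),
  (3, 197, 1, 21, 0), (0, 2, 1, 2069, 1), (0, 4139, 1, 2, 0), (3, 23, 1, 180, 0), (0, 41, 1, 101, 1), (1, 0, 0, 0, 0),
  (0, 3, 1, 1381, 1), (3, 37, 1, 112, 0), (0, 5, 1, 829, 1), (1, 0, 0, 0, 0), (3, 29, 1, 143, 0), (2, 0, 0, 0, 0),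
  (0, 3, 2, 461, 1), (1, 0, 0, 0, 0), (0, 7, 1, 593, 1), (3, 173, 1, 24, 0), (0, 4153, 1, 2, 0), (1, 0, 0, 0, 0),
  (3, 277, 1, 15, 0), (0, 2, 2, 1039, 1), (0, 4157, 1, 2, 0), (1, 0, 0, 0, 0), (0, 4159, 1, 2, 0), (3, 13, 1, 320, 0),
  (3, 73, 1, 57, 0), (0, 2, 1, 2081, 1), (0, 23, 1, 181, 1), (3, 347, 1, 12, 0), (3, 17, 1, 245, 0), (0, 2, 1, 2083, 1),
  (0, 3, 2, 463, 1), (0, 2, 3, 521, 1), (0, 11, 1, 379, 1), (1, 0, 0, 0, 0), (0, 43, 1, 97, 1), (2, 0, 0, 0, 0),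
  (3, 107, 1, 39, 0), (0, 2, 1, 2087, 1), (0, 5, 2, 167, 1), (3, 29, 1, 144, 0), (0, 4177, 1, 2, 0), (0, 2, 1, 2089, 1),
  (3, 199, 1, 21, 0), (2, 0, 0, 0, 0), (0, 37, 1, 113, 1), (1, 0, 0, 0, 0), (0, 47, 1, 89, 1), (0, 2, 3, 523, 1),
  (3, 31, 1, 135, 0), (1, 0, 0, 0, 0), (0, 53, 1, 79, 1), (3, 349, 1, 12, 0), (0, 59, 1, 71, 1), (1, 0, 0, 0, 0),
  (3, 127, 1, 33, 0), (0, 2, 5, 131, 1), (0, 7, 1, 599, 1), (1, 0, 0, 0, 0), (0, 5, 1, 839, 1), (0, 2, 2, 1049, 1),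
  (0, 3, 1, 1399, 1), (0, 2, 1, 2099, 1), (3, 19, 1, 221, 0), (4, 0, 0, 0, 0), (0, 4201, 1, 2, 0), (1, 0, 0, 0, 0),
  (0, 3, 2, 467, 1), (0, 2, 2, 1051, 1), (0, 5, 1, 29, 2), (1, 0, 0, 0, 0), (0, 7, 1, 601, 1), (0, 2, 4, 263, 1),
  (3, 61, 1, 69, 0), (1, 0, 0, 0, 0), (0, 4211, 1, 2, 0), (4, 0, 0, 0, 0), (0, 11, 1, 383, 1), (1, 0, 0, 0, 0),
  (3, 281, 1, 15, 0), (3, 31, 1, 136, 0), (0, 4217, 1, 2, 0), (1, 0, 0, 0, 0), (0, 4219, 1, 2, 0), (2, 0, 0, 0, 0),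
  (3, 67, 1, 63, 0), (0, 2, 1, 2111, 1), (0, 41, 1, 103, 1), (3, 11, 1, 384, 0), (0, 5, 2, 13, 2), (0, 2, 1, 2113, 1),
  (0, 3, 1, 1409, 1), (2, 0, 0, 0, 0), (0, 4229, 1, 2, 0), (1, 0, 0, 0, 0), (0, 4231, 1, 2, 0), (0, 2, 3, 23, 2),
  (3, 83, 1, 51, 0), (1, 0, 0, 0, 0), (3, 11, 2, 35, 0), (3, 353, 1, 12, 0), (0, 19, 1, 223, 1), (1, 0, 0, 0, 0),
  (0, 3, 3, 157, 1), (3, 53, 1, 80, 0)]

set_option maxRecDepth 100000 in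
theorem table2_ok : chunkOk 4041 200 table2 = true := by
  decide +kernel

/-- The certificates for the orders `4241, ..., 4440`. -/
def table3 : List (ℕ × ℕ × ℕ × ℕ × ℕ) := [
  (0, 4241, 1, 2, 0), (1, 0, 0, 0, 0), (0, 4243, 1, 2, 0), (0, 2, 2, 1061, 1), (3, 283, 1, 15, 0), (1, 0, 0, 0, 0),
  (0, 31, 1, 137, 1), (3, 59, 1, 72, 0), (0, 7, 1, 607, 1), (1, 0, 0, 0, 0), (3, 109, 1, 39, 0), (0, 2, 2, 1063, 1),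
  (0, 4253, 1, 2, 0), (1, 0, 0, 0, 0), (3, 37, 1, 115, 0), (3, 19, 1, 224, 0), (3, 43, 1, 99, 0), (0, 2, 1, 2129, 1),
  (0, 4259, 1, 2, 0), (3, 71, 1, 60, 0), (0, 4261, 1, 2, 0), (0, 2, 1, 2131, 1), (3, 29, 1, 147, 0), (3, 41, 1, 104, 0),
  (0, 5, 1, 853, 1), (1, 0, 0, 0, 0), (0, 17, 1, 251, 1), (2, 0, 0, 0, 0), (0, 3, 1, 1423, 1), (1, 0, 0, 0, 0),
  (0, 4271, 1, 2, 0), (3, 89, 1, 48, 0), (0, 4273, 1, 2, 0), (0, 2, 1, 2137, 1), (3, 19, 1, 225, 0), (0, 2, 2, 1069, 1),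
  (3, 47, 1, 91, 0), (1, 0, 0, 0, 0), (0, 11, 1, 389, 1), (3, 107, 1, 40, 0), (0, 3, 1, 1427, 1), (0, 2, 1, 2141, 1),
  (0, 4283, 1, 2, 0), (3, 17, 1, 252, 0), (0, 5, 1, 857, 1), (0, 2, 1, 2143, 1), (0, 3, 1, 1429, 1), (0, 2, 6, 67, 1),
  (0, 4289, 1, 2, 0), (1, 0, 0, 0, 0), (0, 7, 1, 613, 1), (2, 0, 0, 0, 0), (0, 3, 4, 53, 1), (1, 0, 0, 0, 0),
  (0, 5, 1, 859, 1), (3, 179, 1, 24, 0), (0, 4297, 1, 2, 0), (1, 0, 0, 0, 0), (0, 3, 1, 1433, 1), (2, 0, 0, 0, 0),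
  (3, 23, 1, 187, 0), (1, 0, 0, 0, 0), (0, 13, 1, 331, 1), (0, 2, 4, 269, 1), (3, 41, 1, 105, 0), (0, 2, 1, 2153, 1),
  (0, 59, 1, 73, 1), (3, 359, 1, 12, 0), (0, 31, 1, 139, 1), (1, 0, 0, 0, 0), (0, 3, 2, 479, 1), (3, 11, 1, 392, 0),
  (0, 19, 1, 227, 1), (1, 0, 0, 0, 0), (0, 5, 1, 863, 1), (2, 0, 0, 0, 0), (0, 3, 1, 1439, 1), (1, 0, 0, 0, 0),
  (0, 7, 1, 617, 1), (4, 0, 0, 0, 0), (0, 29, 1, 149, 1), (0, 2, 1, 2161, 1), (3, 131, 1, 33, 0), (2, 0, 0, 0, 0),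
  (0, 5, 2, 173, 1), (1, 0, 0, 0, 0), (0, 4327, 1, 2, 0), (0, 2, 3, 541, 1), (3, 37, 1, 117, 0), (1, 0, 0, 0, 0),
  (0, 61, 1, 71, 1), (3, 19, 2, 12, 0), (0, 7, 1, 619, 1), (1, 0, 0, 0, 0), (3, 17, 2, 15, 0), (0, 2, 4, 271, 1),
  (0, 4337, 1, 2, 0), (1, 0, 0, 0, 0), (0, 4339, 1, 2, 0), (2, 0, 0, 0, 0), (0, 3, 1, 1447, 1), (1, 0, 0, 0, 0),
  (0, 43, 1, 101, 1), (3, 181, 1, 24, 0), (3, 79, 1, 55, 0), (1, 0, 0, 0, 0), (3, 23, 1, 189, 0), (0, 2, 2, 1087, 1),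
  (0, 4349, 1, 2, 0), (1, 0, 0, 0, 0), (0, 19, 1, 229, 1), (0, 2, 8, 17, 1), (0, 3, 1, 1451, 1), (1, 0, 0, 0, 0),
  (3, 67, 1, 65, 0), (3, 11, 2, 36, 0), (0, 4357, 1, 2, 0), (0, 2, 1, 2179, 1), (0, 3, 1, 1453, 1), (3, 109, 1, 40, 0),
  (0, 7, 2, 89, 1), (1, 0, 0, 0, 0), (0, 4363, 1, 2, 0), (0, 2, 2, 1091, 1), (3, 97, 1, 45, 0), (1, 0, 0, 0, 0),
  (0, 11, 1, 397, 1), (3, 13, 1, 336, 0), (0, 17, 1, 257, 1), (1, 0, 0, 0, 0), (3, 47, 1, 93, 0), (0, 2, 2, 1093, 1),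
  (0, 4373, 1, 2, 0), (0, 2, 1, 3, 7), (0, 5, 4, 7, 1), (0, 2, 3, 547, 1), (0, 3, 1, 1459, 1), (1, 0, 0, 0, 0),
  (0, 29, 1, 151, 1), (3, 73, 1, 60, 0), (0, 13, 1, 337, 1), (1, 0, 0, 0, 0), (0, 3, 2, 487, 1), (0, 2, 5, 137, 1),
  (0, 5, 1, 877, 1), (1, 0, 0, 0, 0), (0, 41, 1, 107, 1), (0, 2, 2, 1097, 1), (3, 11, 1, 399, 0), (1, 0, 0, 0, 0),
  (0, 4391, 1, 2, 0), (3, 61, 1, 72, 0), (0, 23, 1, 191, 1), (0, 2, 1, 13, 3), (3, 293, 1, 15, 0), (2, 0, 0, 0, 0),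
  (0, 4397, 1, 2, 0), (1, 0, 0, 0, 0), (0, 53, 1, 83, 1), (4, 0, 0, 0, 0), (0, 3, 3, 163, 1), (1, 0, 0, 0, 0),
  (3, 37, 1, 119, 0), (3, 367, 1, 12, 0), (0, 5, 1, 881, 1), (0, 2, 1, 2203, 1), (3, 113, 1, 39, 0), (3, 29, 1, 152, 0),
  (0, 4409, 1, 2, 0), (1, 0, 0, 0, 0), (0, 11, 1, 401, 1), (0, 2, 2, 1103, 1), (0, 3, 1, 1471, 1), (0, 2, 1, 2207, 1),
  (0, 5, 1, 883, 1), (3, 23, 1, 192, 0), (0, 7, 1, 631, 1), (0, 2, 1, 47, 2), (0, 3, 2, 491, 1), (2, 0, 0, 0, 0),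
  (0, 4421, 1, 2, 0), (1, 0, 0, 0, 0), (0, 4423, 1, 2, 0), (3, 79, 1, 56, 0), (3, 59, 1, 75, 0), (0, 2, 1, 2213, 1),
  (0, 19, 1, 233, 1), (3, 41, 1, 108, 0), (0, 43, 1, 103, 1), (1, 0, 0, 0, 0), (3, 211, 1, 21, 0), (0, 2, 4, 277, 1),
  (3, 31, 1, 143, 0), (1, 0, 0, 0, 0), (0, 5, 1, 887, 1), (0, 2, 2, 1109, 1), (3, 29, 1, 153, 0), (1, 0, 0, 0, 0),
  (0, 23, 1, 193, 1), (3, 37, 1, 120, 0)]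

set_option maxRecDepth 100000 in
theorem table3_ok : chunkOk 4241 200 table3 = true := by
  decide +kernel

/-- The certificates for the orders `4441, ..., 4640`. -/
def table4 : List (ℕ × ℕ × ℕ × ℕ × ℕ) := [
  (0, 4441, 1, 2, 0), (0, 2, 1, 2221, 1), (0, 3, 1, 1481, 1), (2, 0, 0, 0, 0), (3, 127, 1, 35, 0), (1, 0, 0, 0, 0),
  (0, 4447, 1, 2, 0), (0, 2, 5, 139, 1), (0, 3, 1, 1483, 1), (1, 0, 0, 0, 0), (0, 4451, 1, 2, 0), (3, 53, 1, 84, 0),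
  (0, 61, 1, 73, 1), (1, 0, 0, 0, 0), (3, 11, 1, 405, 0), (0, 2, 3, 557, 1), (0, 4457, 1, 2, 0), (1, 0, 0, 0, 0),
  (0, 7, 3, 13, 1), (2, 0, 0, 0, 0), (0, 3, 1, 1487, 1), (1, 0, 0, 0, 0), (0, 4463, 1, 2, 0), (3, 31, 1, 144, 0),
  (3, 47, 1, 95, 0), (1, 0, 0, 0, 0), (0, 3, 1, 1489, 1), (0, 2, 2, 1117, 1), (0, 41, 1, 109, 1), (1, 0, 0, 0, 0),
  (0, 17, 1, 263, 1), (3, 43, 1, 104, 0), (3, 71, 1, 63, 0), (0, 2, 1, 2237, 1), (0, 5, 2, 179, 1), (3, 373, 1, 12, 0),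
  (0, 11, 2, 37, 1), (0, 2, 1, 2239, 1), (0, 3, 1, 1493, 1), (3, 2, 7, 35, 0), (0, 4481, 1, 2, 0), (1, 0, 0, 0, 0),
  (0, 4483, 1, 2, 0), (2, 0, 0, 0, 0), (3, 23, 1, 195, 0), (0, 2, 1, 2243, 1), (0, 7, 1, 641, 1), (3, 17, 1, 264, 0),
  (0, 67, 2, 2, 0), (1, 0, 0, 0, 0), (0, 3, 2, 499, 1), (0, 2, 2, 1123, 1), (0, 4493, 1, 2, 0), (1, 0, 0, 0, 0),
  (3, 31, 1, 145, 0), (0, 2, 4, 281, 1), (0, 3, 1, 1499, 1), (1, 0, 0, 0, 0), (0, 11, 1, 409, 1), (3, 5, 3, 36, 0),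
  (0, 7, 1, 643, 1), (0, 2, 1, 2251, 1), (3, 79, 1, 57, 0), (0, 2, 3, 563, 1), (3, 53, 1, 85, 0), (1, 0, 0, 0, 0),
  (0, 4507, 1, 2, 0), (2, 0, 0, 0, 0), (0, 3, 3, 167, 1), (1, 0, 0, 0, 0), (0, 13, 1, 347, 1), (3, 47, 1, 96, 0),
  (0, 4513, 1, 2, 0), (1, 0, 0, 0, 0), (3, 43, 1, 105, 0), (0, 2, 2, 1129, 1), (0, 4517, 1, 2, 0), (1, 0, 0, 0, 0),
  (0, 4519, 1, 2, 0), (3, 113, 1, 40, 0), (3, 137, 1, 33, 0), (1, 0, 0, 0, 0), (0, 4523, 1, 2, 0), (3, 29, 1, 156, 0),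
  (0, 5, 2, 181, 1), (1, 0, 0, 0, 0), (0, 3, 2, 503, 1), (0, 2, 4, 283, 1), (0, 7, 1, 647, 1), (1, 0, 0, 0, 0),
  (0, 23, 1, 197, 1), (2, 0, 0, 0, 0), (0, 3, 1, 1511, 1), (0, 2, 1, 2267, 1), (0, 5, 1, 907, 1), (4, 0, 0, 0, 0),
  (0, 13, 1, 349, 1), (0, 2, 1, 2269, 1), (3, 89, 1, 51, 0), (2, 0, 0, 0, 0), (0, 19, 1, 239, 1), (1, 0, 0, 0, 0),
  (3, 59, 1, 77, 0), (0, 2, 6, 71, 1), (3, 101, 1, 45, 0), (0, 2, 1, 2273, 1), (0, 4547, 1, 2, 0), (3, 379, 1, 12, 0),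
  (0, 4549, 1, 2, 0), (1, 0, 0, 0, 0), (3, 41, 1, 111, 0), (0, 2, 3, 569, 1), (0, 29, 1, 157, 1), (1, 0, 0, 0, 0),
  (0, 5, 1, 911, 1), (2, 0, 0, 0, 0), (3, 31, 1, 147, 0), (1, 0, 0, 0, 0), (0, 47, 1, 97, 1), (3, 19, 1, 240, 0),
  (0, 4561, 1, 2, 0), (0, 2, 1, 2281, 1), (0, 3, 3, 13, 2), (2, 0, 0, 0, 0), (3, 83, 1, 55, 0), (1, 0, 0, 0, 0),
  (0, 4567, 1, 2, 0), (0, 2, 3, 571, 1), (0, 3, 1, 1523, 1), (1, 0, 0, 0, 0), (0, 7, 1, 653, 1), (3, 127, 1, 36, 0),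
  (0, 17, 1, 269, 1), (0, 2, 1, 2287, 1), (3, 61, 1, 75, 0), (3, 13, 1, 352, 0), (0, 23, 1, 199, 1), (1, 0, 0, 0, 0),
  (0, 19, 1, 241, 1), (2, 0, 0, 0, 0), (0, 3, 2, 509, 1), (1, 0, 0, 0, 0), (0, 4583, 1, 2, 0), (3, 191, 1, 24, 0),
  (3, 131, 1, 35, 0), (0, 2, 1, 2293, 1), (3, 139, 1, 33, 0), (2, 0, 0, 0, 0), (0, 13, 1, 353, 1), (1, 0, 0, 0, 0),
  (0, 4591, 1, 2, 0), (3, 41, 1, 112, 0), (0, 3, 1, 1531, 1), (0, 2, 1, 2297, 1), (0, 5, 1, 919, 1), (3, 383, 1, 12, 0),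
  (0, 4597, 1, 2, 0), (1, 0, 0, 0, 0), (3, 73, 1, 63, 0), (3, 23, 1, 200, 0), (0, 43, 1, 107, 1), (1, 0, 0, 0, 0),
  (0, 4603, 1, 2, 0), (0, 2, 2, 1151, 1), (3, 307, 1, 15, 0), (1, 0, 0, 0, 0), (0, 17, 1, 271, 1), (0, 2, 9, 3, 2),
  (0, 11, 1, 419, 1), (1, 0, 0, 0, 0), (3, 53, 1, 87, 0), (0, 2, 2, 1153, 1), (0, 7, 1, 659, 1), (1, 0, 0, 0, 0),
  (3, 71, 1, 65, 0), (0, 2, 3, 577, 1), (0, 3, 5, 19, 1), (0, 2, 1, 2309, 1), (0, 31, 1, 149, 1), (4, 0, 0, 0, 0),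
  (0, 4621, 1, 2, 0), (0, 2, 1, 2311, 1), (3, 67, 1, 69, 0), (0, 2, 4, 17, 2), (0, 5, 3, 37, 1), (1, 0, 0, 0, 0),
  (0, 7, 1, 661, 1), (2, 0, 0, 0, 0), (0, 3, 1, 1543, 1), (1, 0, 0, 0, 0), (0, 11, 1, 421, 1), (3, 193, 1, 24, 0),
  (0, 41, 1, 113, 1), (1, 0, 0, 0, 0), (3, 103, 1, 45, 0), (2, 0, 0, 0, 0), (0, 4637, 1, 2, 0), (1, 0, 0, 0, 0),
  (0, 4639, 1, 2, 0), (3, 29, 1, 160, 0)]

set_option maxRecDepth 100000 in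
theorem table4_ok : chunkOk 4441 200 table4 = true := by
  decide +kernel

/-- The certificates for the orders `4641, ..., 4840`. -/
def table5 : List (ℕ × ℕ × ℕ × ℕ × ℕ) := [
  (3, 17, 1, 273, 0), (1, 0, 0, 0, 0), (0, 4643, 1, 2, 0), (3, 43, 1, 108, 0), (0, 5, 1, 929, 1), (1, 0, 0, 0, 0),
  (0, 3, 1, 1549, 1), (3, 83, 1, 56, 0), (0, 4649, 1, 2, 0), (1, 0, 0, 0, 0), (0, 4651, 1, 2, 0), (0, 2, 2, 1163, 1),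
  (3, 47, 1, 99, 0), (1, 0, 0, 0, 0), (3, 19, 1, 245, 0), (3, 97, 1, 48, 0), (0, 4657, 1, 2, 0), (1, 0, 0, 0, 0),
  (0, 3, 1, 1553, 1), (2, 0, 0, 0, 0), (0, 59, 1, 79, 1), (1, 0, 0, 0, 0), (0, 4663, 1, 2, 0), (3, 53, 1, 88, 0),
  (3, 311, 1, 15, 0), (0, 2, 1, 2333, 1), (0, 13, 1, 359, 1), (3, 389, 1, 12, 0), (3, 29, 1, 161, 0), (1, 0, 0, 0, 0),
  (0, 3, 3, 173, 1), (0, 2, 6, 73, 1), (0, 4673, 1, 2, 0), (1, 0, 0, 0, 0), (3, 17, 1, 275, 0), (2, 0, 0, 0, 0),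
  (0, 3, 1, 1559, 1), (0, 2, 1, 2339, 1), (0, 4679, 1, 2, 0), (4, 0, 0, 0, 0), (0, 31, 1, 151, 1), (0, 2, 1, 2341, 1),
  (3, 223, 1, 21, 0), (0, 2, 2, 1171, 1), (0, 5, 1, 937, 1), (1, 0, 0, 0, 0), (0, 43, 1, 109, 1), (0, 2, 4, 293, 1),
  (0, 3, 2, 521, 1), (1, 0, 0, 0, 0), (0, 4691, 1, 2, 0), (3, 23, 1, 204, 0), (0, 13, 1, 19, 2), (0, 2, 1, 2347, 1),
  (3, 313, 1, 15, 0), (0, 2, 3, 587, 1), (3, 61, 1, 77, 0), (1, 0, 0, 0, 0), (0, 37, 1, 127, 1), (2, 0, 0, 0, 0),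
  (0, 3, 1, 1567, 1), (0, 2, 1, 2351, 1), (0, 4703, 1, 2, 0), (3, 7, 2, 96, 0), (0, 5, 1, 941, 1), (1, 0, 0, 0, 0),
  (0, 3, 2, 523, 1), (2, 0, 0, 0, 0), (0, 17, 1, 277, 1), (1, 0, 0, 0, 0), (0, 7, 1, 673, 1), (3, 31, 1, 152, 0),
  (0, 3, 1, 1571, 1), (0, 2, 1, 2357, 1), (3, 41, 1, 115, 0), (3, 131, 1, 36, 0), (0, 53, 1, 89, 1), (1, 0, 0, 0, 0),
  (3, 13, 1, 363, 0), (3, 59, 1, 80, 0), (0, 4721, 1, 2, 0), (1, 0, 0, 0, 0), (0, 4723, 1, 2, 0), (0, 2, 2, 1181, 1),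
  (3, 5, 2, 189, 0), (1, 0, 0, 0, 0), (0, 29, 1, 163, 1), (3, 197, 1, 24, 0), (0, 4729, 1, 2, 0), (1, 0, 0, 0, 0),
  (3, 83, 1, 57, 0), (2, 0, 0, 0, 0), (0, 4733, 1, 2, 0), (1, 0, 0, 0, 0), (0, 5, 1, 947, 1), (0, 2, 7, 37, 1),
  (0, 3, 1, 1579, 1), (1, 0, 0, 0, 0), (0, 7, 1, 677, 1), (3, 79, 1, 60, 0), (0, 11, 1, 431, 1), (0, 2, 1, 2371, 1),
  (3, 31, 1, 153, 0), (0, 2, 3, 593, 1), (3, 73, 1, 65, 0), (1, 0, 0, 0, 0), (0, 47, 1, 101, 1), (0, 2, 2, 1187, 1),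
  (0, 3, 1, 1583, 1), (1, 0, 0, 0, 0), (0, 4751, 1, 2, 0), (3, 11, 1, 432, 0), (0, 7, 2, 97, 1), (0, 2, 1, 2377, 1),
  (3, 317, 1, 15, 0), (2, 0, 0, 0, 0), (0, 67, 1, 71, 1), (1, 0, 0, 0, 0), (0, 4759, 1, 2, 0), (4, 0, 0, 0, 0),
  (0, 3, 2, 23, 2), (0, 2, 1, 2381, 1), (0, 11, 1, 433, 1), (3, 397, 1, 12, 0), (0, 5, 1, 953, 1), (0, 2, 1, 2383, 1),
  (3, 227, 1, 21, 0), (0, 2, 5, 149, 1), (0, 19, 1, 251, 1), (1, 0, 0, 0, 0), (0, 13, 1, 367, 1), (0, 2, 2, 1193, 1),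
  (3, 43, 1, 111, 0), (1, 0, 0, 0, 0), (0, 5, 2, 191, 1), (3, 199, 1, 24, 0), (0, 17, 1, 281, 1), (0, 2, 1, 2389, 1),
  (0, 3, 4, 59, 1), (2, 0, 0, 0, 0), (0, 7, 1, 683, 1), (1, 0, 0, 0, 0), (0, 4783, 1, 2, 0), (3, 23, 1, 208, 0),
  (3, 29, 1, 165, 0), (0, 2, 1, 2393, 1), (0, 4787, 1, 2, 0), (3, 19, 1, 252, 0), (0, 4789, 1, 2, 0), (1, 0, 0, 0, 0),
  (0, 3, 1, 1597, 1), (0, 2, 3, 599, 1), (0, 4793, 1, 2, 0), (1, 0, 0, 0, 0), (3, 137, 1, 35, 0), (2, 0, 0, 0, 0),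
  (3, 41, 1, 117, 0), (0, 2, 1, 2399, 1), (0, 4799, 1, 2, 0), (4, 0, 0, 0, 0), (0, 4801, 1, 2, 0), (0, 2, 1, 7, 4),
  (0, 3, 1, 1601, 1), (0, 2, 2, 1201, 1), (0, 5, 1, 31, 2), (1, 0, 0, 0, 0), (3, 23, 1, 209, 0), (0, 2, 3, 601, 1),
  (3, 229, 1, 21, 0), (1, 0, 0, 0, 0), (0, 17, 1, 283, 1), (3, 401, 1, 12, 0), (0, 4813, 1, 2, 0), (1, 0, 0, 0, 0),
  (3, 107, 1, 45, 0), (3, 43, 1, 112, 0), (0, 4817, 1, 2, 0), (1, 0, 0, 0, 0), (0, 61, 1, 79, 1), (2, 0, 0, 0, 0),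
  (0, 3, 1, 1607, 1), (0, 2, 1, 2411, 1), (3, 53, 1, 91, 0), (3, 67, 1, 72, 0), (0, 5, 2, 193, 1), (1, 0, 0, 0, 0),
  (0, 3, 1, 1609, 1), (2, 0, 0, 0, 0), (0, 11, 1, 439, 1), (1, 0, 0, 0, 0), (0, 4831, 1, 2, 0), (0, 2, 5, 151, 1),
  (0, 3, 3, 179, 1), (0, 2, 1, 2417, 1), (0, 5, 1, 967, 1), (3, 31, 1, 156, 0), (0, 7, 1, 691, 1), (1, 0, 0, 0, 0),
  (0, 3, 1, 1613, 1), (3, 11, 2, 40, 0)]

set_option maxRecDepth 100000 in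
theorem table5_ok : chunkOk 4641 200 table5 = true := by
  decide +kernel

/-- The certificates for the orders `4841, ..., 5040`. -/
def table6 : List (ℕ × ℕ × ℕ × ℕ × ℕ) := [
  (0, 47, 1, 103, 1), (1, 0, 0, 0, 0), (0, 29, 1, 167, 1), (2, 0, 0, 0, 0), (3, 19, 1, 255, 0), (0, 2, 1, 2423, 1),
  (0, 37, 1, 131, 1), (3, 101, 1, 48, 0), (0, 13, 1, 373, 1), (1, 0, 0, 0, 0), (3, 11, 1, 441, 0), (0, 2, 2, 1213, 1),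
  (0, 23, 1, 211, 1), (1, 0, 0, 0, 0), (0, 5, 1, 971, 1), (0, 2, 3, 607, 1), (0, 3, 1, 1619, 1), (1, 0, 0, 0, 0),
  (0, 43, 1, 113, 1), (3, 3, 5, 20, 0), (0, 4861, 1, 2, 0), (1, 0, 0, 0, 0), (0, 3, 1, 1621, 1), (0, 2, 8, 19, 1),
  (3, 139, 1, 35, 0), (1, 0, 0, 0, 0), (0, 31, 1, 157, 1), (0, 2, 2, 1217, 1), (0, 3, 2, 541, 1), (1, 0, 0, 0, 0),
  (0, 4871, 1, 2, 0), (3, 29, 1, 168, 0), (0, 11, 1, 443, 1), (0, 2, 1, 2437, 1), (3, 13, 1, 375, 0), (2, 0, 0, 0, 0),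
  (0, 4877, 1, 2, 0), (1, 0, 0, 0, 0), (3, 41, 1, 119, 0), (3, 61, 1, 80, 0), (0, 3, 1, 1627, 1), (0, 2, 1, 2441, 1),
  (0, 19, 1, 257, 1), (3, 37, 1, 132, 0), (0, 5, 1, 977, 1), (1, 0, 0, 0, 0), (0, 3, 3, 181, 1), (3, 47, 1, 104, 0),
  (0, 4889, 1, 2, 0), (1, 0, 0, 0, 0), (0, 67, 1, 73, 1), (0, 2, 2, 1223, 1), (3, 233, 1, 21, 0), (0, 2, 1, 2447, 1),
  (3, 89, 1, 55, 0), (3, 17, 1, 288, 0), (0, 59, 1, 83, 1), (1, 0, 0, 0, 0), (3, 71, 1, 69, 0), (2, 0, 0, 0, 0),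
  (0, 13, 2, 29, 1), (1, 0, 0, 0, 0), (0, 4903, 1, 2, 0), (0, 2, 3, 613, 1), (3, 109, 1, 45, 0), (1, 0, 0, 0, 0),
  (0, 7, 1, 701, 1), (3, 409, 1, 12, 0), (0, 4909, 1, 2, 0), (1, 0, 0, 0, 0), (0, 3, 1, 1637, 1), (0, 2, 4, 307, 1),
  (0, 17, 3, 2, 0), (1, 0, 0, 0, 0), (0, 5, 1, 983, 1), (0, 2, 2, 1229, 1), (3, 149, 1, 33, 0), (0, 2, 1, 2459, 1),
  (0, 4919, 1, 2, 0), (3, 41, 1, 120, 0), (3, 37, 1, 133, 0), (1, 0, 0, 0, 0), (0, 3, 2, 547, 1), (0, 2, 2, 1231, 1),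
  (0, 5, 2, 197, 1), (1, 0, 0, 0, 0), (0, 13, 1, 379, 1), (4, 0, 0, 0, 0), (3, 53, 1, 93, 0), (1, 0, 0, 0, 0),
  (0, 4931, 1, 2, 0), (3, 137, 1, 36, 0), (0, 4933, 1, 2, 0), (0, 2, 1, 2467, 1), (3, 47, 1, 105, 0), (0, 2, 3, 617, 1),
  (0, 4937, 1, 2, 0), (1, 0, 0, 0, 0), (0, 11, 1, 449, 1), (2, 0, 0, 0, 0), (0, 3, 4, 61, 1), (1, 0, 0, 0, 0),
  (0, 4943, 1, 2, 0), (3, 103, 1, 48, 0), (3, 43, 1, 115, 0), (0, 2, 1, 2473, 1), (3, 97, 1, 51, 0), (0, 2, 2, 1237, 1),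
  (0, 7, 2, 101, 1), (1, 0, 0, 0, 0), (0, 4951, 1, 2, 0), (0, 2, 3, 619, 1), (3, 127, 1, 39, 0), (0, 2, 1, 2477, 1),
  (0, 5, 1, 991, 1), (3, 59, 1, 84, 0), (0, 4957, 1, 2, 0), (1, 0, 0, 0, 0), (3, 29, 1, 171, 0), (4, 0, 0, 0, 0),
  (0, 11, 2, 41, 1), (1, 0, 0, 0, 0), (0, 7, 1, 709, 1), (2, 0, 0, 0, 0), (3, 331, 1, 15, 0), (1, 0, 0, 0, 0),
  (0, 4967, 1, 2, 0), (3, 23, 1, 216, 0), (0, 4969, 1, 2, 0), (1, 0, 0, 0, 0), (0, 3, 1, 1657, 1), (2, 0, 0, 0, 0),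
  (0, 4973, 1, 2, 0), (1, 0, 0, 0, 0), (0, 5, 2, 199, 1), (0, 2, 4, 311, 1), (3, 79, 1, 63, 0), (1, 0, 0, 0, 0),
  (0, 13, 1, 383, 1), (3, 83, 1, 60, 0), (0, 17, 1, 293, 1), (1, 0, 0, 0, 0), (3, 151, 1, 33, 0), (3, 89, 1, 56, 0),
  (0, 5, 1, 997, 1), (1, 0, 0, 0, 0), (0, 4987, 1, 2, 0), (2, 0, 0, 0, 0), (0, 3, 1, 1663, 1), (1, 0, 0, 0, 0),
  (3, 31, 1, 161, 0), (3, 13, 1, 384, 0), (0, 4993, 1, 2, 0), (1, 0, 0, 0, 0), (3, 37, 1, 135, 0), (0, 2, 2, 1249, 1),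
  (0, 19, 1, 263, 1), (1, 0, 0, 0, 0), (0, 4999, 1, 2, 0), (0, 2, 3, 5, 4), (0, 3, 1, 1667, 1), (1, 0, 0, 0, 0),
  (0, 5003, 1, 2, 0), (3, 139, 1, 36, 0), (3, 13, 1, 385, 0), (0, 2, 1, 2503, 1), (0, 3, 1, 1669, 1), (0, 2, 4, 313, 1),
  (0, 5009, 1, 2, 0), (1, 0, 0, 0, 0), (0, 5011, 1, 2, 0), (2, 0, 0, 0, 0), (0, 3, 2, 557, 1), (1, 0, 0, 0, 0),
  (3, 59, 1, 85, 0), (3, 19, 1, 264, 0), (0, 29, 1, 173, 1), (1, 0, 0, 0, 0), (3, 239, 1, 21, 0), (2, 0, 0, 0, 0),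
  (0, 5021, 1, 2, 0), (1, 0, 0, 0, 0), (0, 5023, 1, 2, 0), (0, 2, 5, 157, 1), (3, 67, 1, 75, 0), (1, 0, 0, 0, 0),
  (0, 11, 1, 457, 1), (3, 419, 1, 12, 0), (0, 47, 1, 107, 1), (1, 0, 0, 0, 0), (3, 43, 1, 117, 0), (3, 37, 1, 136, 0),
  (0, 7, 1, 719, 1), (1, 0, 0, 0, 0), (3, 53, 1, 95, 0), (0, 2, 2, 1259, 1), (3, 73, 1, 69, 0), (1, 0, 0, 0, 0),
  (0, 5039, 1, 2, 0), (4, 0, 0, 0, 0)]

set_option maxRecDepth 100000 in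
theorem table6_ok : chunkOk 4841 200 table6 = true := by
  decide +kernel

/-- The certificates for the orders `5041, ..., 5240`. -/
def table7 : List (ℕ × ℕ × ℕ × ℕ × ℕ) := [
  (0, 71, 2, 2, 0), (0, 2, 1, 2521, 1), (0, 3, 1, 41, 2), (2, 0, 0, 0, 0), (0, 5, 1, 1009, 1), (1, 0, 0, 0, 0),
  (0, 7, 2, 103, 1), (0, 2, 3, 631, 1), (3, 17, 1, 297, 0), (1, 0, 0, 0, 0), (0, 5051, 1, 2, 0), (3, 421, 1, 12, 0),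
  (0, 31, 1, 163, 1), (1, 0, 0, 0, 0), (3, 337, 1, 15, 0), (0, 2, 6, 79, 1), (0, 13, 1, 389, 1), (1, 0, 0, 0, 0),
  (0, 5059, 1, 2, 0), (2, 0, 0, 0, 0), (3, 241, 1, 21, 0), (0, 2, 1, 2531, 1), (0, 61, 1, 83, 1), (3, 211, 1, 24, 0),
  (0, 5, 1, 1013, 1), (1, 0, 0, 0, 0), (0, 3, 2, 563, 1), (2, 0, 0, 0, 0), (0, 37, 1, 137, 1), (1, 0, 0, 0, 0),
  (0, 11, 1, 461, 1), (0, 2, 4, 317, 1), (3, 89, 1, 57, 0), (1, 0, 0, 0, 0), (3, 29, 1, 175, 0), (3, 47, 1, 108, 0),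
  (0, 5077, 1, 2, 0), (0, 2, 1, 2539, 1), (0, 3, 1, 1693, 1), (3, 127, 1, 40, 0), (0, 5081, 1, 2, 0), (1, 0, 0, 0, 0),
  (3, 23, 1, 221, 0), (2, 0, 0, 0, 0), (3, 113, 1, 45, 0), (0, 2, 1, 2543, 1), (0, 5087, 1, 2, 0), (3, 53, 1, 96, 0),
  (0, 7, 1, 727, 1), (1, 0, 0, 0, 0), (0, 3, 1, 1697, 1), (2, 0, 0, 0, 0), (0, 11, 1, 463, 1), (1, 0, 0, 0, 0),
  (0, 5, 1, 1019, 1), (3, 7, 2, 104, 0), (0, 3, 1, 1699, 1), (0, 2, 1, 2549, 1), (0, 5099, 1, 2, 0), (3, 17, 1, 300, 0),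
  (0, 5101, 1, 2, 0), (0, 2, 1, 2551, 1), (0, 3, 6, 7, 1), (4, 0, 0, 0, 0), (0, 5, 1, 1021, 1), (1, 0, 0, 0, 0),
  (0, 5107, 1, 2, 0), (0, 2, 2, 1277, 1), (3, 131, 1, 39, 0), (1, 0, 0, 0, 0), (0, 19, 1, 269, 1), (3, 71, 1, 72, 0),
  (0, 5113, 1, 2, 0), (0, 2, 1, 2557, 1), (3, 31, 1, 165, 0), (0, 2, 2, 1279, 1), (3, 43, 1, 119, 0), (1, 0, 0, 0, 0),
  (0, 5119, 1, 2, 0), (0, 2, 10, 5, 1), (0, 3, 2, 569, 1), (1, 0, 0, 0, 0), (0, 47, 1, 109, 1), (3, 61, 1, 84, 0),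
  (0, 5, 3, 41, 1), (1, 0, 0, 0, 0), (0, 3, 1, 1709, 1), (0, 2, 3, 641, 1), (0, 23, 1, 223, 1), (1, 0, 0, 0, 0),
  (0, 7, 1, 733, 1), (0, 2, 2, 1283, 1), (3, 59, 1, 87, 0), (1, 0, 0, 0, 0), (3, 79, 1, 65, 0), (3, 107, 1, 48, 0),
  (0, 11, 1, 467, 1), (1, 0, 0, 0, 0), (0, 3, 2, 571, 1), (2, 0, 0, 0, 0), (0, 53, 1, 97, 1), (1, 0, 0, 0, 0),
  (0, 37, 1, 139, 1), (0, 2, 3, 643, 1), (3, 7, 3, 15, 0), (1, 0, 0, 0, 0), (0, 5147, 1, 2, 0), (4, 0, 0, 0, 0),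
  (0, 19, 1, 271, 1), (1, 0, 0, 0, 0), (3, 101, 1, 51, 0), (3, 23, 1, 224, 0), (0, 5153, 1, 2, 0), (1, 0, 0, 0, 0),
  (0, 5, 1, 1031, 1), (0, 2, 2, 1289, 1), (0, 3, 3, 191, 1), (0, 2, 1, 2579, 1), (3, 67, 1, 77, 0), (3, 43, 1, 120, 0),
  (0, 13, 1, 397, 1), (1, 0, 0, 0, 0), (0, 3, 1, 1721, 1), (0, 2, 2, 1291, 1), (0, 5, 1, 1033, 1), (1, 0, 0, 0, 0),
  (0, 5167, 1, 2, 0), (3, 19, 1, 272, 0), (0, 3, 1, 1723, 1), (1, 0, 0, 0, 0), (0, 5171, 1, 2, 0), (3, 431, 1, 12, 0),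
  (0, 7, 1, 739, 1), (1, 0, 0, 0, 0), (3, 23, 1, 225, 0), (0, 2, 3, 647, 1), (0, 31, 1, 167, 1), (1, 0, 0, 0, 0),
  (0, 5179, 1, 2, 0), (2, 0, 0, 0, 0), (3, 157, 1, 33, 0), (0, 2, 1, 2591, 1), (0, 71, 1, 73, 1), (0, 2, 6, 3, 4),
  (3, 61, 1, 85, 0), (0, 2, 1, 2593, 1), (3, 19, 1, 273, 0), (0, 2, 2, 1297, 1), (0, 5189, 1, 2, 0), (1, 0, 0, 0, 0),
  (0, 29, 1, 179, 1), (3, 59, 1, 88, 0), (0, 3, 2, 577, 1), (1, 0, 0, 0, 0), (0, 5, 1, 1039, 1), (3, 433, 1, 12, 0),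
  (0, 5197, 1, 2, 0), (1, 0, 0, 0, 0), (0, 3, 1, 1733, 1), (4, 0, 0, 0, 0), (0, 7, 1, 743, 1), (1, 0, 0, 0, 0),
  (0, 11, 2, 43, 1), (0, 2, 2, 1301, 1), (3, 347, 1, 15, 0), (1, 0, 0, 0, 0), (0, 41, 1, 127, 1), (3, 31, 1, 168, 0),
  (0, 5209, 1, 2, 0), (1, 0, 0, 0, 0), (0, 3, 3, 193, 1), (0, 2, 2, 1303, 1), (0, 13, 1, 401, 1), (1, 0, 0, 0, 0),
  (3, 149, 1, 35, 0), (0, 2, 5, 163, 1), (3, 47, 1, 111, 0), (0, 2, 1, 2609, 1), (0, 17, 1, 307, 1), (3, 29, 1, 180, 0),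
  (0, 23, 1, 227, 1), (1, 0, 0, 0, 0), (0, 3, 1, 1741, 1), (0, 2, 3, 653, 1), (3, 19, 1, 275, 0), (1, 0, 0, 0, 0),
  (0, 5227, 1, 2, 0), (0, 2, 2, 1307, 1), (3, 83, 1, 63, 0), (1, 0, 0, 0, 0), (0, 5231, 1, 2, 0), (3, 109, 1, 48, 0),
  (0, 5233, 1, 2, 0), (0, 2, 1, 2617, 1), (3, 349, 1, 15, 0), (2, 0, 0, 0, 0), (0, 5237, 1, 2, 0), (1, 0, 0, 0, 0),
  (0, 13, 2, 31, 1), (3, 131, 1, 40, 0)]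

set_option maxRecDepth 100000 in
theorem table7_ok : chunkOk 5041 200 table7 = true := by
  decide +kernel

/-- The certificates for the orders `5241, ..., 5440`. -/
def table8 : List (ℕ × ℕ × ℕ × ℕ × ℕ) := [
  (0, 3, 1, 1747, 1), (0, 2, 1, 2621, 1), (0, 7, 2, 107, 1), (3, 23, 1, 228, 0), (0, 5, 1, 1049, 1), (1, 0, 0, 0, 0),
  (3, 53, 1, 99, 0), (0, 2, 7, 41, 1), (0, 29, 1, 181, 1), (1, 0, 0, 0, 0), (0, 59, 1, 89, 1), (2, 0, 0, 0, 0),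
  (3, 103, 1, 51, 0), (1, 0, 0, 0, 0), (0, 5, 1, 1051, 1), (3, 73, 1, 72, 0), (0, 7, 1, 751, 1), (1, 0, 0, 0, 0),
  (0, 3, 1, 1753, 1), (2, 0, 0, 0, 0), (0, 5261, 1, 2, 0), (1, 0, 0, 0, 0), (0, 19, 1, 277, 1), (3, 47, 1, 112, 0),
  (3, 5, 1, 1053, 0), (0, 2, 1, 2633, 1), (0, 23, 1, 229, 1), (3, 439, 1, 12, 0), (0, 11, 1, 479, 1), (1, 0, 0, 0, 0),
  (3, 251, 1, 21, 0), (0, 2, 3, 659, 1), (0, 5273, 1, 2, 0), (1, 0, 0, 0, 0), (0, 5, 2, 211, 1), (0, 2, 2, 1319, 1),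
  (0, 3, 1, 1759, 1), (1, 0, 0, 0, 0), (0, 5279, 1, 2, 0), (3, 11, 1, 480, 0), (0, 5281, 1, 2, 0), (1, 0, 0, 0, 0),
  (0, 3, 2, 587, 1), (0, 2, 2, 1321, 1), (3, 151, 1, 35, 0), (1, 0, 0, 0, 0), (0, 17, 1, 311, 1), (0, 2, 3, 661, 1),
  (3, 43, 1, 123, 0), (1, 0, 0, 0, 0), (3, 37, 1, 143, 0), (3, 7, 2, 108, 0), (0, 67, 1, 79, 1), (0, 2, 1, 2647, 1),
  (3, 353, 1, 15, 0), (0, 2, 4, 331, 1), (0, 5297, 1, 2, 0), (1, 0, 0, 0, 0), (0, 7, 1, 757, 1), (2, 0, 0, 0, 0),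
  (3, 31, 1, 171, 0), (1, 0, 0, 0, 0), (0, 5303, 1, 2, 0), (3, 13, 1, 408, 0), (0, 5, 1, 1061, 1), (1, 0, 0, 0, 0),
  (3, 61, 1, 87, 0), (0, 2, 2, 1327, 1), (0, 5309, 1, 2, 0), (1, 0, 0, 0, 0), (0, 47, 1, 113, 1), (0, 2, 6, 83, 1),
  (3, 23, 1, 231, 0), (0, 2, 1, 2657, 1), (0, 5, 1, 1063, 1), (3, 443, 1, 12, 0), (0, 13, 1, 409, 1), (0, 2, 1, 2659, 1),
  (0, 3, 3, 197, 1), (3, 19, 1, 280, 0), (0, 17, 1, 313, 1), (1, 0, 0, 0, 0), (0, 5323, 1, 2, 0), (0, 2, 2, 11, 3),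
  (3, 71, 1, 75, 0), (0, 2, 1, 2663, 1), (0, 7, 1, 761, 1), (3, 37, 1, 144, 0), (0, 73, 2, 2, 0), (1, 0, 0, 0, 0),
  (0, 3, 1, 1777, 1), (2, 0, 0, 0, 0), (0, 5333, 1, 2, 0), (1, 0, 0, 0, 0), (3, 97, 1, 55, 0), (3, 29, 1, 184, 0),
  (0, 3, 2, 593, 1), (1, 0, 0, 0, 0), (0, 19, 1, 281, 1), (3, 89, 1, 60, 0), (0, 7, 2, 109, 1), (0, 2, 1, 2671, 1),
  (3, 137, 1, 39, 0), (0, 2, 5, 167, 1), (0, 5, 1, 1069, 1), (1, 0, 0, 0, 0), (0, 5347, 1, 2, 0), (2, 0, 0, 0, 0),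
  (0, 3, 1, 1783, 1), (1, 0, 0, 0, 0), (0, 5351, 1, 2, 0), (3, 223, 1, 24, 0), (0, 53, 1, 101, 1), (0, 2, 1, 2677, 1),
  (3, 17, 1, 315, 0), (2, 0, 0, 0, 0), (0, 11, 1, 487, 1), (1, 0, 0, 0, 0), (0, 23, 1, 233, 1), (3, 67, 1, 80, 0),
  (0, 3, 1, 1787, 1), (1, 0, 0, 0, 0), (0, 31, 1, 173, 1), (3, 149, 1, 36, 0), (3, 37, 1, 145, 0), (0, 2, 1, 2683, 1),
  (0, 3, 1, 1789, 1), (3, 61, 1, 88, 0), (3, 59, 1, 91, 0), (1, 0, 0, 0, 0), (0, 41, 1, 131, 1), (2, 0, 0, 0, 0),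
  (0, 3, 3, 199, 1), (0, 2, 1, 2687, 1), (0, 5, 3, 43, 1), (4, 0, 0, 0, 0), (0, 19, 1, 283, 1), (0, 2, 1, 2689, 1),
  (3, 163, 1, 33, 0), (2, 0, 0, 0, 0), (0, 5381, 1, 2, 0), (1, 0, 0, 0, 0), (0, 7, 1, 769, 1), (0, 2, 3, 673, 1),
  (3, 359, 1, 15, 0), (0, 2, 1, 2693, 1), (0, 5387, 1, 2, 0), (3, 449, 1, 12, 0), (0, 17, 1, 317, 1), (1, 0, 0, 0, 0),
  (0, 3, 2, 599, 1), (0, 2, 4, 337, 1), (0, 5393, 1, 2, 0), (1, 0, 0, 0, 0), (3, 83, 1, 65, 0), (2, 0, 0, 0, 0),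
  (3, 257, 1, 21, 0), (0, 2, 1, 2699, 1), (0, 5399, 1, 2, 0), (4, 0, 0, 0, 0), (0, 11, 1, 491, 1), (1, 0, 0, 0, 0),
  (0, 3, 1, 1801, 1), (2, 0, 0, 0, 0), (3, 47, 1, 115, 0), (1, 0, 0, 0, 0), (0, 5407, 1, 2, 0), (0, 2, 5, 13, 2),
  (0, 3, 2, 601, 1), (1, 0, 0, 0, 0), (0, 7, 1, 773, 1), (3, 41, 1, 132, 0), (0, 5413, 1, 2, 0), (0, 2, 1, 2707, 1),
  (3, 19, 2, 15, 0), (0, 2, 3, 677, 1), (0, 5417, 1, 2, 0), (1, 0, 0, 0, 0), (0, 5419, 1, 2, 0), (2, 0, 0, 0, 0),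
  (3, 139, 1, 39, 0), (0, 2, 1, 2711, 1), (3, 29, 1, 187, 0), (3, 113, 1, 48, 0), (3, 31, 1, 175, 0), (0, 2, 1, 2713, 1),
  (0, 3, 4, 67, 1), (2, 0, 0, 0, 0), (0, 61, 1, 89, 1), (1, 0, 0, 0, 0), (0, 5431, 1, 2, 0), (3, 97, 1, 56, 0),
  (0, 3, 1, 1811, 1), (1, 0, 0, 0, 0), (0, 5, 1, 1087, 1), (3, 151, 1, 36, 0), (0, 5437, 1, 2, 0), (0, 2, 1, 2719, 1),
  (3, 37, 1, 147, 0), (3, 17, 1, 320, 0)]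

set_option maxRecDepth 100000 in
theorem table8_ok : chunkOk 5241 200 table8 = true := by
  decide +kernel

/-- The certificates for the orders `5441, ..., 5640`. -/
def table9 : List (ℕ × ℕ × ℕ × ℕ × ℕ) := [
  (0, 5441, 1, 2, 0), (1, 0, 0, 0, 0), (0, 5443, 1, 2, 0), (0, 2, 2, 1361, 1), (3, 11, 2, 45, 0), (1, 0, 0, 0, 0),
  (0, 13, 1, 419, 1), (3, 227, 1, 24, 0), (0, 5449, 1, 2, 0), (1, 0, 0, 0, 0), (3, 79, 1, 69, 0), (2, 0, 0, 0, 0),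
  (3, 41, 1, 133, 0), (1, 0, 0, 0, 0), (0, 5, 1, 1091, 1), (3, 31, 1, 176, 0), (3, 107, 1, 51, 0), (0, 2, 1, 2729, 1),
  (0, 53, 1, 103, 1), (4, 0, 0, 0, 0), (0, 43, 1, 127, 1), (0, 2, 1, 2731, 1), (0, 3, 2, 607, 1), (0, 2, 3, 683, 1),
  (0, 5, 1, 1093, 1), (1, 0, 0, 0, 0), (3, 71, 1, 77, 0), (0, 2, 2, 1367, 1), (0, 3, 1, 1823, 1), (1, 0, 0, 0, 0),
  (0, 5471, 1, 2, 0), (4, 0, 0, 0, 0), (0, 13, 1, 421, 1), (1, 0, 0, 0, 0), (3, 73, 1, 75, 0), (0, 2, 2, 37, 2),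
  (0, 5477, 1, 2, 0), (1, 0, 0, 0, 0), (0, 5479, 1, 2, 0), (3, 137, 1, 40, 0), (3, 29, 1, 189, 0), (0, 2, 1, 2741, 1),
  (0, 5483, 1, 2, 0), (3, 457, 1, 12, 0), (0, 5, 1, 1097, 1), (1, 0, 0, 0, 0), (3, 59, 1, 93, 0), (0, 2, 4, 7, 3),
  (0, 11, 1, 499, 1), (1, 0, 0, 0, 0), (0, 17, 2, 19, 1), (0, 2, 2, 1373, 1), (0, 3, 1, 1831, 1), (1, 0, 0, 0, 0),
  (3, 157, 1, 35, 0), (3, 229, 1, 24, 0), (0, 23, 1, 239, 1), (0, 2, 1, 2749, 1), (3, 47, 1, 117, 0), (2, 0, 0, 0, 0),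
  (0, 5501, 1, 2, 0), (1, 0, 0, 0, 0), (0, 5503, 1, 2, 0), (0, 2, 7, 43, 1), (3, 367, 1, 15, 0), (0, 2, 1, 2753, 1),
  (0, 5507, 1, 2, 0), (3, 17, 1, 324, 0), (0, 7, 1, 787, 1), (1, 0, 0, 0, 0), (3, 167, 1, 33, 0), (3, 53, 1, 104, 0),
  (0, 37, 1, 149, 1), (1, 0, 0, 0, 0), (0, 5, 1, 1103, 1), (2, 0, 0, 0, 0), (0, 3, 2, 613, 1), (1, 0, 0, 0, 0),
  (0, 5519, 1, 2, 0), (3, 23, 1, 240, 0), (0, 5521, 1, 2, 0), (1, 0, 0, 0, 0), (3, 263, 1, 21, 0), (0, 2, 2, 1381, 1),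
  (3, 17, 1, 325, 0), (1, 0, 0, 0, 0), (0, 5527, 1, 2, 0), (0, 2, 3, 691, 1), (3, 97, 1, 57, 0), (1, 0, 0, 0, 0),
  (0, 5531, 1, 2, 0), (3, 461, 1, 12, 0), (0, 11, 1, 503, 1), (0, 2, 1, 2767, 1), (3, 41, 1, 135, 0), (0, 2, 5, 173, 1),
  (0, 7, 2, 113, 1), (1, 0, 0, 0, 0), (0, 29, 1, 191, 1), (2, 0, 0, 0, 0), (0, 3, 1, 1847, 1), (1, 0, 0, 0, 0),
  (0, 23, 1, 241, 1), (3, 11, 1, 504, 0), (0, 5, 1, 1109, 1), (1, 0, 0, 0, 0), (0, 3, 1, 43, 2), (2, 0, 0, 0, 0),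
  (0, 31, 1, 179, 1), (1, 0, 0, 0, 0), (3, 61, 1, 91, 0), (0, 2, 4, 347, 1), (0, 3, 2, 617, 1), (0, 2, 1, 2777, 1),
  (3, 101, 1, 55, 0), (3, 463, 1, 12, 0), (0, 5557, 1, 2, 0), (1, 0, 0, 0, 0), (3, 109, 1, 51, 0), (3, 139, 1, 40, 0),
  (0, 67, 1, 83, 1), (1, 0, 0, 0, 0), (0, 5563, 1, 2, 0), (2, 0, 0, 0, 0), (3, 53, 1, 105, 0), (1, 0, 0, 0, 0),
  (0, 19, 1, 293, 1), (3, 29, 1, 192, 0), (0, 5569, 1, 2, 0), (1, 0, 0, 0, 0), (0, 3, 2, 619, 1), (2, 0, 0, 0, 0),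
  (0, 5573, 1, 2, 0), (1, 0, 0, 0, 0), (0, 5, 2, 223, 1), (3, 41, 1, 136, 0), (3, 13, 2, 33, 0), (0, 2, 1, 2789, 1),
  (0, 7, 1, 797, 1), (3, 31, 1, 180, 0), (0, 5581, 1, 2, 0), (0, 2, 1, 2791, 1), (0, 3, 1, 1861, 1), (0, 2, 4, 349, 1),
  (0, 5, 1, 1117, 1), (1, 0, 0, 0, 0), (0, 37, 1, 151, 1), (2, 0, 0, 0, 0), (0, 3, 5, 23, 1), (1, 0, 0, 0, 0),
  (0, 5591, 1, 2, 0), (3, 233, 1, 24, 0), (3, 47, 1, 119, 0), (0, 2, 1, 2797, 1), (3, 373, 1, 15, 0), (0, 2, 2, 1399, 1),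
  (0, 29, 1, 193, 1), (1, 0, 0, 0, 0), (0, 11, 1, 509, 1), (4, 0, 0, 0, 0), (0, 3, 1, 1867, 1), (0, 2, 1, 2801, 1),
  (0, 13, 1, 431, 1), (3, 467, 1, 12, 0), (3, 59, 1, 95, 0), (0, 2, 1, 2803, 1), (3, 89, 1, 63, 0), (0, 2, 3, 701, 1),
  (0, 71, 1, 79, 1), (1, 0, 0, 0, 0), (0, 31, 1, 181, 1), (2, 0, 0, 0, 0), (0, 3, 1, 1871, 1), (1, 0, 0, 0, 0),
  (0, 5, 1, 1123, 1), (4, 0, 0, 0, 0), (0, 41, 1, 137, 1), (0, 2, 1, 53, 2), (0, 3, 1, 1873, 1), (2, 0, 0, 0, 0),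
  (3, 73, 1, 77, 0), (1, 0, 0, 0, 0), (0, 5623, 1, 2, 0), (3, 37, 1, 152, 0), (0, 3, 2, 5, 4), (1, 0, 0, 0, 0),
  (0, 17, 1, 331, 1), (3, 67, 1, 84, 0), (0, 13, 1, 433, 1), (1, 0, 0, 0, 0), (0, 3, 1, 1877, 1), (0, 2, 9, 11, 1),
  (0, 43, 1, 131, 1), (1, 0, 0, 0, 0), (3, 23, 1, 245, 0), (0, 2, 2, 1409, 1), (0, 3, 1, 1879, 1), (0, 2, 1, 2819, 1),
  (0, 5639, 1, 2, 0), (3, 47, 1, 120, 0)]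

set_option maxRecDepth 100000 in
theorem table9_ok : chunkOk 5441 200 table9 = true := by
  decide +kernel

/-- The certificates for the orders `5641, ..., 5840`. -/
def table10 : List (ℕ × ℕ × ℕ × ℕ × ℕ) := [
  (0, 5641, 1, 2, 0), (1, 0, 0, 0, 0), (3, 19, 1, 297, 0), (2, 0, 0, 0, 0), (0, 5, 1, 1129, 1), (1, 0, 0, 0, 0),
  (0, 5647, 1, 2, 0), (0, 2, 4, 353, 1), (3, 269, 1, 21, 0), (1, 0, 0, 0, 0), (0, 5651, 1, 2, 0), (3, 157, 1, 36, 0),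
  (0, 5653, 1, 2, 0), (1, 0, 0, 0, 0), (3, 29, 1, 195, 0), (3, 101, 1, 56, 0), (0, 5657, 1, 2, 0), (1, 0, 0, 0, 0),
  (0, 5659, 1, 2, 0), (2, 0, 0, 0, 0), (3, 37, 1, 153, 0), (1, 0, 0, 0, 0), (0, 7, 1, 809, 1), (3, 59, 1, 96, 0),
  (3, 103, 1, 55, 0), (0, 2, 1, 2833, 1), (0, 3, 1, 1889, 1), (2, 0, 0, 0, 0), (0, 5669, 1, 2, 0), (1, 0, 0, 0, 0),
  (0, 53, 1, 107, 1), (0, 2, 3, 709, 1), (3, 61, 1, 93, 0), (0, 2, 1, 2837, 1), (0, 5, 2, 227, 1), (3, 11, 1, 516, 0),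
  (0, 7, 1, 811, 1), (1, 0, 0, 0, 0), (0, 3, 2, 631, 1), (3, 71, 1, 80, 0), (3, 23, 1, 247, 0), (1, 0, 0, 0, 0),
  (0, 5683, 1, 2, 0), (2, 0, 0, 0, 0), (3, 379, 1, 15, 0), (0, 2, 1, 2843, 1), (0, 11, 2, 47, 1), (3, 79, 1, 72, 0),
  (0, 5689, 1, 2, 0), (1, 0, 0, 0, 0), (3, 271, 1, 21, 0), (0, 2, 2, 1423, 1), (0, 5693, 1, 2, 0), (1, 0, 0, 0, 0),
  (3, 67, 1, 85, 0), (0, 2, 6, 89, 1), (0, 3, 3, 211, 1), (1, 0, 0, 0, 0), (0, 41, 1, 139, 1), (3, 19, 1, 300, 0),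
  (0, 5701, 1, 2, 0), (0, 2, 1, 2851, 1), (0, 3, 1, 1901, 1), (3, 31, 1, 184, 0), (3, 163, 1, 35, 0), (1, 0, 0, 0, 0),
  (0, 13, 1, 439, 1), (0, 2, 2, 1427, 1), (3, 173, 1, 33, 0), (1, 0, 0, 0, 0), (0, 5711, 1, 2, 0), (3, 17, 1, 336, 0),
  (0, 29, 1, 197, 1), (0, 2, 1, 2857, 1), (3, 127, 1, 45, 0), (0, 2, 2, 1429, 1), (0, 5717, 1, 2, 0), (1, 0, 0, 0, 0),
  (3, 43, 1, 133, 0), (3, 13, 1, 440, 0), (0, 3, 1, 1907, 1), (0, 2, 1, 2861, 1), (0, 59, 1, 97, 1), (4, 0, 0, 0, 0),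
  (0, 5, 2, 229, 1), (1, 0, 0, 0, 0), (3, 83, 1, 69, 0), (0, 2, 5, 179, 1), (0, 17, 1, 337, 1), (1, 0, 0, 0, 0),
  (0, 11, 1, 521, 1), (0, 2, 2, 1433, 1), (3, 13, 1, 441, 0), (1, 0, 0, 0, 0), (3, 37, 1, 155, 0), (3, 239, 1, 24, 0),
  (0, 5737, 1, 2, 0), (1, 0, 0, 0, 0), (0, 3, 1, 1913, 1), (2, 0, 0, 0, 0), (0, 5741, 1, 2, 0), (1, 0, 0, 0, 0),
  (0, 5743, 1, 2, 0), (0, 2, 4, 359, 1), (3, 383, 1, 15, 0), (1, 0, 0, 0, 0), (0, 7, 1, 821, 1), (3, 479, 1, 12, 0),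
  (0, 5749, 1, 2, 0), (1, 0, 0, 0, 0), (0, 3, 4, 71, 1), (0, 2, 3, 719, 1), (0, 11, 1, 523, 1), (1, 0, 0, 0, 0),
  (0, 5, 1, 1151, 1), (0, 2, 2, 1439, 1), (3, 101, 1, 57, 0), (0, 2, 1, 2879, 1), (0, 13, 1, 443, 1), (4, 0, 0, 0, 0),
  (0, 7, 1, 823, 1), (1, 0, 0, 0, 0), (3, 113, 1, 51, 0), (2, 0, 0, 0, 0), (0, 5, 1, 1153, 1), (1, 0, 0, 0, 0),
  (0, 73, 1, 79, 1), (3, 103, 1, 56, 0), (0, 3, 2, 641, 1), (1, 0, 0, 0, 0), (0, 29, 1, 199, 1), (3, 37, 1, 156, 0),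
  (0, 23, 1, 251, 1), (0, 2, 1, 2887, 1), (3, 11, 1, 525, 0), (0, 2, 4, 19, 2), (0, 53, 1, 109, 1), (1, 0, 0, 0, 0),
  (0, 5779, 1, 2, 0), (2, 0, 0, 0, 0), (3, 47, 1, 123, 0), (1, 0, 0, 0, 0), (0, 5783, 1, 2, 0), (3, 241, 1, 24, 0),
  (3, 89, 1, 65, 0), (1, 0, 0, 0, 0), (0, 3, 2, 643, 1), (0, 2, 2, 1447, 1), (0, 7, 1, 827, 1), (1, 0, 0, 0, 0),
  (0, 5791, 1, 2, 0), (0, 2, 5, 181, 1), (0, 3, 1, 1931, 1), (0, 2, 1, 2897, 1), (3, 61, 1, 95, 0), (3, 23, 1, 252, 0),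
  (3, 31, 1, 187, 0), (1, 0, 0, 0, 0), (0, 3, 1, 1933, 1), (3, 29, 1, 200, 0), (0, 5801, 1, 2, 0), (1, 0, 0, 0, 0),
  (0, 7, 1, 829, 1), (0, 2, 2, 1451, 1), (3, 43, 1, 135, 0), (0, 2, 1, 2903, 1), (0, 5807, 1, 2, 0), (3, 11, 2, 48, 0),
  (0, 37, 1, 157, 1), (1, 0, 0, 0, 0), (3, 149, 1, 39, 0), (0, 2, 2, 1453, 1), (0, 5813, 1, 2, 0), (1, 0, 0, 0, 0),
  (0, 5, 1, 1163, 1), (0, 2, 3, 727, 1), (3, 277, 1, 21, 0), (0, 2, 1, 2909, 1), (0, 11, 1, 23, 2), (3, 97, 1, 60, 0),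
  (0, 5821, 1, 2, 0), (1, 0, 0, 0, 0), (0, 3, 2, 647, 1), (3, 13, 1, 448, 0), (0, 5, 2, 233, 1), (1, 0, 0, 0, 0),
  (0, 5827, 1, 2, 0), (2, 0, 0, 0, 0), (3, 67, 1, 87, 0), (1, 0, 0, 0, 0), (0, 7, 3, 17, 1), (0, 2, 3, 3, 6),
  (0, 19, 1, 307, 1), (0, 2, 1, 2917, 1), (3, 389, 1, 15, 0), (0, 2, 2, 1459, 1), (0, 13, 1, 449, 1), (1, 0, 0, 0, 0),
  (0, 5839, 1, 2, 0), (3, 73, 1, 80, 0)]

set_option maxRecDepth 100000 in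
theorem table10_ok : chunkOk 5641 200 table10 = true := by
  decide +kernel

/-- The certificates for the orders `5841, ..., 6040`. -/
def table11 : List (ℕ × ℕ × ℕ × ℕ × ℕ) := [
  (3, 59, 1, 99, 0), (1, 0, 0, 0, 0), (0, 5843, 1, 2, 0), (3, 487, 1, 12, 0), (3, 167, 1, 35, 0), (1, 0, 0, 0, 0),
  (0, 3, 1, 1949, 1), (3, 43, 1, 136, 0), (0, 5849, 1, 2, 0), (1, 0, 0, 0, 0), (0, 5851, 1, 2, 0), (2, 0, 0, 0, 0),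
  (0, 3, 1, 1951, 1), (0, 2, 1, 2927, 1), (0, 5, 1, 1171, 1), (3, 61, 1, 96, 0), (0, 5857, 1, 2, 0), (1, 0, 0, 0, 0),
  (3, 7, 1, 837, 0), (2, 0, 0, 0, 0), (0, 5861, 1, 2, 0), (1, 0, 0, 0, 0), (3, 41, 1, 143, 0), (0, 2, 3, 733, 1),
  (3, 23, 1, 255, 0), (1, 0, 0, 0, 0), (0, 5867, 1, 2, 0), (3, 163, 1, 36, 0), (0, 5869, 1, 2, 0), (1, 0, 0, 0, 0),
  (3, 103, 1, 57, 0), (0, 2, 4, 367, 1), (0, 7, 1, 839, 1), (1, 0, 0, 0, 0), (0, 5, 3, 47, 1), (2, 0, 0, 0, 0),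
  (0, 3, 2, 653, 1), (0, 2, 1, 2939, 1), (0, 5879, 1, 2, 0), (4, 0, 0, 0, 0), (0, 5881, 1, 2, 0), (1, 0, 0, 0, 0),
  (3, 53, 1, 111, 0), (0, 2, 2, 1471, 1), (3, 107, 1, 55, 0), (1, 0, 0, 0, 0), (0, 7, 1, 29, 2), (0, 2, 8, 23, 1),
  (3, 151, 1, 39, 0), (1, 0, 0, 0, 0), (0, 43, 1, 137, 1), (3, 491, 1, 12, 0), (0, 71, 1, 83, 1), (1, 0, 0, 0, 0),
  (3, 131, 1, 45, 0), (3, 67, 1, 88, 0), (0, 5897, 1, 2, 0), (1, 0, 0, 0, 0), (0, 17, 1, 347, 1), (2, 0, 0, 0, 0),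
  (3, 281, 1, 21, 0), (1, 0, 0, 0, 0), (0, 5903, 1, 2, 0), (3, 41, 1, 144, 0), (0, 5, 1, 1181, 1), (0, 2, 1, 2953, 1),
  (3, 179, 1, 33, 0), (2, 0, 0, 0, 0), (0, 19, 1, 311, 1), (1, 0, 0, 0, 0), (0, 23, 1, 257, 1), (0, 2, 3, 739, 1),
  (0, 3, 4, 73, 1), (0, 2, 1, 2957, 1), (3, 13, 2, 35, 0), (3, 29, 1, 204, 0), (0, 61, 1, 97, 1), (1, 0, 0, 0, 0),
  (0, 3, 1, 1973, 1), (3, 37, 1, 160, 0), (0, 31, 1, 191, 1), (1, 0, 0, 0, 0), (0, 5923, 1, 2, 0), (0, 2, 2, 1481, 1),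
  (3, 79, 1, 75, 0), (0, 2, 1, 2963, 1), (0, 5927, 1, 2, 0), (3, 19, 1, 312, 0), (0, 7, 2, 11, 2), (1, 0, 0, 0, 0),
  (0, 3, 2, 659, 1), (0, 2, 2, 1483, 1), (0, 17, 1, 349, 1), (1, 0, 0, 0, 0), (0, 5, 1, 1187, 1), (3, 53, 1, 112, 0),
  (0, 3, 1, 1979, 1), (0, 2, 1, 2969, 1), (0, 5939, 1, 2, 0), (4, 0, 0, 0, 0), (0, 13, 1, 457, 1), (0, 2, 1, 2971, 1),
  (3, 283, 1, 21, 0), (0, 2, 3, 743, 1), (3, 41, 1, 145, 0), (1, 0, 0, 0, 0), (0, 19, 1, 313, 1), (0, 2, 2, 1487, 1),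
  (0, 3, 2, 661, 1), (1, 0, 0, 0, 0), (0, 11, 1, 541, 1), (3, 31, 1, 192, 0), (0, 5953, 1, 2, 0), (1, 0, 0, 0, 0),
  (3, 397, 1, 15, 0), (0, 2, 2, 1489, 1), (3, 37, 1, 161, 0), (1, 0, 0, 0, 0), (0, 59, 1, 101, 1), (3, 149, 1, 40, 0),
  (0, 3, 1, 1987, 1), (1, 0, 0, 0, 0), (0, 67, 1, 89, 1), (3, 71, 1, 84, 0), (0, 5, 1, 1193, 1), (1, 0, 0, 0, 0),
  (3, 17, 1, 351, 0), (0, 2, 4, 373, 1), (0, 47, 1, 127, 1), (1, 0, 0, 0, 0), (0, 7, 1, 853, 1), (0, 2, 2, 1493, 1),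
  (3, 181, 1, 33, 0), (1, 0, 0, 0, 0), (0, 5, 2, 239, 1), (3, 83, 1, 72, 0), (0, 43, 1, 139, 1), (1, 0, 0, 0, 0),
  (0, 3, 1, 1993, 1), (2, 0, 0, 0, 0), (0, 5981, 1, 2, 0), (1, 0, 0, 0, 0), (0, 31, 1, 193, 1), (3, 17, 1, 352, 0),
  (3, 19, 1, 315, 0), (1, 0, 0, 0, 0), (0, 5987, 1, 2, 0), (3, 499, 1, 12, 0), (0, 53, 1, 113, 1), (1, 0, 0, 0, 0),
  (0, 3, 1, 1997, 1), (3, 107, 1, 56, 0), (0, 13, 1, 461, 1), (1, 0, 0, 0, 0), (3, 109, 1, 55, 0), (0, 2, 2, 1499, 1),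
  (0, 3, 1, 1999, 1), (0, 2, 1, 2999, 1), (0, 7, 1, 857, 1), (3, 5, 3, 48, 0), (0, 17, 1, 353, 1), (0, 2, 1, 3001, 1),
  (3, 29, 1, 207, 0), (2, 0, 0, 0, 0), (0, 5, 1, 1201, 1), (1, 0, 0, 0, 0), (0, 6007, 1, 2, 0), (0, 2, 3, 751, 1),
  (0, 3, 1, 2003, 1), (1, 0, 0, 0, 0), (0, 6011, 1, 2, 0), (3, 167, 1, 36, 0), (0, 7, 1, 859, 1), (1, 0, 0, 0, 0),
  (3, 401, 1, 15, 0), (0, 2, 7, 47, 1), (0, 11, 1, 547, 1), (1, 0, 0, 0, 0), (0, 13, 1, 463, 1), (2, 0, 0, 0, 0),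
  (0, 3, 3, 223, 1), (0, 2, 1, 3011, 1), (0, 19, 1, 317, 1), (3, 251, 1, 24, 0), (0, 5, 2, 241, 1), (1, 0, 0, 0, 0),
  (3, 41, 1, 147, 0), (2, 0, 0, 0, 0), (0, 6029, 1, 2, 0), (1, 0, 0, 0, 0), (0, 37, 1, 163, 1), (3, 29, 1, 208, 0),
  (0, 3, 1, 2011, 1), (1, 0, 0, 0, 0), (3, 71, 1, 85, 0), (3, 503, 1, 12, 0), (0, 6037, 1, 2, 0), (0, 2, 1, 3019, 1),
  (3, 61, 1, 99, 0), (3, 151, 1, 40, 0)]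

set_option maxRecDepth 100000 in
theorem table11_ok : chunkOk 5841 200 table11 = true := by
  decide +kernel

/-- The certificates for the orders `6041, ..., 6232`. -/
def table12 : List (ℕ × ℕ × ℕ × ℕ × ℕ) := [
  (0, 7, 1, 863, 1), (1, 0, 0, 0, 0), (0, 6043, 1, 2, 0), (0, 2, 2, 1511, 1), (3, 31, 1, 195, 0), (0, 2, 1, 3023, 1),
  (0, 6047, 1, 2, 0), (4, 0, 0, 0, 0), (0, 23, 1, 263, 1), (1, 0, 0, 0, 0), (0, 3, 1, 2017, 1), (2, 0, 0, 0, 0),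
  (0, 6053, 1, 2, 0), (1, 0, 0, 0, 0), (3, 173, 1, 35, 0), (0, 2, 3, 757, 1), (0, 3, 2, 673, 1), (1, 0, 0, 0, 0),
  (0, 73, 1, 83, 1), (3, 101, 1, 60, 0), (3, 29, 1, 209, 0), (1, 0, 0, 0, 0), (3, 47, 1, 129, 0), (0, 2, 4, 379, 1),
  (0, 5, 1, 1213, 1), (1, 0, 0, 0, 0), (0, 6067, 1, 2, 0), (2, 0, 0, 0, 0), (3, 17, 2, 21, 0), (1, 0, 0, 0, 0),
  (0, 13, 1, 467, 1), (4, 0, 0, 0, 0), (0, 6073, 1, 2, 0), (0, 2, 1, 3037, 1), (0, 3, 5, 5, 2), (2, 0, 0, 0, 0),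
  (0, 59, 1, 103, 1), (1, 0, 0, 0, 0), (0, 6079, 1, 2, 0), (3, 19, 1, 320, 0), (0, 3, 1, 2027, 1), (0, 2, 1, 3041, 1),
  (3, 79, 1, 77, 0), (3, 13, 2, 36, 0), (0, 5, 1, 1217, 1), (1, 0, 0, 0, 0), (0, 3, 1, 2029, 1), (0, 2, 3, 761, 1),
  (0, 6089, 1, 2, 0), (1, 0, 0, 0, 0), (0, 6091, 1, 2, 0), (0, 2, 2, 1523, 1), (0, 3, 2, 677, 1), (1, 0, 0, 0, 0),
  (3, 53, 1, 115, 0), (3, 127, 1, 48, 0), (3, 67, 1, 91, 0), (0, 2, 1, 3049, 1), (3, 107, 1, 57, 0), (2, 0, 0, 0, 0),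
  (0, 6101, 1, 2, 0), (1, 0, 0, 0, 0), (0, 17, 1, 359, 1), (3, 109, 1, 56, 0), (3, 37, 1, 165, 0), (1, 0, 0, 0, 0),
  (0, 31, 1, 197, 1), (3, 509, 1, 12, 0), (0, 41, 1, 149, 1), (1, 0, 0, 0, 0), (3, 97, 1, 63, 0), (0, 2, 5, 191, 1),
  (0, 6113, 1, 2, 0), (1, 0, 0, 0, 0), (0, 5, 1, 1223, 1), (2, 0, 0, 0, 0), (0, 3, 1, 2039, 1), (1, 0, 0, 0, 0),
  (0, 29, 1, 211, 1), (3, 17, 1, 360, 0), (0, 6121, 1, 2, 0), (0, 2, 1, 3061, 1), (3, 157, 1, 39, 0), (0, 2, 2, 1531, 1),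
  (0, 5, 3, 7, 2), (1, 0, 0, 0, 0), (0, 11, 1, 557, 1), (0, 2, 4, 383, 1), (0, 3, 3, 227, 1), (1, 0, 0, 0, 0),
  (0, 6131, 1, 2, 0), (3, 73, 1, 84, 0), (0, 6133, 1, 2, 0), (0, 2, 1, 3067, 1), (3, 409, 1, 15, 0), (3, 59, 1, 104, 0),
  (0, 17, 1, 19, 2), (1, 0, 0, 0, 0), (0, 7, 1, 877, 1), (2, 0, 0, 0, 0), (3, 89, 1, 69, 0), (1, 0, 0, 0, 0),
  (0, 6143, 1, 2, 0), (0, 2, 11, 3, 1), (0, 5, 1, 1229, 1), (1, 0, 0, 0, 0), (0, 3, 2, 683, 1), (2, 0, 0, 0, 0),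
  (3, 43, 1, 143, 0), (1, 0, 0, 0, 0), (0, 6151, 1, 2, 0), (0, 2, 3, 769, 1), (3, 293, 1, 21, 0), (1, 0, 0, 0, 0),
  (0, 5, 1, 1231, 1), (3, 19, 1, 324, 0), (0, 47, 1, 131, 1), (0, 2, 1, 3079, 1), (0, 3, 1, 2053, 1), (3, 7, 1, 880, 0),
  (0, 61, 1, 101, 1), (1, 0, 0, 0, 0), (0, 6163, 1, 2, 0), (2, 0, 0, 0, 0), (3, 137, 1, 45, 0), (0, 2, 1, 3083, 1),
  (0, 7, 1, 881, 1), (3, 257, 1, 24, 0), (0, 31, 1, 199, 1), (1, 0, 0, 0, 0), (3, 17, 1, 363, 0), (0, 2, 2, 1543, 1),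
  (0, 6173, 1, 2, 0), (1, 0, 0, 0, 0), (3, 19, 1, 325, 0), (0, 2, 5, 193, 1), (3, 71, 1, 87, 0), (0, 2, 1, 3089, 1),
  (0, 37, 1, 167, 1), (3, 103, 1, 60, 0), (0, 7, 1, 883, 1), (1, 0, 0, 0, 0), (0, 3, 3, 229, 1), (0, 2, 3, 773, 1),
  (0, 5, 1, 1237, 1), (1, 0, 0, 0, 0), (0, 23, 1, 269, 1), (2, 0, 0, 0, 0), (0, 3, 1, 2063, 1), (1, 0, 0, 0, 0),
  (0, 41, 1, 151, 1), (3, 43, 1, 144, 0), (0, 11, 1, 563, 1), (1, 0, 0, 0, 0), (3, 59, 1, 105, 0), (0, 2, 2, 1549, 1),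
  (0, 6197, 1, 2, 0), (1, 0, 0, 0, 0), (0, 6199, 1, 2, 0), (3, 31, 1, 200, 0), (3, 53, 1, 117, 0), (1, 0, 0, 0, 0),
  (0, 6203, 1, 2, 0), (3, 47, 1, 132, 0), (3, 73, 1, 85, 0), (1, 0, 0, 0, 0), (0, 3, 1, 2069, 1), (0, 2, 6, 97, 1),
  (0, 7, 1, 887, 1), (1, 0, 0, 0, 0), (0, 6211, 1, 2, 0), (0, 2, 2, 1553, 1), (3, 109, 1, 57, 0), (1, 0, 0, 0, 0),
  (3, 113, 1, 55, 0), (3, 37, 1, 168, 0), (0, 6217, 1, 2, 0), (0, 2, 1, 3109, 1), (0, 3, 2, 691, 1), (2, 0, 0, 0, 0),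
  (0, 6221, 1, 2, 0), (1, 0, 0, 0, 0), (0, 7, 2, 127, 1), (0, 2, 4, 389, 1), (3, 83, 1, 75, 0), (1, 0, 0, 0, 0),
  (0, 13, 1, 479, 1), (3, 173, 1, 36, 0), (0, 6229, 1, 2, 0), (1, 0, 0, 0, 0), (3, 67, 1, 93, 0), (3, 41, 1, 152, 0)]

set_option maxRecDepth 100000 in
theorem table12_ok : chunkOk 6041 192 table12 = true := by
  decide +kernel

/-- A non-commutative finite simple group of order in `(3640, 6232]` has one of the listed orders. -/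
theorem card_mem_listed (hG : ¬ IsMulCommutative G) (h1 : 3640 < Nat.card G)
    (h2 : Nat.card G ≤ 6232) : Nat.card G ∈ listed := by
  by_cases c0 : Nat.card G < 3841
  · exact mem_listed_of_chunkOk hG table0_ok (by omega) (by omega)
  by_cases c1 : Nat.card G < 4041
  · exact mem_listed_of_chunkOk hG table1_ok (by omega) (by omega)
  by_cases c2 : Nat.card G < 4241
  · exact mem_listed_of_chunkOk hG table2_ok (by omega) (by omega)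
  by_cases c3 : Nat.card G < 4441
  · exact mem_listed_of_chunkOk hG table3_ok (by omega) (by omega)
  by_cases c4 : Nat.card G < 4641
  · exact mem_listed_of_chunkOk hG table4_ok (by omega) (by omega)
  by_cases c5 : Nat.card G < 4841
  · exact mem_listed_of_chunkOk hG table5_ok (by omega) (by omega)
  by_cases c6 : Nat.card G < 5041
  · exact mem_listed_of_chunkOk hG table6_ok (by omega) (by omega)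
  by_cases c7 : Nat.card G < 5241
  · exact mem_listed_of_chunkOk hG table7_ok (by omega) (by omega)
  by_cases c8 : Nat.card G < 5441
  · exact mem_listed_of_chunkOk hG table8_ok (by omega) (by omega)
  by_cases c9 : Nat.card G < 5641
  · exact mem_listed_of_chunkOk hG table9_ok (by omega) (by omega)
  by_cases c10 : Nat.card G < 5841
  · exact mem_listed_of_chunkOk hG table10_ok (by omega) (by omega)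
  by_cases c11 : Nat.card G < 6041
  · exact mem_listed_of_chunkOk hG table11_ok (by omega) (by omega)
  exact mem_listed_of_chunkOk hG table12_ok (by omega) (by omega)

end Cfsg.Agent.Lib.Helper72.Range6232Sieve
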