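import Mathlib
import Cfsg.Agent.Lib.Helper67.S3Defs
import Cfsg.Agent.Lib.Helper72.ActHom
import Cfsg.Agent.Lib.Helper58.Fpf4Aux
import Cfsg.Agent.Lib.Helper97.Cores
import Cfsg.Agent.Lib.Helper97.CoprimeQuot
import Cfsg.Agent.Lib.Helper97.PStable2
import Cfsg.Agent.Lib.Helper50.FrattiniLemmas
import Cfsg.Agent.Lib.Helper2.Gaschutz
import Cfsg.Agent.Lib.Helper2.FrobCount

/-!
# S4305, module GL: the group-level reduction  (helper72, for helper67)

`group_level`: assuming the core statement `Cfsg.Agent.Lib.Helper67.S3.CoreStatement`, a finite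
solvable group `G` of order prime to `6` on which `Perm (Fin 3)` acts by automorphisms without
nontrivial fixed points has a nilpotent commutator subgroup.

Strong induction on `|G|`: two invariant normal subgroups with trivial intersection give the
result by the two-quotients trick; a nontrivial Frattini subgroup is handled by Gaschütz' lemma;
otherwise `F = O_p(G)` is elementary abelian and self-centralizing, and the core statement is
applied to `Q = G ⧸ F` acting on `V = F`.
-/

set_option autoImplicit false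
set_option linter.style.haveILetI false

namespace Cfsg.Agent.Lib.Helper72.S3GL

open Cfsg Cfsg.Agent.Lib.Helper67.S3 Cfsg.Agent.Lib.Helper72.ActHom Cfsg.Agent.Lib.Helper58.Fpf4
  Cfsg.Agent.Lib.Helper2.FrobCount
open scoped IsMulCommutative

universe u

theorem f₀_pow : f₀ ^ 3 = 1 := by decide

theorem h₀_pow : h₀ ^ 2 = 1 := by decide

theorem f₀_h₀ : f₀ * h₀ = h₀ * f₀⁻¹ := by decide

theorem not_dvd_of_coprime_six {n : ℕ} (h : n.Coprime 6) : ¬ 3 ∣ n ∧ ¬ 2 ∣ n := by
  constructor
  · intro h3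
    have h1 := Nat.dvd_gcd h3 (show 3 ∣ 6 by norm_num)
    rw [Nat.Coprime.gcd_eq_one h] at h1
    exact absurd h1 (by norm_num)
  · intro h2
    have h1 := Nat.dvd_gcd h2 (show 2 ∣ 6 by norm_num)
    rw [Nat.Coprime.gcd_eq_one h] at h1
    exact absurd h1 (by norm_num)

theorem isNilpotent_of_le {G : Type*} [Group G] {H N : Subgroup G} (h : H ≤ N)
    (hN : Group.IsNilpotent N) : Group.IsNilpotent H := by
  haveI := hN
  haveI : Group.IsNilpotent (H.subgroupOf N) := Subgroup.isNilpotent _
  exact Group.nilpotent_of_mulEquiv (Subgroup.subgroupOfEquivOfLe h)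

section Act

variable {G : Type*} [Group G] (φ : Equiv.Perm (Fin 3) →* MulAut G)

theorem fixed_h₀_of_fixed (m : G) (hm : φ f₀ m = m) : φ f₀ (φ h₀ m) = φ h₀ m := by
  have h1 : φ f₀⁻¹ m = m := by
    have h2 : φ f₀⁻¹ m = φ f₀⁻¹ (φ f₀ m) := by rw [hm]
    rw [h2, ← MulAut.mul_apply, ← map_mul, inv_mul_cancel, map_one, MulAut.one_apply]
  rw [← MulAut.mul_apply, ← map_mul, f₀_h₀, map_mul, MulAut.mul_apply, h1]

variable [Finite G]

/-- The induced action on the quotient by an invariant normal subgroup is again without nontrivial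
fixed points. -/
theorem quot_fpf (hcop : (Nat.card G).Coprime 6)
    (hfpf : ∀ g : G, φ f₀ g = g → φ h₀ g = g → g = 1) (N : Subgroup G) [N.Normal]
    (hN : Inv φ N) :
    ∀ x : G ⧸ N, quot φ N hN f₀ x = x → quot φ N hN h₀ x = x → x = 1 := by
  intro x hx1 hx2
  induction x using QuotientGroup.induction_on with
  | H g =>
  rw [quot_mk] at hx1 hx2
  have h1 : g⁻¹ * φ f₀ g ∈ N := QuotientGroup.eq.mp hx1.symm
  have h2 : g⁻¹ * φ h₀ g ∈ N := QuotientGroup.eq.mp hx2.symm
  have hNc : (Nat.card N).Coprime 6 :=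
    Nat.Coprime.coprime_dvd_left (Subgroup.card_subgroup_dvd_card N) hcop
  obtain ⟨h3, h2'⟩ := not_dvd_of_coprime_six hNc
  haveI : Fact (Nat.Prime 3) := ⟨Nat.prime_three⟩
  haveI : Fact (Nat.Prime 2) := ⟨Nat.prime_two⟩
  obtain ⟨y, hyN, hy1, hy2⟩ := exists_common_fixed_in_coset (φ f₀) (φ h₀) (p := 3) (q := 2) 1 1
    (by rw [pow_one, ← map_pow, f₀_pow, map_one]) (by rw [pow_one, ← map_pow, h₀_pow, map_one])
    (fixed_h₀_of_fixed φ) N (hN f₀) (hN h₀) h3 h2' g h1 h2
  have hy : y = 1 := hfpf y hy1 hy2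
  rw [hy, mul_one] at hyN
  have : g ∈ N := by
    have := N.inv_mem hyN
    rwa [inv_inv] at this
  exact (QuotientGroup.eq_one_iff g).mpr this

end Act

set_option maxHeartbeats 1600000 in
theorem main_aux (core : CoreStatement.{u}) : ∀ (n : ℕ) (G : Type u) [Group G] [Finite G],
    Nat.card G = n → Group.IsSolvable G → ∀ φ : Equiv.Perm (Fin 3) →* MulAut G,
    (Nat.card G).Coprime 6 → (∀ g : G, φ f₀ g = g → φ h₀ g = g → g = 1) →
    Group.IsNilpotent (commutator G) := by
  intro n
  induction n using Nat.strong_induction_on with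
  | _ n ih =>
  intro G _ _ hcard hsolv φ hcop hfpf
  haveI := hsolv
  -- quotients by nontrivial invariant normal subgroups
  have hq : ∀ (N : Subgroup G) [N.Normal], Inv φ N → N ≠ ⊥ →
      Group.IsNilpotent (commutator (G ⧸ N)) := by
    intro N _ hi hne
    have hlt : Nat.card (G ⧸ N) < n := by
      rw [← hcard]; exact Cfsg.Agent.Lib.Helper1.card_quotient_lt N hne
    exact ih _ hlt (G ⧸ N) rfl inferInstance (quot φ N hi)
      (Nat.Coprime.coprime_dvd_left (Subgroup.card_quotient_dvd_card N) hcop)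
      (quot_fpf φ hcop hfpf N hi)
  by_cases hex : ∃ N₁ N₂ : Subgroup G, N₁.Normal ∧ N₂.Normal ∧ Inv φ N₁ ∧ Inv φ N₂ ∧
      N₁ ≠ ⊥ ∧ N₂ ≠ ⊥ ∧ N₁ ⊓ N₂ = ⊥
  · obtain ⟨N₁, N₂, hn₁, hn₂, hi₁, hi₂, hne₁, hne₂, hinf⟩ := hex
    exact nilpotent_commutator_of_two_quotients N₁ N₂ hinf (hq N₁ hi₁ hne₁) (hq N₂ hi₂ hne₂)
  by_cases hG1 : Subsingleton G
  · infer_instance
  rw [not_subsingleton_iff_nontrivial] at hG1
  by_cases hΦ : frattini G = ⊥
  swap
  · -- Gaschütz
    have hnil := hq (frattini G) (inv_of_characteristic φ _) hΦ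
    set N : Subgroup G := commutator G ⊔ frattini G with hNdef
    have hΦN : frattini G ≤ N := le_sup_right
    have hmap : N.map (QuotientGroup.mk' (frattini G)) = commutator (G ⧸ frattini G) := by
      rw [hNdef, Subgroup.map_sup, QuotientGroup.map_mk'_self, sup_bot_eq, commutator_def,
        commutator_def, Subgroup.map_commutator, ← MonoidHom.range_eq_map,
        MonoidHom.range_eq_top.mpr (QuotientGroup.mk'_surjective _)]
    have hN : Group.IsNilpotent N := by
      apply Cfsg.Agent.Lib.Helper2.isNilpotent_of_map_mk_frattini N hΦN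
      rw [hmap]; exact hnil
    exact isNilpotent_of_le (le_sup_left : commutator G ≤ N) hN
  -- the main case
  obtain ⟨p, hp, hcore⟩ := exists_pCore_ne_bot (G := G)
  haveI : Fact p.Prime := ⟨hp⟩
  set F := pCore p G with hF
  haveI hFn : F.Normal := Cfsg.Agent.Lib.Helper55.pCore_normal' p
  haveI hFchar : F.Characteristic := Cfsg.Agent.Lib.Helper55.pCore_characteristic p
  have hFinv : Inv φ F := inv_of_characteristic φ F
  have hFp : IsPGroup p F := Cfsg.Agent.Lib.Helper55.isPGroup_pCore p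
  have hpp : pPrimeCore p G = ⊥ := by
    by_contra hne
    apply hex
    haveI : (pPrimeCore p G).Characteristic :=
      Cfsg.Agent.Lib.Helper55.pPrimeCore_characteristic p
    exact ⟨F, pPrimeCore p G, hFn, Cfsg.Agent.Lib.Helper55.pPrimeCore_normal' p, hFinv,
      inv_of_characteristic φ _, hcore, hne,
      Cfsg.Agent.Lib.Helper97.inf_eq_bot_of_isPGroup_of_coprime hFp
        (Cfsg.Agent.Lib.Helper55.card_pPrimeCore_coprime p)⟩
  have hcent : Subgroup.centralizer (F : Set G) ≤ F :=
    Cfsg.Agent.Lib.Helper55.centralizer_pCore_le p hpp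
  -- `F` is elementary abelian
  have hFfr : frattini ↥F = ⊥ := by
    have h1 := Cfsg.Agent.Lib.Helper50.frattini_map_subtype_le F
    rw [hΦ, le_bot_iff] at h1
    exact (Subgroup.map_eq_bot_iff_of_injective _ F.subtype_injective).mp h1
  have hFcomm : ∀ a b : ↥F, a * b = b * a := by
    intro a b
    have h1 := Cfsg.Agent.Lib.Helper97.commutatorElement_mem_frattini hFp a b
    rw [hFfr, Subgroup.mem_bot] at h1
    exact commutatorElement_eq_one_iff_mul_comm.mp h1
  have hFexp : ∀ a : ↥F, a ^ p = 1 := by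
    intro a
    have h1 := Cfsg.Agent.Lib.Helper97.pow_prime_mem_frattini hFp a
    rwa [hFfr, Subgroup.mem_bot] at h1
  haveI instC : IsMulCommutative ↥F := ⟨⟨hFcomm⟩⟩
  have hA : ∀ x : Additive ↥F, p • x = 0 := fun x => by
    show Additive.ofMul ((Additive.toMul x) ^ p) = Additive.ofMul 1
    rw [hFexp]
  have instM : Module (ZMod p) (Additive ↥F) := AddCommGroup.zmodModule hA
  haveI : Finite (Additive ↥F) := inferInstanceAs (Finite ↥F)
  -- the actions
  have hconj1 : ∀ x ∈ F, (MulAut.conjNormal (H := F)) x = 1 := by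
    intro x hx
    ext y
    rw [MulAut.conjNormal_apply, MulAut.one_apply]
    have h1 := hFcomm ⟨x, hx⟩ y
    have h2 : x * (y : G) = (y : G) * x := congrArg Subtype.val h1
    rw [h2, mul_assoc, mul_inv_cancel, mul_one]
  let αQ : G ⧸ F →* MulAut ↥F := QuotientGroup.lift F (MulAut.conjNormal (H := F)) hconj1
  have hαQ : ∀ (g : G) (x : ↥F), ((αQ (g : G ⧸ F) x : ↥F) : G) = g * x * g⁻¹ := by
    intro g x
    show ((MulAut.conjNormal g x : ↥F) : G) = g * x * g⁻¹
    exact MulAut.conjNormal_apply g x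
  let αA : Equiv.Perm (Fin 3) →* MulAut ↥F := res φ F hFinv
  let ψ : Equiv.Perm (Fin 3) →* MulAut (G ⧸ F) := quot φ F hFinv
  let ρ : Representation (ZMod p) (G ⧸ F) (Additive ↥F) := zrep p αQ
  let σ : Representation (ZMod p) (Equiv.Perm (Fin 3)) (Additive ↥F) := zrep p αA
  have hpG : p ∣ Nat.card G := by
    rcases hFp.card_eq_or_dvd with h1 | h1
    · exact absurd (Subgroup.card_eq_one.mp h1) hcore
    · exact h1.trans (Subgroup.card_subgroup_dvd_card F)
  have hQcop : (Nat.card (G ⧸ F)).Coprime 6 :=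
    Nat.Coprime.coprime_dvd_left (Subgroup.card_quotient_dvd_card F) hcop
  have hctx : Ctx f₀ h₀ ψ ρ σ := by
    refine ⟨rel₀, Nat.Coprime.coprime_dvd_left hpG hcop, hQcop, ?_, ?_, ?_, ?_⟩
    · -- compat
      intro a q v
      induction q using QuotientGroup.induction_on with
      | H g =>
      show zrep p αA a (zrep p αQ (g : G ⧸ F) v) =
        zrep p αQ (quot φ F hFinv a (g : G ⧸ F)) (zrep p αA a v)
      rw [quot_mk, zrep_apply, zrep_apply, zrep_apply, zrep_apply]
      apply congrArg Additive.ofMul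
      apply Subtype.ext
      rw [toMul_ofMul, toMul_ofMul, hαQ]
      show φ a ((αQ (g : G ⧸ F) (Additive.toMul v) : ↥F) : G) =
        φ a g * φ a ((Additive.toMul v : ↥F) : G) * (φ a g)⁻¹
      rw [hαQ, map_mul, map_mul, map_inv]
    · -- faithful
      intro q hq1
      induction q using QuotientGroup.induction_on with
      | H g =>
      have hg : g ∈ Subgroup.centralizer (F : Set G) := by
        rw [Subgroup.mem_centralizer_iff]
        intro x hx
        have h1 := LinearMap.congr_fun hq1 (Additive.ofMul (⟨x, hx⟩ : ↥F))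
        have h2 : zrep p αQ (g : G ⧸ F) (Additive.ofMul (⟨x, hx⟩ : ↥F)) =
            Additive.ofMul (⟨x, hx⟩ : ↥F) := h1
        rw [zrep_apply] at h2
        have h3 : αQ (g : G ⧸ F) (⟨x, hx⟩ : ↥F) = ⟨x, hx⟩ := congrArg Additive.toMul h2
        have h4 := congrArg Subtype.val h3
        rw [hαQ] at h4
        have h5 : g * x * g⁻¹ = x := h4
        calc x * g = (g * x * g⁻¹) * g := by rw [h5]
          _ = g * x := by group
      exact (QuotientGroup.eq_one_iff g).mpr (hcent hg)
    · -- fixQ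
      exact quot_fpf φ hcop hfpf F hFinv
    · -- fixV
      intro v hv1 hv2
      have h1 : zrep p αA f₀ v = v := hv1
      have h2 : zrep p αA h₀ v = v := hv2
      rw [zrep_apply] at h1 h2
      have h3 : αA f₀ (Additive.toMul v) = Additive.toMul v := congrArg Additive.toMul h1
      have h4 : αA h₀ (Additive.toMul v) = Additive.toMul v := congrArg Additive.toMul h2
      have h5 : φ f₀ ((Additive.toMul v : ↥F) : G) = ((Additive.toMul v : ↥F) : G) :=
        congrArg Subtype.val h3
      have h6 : φ h₀ ((Additive.toMul v : ↥F) : G) = ((Additive.toMul v : ↥F) : G) :=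
        congrArg Subtype.val h4
      have h7 := hfpf _ h5 h6
      have h8 : (Additive.toMul v : ↥F) = 1 := Subtype.ext h7
      exact congrArg Additive.ofMul h8
  have hQcore : pCore p (G ⧸ F) = ⊥ := Cfsg.Agent.Lib.Helper97.pCore_quotient_pCore p
  have hop : HOp p (G ⧸ F) := by
    intro N hN hNp
    have := Cfsg.Agent.Lib.Helper55.le_pCore hN hNp
    rw [hQcore] at this
    exact le_bot_iff.mp this
  have hH2 : H2 p ψ := by
    intro K' hK'inv hK'ne
    set K : Subgroup G := K'.comap (QuotientGroup.mk' F) with hK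
    have hmapK : K.map (QuotientGroup.mk' F) = K' :=
      Subgroup.map_comap_eq_self_of_surjective (QuotientGroup.mk'_surjective F) K'
    have hFK : F ≤ K := by
      intro f hf
      rw [hK, Subgroup.mem_comap, QuotientGroup.mk'_apply, (QuotientGroup.eq_one_iff f).mpr hf]
      exact K'.one_mem
    have hKinv : Inv φ K := inv_comap_mk φ F hFinv hK'inv
    have hKne : K ≠ ⊤ := by
      intro hKt
      apply hK'ne
      rw [← hmapK, hKt, ← MonoidHom.range_eq_map,
        MonoidHom.range_eq_top.mpr (QuotientGroup.mk'_surjective F)]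
    have hKlt : Nat.card K < n := by
      rw [← hcard]; exact Cfsg.Agent.Lib.Helper1.card_subgroup_lt K hKne
    have hnil : Group.IsNilpotent (commutator ↥K) :=
      ih _ hKlt ↥K rfl inferInstance (res φ K hKinv)
        (Nat.Coprime.coprime_dvd_left (Subgroup.card_subgroup_dvd_card K) hcop)
        (fun g hg1 hg2 => Subtype.ext (hfpf g (congrArg Subtype.val hg1)
          (congrArg Subtype.val hg2)))
    have hKp := isPGroup_commutator_of_nilpotent p F hFp hcent K hFK hnil
    have hmap : (⁅K, K⁆ : Subgroup G).map (QuotientGroup.mk' F) = ⁅K', K'⁆ := by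
      rw [Subgroup.map_commutator, hmapK]
    show IsPGroup p ↥(⁅K', K'⁆ : Subgroup (G ⧸ F))
    rw [← hmap]
    exact hKp.map _
  have hH3 : H3 ρ σ := by
    intro W₁ W₂ hW₁ hW₂ hW
    -- the subgroup of `G` corresponding to a submodule
    let X : Submodule (ZMod p) (Additive ↥F) → Subgroup G := fun W =>
      { carrier := {g | ∃ hg : g ∈ F, Additive.ofMul (⟨g, hg⟩ : ↥F) ∈ W}
        mul_mem' := by
          rintro a b ⟨ha, haW⟩ ⟨hb, hbW⟩
          refine ⟨F.mul_mem ha hb, ?_⟩
          have : Additive.ofMul (⟨a * b, F.mul_mem ha hb⟩ : ↥F) =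
              Additive.ofMul (⟨a, ha⟩ : ↥F) + Additive.ofMul (⟨b, hb⟩ : ↥F) := rfl
          rw [this]
          exact W.add_mem haW hbW
        one_mem' := ⟨F.one_mem, W.zero_mem⟩
        inv_mem' := by
          rintro a ⟨ha, haW⟩
          refine ⟨F.inv_mem ha, ?_⟩
          have : Additive.ofMul (⟨a⁻¹, F.inv_mem ha⟩ : ↥F) =
              - Additive.ofMul (⟨a, ha⟩ : ↥F) := rfl
          rw [this]
          exact W.neg_mem haW }
    have hXmem : ∀ (W : Submodule (ZMod p) (Additive ↥F)) (g : G),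
        g ∈ X W ↔ ∃ hg : g ∈ F, Additive.ofMul (⟨g, hg⟩ : ↥F) ∈ W := fun W g => Iff.rfl
    have hXn : ∀ W, InvV ρ σ W → (X W).Normal := by
      intro W hWi
      constructor
      rintro x ⟨hx, hxW⟩ g
      refine ⟨hFn.conj_mem x hx g, ?_⟩
      have h1 := hWi.1 (g : G ⧸ F) _ hxW
      have h2 : ρ (g : G ⧸ F) (Additive.ofMul (⟨x, hx⟩ : ↥F)) =
          Additive.ofMul (⟨g * x * g⁻¹, hFn.conj_mem x hx g⟩ : ↥F) := by
        show zrep p αQ (g : G ⧸ F) (Additive.ofMul (⟨x, hx⟩ : ↥F)) = _
        rw [zrep_apply]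
        apply congrArg Additive.ofMul
        apply Subtype.ext
        rw [toMul_ofMul, hαQ]
      rw [h2] at h1
      exact h1
    have hXi : ∀ W, InvV ρ σ W → Inv φ (X W) := by
      intro W hWi a
      rintro x ⟨hx, hxW⟩
      refine ⟨hFinv a x hx, ?_⟩
      have h1 := hWi.2 a _ hxW
      have h2 : σ a (Additive.ofMul (⟨x, hx⟩ : ↥F)) =
          Additive.ofMul (⟨φ a x, hFinv a x hx⟩ : ↥F) := by
        show zrep p αA a (Additive.ofMul (⟨x, hx⟩ : ↥F)) = _
        rw [zrep_apply]
        rfl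
      rw [h2] at h1
      exact h1
    have hXbot : ∀ W, X W = ⊥ → W = ⊥ := by
      intro W hXW
      rw [Submodule.eq_bot_iff]
      intro w hw
      have h1 : ((Additive.toMul w : ↥F) : G) ∈ X W :=
        ⟨(Additive.toMul w : ↥F).2, hw⟩
      rw [hXW, Subgroup.mem_bot] at h1
      have h2 : (Additive.toMul w : ↥F) = 1 := Subtype.ext h1
      exact congrArg Additive.ofMul h2
    have hXinf : X W₁ ⊓ X W₂ = ⊥ := by
      rw [Subgroup.eq_bot_iff_forall]
      rintro g ⟨⟨hg, hg1⟩, ⟨_, hg2⟩⟩
      have h1 : Additive.ofMul (⟨g, hg⟩ : ↥F) ∈ W₁ ⊓ W₂ := ⟨hg1, hg2⟩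
      rw [hW, Submodule.mem_bot] at h1
      have h2 : (⟨g, hg⟩ : ↥F) = 1 := congrArg Additive.toMul h1
      exact congrArg Subtype.val h2
    by_contra hcon
    push Not at hcon
    apply hex
    refine ⟨X W₁, X W₂, hXn W₁ hW₁, hXn W₂ hW₂, hXi W₁ hW₁, hXi W₂ hW₂, ?_, ?_, hXinf⟩
    · exact fun h => hcon.1 (hXbot W₁ h)
    · exact fun h => hcon.2 (hXbot W₂ h)
  have hab : ∀ a b : G ⧸ F, a * b = b * a := core hctx inferInstance hop hH2 hH3
  have hle : commutator G ≤ F := by
    rw [commutator_def, Subgroup.commutator_le]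
    intro g₁ _ g₂ _
    rw [← QuotientGroup.eq_one_iff, commutatorElement_def]
    simp only [QuotientGroup.mk_mul, QuotientGroup.mk_inv]
    rw [hab (g₁ : G ⧸ F) (g₂ : G ⧸ F)]
    group
  exact (hFp.to_le hle).isNilpotent

/-- **Module GL of S4305.** -/
theorem group_level.{v} (core : Cfsg.Agent.Lib.Helper67.S3.CoreStatement.{v}) {G : Type v} [Group G]
    [Finite G] [Group.IsSolvable G] [MulDistribMulAction (Equiv.Perm (Fin 3)) G]
    (hcop : (Nat.card G).Coprime 6)
    (hfpf : ∀ g : G, (∀ a : Equiv.Perm (Fin 3), a • g = g) → g = 1) :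
    Group.IsNilpotent ↥(commutator G) := by
  let φ : Equiv.Perm (Fin 3) →* MulAut G := MulDistribMulAction.toMulAut (Equiv.Perm (Fin 3)) G
  have hφ : ∀ (a : Equiv.Perm (Fin 3)) (g : G), φ a g = a • g := fun a g => rfl
  apply main_aux core _ G rfl inferInstance φ hcop
  intro g hg1 hg2
  apply hfpf
  intro a
  have hmem : a ∈ Subgroup.closure ({f₀, h₀} : Set (Equiv.Perm (Fin 3))) := by
    rw [rel₀.gen]; trivial
  have key : ∀ b ∈ Subgroup.closure ({f₀, h₀} : Set (Equiv.Perm (Fin 3))), φ b g = g := by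
    intro b hb
    induction hb using Subgroup.closure_induction with
    | mem x hx =>
      rcases hx with rfl | rfl
      · exact hg1
      · exact hg2
    | one => rw [map_one, MulAut.one_apply]
    | mul x y _ _ hx hy => rw [map_mul, MulAut.mul_apply, hy, hx]
    | inv x _ hx =>
      have h2 : φ x⁻¹ g = φ x⁻¹ (φ x g) := by rw [hx]
      rw [h2, ← MulAut.mul_apply, ← map_mul, inv_mul_cancel, map_one, MulAut.one_apply]
  rw [← hφ]
  exact key a hmem

end Cfsg.Agent.Lib.Helper72.S3GL
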