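import Mathlib
import Cfsg.Agent.S4729
import Cfsg.Agent.Lib.Helper72.Simple5040N36
import Cfsg.Agent.Lib.Helper72.DihedralFiveA

/-!
# No simple group of order 4320, part A: basic facts; inertial index two is impossible

(helper72)  `4320 = 2^5 * 3^3 * 5`.  Let `P` be a Sylow `5`-subgroup, `e = |N(P) : C(P)| ∈ {2, 4}`.
If the principal `5`-block contains a nontrivial character of degree `< 10`, then `C(P) = P`
(S4729).  For `e = 2` the block is `{1, χ, θ, θ'}` with `χ(1) ∈ {4, 9}`, so `|N(P)| = 10` and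
`n₅ = 432 ≢ 1 (mod 5)`.
-/

set_option autoImplicit false
set_option linter.unusedSectionVars false
set_option linter.unusedVariables false

namespace Cfsg.Agent.Lib.Helper72.Simple4320

open MulAction Subgroup
open Cfsg Cfsg.Agent.Lib.Helper17 Cfsg.Agent.Lib.Helper78

variable {G : Type*} [Group G] [Finite G] [IsSimpleGroup G]

theorem fact5 : Fact (Nat.Prime 5) := ⟨by norm_num⟩
theorem fact3 : Fact (Nat.Prime 3) := ⟨by norm_num⟩
theorem fact2 : Fact (Nat.Prime 2) := ⟨by norm_num⟩

attribute [local instance] fact5 fact3 fact2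

theorem not_comm (h : Nat.card G = 4320) : ¬ IsMulCommutative G :=
  not_comm_of_simple_of_not_prime (by rw [h]; norm_num)

theorem card_sylow5 (h : Nat.card G = 4320) (Q : Sylow 5 G) :
    Nat.card (Q : Subgroup G) = 5 := by
  have hcard : Nat.card G = 5 ^ 1 * 864 := by rw [h]; norm_num
  rw [sylow_card_of_card_eq Q hcard (by norm_num)]; norm_num

theorem card_sylow3 (h : Nat.card G = 4320) (Q : Sylow 3 G) :
    Nat.card (Q : Subgroup G) = 27 := by
  have hcard : Nat.card G = 3 ^ 3 * 160 := by rw [h]; norm_num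
  rw [sylow_card_of_card_eq Q hcard (by norm_num)]; norm_num

/-- `e = |N(P₅) : C(P₅)|` is `2` or `4`. -/
theorem relIndex_sylow5 (h : Nat.card G = 4320) (P : Sylow 5 G) :
    (centralizer ((P : Subgroup G) : Set G)).relIndex
      (normalizer ((P : Subgroup G) : Set G)) = 2 ∨
    (centralizer ((P : Subgroup G) : Set G)).relIndex
      (normalizer ((P : Subgroup G) : Set G)) = 4 := by
  have hG := not_comm h
  have h1 := relIndex_cent_norm_dvd_pred_of_card_prime P (card_sylow5 h P)
  have h2 := relIndex_cent_norm_ne_one_of_simple hG P (by rw [h]; norm_num)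
  have hle : (centralizer ((P : Subgroup G) : Set G)).relIndex
      (normalizer ((P : Subgroup G) : Set G)) ≤ 4 := Nat.le_of_dvd (by norm_num) h1
  generalize (centralizer ((P : Subgroup G) : Set G)).relIndex
      (normalizer ((P : Subgroup G) : Set G)) = r at *
  interval_cases r <;> omega

/-- A nontrivial irreducible character of a simple group is faithful. -/
theorem faithful_of_ne_one {χ : G → ℂ} (hχ : IsIrrCharacter G χ) (hne : χ ≠ fun _ => 1) :
    ∀ g : G, χ g = χ 1 → g = 1 := by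
  intro g hg
  by_contra hg1
  exact irr_apply_ne_of_normal_closure hχ hne (t := g) (by
    intro K hK hgK
    rcases hK.eq_bot_or_eq_top with h | h
    · rw [h, Subgroup.mem_bot] at hgK
      exact absurd hgK hg1
    · exact h) hg

/-- If the principal `5`-block contains a nontrivial character of degree `< 10`, then
`C(P₅) = P₅`. -/
theorem centralizer_sylow5_eq (h : Nat.card G = 4320) (P : Sylow 5 G) (M : Ideal Cfsg.AlgInt)
    (hM : Cfsg.IsPModular 5 M) (χ : IrrCharacter G) (hχ : χ ∈ principalBlock M G)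
    (hne : (χ : G → ℂ) ≠ fun _ => 1) (hdeg : charDegree (χ : G → ℂ) < 10) :
    centralizer ((P : Subgroup G) : Set G) = (P : Subgroup G) := by
  have hG := not_comm h
  have hperf : commutator G = ⊤ := Cfsg.Agent.Lib.Helper41.j1_perfect hG
  have hpg : IsPGroup 5 ↥(centralizer ((P : Subgroup G) : Set G)) :=
    Cfsg.Agent.S4729.result 5 M hM hperf P χ hχ (faithful_of_ne_one χ.2 hne) (by omega)
  have hcyc : IsCyclic (P : Subgroup G) := isCyclic_of_prime_card (card_sylow5 h P)
  have hPC : (P : Subgroup G) ≤ centralizer ((P : Subgroup G) : Set G) := by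
    have hcomm : IsMulCommutative (P : Subgroup G) := ⟨⟨IsCyclic.commGroup.mul_comm⟩⟩
    exact Subgroup.le_centralizer _
  obtain ⟨n, hn⟩ := IsPGroup.iff_card.mp hpg
  have hdvd : Nat.card (centralizer ((P : Subgroup G) : Set G)) ∣ 4320 := by
    rw [← h]
    exact Subgroup.card_subgroup_dvd_card _
  have hle : Nat.card (centralizer ((P : Subgroup G) : Set G)) ≤ 5 := by
    rw [hn] at hdvd ⊢
    have hn2 : n < 2 := by
      by_contra hc
      push Not at hc
      have h25 : 5 ^ 2 ∣ 5 ^ n := pow_dvd_pow 5 hc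
      have := h25.trans hdvd
      omega
    interval_cases n <;> norm_num
  symm
  apply Subgroup.eq_of_le_of_card_ge hPC
  rw [card_sylow5 h P]
  exact hle

/-- If the principal `5`-block contains a nontrivial character of degree `< 10`, then
`|N(P₅)| = 5 e`. -/
theorem card_normalizer_sylow5 (h : Nat.card G = 4320) (P : Sylow 5 G) (M : Ideal Cfsg.AlgInt)
    (hM : Cfsg.IsPModular 5 M) (χ : IrrCharacter G) (hχ : χ ∈ principalBlock M G)
    (hne : (χ : G → ℂ) ≠ fun _ => 1) (hdeg : charDegree (χ : G → ℂ) < 10) :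
    Nat.card (normalizer ((P : Subgroup G) : Set G)) =
      5 * (centralizer ((P : Subgroup G) : Set G)).relIndex
        (normalizer ((P : Subgroup G) : Set G)) := by
  have hC := centralizer_sylow5_eq h P M hM χ hχ hne hdeg
  have h3 := card_mul_relIndex_of_le
    (Subgroup.centralizer_le_normalizer (s := ((P : Subgroup G) : Set G)))
  rw [← h3, hC, card_sylow5 h P]

set_option maxRecDepth 100000 in
theorem arith_e2 {F a : ℤ} (ha : a = 1 ∨ a = -1) (hF : 0 < F) (hFd : F ∣ 4320)
    (hHd : (F + a) ∣ 4320) (h5 : (5 : ℤ) ∣ F - a) : F = 1 ∨ F = 4 ∨ F = 9 := by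
  obtain ⟨n, hn⟩ : ∃ n : ℕ, F = (n : ℤ) := ⟨F.toNat, (Int.toNat_of_nonneg hF.le).symm⟩
  subst hn
  have hn_dvd : n ∣ 4320 := by exact_mod_cast hFd
  have hmem : n ∈ Nat.divisors 4320 := Nat.mem_divisors.mpr ⟨hn_dvd, by norm_num⟩
  simp only [Nat.divisors_ofNat] at hmem
  fin_cases hmem <;> rcases ha with rfl | rfl <;>
    first
    | omega
    | (norm_num at hHd; done)

/-- The inertial index `e = 2` is impossible. -/
theorem false_of_relIndex_eq_two (h : Nat.card G = 4320) (P : Sylow 5 G)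
    (hCN : (centralizer ((P : Subgroup G) : Set G)).relIndex
      (normalizer ((P : Subgroup G) : Set G)) = 2) : False := by
  have hG := not_comm h
  have hperf : commutator G = ⊤ := Cfsg.Agent.Lib.Helper41.j1_perfect hG
  obtain ⟨M, hM⟩ := exists_isPModular_of_prime' 5 (by norm_num)
  have hP : Nat.card P = 5 := card_sylow5 h P
  obtain ⟨δ, a₁, χ₁, Y, hδ, ha₁, ⟨η₀, hη₀⟩, hYB, hχ₁B, hχ₁Y, hχ₁t, hχ₁P, hsumY, hrel, hsplit⟩ :=
    Cfsg.Agent.Lib.Helper72.DihedralFive.dihedral_block_data_of_perfect hperf 5 M hM P hP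
      (le_refl 5) hCN
  have hone : ¬ 5 ∣ orderOf (1 : G) := by
    rw [orderOf_one]; norm_num
  obtain ⟨F, hFdef⟩ : ∃ F : ℤ, F = (charDegree (χ₁ : G → ℂ) : ℤ) := ⟨_, rfl⟩
  obtain ⟨H, hHdef⟩ : ∃ H : ℤ, H = (charDegree (η₀ : G → ℂ) : ℤ) := ⟨_, rfl⟩
  have hF1 : (χ₁ : G → ℂ) 1 = (F : ℂ) := by
    rw [IsCharacter.apply_one_eq_charDegree (IsIrrCharacter.isCharacter χ₁.2), hFdef]
    push_cast
    rfl
  have hH1 : (η₀ : G → ℂ) 1 = (H : ℂ) := by
    rw [IsCharacter.apply_one_eq_charDegree (IsIrrCharacter.isCharacter η₀.2), hHdef]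
    push_cast
    rfl
  have hFpos : 0 < F := by
    rw [hFdef]
    exact_mod_cast IsIrrCharacter.charDegree_pos χ₁.2
  have hHpos : 0 < H := by
    rw [hHdef]
    exact_mod_cast IsIrrCharacter.charDegree_pos η₀.2
  have hrel1 : 1 + a₁ * F = δ * H := by
    have h1 := hrel 1 hone η₀ hη₀
    rw [hF1, hH1] at h1
    exact_mod_cast h1
  have hFH : F + a₁ = H := by
    rcases hδ with h | h <;> rcases ha₁ with h' | h' <;> rw [h, h'] at hrel1 <;> rw [h'] <;> omega
  have hFd : F ∣ 4320 := by
    rw [hFdef]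
    have := Cfsg.Agent.Lib.Helper79.irr_charDegree_dvd_card χ₁
    rw [h] at this
    exact_mod_cast this
  have hHd : (F + a₁) ∣ 4320 := by
    rw [hFH, hHdef]
    have := Cfsg.Agent.Lib.Helper79.irr_charDegree_dvd_card η₀
    rw [h] at this
    exact_mod_cast this
  have h5 : (5 : ℤ) ∣ F - a₁ := by
    have h1 := card_dvd_degree_sub_of_const (IsIrrCharacter.isCharacter χ₁.2) (P : Subgroup G) a₁
      (fun k hk hk1 => hχ₁P ⟨k, hk⟩ (fun h => hk1 (congrArg Subtype.val h)))
    rw [card_sylow5 h P] at h1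
    rw [hFdef]
    exact_mod_cast h1
  have hF149 := arith_e2 ha₁ hFpos hFd hHd h5
  -- `F ≠ 1`
  have hFne1 : F ≠ 1 := by
    intro hF
    apply hχ₁t
    have h2 : charDegree (χ₁ : G → ℂ) = 1 := by
      rw [hF] at hFdef
      exact_mod_cast hFdef.symm
    have h3 := Cfsg.Agent.Lib.Helper41.j1_eq_triv_of_degree_one hperf χ₁ h2
    rw [h3]
    rfl
  have hdeg : charDegree (χ₁ : G → ℂ) < 10 := by
    have : F < 10 := by rcases hF149 with h | h | h <;> omega
    rw [hFdef] at this
    exact_mod_cast this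
  have hN := card_normalizer_sylow5 h P M hM χ₁ hχ₁B hχ₁t hdeg
  rw [hCN] at hN
  have hS := card_sylow_mul_card_normalizer P
  rw [h, hN] at hS
  have hmod : Nat.card (Sylow 5 G) % 5 = 1 := card_sylow_modEq_one 5 G
  omega

end Cfsg.Agent.Lib.Helper72.Simple4320
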