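import Mathlib
import Cfsg.Agent.Lib.Helper72.Simple4320A
import Cfsg.Agent.Lib.Helper72.FrobeniusBlock
import Cfsg.Agent.Lib.Helper72.BrauerInvolution

/-!
# No simple group of order 4320, part B: inertial index four, the degree patterns

(helper72)  For `e = 4` the principal `5`-block consists of `1` and four characters whose signed
degrees `s ψ * ψ(1)` form one of the multisets
`{16, -4, -4, -9}`, `{36, -4, -9, -24}`, `{6, 6, -4, -9}`, `{16, 16, -9, -24}`.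
-/

set_option autoImplicit false
set_option linter.unusedSectionVars false
set_option linter.unusedVariables false

namespace Cfsg.Agent.Lib.Helper72.Simple4320

open MulAction Subgroup
open Cfsg Cfsg.Agent.Lib.Helper17 Cfsg.Agent.Lib.Helper78

section generic

theorem sum_fiber7 {α β : Type*} [DecidableEq α] [AddCommMonoid β] (B : Finset α) (D : α → ℤ)
    (hD : ∀ ψ ∈ B, D ψ = 6 ∨ D ψ = 16 ∨ D ψ = 36 ∨ D ψ = -4 ∨ D ψ = -9 ∨ D ψ = -24 ∨ D ψ = -54)
    (f : α → β) :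
    ∑ ψ ∈ B, f ψ = ∑ ψ ∈ B.filter (fun ψ => D ψ = 6), f ψ +
      ∑ ψ ∈ B.filter (fun ψ => D ψ = 16), f ψ +
      ∑ ψ ∈ B.filter (fun ψ => D ψ = 36), f ψ + ∑ ψ ∈ B.filter (fun ψ => D ψ = -4), f ψ +
      ∑ ψ ∈ B.filter (fun ψ => D ψ = -9), f ψ + ∑ ψ ∈ B.filter (fun ψ => D ψ = -24), f ψ +
      ∑ ψ ∈ B.filter (fun ψ => D ψ = -54), f ψ := by
  have h := Finset.sum_fiberwise_of_maps_to (s := B)
    (t := ({6, 16, 36, -4, -9, -24, -54} : Finset ℤ)) (g := D) (f := f) (by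
      intro ψ hψ
      rcases hD ψ hψ with h | h | h | h | h | h | h <;> rw [h] <;> decide)
  rw [← h]
  rw [Finset.sum_insert (by decide), Finset.sum_insert (by decide), Finset.sum_insert (by decide),
    Finset.sum_insert (by decide), Finset.sum_insert (by decide), Finset.sum_insert (by decide),
    Finset.sum_singleton]
  simp only [add_assoc]

/-- Sum of a function of `D ψ` over a fiber. -/
theorem sum_filter_const {α : Type*} [DecidableEq α] (B : Finset α) (D : α → ℤ) (v : ℤ)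
    (F : ℤ → ℤ) :
    ∑ ψ ∈ B.filter (fun ψ => D ψ = v), F (D ψ) = ((B.filter (fun ψ => D ψ = v)).card : ℤ) * F v := by
  rw [Finset.sum_congr rfl (g := fun _ => F v)]
  · rw [Finset.sum_const, nsmul_eq_mul]
  · intro ψ hψ
    rw [(Finset.mem_filter.mp hψ).2]

theorem arith_D {d : ℕ} {s : ℤ} (hs : s = 1 ∨ s = -1) (hd : d ∣ 4320) (hd1 : d ≠ 1) (hle : d ≤ 65)
    (h5 : (5 : ℤ) ∣ (d : ℤ) - s) :
    s * (d : ℤ) = 6 ∨ s * (d : ℤ) = 16 ∨ s * (d : ℤ) = 36 ∨ s * (d : ℤ) = -4 ∨ s * (d : ℤ) = -9 ∨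
      s * (d : ℤ) = -24 ∨ s * (d : ℤ) = -54 := by
  have hpos : 0 < d := Nat.pos_of_dvd_of_pos hd (by norm_num)
  interval_cases d <;> rcases hs with rfl | rfl <;> omega

end generic

variable {G : Type*} [Group G] [Finite G] [IsSimpleGroup G]

attribute [local instance] fact5 fact3 fact2

open scoped Classical in
/-- The degree patterns for inertial index four. -/
theorem frobenius_front (h : Nat.card G = 4320) (P : Sylow 5 G)
    (hCN : (centralizer ((P : Subgroup G) : Set G)).relIndex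
      (normalizer ((P : Subgroup G) : Set G)) = 4) :
    ∃ (M : Ideal Cfsg.AlgInt) (s : IrrCharacter G → ℤ) (B' : Finset (IrrCharacter G))
      (triv : IrrCharacter G), Cfsg.IsPModular 5 M ∧ (triv : G → ℂ) = (fun _ => 1) ∧
      triv ∉ B' ∧ (∀ ψ : IrrCharacter G, (ψ = triv ∨ ψ ∈ B') ↔ ψ ∈ principalBlock M G) ∧
      (∀ ψ ∈ B', s ψ = 1 ∨ s ψ = -1) ∧
      (∀ ψ ∈ B', ∀ y : G, y ∈ (P : Subgroup G) → y ≠ 1 → (ψ : G → ℂ) y = (s ψ : ℂ)) ∧
      (∀ g : G, ¬ 5 ∣ orderOf g → 1 + ∑ ψ ∈ B', (s ψ : ℂ) * (ψ : G → ℂ) g = 0) ∧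
      (∀ ψ ∈ B', (5 : ℤ) ∣ (charDegree (ψ : G → ℂ) : ℤ) - s ψ) ∧
      (∀ ψ ∈ B', s ψ * (charDegree (ψ : G → ℂ) : ℤ) = 6 ∨ s ψ * (charDegree (ψ : G → ℂ) : ℤ) = 16 ∨
        s ψ * (charDegree (ψ : G → ℂ) : ℤ) = 36 ∨ s ψ * (charDegree (ψ : G → ℂ) : ℤ) = -4 ∨
        s ψ * (charDegree (ψ : G → ℂ) : ℤ) = -9 ∨ s ψ * (charDegree (ψ : G → ℂ) : ℤ) = -24 ∨
        s ψ * (charDegree (ψ : G → ℂ) : ℤ) = -54) ∧
      B'.card = 4 ∧ ∑ ψ ∈ B', s ψ * (charDegree (ψ : G → ℂ) : ℤ) = -1 ∧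
      ∑ ψ ∈ B', (s ψ * (charDegree (ψ : G → ℂ) : ℤ)) ^ 2 ≤ 4319 := by
  have hG := not_comm h
  have hperf : commutator G = ⊤ := Cfsg.Agent.Lib.Helper41.j1_perfect hG
  have hfin : Fintype G := Fintype.ofFinite G
  obtain ⟨M, hM⟩ := exists_isPModular_of_prime' 5 (by norm_num)
  have hP : Nat.card P = 5 := card_sylow5 h P
  obtain ⟨s, B, hBcard, hBmem, hsign, hval, hrel⟩ :=
    Cfsg.Agent.Lib.Helper72.BrauerInv.frobenius_block_data 5 M hM P hP (by norm_num)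
      (by rw [hCN])
  -- the principal character
  obtain ⟨triv, htrivdef⟩ : ∃ triv : IrrCharacter G,
      triv = ⟨fun _ => 1, Cfsg.Agent.Lib.Helper80.isIrrCharacter_one⟩ := ⟨_, rfl⟩
  have htrivfun : (triv : G → ℂ) = fun _ => 1 := by rw [htrivdef]
  have htrivB : triv ∈ B := by
    rw [hBmem, htrivdef]
    exact Cfsg.Agent.Lib.Helper74.one_mem_principalBlock hM G
  have htriv3 : triv = Cfsg.Agent.Lib.Helper3.PrincipalLin.triv G := by
    apply Subtype.ext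
    rw [htrivfun]
    rfl
  -- a nontrivial element of `P`
  obtain ⟨y₀, hy₀⟩ : ∃ y₀ : ↥(P : Subgroup G), y₀ ≠ 1 := by
    have hfinP : Fintype ↥(P : Subgroup G) := Fintype.ofFinite _
    by_contra hc
    push Not at hc
    have h1 : Nat.card ↥(P : Subgroup G) ≤ 1 := by
      rw [Nat.card_eq_fintype_card]
      exact Fintype.card_le_one_iff.mpr (fun a b => by rw [hc a, hc b])
    have h2 : Nat.card ↥(P : Subgroup G) = Nat.card P := rfl
    omega
  have hy₀1 : (y₀ : G) ≠ 1 := fun h => hy₀ (Subtype.ext h)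
  have hstriv : s triv = 1 := by
    have h1 := hval triv htrivB y₀ y₀.2 hy₀1
    rw [htrivfun] at h1
    have h2 : (1 : ℂ) = (s triv : ℂ) := h1
    exact_mod_cast h2.symm
  have hone : ¬ 5 ∣ orderOf (1 : G) := by
    rw [orderOf_one]; norm_num
  have hd1 : ∀ ψ : IrrCharacter G, (ψ : G → ℂ) 1 = ((charDegree (ψ : G → ℂ) : ℕ) : ℂ) :=
    fun ψ => IsCharacter.apply_one_eq_charDegree (IsIrrCharacter.isCharacter ψ.2)
  have hdtriv : charDegree (triv : G → ℂ) = 1 := by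
    rw [htriv3]
    exact Cfsg.Agent.Lib.Helper3.PrincipalLin.charDegree_triv
  have hddvd : ∀ ψ : IrrCharacter G, charDegree (ψ : G → ℂ) ∣ 4320 := by
    intro ψ
    have := Cfsg.Agent.Lib.Helper79.irr_charDegree_dvd_card ψ
    rwa [h] at this
  have hd5 : ∀ ψ ∈ B, (5 : ℤ) ∣ (charDegree (ψ : G → ℂ) : ℤ) - s ψ := by
    intro ψ hψ
    have h1 := card_dvd_degree_sub_of_const (IsIrrCharacter.isCharacter ψ.2) (P : Subgroup G)
      (s ψ) (fun k hk hk1 => hval ψ hψ k hk hk1)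
    rw [card_sylow5 h P] at h1
    exact_mod_cast h1
  have hdne1 : ∀ ψ : IrrCharacter G, ψ ≠ triv → charDegree (ψ : G → ℂ) ≠ 1 := by
    intro ψ hψ h1
    apply hψ
    rw [htriv3]
    exact Cfsg.Agent.Lib.Helper41.j1_eq_triv_of_degree_one hperf ψ h1
  -- the sum of the signed degrees
  have hnotmem : triv ∉ B.erase triv := Finset.notMem_erase triv B
  have hsplitC : ∀ f : IrrCharacter G → ℂ, ∑ ψ ∈ B, f ψ = f triv + ∑ ψ ∈ B.erase triv, f ψ :=
    fun f => (Finset.add_sum_erase B f htrivB).symm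
  have hsplitN : ∀ f : IrrCharacter G → ℕ, ∑ ψ ∈ B, f ψ = f triv + ∑ ψ ∈ B.erase triv, f ψ :=
    fun f => (Finset.add_sum_erase B f htrivB).symm
  have hsumD : ∑ ψ ∈ B.erase triv, s ψ * (charDegree (ψ : G → ℂ) : ℤ) = -1 := by
    have h1 := hrel 1 hone
    rw [hsplitC, hstriv, htrivfun] at h1
    have e1 : ∀ ψ ∈ B.erase triv, (s ψ : ℂ) * (ψ : G → ℂ) 1 =
        ((s ψ * (charDegree (ψ : G → ℂ) : ℤ) : ℤ) : ℂ) := by
      intro ψ _
      rw [hd1 ψ]
      push_cast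
      rfl
    rw [Finset.sum_congr rfl e1, ← Int.cast_sum] at h1
    have h3 : ((1 + ∑ ψ ∈ B.erase triv, s ψ * (charDegree (ψ : G → ℂ) : ℤ) : ℤ) : ℂ) = 0 := by
      rw [← h1]
      push_cast
      ring
    have h4 : 1 + ∑ ψ ∈ B.erase triv, s ψ * (charDegree (ψ : G → ℂ) : ℤ) = 0 := by
      exact_mod_cast h3
    linarith
  -- the sum of the squares of the degrees
  have hsumsq : ∑ ψ ∈ B.erase triv, (s ψ * (charDegree (ψ : G → ℂ) : ℤ)) ^ 2 ≤ 4319 := by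
    have h1 := sum_irr_charDegree_sq (G := G)
    rw [h] at h1
    have h2 : ∑ ψ ∈ B, (charDegree (ψ : G → ℂ)) ^ 2 ≤
        ∑ ψ : IrrCharacter G, (charDegree (ψ : G → ℂ)) ^ 2 :=
      Finset.sum_le_sum_of_subset (Finset.subset_univ B)
    rw [h1, hsplitN, hdtriv] at h2
    have h3 : ∑ ψ ∈ B.erase triv, (s ψ * (charDegree (ψ : G → ℂ) : ℤ)) ^ 2 =
        ((∑ ψ ∈ B.erase triv, (charDegree (ψ : G → ℂ)) ^ 2 : ℕ) : ℤ) := by
      push_cast
      apply Finset.sum_congr rfl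
      intro ψ hψ
      have hψB : ψ ∈ B := Finset.mem_of_mem_erase hψ
      rcases hsign ψ hψB with h' | h' <;> rw [h'] <;> ring
    rw [h3]
    have h4 : ∑ ψ ∈ B.erase triv, (charDegree (ψ : G → ℂ)) ^ 2 ≤ 4319 := by omega
    exact_mod_cast h4
  -- the possible signed degrees
  have hDvals : ∀ ψ ∈ B.erase triv,
      s ψ * (charDegree (ψ : G → ℂ) : ℤ) = 6 ∨ s ψ * (charDegree (ψ : G → ℂ) : ℤ) = 16 ∨
        s ψ * (charDegree (ψ : G → ℂ) : ℤ) = 36 ∨ s ψ * (charDegree (ψ : G → ℂ) : ℤ) = -4 ∨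
        s ψ * (charDegree (ψ : G → ℂ) : ℤ) = -9 ∨ s ψ * (charDegree (ψ : G → ℂ) : ℤ) = -24 ∨
        s ψ * (charDegree (ψ : G → ℂ) : ℤ) = -54 := by
    intro ψ hψ
    have hψB : ψ ∈ B := Finset.mem_of_mem_erase hψ
    have hψne : ψ ≠ triv := Finset.ne_of_mem_erase hψ
    have hle : charDegree (ψ : G → ℂ) ≤ 65 := by
      have h1 : (s ψ * (charDegree (ψ : G → ℂ) : ℤ)) ^ 2 ≤
          ∑ ψ ∈ B.erase triv, (s ψ * (charDegree (ψ : G → ℂ) : ℤ)) ^ 2 :=
        Finset.single_le_sum (f := fun ψ => (s ψ * (charDegree (ψ : G → ℂ) : ℤ)) ^ 2)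
          (fun ψ _ => sq_nonneg _) hψ
      have h2 : (s ψ * (charDegree (ψ : G → ℂ) : ℤ)) ^ 2 = ((charDegree (ψ : G → ℂ) : ℤ)) ^ 2 := by
        rcases hsign ψ hψB with h' | h' <;> rw [h'] <;> ring
      rw [h2] at h1
      have h3 : ((charDegree (ψ : G → ℂ) : ℤ)) ^ 2 ≤ 4319 := le_trans h1 hsumsq
      by_contra hc
      push Not at hc
      have h4 : (66 : ℤ) ≤ (charDegree (ψ : G → ℂ) : ℤ) := by exact_mod_cast hc
      nlinarith
    exact arith_D (hsign ψ hψB) (hddvd ψ) (hdne1 ψ hψne) hle (hd5 ψ hψB)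
  refine ⟨M, s, B.erase triv, triv, hM, htrivfun, hnotmem, ?_, ?_, ?_, ?_, ?_, hDvals, ?_, hsumD,
    hsumsq⟩
  · intro ψ
    rw [← hBmem ψ, Finset.mem_erase]
    constructor
    · rintro (h1 | h1)
      · rw [h1]; exact htrivB
      · exact h1.2
    · intro h1
      by_cases h2 : ψ = triv
      · exact Or.inl h2
      · exact Or.inr ⟨h2, h1⟩
  · intro ψ hψ
    exact hsign ψ (Finset.mem_of_mem_erase hψ)
  · intro ψ hψ
    exact hval ψ (Finset.mem_of_mem_erase hψ)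
  · intro g hg
    have h1 := hrel g hg
    rw [hsplitC, hstriv, htrivfun] at h1
    rw [← h1]
    simp
  · intro ψ hψ
    exact hd5 ψ (Finset.mem_of_mem_erase hψ)
  · rw [Finset.card_erase_of_mem htrivB, hBcard]

end Cfsg.Agent.Lib.Helper72.Simple4320
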