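import Mathlib
import Cfsg.Agent.Lib.Helper72.Simple4320B

/-!
# No simple group of order 4320: arithmetic and finset lemmas for the degree patterns (helper72)
-/

set_option autoImplicit false

namespace Cfsg.Agent.Lib.Helper72.Simple4320

theorem sum_fiber7_const {α : Type*} [DecidableEq α] (B : Finset α) (D : α → ℤ)
    (hD : ∀ ψ ∈ B, D ψ = 6 ∨ D ψ = 16 ∨ D ψ = 36 ∨ D ψ = -4 ∨ D ψ = -9 ∨ D ψ = -24 ∨ D ψ = -54)
    (F : ℤ → ℤ) :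
    ∑ ψ ∈ B, F (D ψ) = ((B.filter (fun ψ => D ψ = 6)).card : ℤ) * F 6 +
      ((B.filter (fun ψ => D ψ = 16)).card : ℤ) * F 16 +
      ((B.filter (fun ψ => D ψ = 36)).card : ℤ) * F 36 +
      ((B.filter (fun ψ => D ψ = -4)).card : ℤ) * F (-4) +
      ((B.filter (fun ψ => D ψ = -9)).card : ℤ) * F (-9) +
      ((B.filter (fun ψ => D ψ = -24)).card : ℤ) * F (-24) +
      ((B.filter (fun ψ => D ψ = -54)).card : ℤ) * F (-54) := by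
  rw [sum_fiber7 B D hD (fun ψ => F (D ψ)), sum_filter_const, sum_filter_const, sum_filter_const,
    sum_filter_const, sum_filter_const, sum_filter_const, sum_filter_const]

theorem pattern_arith {n6 n16 n36 m4 m9 m24 m54 : ℕ}
    (h1 : (4 : ℤ) = n6 + n16 + n36 + m4 + m9 + m24 + m54)
    (h2 : (-1 : ℤ) = n6 * 6 + n16 * 16 + n36 * 36 + -(m4 * 4) + -(m9 * 9) + -(m24 * 24) +
      -(m54 * 54))
    (h3 : (n6 : ℤ) * 36 + n16 * 256 + n36 * 1296 + m4 * 16 + m9 * 81 + m24 * 576 + m54 * 2916 ≤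
      4319) :
    (n16 = 1 ∧ m4 = 2 ∧ m9 = 1 ∧ n6 = 0 ∧ n36 = 0 ∧ m24 = 0 ∧ m54 = 0) ∨
      (n36 = 1 ∧ m4 = 1 ∧ m9 = 1 ∧ m24 = 1 ∧ n6 = 0 ∧ n16 = 0 ∧ m54 = 0) ∨
      (n6 = 2 ∧ m4 = 1 ∧ m9 = 1 ∧ n16 = 0 ∧ n36 = 0 ∧ m24 = 0 ∧ m54 = 0) ∨
      (n16 = 2 ∧ m9 = 1 ∧ m24 = 1 ∧ n6 = 0 ∧ n36 = 0 ∧ m4 = 0 ∧ m54 = 0) := by
  have b1 : m54 ≤ 1 := by omega
  have b2 : n36 ≤ 3 := by omega
  have b3 : m24 ≤ 4 := by omega
  have b4 : n16 ≤ 4 := by omega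
  have b5 : m9 ≤ 4 := by omega
  interval_cases m54 <;> interval_cases n36 <;> interval_cases m24 <;> interval_cases n16 <;>
    interval_cases m9 <;> omega

/-- The sum over `B` for the pattern `{16, -4, -4, -9}`. -/
theorem sum_P1 {α β : Type*} [DecidableEq α] [AddCommMonoid β] (B : Finset α) (D : α → ℤ)
    (hD : ∀ ψ ∈ B, D ψ = 6 ∨ D ψ = 16 ∨ D ψ = 36 ∨ D ψ = -4 ∨ D ψ = -9 ∨ D ψ = -24 ∨ D ψ = -54)
    {ψ16 ψa ψb ψ9 : α} (hab : ψa ≠ ψb)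
    (h16 : B.filter (fun ψ => D ψ = 16) = {ψ16}) (h4 : B.filter (fun ψ => D ψ = -4) = {ψa, ψb})
    (h9 : B.filter (fun ψ => D ψ = -9) = {ψ9}) (h6 : B.filter (fun ψ => D ψ = 6) = ∅)
    (h36 : B.filter (fun ψ => D ψ = 36) = ∅) (h24 : B.filter (fun ψ => D ψ = -24) = ∅)
    (h54 : B.filter (fun ψ => D ψ = -54) = ∅) (f : α → β) :
    ∑ ψ ∈ B, f ψ = f ψ16 + (f ψa + f ψb) + f ψ9 := by
  rw [sum_fiber7 B D hD f, h6, h16, h36, h4, h9, h24, h54]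
  simp only [Finset.sum_empty, Finset.sum_singleton, Finset.sum_pair hab, zero_add, add_zero]

/-- The sum over `B` for the pattern `{16, 16, -9, -24}`. -/
theorem sum_P4 {α β : Type*} [DecidableEq α] [AddCommMonoid β] (B : Finset α) (D : α → ℤ)
    (hD : ∀ ψ ∈ B, D ψ = 6 ∨ D ψ = 16 ∨ D ψ = 36 ∨ D ψ = -4 ∨ D ψ = -9 ∨ D ψ = -24 ∨ D ψ = -54)
    {ψa ψb ψ9 ψ24 : α} (hab : ψa ≠ ψb)
    (h16 : B.filter (fun ψ => D ψ = 16) = {ψa, ψb}) (h4 : B.filter (fun ψ => D ψ = -4) = ∅)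
    (h9 : B.filter (fun ψ => D ψ = -9) = {ψ9}) (h6 : B.filter (fun ψ => D ψ = 6) = ∅)
    (h36 : B.filter (fun ψ => D ψ = 36) = ∅) (h24 : B.filter (fun ψ => D ψ = -24) = {ψ24})
    (h54 : B.filter (fun ψ => D ψ = -54) = ∅) (f : α → β) :
    ∑ ψ ∈ B, f ψ = (f ψa + f ψb) + f ψ9 + f ψ24 := by
  rw [sum_fiber7 B D hD f, h6, h16, h36, h4, h9, h24, h54]
  simp only [Finset.sum_empty, Finset.sum_singleton, Finset.sum_pair hab, zero_add, add_zero]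

theorem sd_pos {s D : ℤ} {d : ℕ} (hs : s = 1 ∨ s = -1) (h : s * (d : ℤ) = D) (hD : 0 < D) :
    s = 1 ∧ (d : ℤ) = D := by
  rcases hs with rfl | rfl
  · exact ⟨rfl, by linarith⟩
  · exfalso
    have : (0 : ℤ) ≤ (d : ℤ) := Int.natCast_nonneg d
    linarith

theorem sd_neg {s D : ℤ} {d : ℕ} (hs : s = 1 ∨ s = -1) (h : s * (d : ℤ) = D) (hD : D < 0) :
    s = -1 ∧ (d : ℤ) = -D := by
  rcases hs with rfl | rfl
  · exfalso
    have : (0 : ℤ) ≤ (d : ℤ) := Int.natCast_nonneg d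
    linarith
  · exact ⟨rfl, by linarith⟩


end Cfsg.Agent.Lib.Helper72.Simple4320
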