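import Mathlib
import Cfsg.Agent.S0944
import Cfsg.Agent.Lib.Helper72.Simple4320B
import Cfsg.Agent.Lib.Helper72.Simple4320Arith
import Cfsg.Agent.Lib.Helper75.GaloisPow

/-!
# No simple group of order 4320, part C: inertial index four is impossible

(helper72)  The four degree patterns of `frobenius_front` are eliminated:
`{16,-4,-4,-9}` and `{16,16,-9,-24}` by the class multiplication formula for the involution of
`N(P₅) = F₂₀` (arithmetic leaves `hP1`, `hP4`), and `{36,-4,-9,-24}`, `{6,6,-4,-9}` because the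
unique character of degree `4` would be rational valued, impossible for `27 ∣ |G|` (leaf `hD4`).
-/

set_option autoImplicit false
set_option linter.unusedSectionVars false
set_option linter.unusedVariables false

namespace Cfsg.Agent.Lib.Helper72.Simple4320

open MulAction Subgroup
open Cfsg Cfsg.Agent.Lib.Helper17 Cfsg.Agent.Lib.Helper78
open scoped ComplexConjugate

/-- The arithmetic leaf for the pattern `{16, -4, -4, -9}`. -/
def LeafP1 : Prop := ∀ {v1 v2 v3 v4 : ℤ} {c : ℕ}, |v1| ≤ 16 → |v2| ≤ 4 → |v3| ≤ 4 → |v4| ≤ 9 →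
  Even v2 → Even v3 → 1 + v1 - v2 - v3 - v4 = 0 → 0 < c →
  864 + 54 * v1 ^ 2 - 216 * v2 ^ 2 - 216 * v3 ^ 2 - 96 * v4 ^ 2 = (c : ℤ) ^ 2 → False

/-- The arithmetic leaf for the pattern `{16, 16, -9, -24}`. -/
def LeafP4 : Prop := ∀ {v1 v2 v3 v4 : ℤ} {c : ℕ}, |v1| ≤ 16 → |v2| ≤ 16 → |v3| ≤ 9 → |v4| ≤ 24 →
  1 + v1 + v2 - v3 - v4 = 0 → 0 < c →
  864 + 54 * v1 ^ 2 + 54 * v2 ^ 2 - 96 * v3 ^ 2 - 36 * v4 ^ 2 = (c : ℤ) ^ 2 → False

/-- The leaf on rational valued characters of degree four. -/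
def LeafD4 : Prop := ∀ {G : Type*} [Group G] [Finite G] {ψ : G → ℂ}, Cfsg.IsCharacter G ψ →
  ψ 1 = 4 → (∀ g : G, ψ g = ψ 1 → g = 1) → (∀ g : G, g ^ 27 = 1 → ψ (g ^ 2) = ψ g) →
  ∀ R : Subgroup G, Nat.card R = 27 → False

universe u

variable {G : Type u} [Group G] [Finite G] [IsSimpleGroup G]

attribute [local instance] fact5 fact3 fact2

open scoped Classical in
/-- The inertial index `e = 4` is impossible. -/
theorem false_of_relIndex_eq_four (hP1 : LeafP1) (hP4 : LeafP4) (hD4 : LeafD4.{u})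
    (h : Nat.card G = 4320) (P : Sylow 5 G)
    (hCN : (centralizer ((P : Subgroup G) : Set G)).relIndex
      (normalizer ((P : Subgroup G) : Set G)) = 4) : False := by
  have hG := not_comm h
  obtain ⟨M, s, B', triv, hM, htrivfun, htrivB', hmem, hsign, hval, hrel, hd5, hDvals, hcard,
    hsumD, hsumsq⟩ := frobenius_front h P hCN
  have hP' : Nat.card (P : Subgroup G) = 5 := card_sylow5 h P
  obtain ⟨D, hDdef⟩ : ∃ D : IrrCharacter G → ℤ,
      D = fun ψ => s ψ * (charDegree (ψ : G → ℂ) : ℤ) := ⟨_, rfl⟩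
  have hDapp : ∀ ψ, D ψ = s ψ * (charDegree (ψ : G → ℂ) : ℤ) := fun ψ => by rw [hDdef]
  have hDvals' : ∀ ψ ∈ B', D ψ = 6 ∨ D ψ = 16 ∨ D ψ = 36 ∨ D ψ = -4 ∨ D ψ = -9 ∨ D ψ = -24 ∨
      D ψ = -54 := by
    intro ψ hψ
    rw [hDapp]
    exact hDvals ψ hψ
  -- the counts
  have hc1 := sum_fiber7_const B' D hDvals' (fun _ => (1 : ℤ))
  have hcD := sum_fiber7_const B' D hDvals' (fun x => x)
  have hcS := sum_fiber7_const B' D hDvals' (fun x => x ^ 2)
  have e1 : ∑ ψ ∈ B', (fun _ => (1 : ℤ)) (D ψ) = 4 := by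
    simp [hcard]
  have e2 : ∑ ψ ∈ B', (fun x => x) (D ψ) = -1 := by
    rw [← hsumD]
    apply Finset.sum_congr rfl
    intro ψ _
    exact hDapp ψ
  have e3 : ∑ ψ ∈ B', (fun x => x ^ 2) (D ψ) ≤ 4319 := by
    refine le_trans (le_of_eq ?_) hsumsq
    apply Finset.sum_congr rfl
    intro ψ _
    simp only [hDapp]
  rw [e1] at hc1
  rw [e2] at hcD
  rw [hcS] at e3
  obtain ⟨n6, hn6⟩ : ∃ n : ℕ, n = (B'.filter (fun ψ => D ψ = 6)).card := ⟨_, rfl⟩
  obtain ⟨n16, hn16⟩ : ∃ n : ℕ, n = (B'.filter (fun ψ => D ψ = 16)).card := ⟨_, rfl⟩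
  obtain ⟨n36, hn36⟩ : ∃ n : ℕ, n = (B'.filter (fun ψ => D ψ = 36)).card := ⟨_, rfl⟩
  obtain ⟨m4, hm4⟩ : ∃ n : ℕ, n = (B'.filter (fun ψ => D ψ = -4)).card := ⟨_, rfl⟩
  obtain ⟨m9, hm9⟩ : ∃ n : ℕ, n = (B'.filter (fun ψ => D ψ = -9)).card := ⟨_, rfl⟩
  obtain ⟨m24, hm24⟩ : ∃ n : ℕ, n = (B'.filter (fun ψ => D ψ = -24)).card := ⟨_, rfl⟩
  obtain ⟨m54, hm54⟩ : ∃ n : ℕ, n = (B'.filter (fun ψ => D ψ = -54)).card := ⟨_, rfl⟩
  rw [← hn6, ← hn16, ← hn36, ← hm4, ← hm9, ← hm24, ← hm54] at hc1 hcD e3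
  norm_num at hc1 hcD e3
  have hpat : (n16 = 1 ∧ m4 = 2 ∧ m9 = 1 ∧ n6 = 0 ∧ n36 = 0 ∧ m24 = 0 ∧ m54 = 0) ∨
      (n36 = 1 ∧ m4 = 1 ∧ m9 = 1 ∧ m24 = 1 ∧ n6 = 0 ∧ n16 = 0 ∧ m54 = 0) ∨
      (n6 = 2 ∧ m4 = 1 ∧ m9 = 1 ∧ n16 = 0 ∧ n36 = 0 ∧ m24 = 0 ∧ m54 = 0) ∨
      (n16 = 2 ∧ m9 = 1 ∧ m24 = 1 ∧ n6 = 0 ∧ n36 = 0 ∧ m4 = 0 ∧ m54 = 0) := by
    exact pattern_arith hc1 hcD e3
  -- basic facts on degrees
  have hd1 : ∀ ψ : IrrCharacter G, (ψ : G → ℂ) 1 = ((charDegree (ψ : G → ℂ) : ℕ) : ℂ) :=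
    fun ψ => IsCharacter.apply_one_eq_charDegree (IsIrrCharacter.isCharacter ψ.2)
  have hdpos : ∀ ψ : IrrCharacter G, 0 < charDegree (ψ : G → ℂ) :=
    fun ψ => IsIrrCharacter.charDegree_pos ψ.2
  have hneB' : ∀ ψ ∈ B', (ψ : G → ℂ) ≠ fun _ => 1 := by
    intro ψ hψ hfun
    apply htrivB'
    have : ψ = triv := by
      apply Subtype.ext
      rw [hfun, htrivfun]
    rwa [← this]
  -- the character of degree `9`
  have hm9one : m9 = 1 := by rcases hpat with h | h | h | h <;> omega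
  obtain ⟨ψ9, hψ9⟩ := Finset.card_eq_one.mp (hm9 ▸ hm9one)
  have hψ9mem : ψ9 ∈ B' ∧ D ψ9 = -9 := by
    have : ψ9 ∈ B'.filter (fun ψ => D ψ = -9) := by rw [hψ9]; simp
    exact Finset.mem_filter.mp this
  have hsd9 := sd_neg (hsign ψ9 hψ9mem.1) ((hDapp ψ9).symm.trans hψ9mem.2) (by norm_num)
  have hdeg9 : charDegree (ψ9 : G → ℂ) = 9 := by
    have := hsd9.2
    omega
  have hψ9B0 : ψ9 ∈ principalBlock M G := (hmem ψ9).mp (Or.inr hψ9mem.1)
  have hC := centralizer_sylow5_eq h P M hM ψ9 hψ9B0 (hneB' ψ9 hψ9mem.1) (by omega)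
  have hN : Nat.card (normalizer ((P : Subgroup G) : Set G)) = 20 := by
    have := card_normalizer_sylow5 h P M hM ψ9 hψ9B0 (hneB' ψ9 hψ9mem.1) (by omega)
    rw [hCN] at this
    omega
  -- an involution of the normalizer
  obtain ⟨t', ht'⟩ := exists_prime_orderOf_dvd_card' (G := Subgroup.normalizer
    ((P : Subgroup G) : Set G)) 2 (by rw [hN]; norm_num)
  obtain ⟨t, htdef⟩ : ∃ t : G, t = (t' : G) := ⟨_, rfl⟩
  have ht : orderOf t = 2 := by
    rw [htdef, Subgroup.orderOf_coe]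
    exact ht'
  have htN : t ∈ Subgroup.normalizer ((P : Subgroup G) : Set G) := by
    rw [htdef]; exact t'.2
  have htreg : ¬ 5 ∣ orderOf t := by rw [ht]; norm_num
  -- a nontrivial element of `P`
  obtain ⟨y₀, hy₀⟩ : ∃ y₀ : ↥(P : Subgroup G), y₀ ≠ 1 := by
    have hfinP : Fintype ↥(P : Subgroup G) := Fintype.ofFinite _
    by_contra hc
    push Not at hc
    have h1 : Nat.card ↥(P : Subgroup G) ≤ 1 := by
      rw [Nat.card_eq_fintype_card]
      exact Fintype.card_le_one_iff.mpr (fun a b => by rw [hc a, hc b])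
    omega
  have hy₀1 : (y₀ : G) ≠ 1 := fun h => hy₀ (Subtype.ext h)
  -- the values at `t`
  have hv : ∀ ψ : IrrCharacter G, ∃ n : ℤ, (ψ : G → ℂ) t = (n : ℂ) ∧
      (2 : ℤ) ∣ (charDegree (ψ : G → ℂ) : ℤ) - n := fun ψ => Cfsg.Agent.S0944.result ψ t ht
  choose v hv1 hv2 using hv
  have hvle : ∀ ψ : IrrCharacter G, |v ψ| ≤ (charDegree (ψ : G → ℂ) : ℤ) := by
    intro ψ
    have hnorm := Cfsg.Agent.Lib.Helper80.norm_char_le (IsIrrCharacter.isCharacter ψ.2) t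
    rw [hv1 ψ] at hnorm
    have h2 : ‖((v ψ : ℤ) : ℂ)‖ = |((v ψ : ℤ) : ℝ)| := by
      rw [← Complex.ofReal_intCast, Complex.norm_real, Real.norm_eq_abs]
    rw [h2] at hnorm
    have h3 : ((|v ψ| : ℤ) : ℝ) ≤ ((charDegree (ψ : G → ℂ) : ℤ) : ℝ) := by
      push_cast
      exact hnorm
    exact_mod_cast h3
  -- the relation at `t`
  have hrelt : (1 : ℂ) + ∑ ψ ∈ B', (s ψ : ℂ) * (v ψ : ℂ) = 0 := by
    have h1 := hrel t htreg
    rw [← h1]
    congr 1
    apply Finset.sum_congr rfl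
    intro ψ _
    rw [hv1 ψ]
  -- the block sum
  have hblock := Cfsg.Agent.Lib.Helper72.BrauerInv.card_mul_block_sum_self M hM P hP'
    (by norm_num) hC ht htN y₀.2 hy₀1
  have hfilter : Finset.univ.filter (fun χ : IrrCharacter G => χ ∈ principalBlock M G) =
      Finset.cons triv B' htrivB' := by
    ext ψ
    simp only [Finset.mem_filter, Finset.mem_univ, true_and, Finset.mem_cons]
    exact (hmem ψ).symm
  rw [hfilter, Finset.sum_cons, htrivfun, h] at hblock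
  have hterm : ∀ ψ ∈ B', conj ((ψ : G → ℂ) t * (ψ : G → ℂ) t / (ψ : G → ℂ) 1) *
      (ψ : G → ℂ) (y₀ : G) =
      (s ψ : ℂ) * (v ψ : ℂ) ^ 2 / ((charDegree (ψ : G → ℂ) : ℕ) : ℂ) := by
    intro ψ hψ
    rw [hv1 ψ, hd1 ψ, hval ψ hψ (y₀ : G) y₀.2 hy₀1]
    simp only [map_div₀, map_mul, map_intCast, map_natCast]
    ring
  rw [Finset.sum_congr rfl hterm] at hblock
  obtain ⟨c, hcdef⟩ : ∃ c : ℕ, c = Nat.card (Subgroup.centralizer ({t} : Set G)) := ⟨_, rfl⟩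
  have hcpos : 0 < c := by rw [hcdef]; exact Nat.card_pos
  rw [← hcdef] at hblock
  have hblock2 : ((4320 : ℕ) : ℂ) * (1 + ∑ ψ ∈ B',
      (s ψ : ℂ) * (v ψ : ℂ) ^ 2 / ((charDegree (ψ : G → ℂ) : ℕ) : ℂ)) = (c : ℂ) ^ 2 * 5 := by
    have h5 : ((5 : ℕ) : ℂ) = 5 := by norm_num
    rw [h5] at hblock
    rw [← hblock]
    simp
  -- the patterns
  have hsdp : ∀ ψ ∈ B', ∀ Dv : ℤ, D ψ = Dv → 0 < Dv →
      s ψ = 1 ∧ (charDegree (ψ : G → ℂ) : ℤ) = Dv := fun ψ hψ Dv hDv hpos =>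
    sd_pos (hsign ψ hψ) ((hDapp ψ).symm.trans hDv) hpos
  have hsdn : ∀ ψ ∈ B', ∀ Dv : ℤ, D ψ = Dv → Dv < 0 →
      s ψ = -1 ∧ (charDegree (ψ : G → ℂ) : ℤ) = -Dv := fun ψ hψ Dv hDv hneg =>
    sd_neg (hsign ψ hψ) ((hDapp ψ).symm.trans hDv) hneg
  have hmemf : ∀ (ψ : IrrCharacter G) (Dv : ℤ) (S : Finset (IrrCharacter G)),
      B'.filter (fun ψ => D ψ = Dv) = S → ψ ∈ S → ψ ∈ B' ∧ D ψ = Dv := by
    intro ψ Dv S hS hψ
    rw [← hS] at hψ
    exact Finset.mem_filter.mp hψ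
  have heven : ∀ ψ : IrrCharacter G, (charDegree (ψ : G → ℂ) : ℤ) = 4 → Even (v ψ) := by
    intro ψ h4
    have := hv2 ψ
    rw [h4] at this
    obtain ⟨k, hk⟩ := this
    exact ⟨2 - k, by omega⟩
  -- the degree four argument
  have hfour : m4 = 1 → False := by
    intro hm4one
    obtain ⟨ψ4, hψ4⟩ := Finset.card_eq_one.mp (hm4 ▸ hm4one)
    have hψ4mem := hmemf ψ4 (-4) _ hψ4 (by simp)
    have hsd4 := hsdn ψ4 hψ4mem.1 (-4) hψ4mem.2 (by norm_num)
    have hdeg4 : charDegree (ψ4 : G → ℂ) = 4 := by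
      have := hsd4.2
      omega
    -- uniqueness
    have huniq : ∀ ψ' : IrrCharacter G, charDegree (ψ' : G → ℂ) = 4 → ψ' = ψ4 := by
      intro ψ' hψ'
      by_cases hB0 : ψ' ∈ principalBlock M G
      · rcases (hmem ψ').mpr hB0 with h1 | h1
        · exfalso
          rw [h1] at hψ'
          have h2 := hd1 triv
          rw [hψ', htrivfun] at h2
          norm_num at h2
        · have hDψ' : D ψ' = -4 := by
            have h2 := hDvals' ψ' h1
            rw [hDapp ψ', hψ'] at h2 ⊢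
            rcases hsign ψ' h1 with h3 | h3 <;> rw [h3] at h2 ⊢ <;> omega
          have h3 : ψ' ∈ B'.filter (fun ψ => D ψ = -4) :=
            Finset.mem_filter.mpr ⟨h1, hDψ'⟩
          rw [hψ4] at h3
          exact Finset.mem_singleton.mp h3
      · exfalso
        have h1 := card_dvd_degree_sub_of_const (IsIrrCharacter.isCharacter ψ'.2)
          (P : Subgroup G) 0 (fun k hk hk1 => by
            rw [apply_eq_zero_of_not_mem_principalBlock 5 M hM P hP' hC hk hk1 hB0]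
            simp)
        rw [hP', hψ'] at h1
        norm_num at h1
    -- rationality
    have hcop : Nat.Coprime 29 (Nat.card G) := by rw [h]; norm_num
    obtain ⟨ψp, hψpdef⟩ : ∃ ψp : IrrCharacter G,
        ψp = ⟨fun g => (ψ4 : G → ℂ) (g ^ 29),
          Cfsg.Agent.Lib.Helper75.isIrrCharacter_pow ψ4.2 29 hcop⟩ := ⟨_, rfl⟩
    have hψpfun : (ψp : G → ℂ) = fun g => (ψ4 : G → ℂ) (g ^ 29) := by rw [hψpdef]
    have hψpdeg : charDegree (ψp : G → ℂ) = 4 := by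
      rw [hψpfun, ← hdeg4]
      unfold charDegree
      simp only [one_pow]
    have hψpeq := huniq ψp hψpdeg
    have hpow : ∀ g : G, (ψ4 : G → ℂ) (g ^ 29) = (ψ4 : G → ℂ) g := by
      intro g
      have := congrFun hψpfun g
      rw [hψpeq] at this
      exact this.symm
    have hrat : ∀ g : G, g ^ 27 = 1 → (ψ4 : G → ℂ) (g ^ 2) = (ψ4 : G → ℂ) g := by
      intro g hg
      have h1 : g ^ 29 = g ^ 2 := by
        rw [show 29 = 27 + 2 from rfl, pow_add, hg, one_mul]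
      rw [← h1]
      exact hpow g
    have h41 : (ψ4 : G → ℂ) 1 = 4 := by
      rw [hd1 ψ4, hdeg4]
      norm_num
    obtain ⟨R⟩ := (Sylow.nonempty : Nonempty (Sylow 3 G))
    exact hD4 (IsIrrCharacter.isCharacter ψ4.2) h41
      (faithful_of_ne_one ψ4.2 (hneB' ψ4 hψ4mem.1)) hrat (R : Subgroup G) (card_sylow3 h R)
  rcases hpat with hp | hp | hp | hp
  · -- pattern `{16, -4, -4, -9}`
    obtain ⟨h16, h4, h9, h6, h36, h24, h54⟩ := hp
    obtain ⟨ψ16, hψ16⟩ := Finset.card_eq_one.mp (hn16 ▸ h16)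
    obtain ⟨ψa, ψb, hab, hψab⟩ := Finset.card_eq_two.mp (hm4 ▸ h4)
    have e6 := Finset.card_eq_zero.mp (hn6 ▸ h6)
    have e36 := Finset.card_eq_zero.mp (hn36 ▸ h36)
    have e24 := Finset.card_eq_zero.mp (hm24 ▸ h24)
    have e54 := Finset.card_eq_zero.mp (hm54 ▸ h54)
    have m16 := hmemf ψ16 16 _ hψ16 (by simp)
    have ma := hmemf ψa (-4) _ hψab (by simp)
    have mb := hmemf ψb (-4) _ hψab (by simp)
    have sd16 := hsdp ψ16 m16.1 16 m16.2 (by norm_num)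
    have sda := hsdn ψa ma.1 (-4) ma.2 (by norm_num)
    have sdb := hsdn ψb mb.1 (-4) mb.2 (by norm_num)
    have d16 : charDegree (ψ16 : G → ℂ) = 16 := by have := sd16.2; omega
    have da : charDegree (ψa : G → ℂ) = 4 := by have := sda.2; omega
    have db : charDegree (ψb : G → ℂ) = 4 := by have := sdb.2; omega
    have hsumC := fun f : IrrCharacter G → ℂ =>
      sum_P1 B' D hDvals' hab hψ16 hψab hψ9 e6 e36 e24 e54 f
    rw [hsumC] at hrelt hblock2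
    rw [sd16.1, sda.1, sdb.1, hsd9.1] at hrelt hblock2
    rw [d16, da, db, hdeg9] at hblock2
    have hlin : 1 + v ψ16 - v ψa - v ψb - v ψ9 = 0 := by
      have h1 : ((1 + v ψ16 - v ψa - v ψb - v ψ9 : ℤ) : ℂ) = 0 := by
        push_cast
        push_cast at hrelt
        linear_combination hrelt
      exact_mod_cast h1
    have hkey : 864 + 54 * v ψ16 ^ 2 - 216 * v ψa ^ 2 - 216 * v ψb ^ 2 - 96 * v ψ9 ^ 2 =
        (c : ℤ) ^ 2 := by
      have h1 : ((864 + 54 * v ψ16 ^ 2 - 216 * v ψa ^ 2 - 216 * v ψb ^ 2 - 96 * v ψ9 ^ 2 : ℤ) : ℂ) =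
          (((c : ℤ) ^ 2 : ℤ) : ℂ) := by
        push_cast
        push_cast at hblock2
        linear_combination (1 / 5 : ℂ) * hblock2
      exact_mod_cast h1
    have b16 := hvle ψ16
    have ba := hvle ψa
    have bb := hvle ψb
    have b9 := hvle ψ9
    rw [d16] at b16
    rw [da] at ba
    rw [db] at bb
    rw [hdeg9] at b9
    exact hP1 (by exact_mod_cast b16) (by exact_mod_cast ba) (by exact_mod_cast bb)
      (by exact_mod_cast b9) (heven ψa (by rw [da]; norm_num)) (heven ψb (by rw [db]; norm_num))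
      hlin hcpos hkey
  · exact hfour hp.2.1
  · exact hfour hp.2.1
  · -- pattern `{16, 16, -9, -24}`
    obtain ⟨h16, h9, h24, h6, h36, h4, h54⟩ := hp
    obtain ⟨ψa, ψb, hab, hψab⟩ := Finset.card_eq_two.mp (hn16 ▸ h16)
    obtain ⟨ψ24, hψ24⟩ := Finset.card_eq_one.mp (hm24 ▸ h24)
    have e6 := Finset.card_eq_zero.mp (hn6 ▸ h6)
    have e36 := Finset.card_eq_zero.mp (hn36 ▸ h36)
    have e4 := Finset.card_eq_zero.mp (hm4 ▸ h4)
    have e54 := Finset.card_eq_zero.mp (hm54 ▸ h54)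
    have ma := hmemf ψa 16 _ hψab (by simp)
    have mb := hmemf ψb 16 _ hψab (by simp)
    have m24' := hmemf ψ24 (-24) _ hψ24 (by simp)
    have sda := hsdp ψa ma.1 16 ma.2 (by norm_num)
    have sdb := hsdp ψb mb.1 16 mb.2 (by norm_num)
    have sd24 := hsdn ψ24 m24'.1 (-24) m24'.2 (by norm_num)
    have da : charDegree (ψa : G → ℂ) = 16 := by have := sda.2; omega
    have db : charDegree (ψb : G → ℂ) = 16 := by have := sdb.2; omega
    have d24 : charDegree (ψ24 : G → ℂ) = 24 := by have := sd24.2; omega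
    have hsumC := fun f : IrrCharacter G → ℂ =>
      sum_P4 B' D hDvals' hab hψab e4 hψ9 e6 e36 hψ24 e54 f
    rw [hsumC] at hrelt hblock2
    rw [sda.1, sdb.1, sd24.1, hsd9.1] at hrelt hblock2
    rw [da, db, d24, hdeg9] at hblock2
    have hlin : 1 + v ψa + v ψb - v ψ9 - v ψ24 = 0 := by
      have h1 : ((1 + v ψa + v ψb - v ψ9 - v ψ24 : ℤ) : ℂ) = 0 := by
        push_cast
        push_cast at hrelt
        linear_combination hrelt
      exact_mod_cast h1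
    have hkey : 864 + 54 * v ψa ^ 2 + 54 * v ψb ^ 2 - 96 * v ψ9 ^ 2 - 36 * v ψ24 ^ 2 =
        (c : ℤ) ^ 2 := by
      have h1 : ((864 + 54 * v ψa ^ 2 + 54 * v ψb ^ 2 - 96 * v ψ9 ^ 2 - 36 * v ψ24 ^ 2 : ℤ) : ℂ) =
          (((c : ℤ) ^ 2 : ℤ) : ℂ) := by
        push_cast
        push_cast at hblock2
        linear_combination (1 / 5 : ℂ) * hblock2
      exact_mod_cast h1
    have ba := hvle ψa
    have bb := hvle ψb
    have b9 := hvle ψ9
    have b24 := hvle ψ24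
    rw [da] at ba
    rw [db] at bb
    rw [hdeg9] at b9
    rw [d24] at b24
    exact hP4 (by exact_mod_cast ba) (by exact_mod_cast bb) (by exact_mod_cast b9)
      (by exact_mod_cast b24) hlin hcpos hkey

end Cfsg.Agent.Lib.Helper72.Simple4320
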