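import Mathlib
import Cfsg.Agent.Lib.Helper72.Simple4320C
import Cfsg.Agent.Lib.Helper12.Simple4320Arith
import Cfsg.Agent.Lib.Helper37.Simple4320D4Rat

/-!
# No simple group of order 4320

(helper72; leaves by helper12 (`arith_P1`, `arith_P4`) and helper37 (`false_of_degree_four_of_card_27`))

`4320 = 2^5 * 3^3 * 5`.  Let `P` be a Sylow `5`-subgroup and `e = |N(P) : C(P)| ∈ {2, 4}`.  Brauer's
description of the principal `5`-block (S4441) shows that it contains a nontrivial character of
degree `< 10`, so `C(P) = P` by S4729.  `e = 2` gives `n₅ = 432 ≢ 1 (mod 5)`; `e = 4` gives four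
possible degree patterns, each impossible (`false_of_relIndex_eq_four`).
-/

set_option autoImplicit false
set_option linter.unusedSectionVars false
set_option linter.unusedVariables false

namespace Cfsg.Agent.Lib.Helper72.Simple4320

universe u

variable {G : Type u} [Group G] [Finite G] [IsSimpleGroup G]

theorem leafP1 : LeafP1 := fun h1 h2 h3 h4 e2 e3 hlin hc hkey =>
  Cfsg.Agent.Lib.Helper12.Simple4320.arith_P1 h1 h2 h3 h4 e2 e3 hlin hc hkey

theorem leafP4 : LeafP4 := fun h1 h2 h3 h4 hlin hc hkey =>
  Cfsg.Agent.Lib.Helper12.Simple4320.arith_P4 h1 h2 h3 h4 hlin hc hkey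

theorem leafD4 : LeafD4.{u} := fun hψ hdeg hfaith hrat R hR =>
  Cfsg.Agent.Lib.Helper37.Simple4320.false_of_degree_four_of_card_27 hψ hdeg hfaith hrat R hR

theorem not_simple_of_card_4320 (h : Nat.card G = 4320) : False := by
  have := fact5
  obtain ⟨P⟩ := (Sylow.nonempty : Nonempty (Sylow 5 G))
  rcases relIndex_sylow5 h P with he | he
  · exact false_of_relIndex_eq_two h P he
  · exact false_of_relIndex_eq_four leafP1 leafP4 leafD4 h P he

end Cfsg.Agent.Lib.Helper72.Simple4320
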