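import Mathlib
import Cfsg.Agent.S3225
import Cfsg.Agent.Lib.Helper72.Simple5040D

/-!
# No simple group of order 5040, leaf N21B: `n_5 = 21`, `|C(P₅)| = 60`

(helper72)  With the strong closure property `hfix` of the involutions of `C(P₅)`, Glauberman's
`Z*`-theorem gives a four-group `V = S ∩ C(P₅)` in a Sylow `2`-subgroup `S ≤ N(P₅)` with
`S/V` cyclic of order four, and the generalized Thompson transfer lemma (S3225) gives a
contradiction.
-/

set_option autoImplicit false
set_option linter.unusedSectionVars false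
set_option linter.unusedVariables false

namespace Cfsg.Agent.Lib.Helper72.Simple5040

open MulAction Subgroup
open Cfsg.Agent.Lib.Helper17

section generic

variable {G : Type*} [Group G]

/-- The cyclic group generated by an involution is `{1, v}`. -/
theorem eq_one_or_eq_of_mem_zpowers [Finite G] (v : G) (hv : orderOf v = 2) (w : G)
    (hw : w ∈ zpowers v) : w = 1 ∨ w = v := by
  rw [← mem_powers_iff_mem_zpowers] at hw
  obtain ⟨k, hk⟩ := (Submonoid.mem_powers_iff _ _).1 hw
  have hk' : v ^ (k % 2) = w := by rw [← hk, ← hv, pow_mod_orderOf]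
  have hlt : k % 2 < 2 := Nat.mod_lt _ (by norm_num)
  generalize k % 2 = r at *
  interval_cases r
  · left; rw [← hk', pow_zero]
  · right; rw [← hk', pow_one]

/-- Elements commuting with `v` normalize `zpowers v`. -/
theorem centralizer_le_normalizer_zpowers (v : G) :
    centralizer ({v} : Set G) ≤ normalizer ((zpowers v : Subgroup G) : Set G) := by
  intro c hc
  rw [mem_centralizer_singleton_iff] at hc
  rw [mem_normalizer_iff]
  intro h
  have hcomm : ∀ z ∈ zpowers v, c * z * c⁻¹ = z := by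
    intro z hz
    obtain ⟨k, rfl⟩ := mem_zpowers_iff.1 hz
    have hcz : Commute c (v ^ k) := (show Commute c v from hc).zpow_right k
    rw [hcz.eq, mul_inv_cancel_right]
  constructor
  · intro hh
    rw [hcomm h hh]; exact hh
  · intro hh
    have h2 : c⁻¹ * (c * h * c⁻¹) * c ∈ zpowers v := by
      have hc' : Commute c⁻¹ (c * h * c⁻¹) := by
        obtain ⟨k, hk⟩ := mem_zpowers_iff.1 hh
        rw [← hk]
        exact ((show Commute c v from hc).zpow_right k).inv_left
      rw [hc'.eq, inv_mul_cancel_right]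
      exact hh
    have : c⁻¹ * (c * h * c⁻¹) * c = h := by group
    rwa [this] at h2

/-- The subgroup of elements of `S` acting on `x` as `±1`. -/
def signSub (S : Subgroup G) (x : G) : Subgroup G where
  carrier := {m | m ∈ S ∧ (m * x * m⁻¹ = x ∨ m * x * m⁻¹ = x⁻¹)}
  one_mem' := ⟨S.one_mem, Or.inl (by group)⟩
  mul_mem' := by
    rintro a b ⟨haS, ha⟩ ⟨hbS, hb⟩
    refine ⟨S.mul_mem haS hbS, ?_⟩
    have h1 : a * b * x * (a * b)⁻¹ = a * (b * x * b⁻¹) * a⁻¹ := by group
    have h2 : a * x⁻¹ * a⁻¹ = (a * x * a⁻¹)⁻¹ := by group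
    rw [h1]
    rcases hb with hb | hb
    · rw [hb]; exact ha
    · rw [hb, h2]
      rcases ha with ha | ha
      · right; rw [ha]
      · left; rw [ha, inv_inv]
  inv_mem' := by
    rintro a ⟨haS, ha⟩
    refine ⟨S.inv_mem haS, ?_⟩
    rw [inv_inv]
    rcases ha with ha | ha
    · left
      calc a⁻¹ * x * a = a⁻¹ * (a * x * a⁻¹) * a := by rw [ha]
        _ = x := by group
    · right
      have h3 : a * x⁻¹ * a⁻¹ = x := by
        have h2 : a * x⁻¹ * a⁻¹ = (a * x * a⁻¹)⁻¹ := by group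
        rw [h2, ha, inv_inv]
      calc a⁻¹ * x * a = a⁻¹ * (a * x⁻¹ * a⁻¹) * a := by rw [h3]
        _ = x⁻¹ := by group

theorem mem_signSub (S : Subgroup G) (x m : G) :
    m ∈ signSub S x ↔ m ∈ S ∧ (m * x * m⁻¹ = x ∨ m * x * m⁻¹ = x⁻¹) := Iff.rfl

end generic

variable {G : Type*} [Group G] [Finite G] [IsSimpleGroup G]

attribute [local instance] fact7 fact5 fact3 fact2

/-- Leaf N21B. -/
theorem false_of_card_centralizer_eq_60 (h : Nat.card G = 5040) (P : Sylow 5 G)
    (hN : Nat.card (normalizer ((P : Subgroup G) : Set G)) = 240)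
    (hC : Nat.card (centralizer ((P : Subgroup G) : Set G)) = 60)
    (hfix : ∀ v ∈ centralizer ((P : Subgroup G) : Set G), orderOf v = 2 →
        ∀ g : G, g⁻¹ * v * g ∈ normalizer ((P : Subgroup G) : Set G) →
          g ∈ normalizer ((P : Subgroup G) : Set G)) : False := by
  have hG := not_comm h
  have hP5 := card_sylow5 h P
  have hCN : centralizer ((P : Subgroup G) : Set G) ≤ normalizer ((P : Subgroup G) : Set G) :=
    Subgroup.centralizer_le_normalizer _
  obtain ⟨x, hxP, hx5⟩ := exists_mem_orderOf_eq_of_dvd_card (P : Subgroup G) 5 (by rw [hP5])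
  have hx1 : x ≠ 1 := by
    intro h1
    rw [h1, orderOf_one] at hx5
    omega
  have hxinv : x⁻¹ ≠ x := by
    intro hh
    have h2 : x ^ 2 = 1 := by rw [pow_two]; nth_rewrite 1 [← hh]; exact inv_mul_cancel x
    have := orderOf_dvd_of_pow_eq_one h2
    rw [hx5] at this
    omega
  -- an involution `v` of `C(P)` and a conjugate `v1 ≠ v` commuting with it
  obtain ⟨v, hvC, hv⟩ := exists_mem_orderOf_eq_of_dvd_card
    (centralizer ((P : Subgroup G) : Set G)) 2 (by rw [hC]; norm_num)
  obtain ⟨g, hne, hcomm⟩ := exists_conj_commute_ne hG v hv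
  have hCvN : ∀ c : G, Commute c v → c ∈ normalizer ((P : Subgroup G) : Set G) := by
    intro c hc
    apply hfix v hvC hv c
    have : c⁻¹ * v * c = v := by rw [mul_assoc, ← hc.eq, inv_mul_cancel_left]
    rw [this]
    exact hCN hvC
  have hv1N : g * v * g⁻¹ ∈ normalizer ((P : Subgroup G) : Set G) := hCvN _ hcomm
  have hgN : g ∈ normalizer ((P : Subgroup G) : Set G) := by
    have := hfix v hvC hv g⁻¹ (by rw [inv_inv]; exact hv1N)
    exact (inv_mem_iff).1 this
  have hv1C : g * v * g⁻¹ ∈ centralizer ((P : Subgroup G) : Set G) :=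
    Cfsg.Agent.Lib.Helper9.Simple1080.conj_mem_centralizer_of_mem_normalizer (P : Subgroup G)
      hgN hvC
  have hv1 : orderOf (g * v * g⁻¹) = 2 := by rw [orderOf_conj_eq]; exact hv
  set v1 := g * v * g⁻¹ with hv1def
  -- a Sylow 2-subgroup `S ≤ N(P)` containing `v` and `v1`
  have hv1Cv : v1 ∈ centralizer ({v} : Set G) := by
    rw [mem_centralizer_singleton_iff]; exact hcomm.eq
  obtain ⟨T1, hT1⟩ := exists_sylow_sub_ge (centralizer ({v} : Set G)) (zpowers v1)
    (by rw [zpowers_le]; exact hv1Cv) (isPGroup_zpowers_of_orderOf_eq v1 hv1)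
  have hvT1 : zpowers v ≤ (T1 : Subgroup (centralizer ({v} : Set G))).map
      (centralizer ({v} : Set G)).subtype :=
    le_map_subtype_of_normal (centralizer ({v} : Set G)) (zpowers v)
      (by rw [zpowers_le, mem_centralizer_singleton_iff])
      (centralizer_le_normalizer_zpowers v) (isPGroup_zpowers_of_orderOf_eq v hv) T1
  have hT1N : (T1 : Subgroup (centralizer ({v} : Set G))).map
      (centralizer ({v} : Set G)).subtype ≤ normalizer ((P : Subgroup G) : Set G) := by
    intro c hc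
    have := map_subtype_le' _ _ hc
    rw [mem_centralizer_singleton_iff] at this
    exact hCvN c this
  obtain ⟨S, T, hT1S, hmap⟩ := exists_sylow_inf (normalizer ((P : Subgroup G) : Set G)) _ hT1N
    (isPGroup_map_subtype _ T1)
  have hS16 := card_sylow2 h S
  have hSN : (S : Subgroup G) ≤ normalizer ((P : Subgroup G) : Set G) := by
    have hc0 : Nat.card (T : Subgroup (normalizer ((P : Subgroup G) : Set G))) = 16 := by
      have hcard : Nat.card (normalizer ((P : Subgroup G) : Set G)) = 2 ^ 4 * 15 := by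
        rw [hN]; norm_num
      rw [sylow_card_of_card_eq T hcard (by norm_num)]; norm_num
    have hc1 : Nat.card ((S : Subgroup G) ⊓ normalizer ((P : Subgroup G) : Set G) : Subgroup G)
        = 16 := by rw [← hmap, card_map_subtype, hc0]
    have := Subgroup.eq_of_le_of_card_ge
      (inf_le_left : (S : Subgroup G) ⊓ normalizer ((P : Subgroup G) : Set G) ≤ (S : Subgroup G))
      (by rw [hc1, hS16])
    rw [← this]; exact inf_le_right
  have hvS : v ∈ (S : Subgroup G) := hT1S (hvT1 (mem_zpowers v))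
  have hv1S : v1 ∈ (S : Subgroup G) := hT1S (hT1 (mem_zpowers v1))
  -- `V = S ⊓ C(P)` has order four and exponent two
  set V : Subgroup G := (S : Subgroup G) ⊓ centralizer ((P : Subgroup G) : Set G) with hV
  have hvV : v ∈ V := ⟨hvS, hvC⟩
  have hv1V : v1 ∈ V := ⟨hv1S, hv1C⟩
  have hVp : IsPGroup 2 V := S.isPGroup'.to_le inf_le_left
  have hV4 : Nat.card V = 4 := by
    obtain ⟨n, hn⟩ := IsPGroup.iff_card.mp hVp
    have hd60 : Nat.card V ∣ 60 := hC ▸ Subgroup.card_dvd_of_le (inf_le_right : V ≤ _)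
    have hd2 : 2 ∣ Nat.card V := by
      have := Subgroup.card_dvd_of_le ((zpowers_le (H := V)).2 hvV)
      rwa [Nat.card_zpowers, hv] at this
    have hne2 : Nat.card V ≠ 2 := by
      intro h2
      have heq := Subgroup.eq_of_le_of_card_ge ((zpowers_le (H := V)).2 hvV)
        (by rw [Nat.card_zpowers, hv, h2])
      have : v1 ∈ zpowers v := by rw [heq]; exact hv1V
      rcases eq_one_or_eq_of_mem_zpowers v hv v1 this with h1 | h1
      · rw [h1, orderOf_one] at hv1
        omega
      · exact hne h1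
    have hle : Nat.card V ≤ 60 := Nat.le_of_dvd (by norm_num) hd60
    have hnle : n ≤ 5 := by
      by_contra hgt
      have : 2 ^ 6 ≤ 2 ^ n := Nat.pow_le_pow_right (by norm_num) (by omega)
      omega
    rw [hn] at hd60 hd2 hne2 ⊢
    interval_cases n <;> omega
  have hVexp : ∀ w ∈ V, w ^ 2 = 1 := by
    intro w hw
    by_contra hw2
    have hw4 : w ^ 4 = 1 := by
      have := Subgroup.orderOf_dvd_natCard V hw
      rw [hV4] at this
      exact orderOf_dvd_iff_pow_eq_one.1 this
    have hord : orderOf w = 4 := by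
      have hd : orderOf w ∣ 4 := orderOf_dvd_of_pow_eq_one hw4
      have hnd : ¬ orderOf w ∣ 2 := fun hd2 => hw2 (orderOf_dvd_iff_pow_eq_one.1 hd2)
      have hle : orderOf w ≤ 4 := Nat.le_of_dvd (by norm_num) hd
      have hpos : 0 < orderOf w := orderOf_pos w
      generalize orderOf w = o at *
      interval_cases o <;> omega
    have heq := Subgroup.eq_of_le_of_card_ge ((zpowers_le (H := V)).2 hw)
      (by rw [Nat.card_zpowers, hord, hV4])
    have key : ∀ t : G, t ∈ V → orderOf t = 2 → t = w ^ 2 := by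
      intro t ht ht2
      rw [← heq, ← mem_powers_iff_mem_zpowers] at ht
      obtain ⟨k, hk⟩ := (Submonoid.mem_powers_iff _ _).1 ht
      have hk' : w ^ (k % 4) = t := by rw [← hk, ← hord, pow_mod_orderOf]
      have hlt : k % 4 < 4 := Nat.mod_lt _ (by norm_num)
      have ht2' : t ^ 2 = 1 := by rw [← ht2]; exact pow_orderOf_eq_one t
      have ht1 : t ≠ 1 := by
        intro h1
        rw [h1, orderOf_one] at ht2
        omega
      generalize k % 4 = r at *
      interval_cases r
      · exfalso; apply ht1; rw [← hk', pow_zero]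
      · exfalso; apply hw2; rw [← hk', pow_one] at ht2'; exact ht2'
      · exact hk'.symm
      · exfalso
        apply hw2
        rw [← hk', ← pow_mul] at ht2'
        have : w ^ (3 * 2) = w ^ 4 * w ^ 2 := by rw [← pow_add]
        rw [this, hw4, one_mul] at ht2'
        exact ht2'
    apply hne
    rw [key v hvV hv, key v1 hv1V hv1]
  -- an element `s0` whose square inverts `x`
  obtain ⟨s0, hs0S, hs0⟩ := exists_sq_conj_eq_inv P hP5 x hxP hx1 (S : Subgroup G) hSN
    (by rw [← hV, hV4, hS16]; norm_num)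
  -- the subgroup `M`
  set M := signSub (S : Subgroup G) x with hM
  have hMS : M ≤ (S : Subgroup G) := fun m hm => hm.1
  have hcent : ∀ m : G, m ∈ centralizer ((P : Subgroup G) : Set G) ↔ m * x * m⁻¹ = x :=
    fun m => mem_centralizer_sylow_iff P hP5 x hxP hx1 m
  have hVM : V ≤ M := by
    intro w hw
    exact ⟨hw.1, Or.inl ((hcent w).1 hw.2)⟩
  have hinvV : ∀ m ∈ M, m ∉ V → m * x * m⁻¹ = x⁻¹ := by
    intro m hm hmV
    rcases hm.2 with h1 | h1
    · exact absurd ⟨hm.1, (hcent m).2 h1⟩ hmV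
    · exact h1
  have hs02M : s0 ^ 2 ∈ M := ⟨(S : Subgroup G).pow_mem hs0S 2, Or.inr hs0⟩
  have hs02V : s0 ^ 2 ∉ V := by
    intro hh
    have := (hcent _).1 hh.2
    rw [hs0] at this
    exact hxinv this
  have hM8 : Nat.card M = 2 * Nat.card V := by
    set K := V.subgroupOf M with hK
    have hKcard : Nat.card K = Nat.card V := by
      rw [hK, card_subgroupOf_eq_card_inf', inf_eq_left.2 hVM]
    have h2 : K.index = 2 := by
      rw [Subgroup.index_eq_two_iff]
      refine ⟨⟨s0 ^ 2, hs02M⟩, fun b => ?_⟩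
      by_cases hb : b ∈ K
      · right
        refine ⟨hb, fun hba => ?_⟩
        have h3 : (⟨s0 ^ 2, hs02M⟩ : M) ∈ K := by
          have : (⟨s0 ^ 2, hs02M⟩ : M) = b⁻¹ * (b * ⟨s0 ^ 2, hs02M⟩) := by group
          rw [this]
          exact K.mul_mem (K.inv_mem hb) hba
        rw [hK, Subgroup.mem_subgroupOf] at h3
        exact hs02V h3
      · left
        refine ⟨?_, hb⟩
        have hbV : (b : G) ∉ V := by rwa [hK, Subgroup.mem_subgroupOf] at hb
        have hbx := hinvV b b.2 hbV
        rw [hK, Subgroup.mem_subgroupOf]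
        have hmemC : ((b * ⟨s0 ^ 2, hs02M⟩ : M) : G) ∈ centralizer ((P : Subgroup G) : Set G) := by
          rw [hcent]
          have : ((b * ⟨s0 ^ 2, hs02M⟩ : M) : G) * x * ((b * ⟨s0 ^ 2, hs02M⟩ : M) : G)⁻¹ =
              (b : G) * (s0 ^ 2 * x * (s0 ^ 2)⁻¹) * (b : G)⁻¹ := by
            rw [Subgroup.coe_mul]; group
          rw [this, hs0]
          have h3 : (b : G) * x⁻¹ * (b : G)⁻¹ = ((b : G) * x * (b : G)⁻¹)⁻¹ := by group
          rw [h3, hbx, inv_inv]
        exact ⟨hMS (b * ⟨s0 ^ 2, hs02M⟩ : M).2, hmemC⟩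
    have hmul := K.index_mul_card
    rw [h2, hKcard] at hmul
    exact hmul.symm
  have hMc : Nat.card M = 8 := by rw [hM8, hV4]
  have hMrel : M.relIndex (S : Subgroup G) = 2 := by
    have := card_mul_relIndex_of_le hMS
    rw [hMc, hS16] at this
    omega
  -- elements of `S` outside `M`
  have hout : ∀ y ∈ (S : Subgroup G), y ∉ M →
      y ^ 2 * x * (y ^ 2)⁻¹ = x⁻¹ ∧ y ^ 2 ≠ 1 ∧ y ^ 8 = 1 := by
    intro y hyS hyM
    have htri := conj_trichotomy P hP5 x hxP hx1 y (hSN hyS)
    have hy2 : y ^ 2 * x * (y ^ 2)⁻¹ = x⁻¹ := by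
      rcases htri with h1 | h1 | h1
      · exact absurd ⟨hyS, Or.inl h1⟩ hyM
      · exact absurd ⟨hyS, Or.inr h1⟩ hyM
      · exact h1.2.2
    have hy21 : y ^ 2 ≠ 1 := by
      intro h1
      rw [h1] at hy2
      apply hxinv
      rw [← hy2]; group
    have hy4 : y ^ 4 ∈ V := by
      refine ⟨(S : Subgroup G).pow_mem hyS 4, ?_⟩
      show y ^ 4 ∈ centralizer ((P : Subgroup G) : Set G)
      rw [hcent]
      have h4 : y ^ 4 = y ^ 2 * y ^ 2 := by rw [← pow_add]
      have : y ^ 4 * x * (y ^ 4)⁻¹ = y ^ 2 * (y ^ 2 * x * (y ^ 2)⁻¹) * (y ^ 2)⁻¹ := by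
        rw [h4]; group
      rw [this, hy2]
      have h3 : y ^ 2 * x⁻¹ * (y ^ 2)⁻¹ = (y ^ 2 * x * (y ^ 2)⁻¹)⁻¹ := by group
      rw [h3, hy2, inv_inv]
    have hy8 : y ^ 8 = 1 := by
      have := hVexp _ hy4
      rwa [← pow_mul] at this
    exact ⟨hy2, hy21, hy8⟩
  have hev : Even (Nat.card G) := by rw [h]; decide
  have hidx2 : ∀ H : Subgroup G, H.index ≠ 2 := by
    intro H h2
    by_cases htop : H = ⊤
    · rw [htop, Subgroup.index_top] at h2
      omega
    · have := index_ge_eight h H htop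
      omega
  have hs0M : s0 ∉ M := by
    intro hh
    have h1 : s0 ^ 2 * x * (s0 ^ 2)⁻¹ = x := by
      have h2 : s0 ^ 2 * x * (s0 ^ 2)⁻¹ = s0 * (s0 * x * s0⁻¹) * s0⁻¹ := by
        rw [pow_two]; group
      rw [h2]
      rcases hh.2 with h3 | h3
      · rw [h3, h3]
      · rw [h3]
        have h4 : s0 * x⁻¹ * s0⁻¹ = (s0 * x * s0⁻¹)⁻¹ := by group
        rw [h4, h3, inv_inv]
    rw [hs0] at h1
    exact hxinv h1
  by_cases hA : ∃ y0 ∈ (S : Subgroup G), y0 ∉ M ∧ y0 ^ 4 = 1
  · -- Case A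
    obtain ⟨y0, hy0S, hy0M, hy04⟩ := hA
    obtain ⟨hy2, hy21, hy8⟩ := hout y0 hy0S hy0M
    have hord0 : orderOf y0 = 2 ^ 2 := by
      have hd : orderOf y0 ∣ 4 := orderOf_dvd_of_pow_eq_one hy04
      have hnd : ¬ orderOf y0 ∣ 2 := fun hd2 => hy21 (orderOf_dvd_iff_pow_eq_one.1 hd2)
      have hle : orderOf y0 ≤ 4 := Nat.le_of_dvd (by norm_num) hd
      have hpos : 0 < orderOf y0 := orderOf_pos y0
      generalize orderOf y0 = o at *
      interval_cases o <;> omega
    have hord : ∀ y ∈ (S : Subgroup G), y ∉ M → 2 ^ (2 - 1) < orderOf y := by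
      intro y hyS hyM
      obtain ⟨_, hy21', hy8'⟩ := hout y hyS hyM
      have hd : orderOf y ∣ 8 := orderOf_dvd_of_pow_eq_one hy8'
      have hnd : ¬ orderOf y ∣ 2 := fun hd2 => hy21' (orderOf_dvd_iff_pow_eq_one.1 hd2)
      have hle : orderOf y ≤ 8 := Nat.le_of_dvd (by norm_num) hd
      have hpos : 0 < orderOf y := orderOf_pos y
      generalize orderOf y = o at *
      interval_cases o <;> omega
    obtain ⟨g', hg'⟩ := Cfsg.Agent.S3225.result hev hidx2 S M hMS hMrel 2 (by norm_num) hord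
      y0 hy0S hord0
    -- `m = g' y0 g'⁻¹ ∈ M`, `m² ∈ V` an involution of `C(P)`
    have hm2V : (g' * y0 * g'⁻¹) ^ 2 ∈ V :=
      sq_mem_of_card_eq_two_mul hVM hM8 _ hg'
    have hm2 : (g' * y0 * g'⁻¹) ^ 2 = g' * y0 ^ 2 * g'⁻¹ := by rw [conj_pow]
    have hm2ord : orderOf ((g' * y0 * g'⁻¹) ^ 2) = 2 := by
      rw [hm2, orderOf_conj_eq]
      have hd : orderOf (y0 ^ 2) ∣ 2 := by
        apply orderOf_dvd_of_pow_eq_one
        rw [← pow_mul]; exact hy04
      rcases (Nat.dvd_prime Nat.prime_two).1 hd with h1 | h1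
      · exact absurd (orderOf_eq_one_iff.1 h1) hy21
      · exact h1
    have hy02N : y0 ^ 2 ∈ normalizer ((P : Subgroup G) : Set G) :=
      hSN ((S : Subgroup G).pow_mem hy0S 2)
    have hg'N : g' ∈ normalizer ((P : Subgroup G) : Set G) := by
      apply hfix _ hm2V.2 hm2ord g'
      rw [hm2]
      have : g'⁻¹ * (g' * y0 ^ 2 * g'⁻¹) * g' = y0 ^ 2 := by group
      rw [this]; exact hy02N
    have hy02C : y0 ^ 2 ∈ centralizer ((P : Subgroup G) : Set G) := by
      have h1 := Cfsg.Agent.Lib.Helper9.Simple1080.conj_mem_centralizer_of_mem_normalizer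
        (P : Subgroup G) ((normalizer ((P : Subgroup G) : Set G)).inv_mem hg'N) hm2V.2
      rw [hm2, inv_inv] at h1
      have : g'⁻¹ * (g' * y0 ^ 2 * g'⁻¹) * g' = y0 ^ 2 := by group
      rwa [this] at h1
    have := (hcent _).1 hy02C
    rw [hy2] at this
    exact hxinv this
  · -- Case B
    push Not at hA
    obtain ⟨hs2, hs21, hs8⟩ := hout s0 hs0S hs0M
    have hs04 : s0 ^ 4 ≠ 1 := hA s0 hs0S hs0M
    have hord0 : orderOf s0 = 2 ^ 3 := by
      have hd : orderOf s0 ∣ 8 := orderOf_dvd_of_pow_eq_one hs8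
      have hnd : ¬ orderOf s0 ∣ 4 := fun hd2 => hs04 (orderOf_dvd_iff_pow_eq_one.1 hd2)
      have hle : orderOf s0 ≤ 8 := Nat.le_of_dvd (by norm_num) hd
      have hpos : 0 < orderOf s0 := orderOf_pos s0
      generalize orderOf s0 = o at *
      interval_cases o <;> omega
    have hord : ∀ y ∈ (S : Subgroup G), y ∉ M → 2 ^ (3 - 1) < orderOf y := by
      intro y hyS hyM
      obtain ⟨_, hy21', hy8'⟩ := hout y hyS hyM
      have hy4' : y ^ 4 ≠ 1 := hA y hyS hyM
      have hd : orderOf y ∣ 8 := orderOf_dvd_of_pow_eq_one hy8'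
      have hnd : ¬ orderOf y ∣ 4 := fun hd2 => hy4' (orderOf_dvd_iff_pow_eq_one.1 hd2)
      have hle : orderOf y ≤ 8 := Nat.le_of_dvd (by norm_num) hd
      have hpos : 0 < orderOf y := orderOf_pos y
      generalize orderOf y = o at *
      interval_cases o <;> omega
    obtain ⟨g', hg'⟩ := Cfsg.Agent.S3225.result hev hidx2 S M hMS hMrel 3 (by norm_num) hord
      s0 hs0S hord0
    have hm2V : (g' * s0 * g'⁻¹) ^ 2 ∈ V :=
      sq_mem_of_card_eq_two_mul hVM hM8 _ hg'
    have hm4 := hVexp _ hm2V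
    rw [← pow_mul, conj_pow] at hm4
    apply hs04
    have : s0 ^ 4 = g'⁻¹ * (g' * s0 ^ (2 * 2) * g'⁻¹) * g' := by group
    rw [this, hm4]; group

end Cfsg.Agent.Lib.Helper72.Simple5040
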