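import Mathlib
import Cfsg.Agent.Lib.Helper72.Simple5040N21B

/-!
# No simple group of order 5040, leaf B1-40: `|N(P₅)| = 40`, `|C(P₅)| = 10`, `C(v) = N(P₅)`

(helper72)
-/

set_option autoImplicit false
set_option linter.unusedSectionVars false
set_option linter.unusedVariables false
set_option maxHeartbeats 1000000

namespace Cfsg.Agent.Lib.Helper72.Simple5040

open MulAction Subgroup
open Cfsg.Agent.Lib.Helper17

section generic

theorem natCard_subtype_eq_card_filter {α : Type*} [Fintype α] (p : α → Prop) [DecidablePred p] :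
    Nat.card {y : α // p y} = (Finset.univ.filter p).card := by
  rw [Nat.card_eq_fintype_card, Fintype.card_subtype]

/-- Conjugate elements have centralizers of the same order. -/
theorem card_centralizer_eq_of_isConj {G : Type*} [Group G] [Finite G] {a b : G}
    (hab : IsConj a b) :
    Nat.card (centralizer ({a} : Set G)) = Nat.card (centralizer ({b} : Set G)) := by
  have h1 := card_conj_mul_card_centralizer a
  have h2 := card_conj_mul_card_centralizer b
  have h3 : Nat.card {y : G // IsConj a y} = Nat.card {y : G // IsConj b y} := by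
    apply Nat.card_congr
    apply Equiv.subtypeEquivRight
    intro y
    exact ⟨fun hh => hab.symm.trans hh, fun hh => hab.trans hh⟩
  rw [h3, ← h2] at h1
  have hpos : 0 < Nat.card {y : G // IsConj b y} :=
    Nat.card_pos_iff.2 ⟨⟨⟨b, IsConj.refl b⟩⟩, inferInstance⟩
  exact Nat.eq_of_mul_eq_mul_left hpos h1

end generic

variable {G : Type*} [Group G] [Finite G] [IsSimpleGroup G]

attribute [local instance] fact7 fact5 fact3 fact2

/-- Leaf B1-40. -/
theorem false_of_centralizer_eq_normalizer (h : Nat.card G = 5040) (P : Sylow 5 G)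
    (hN : Nat.card (normalizer ((P : Subgroup G) : Set G)) = 40)
    (hC : Nat.card (centralizer ((P : Subgroup G) : Set G)) = 10)
    (v : G) (hv : orderOf v = 2) (hvC : v ∈ centralizer ((P : Subgroup G) : Set G))
    (hCv : centralizer ({v} : Set G) = normalizer ((P : Subgroup G) : Set G)) : False := by
  classical
  have hG := not_comm h
  have hP5 := card_sylow5 h P
  obtain ⟨x, hxP, hx5⟩ := exists_mem_orderOf_eq_of_dvd_card (P : Subgroup G) 5 (by rw [hP5])
  have hx1 : x ≠ 1 := by
    intro h1
    rw [h1, orderOf_one] at hx5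
    omega
  have hxinv : x⁻¹ ≠ x := by
    intro hh
    have h2 : x ^ 2 = 1 := by rw [pow_two]; nth_rewrite 1 [← hh]; exact inv_mul_cancel x
    have := orderOf_dvd_of_pow_eq_one h2
    rw [hx5] at this
    omega
  have hcent : ∀ m : G, m ∈ centralizer ((P : Subgroup G) : Set G) ↔ m * x * m⁻¹ = x :=
    fun m => mem_centralizer_sylow_iff P hP5 x hxP hx1 m
  have hv2 : v ^ 2 = 1 := by rw [← hv]; exact pow_orderOf_eq_one v
  have hv1 : v ≠ 1 := by
    intro h1
    rw [h1, orderOf_one] at hv
    omega
  have hvinv : v⁻¹ = v := by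
    apply inv_eq_of_mul_eq_one_left
    rw [← pow_two]; exact hv2
  have hvN : v ∈ normalizer ((P : Subgroup G) : Set G) :=
    Subgroup.centralizer_le_normalizer _ hvC
  -- the Sylow 2-subgroup `T` of `N`
  obtain ⟨T0, hT0⟩ := exists_sylow_sub_ge (normalizer ((P : Subgroup G) : Set G)) (zpowers v)
    (by rw [zpowers_le]; exact hvN) (isPGroup_zpowers_of_orderOf_eq v hv)
  set T : Subgroup G := (T0 : Subgroup (normalizer ((P : Subgroup G) : Set G))).map
    (normalizer ((P : Subgroup G) : Set G)).subtype with hT
  have hTN : T ≤ normalizer ((P : Subgroup G) : Set G) := map_subtype_le' _ _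
  have hT8 : Nat.card T = 8 := by
    rw [hT, card_map_subtype]
    have hcard : Nat.card (normalizer ((P : Subgroup G) : Set G)) = 2 ^ 3 * 5 := by
      rw [hN]; norm_num
    rw [sylow_card_of_card_eq T0 hcard (by norm_num)]; norm_num
  have hvT : v ∈ T := hT0 (mem_zpowers v)
  have hTv : ∀ τ ∈ T, Commute τ v := by
    intro τ hτ
    have := hTN hτ
    rw [← hCv, mem_centralizer_singleton_iff] at this
    exact this
  have hTC : T ⊓ centralizer ((P : Subgroup G) : Set G) = zpowers v := by
    symm
    apply Subgroup.eq_of_le_of_card_ge (le_inf ((zpowers_le).2 hvT) ((zpowers_le).2 hvC))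
    have d1 : Nat.card (T ⊓ centralizer ((P : Subgroup G) : Set G) : Subgroup G) ∣ 8 :=
      hT8 ▸ Subgroup.card_dvd_of_le inf_le_left
    have d2 : Nat.card (T ⊓ centralizer ((P : Subgroup G) : Set G) : Subgroup G) ∣ 10 :=
      hC ▸ Subgroup.card_dvd_of_le inf_le_right
    rw [Nat.card_zpowers, hv]
    have hg : Nat.gcd 8 10 = 2 := by norm_num
    have := Nat.dvd_gcd d1 d2
    rw [hg] at this
    exact Nat.le_of_dvd (by norm_num) this
  obtain ⟨a, haT, ha⟩ := exists_sq_conj_eq_inv P hP5 x hxP hx1 T hTN
    (by rw [hTC, Nat.card_zpowers, hv, hT8]; norm_num)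
  have hzT : a ^ 2 ∈ T := T.pow_mem haT 2
  have hzC : a ^ 2 ∉ centralizer ((P : Subgroup G) : Set G) := by
    intro hh
    have := (hcent _).1 hh
    rw [ha] at this
    exact hxinv this
  have ha4mem : a ^ 4 ∈ zpowers v := by
    rw [← hTC]
    refine ⟨T.pow_mem haT 4, ?_⟩
    show a ^ 4 ∈ centralizer ((P : Subgroup G) : Set G)
    rw [hcent]
    have h4 : a ^ 4 = a ^ 2 * a ^ 2 := by rw [← pow_add]
    have : a ^ 4 * x * (a ^ 4)⁻¹ = a ^ 2 * (a ^ 2 * x * (a ^ 2)⁻¹) * (a ^ 2)⁻¹ := by
      rw [h4]; group
    rw [this, ha]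
    have h3 : a ^ 2 * x⁻¹ * (a ^ 2)⁻¹ = (a ^ 2 * x * (a ^ 2)⁻¹)⁻¹ := by group
    rw [h3, ha, inv_inv]
  have hz1 : a ^ 2 ≠ 1 := by
    intro h1
    rw [h1] at ha
    apply hxinv
    rw [← ha]; group
  obtain ⟨S, s, hSN, hsS, hsN, hsT⟩ :=
    exists_sylow_two_growth h (normalizer ((P : Subgroup G) : Set G)) hN T hTN hT8
  have hTS : T ≤ (S : Subgroup G) := by rw [← hSN]; exact inf_le_left
  have hS16 := card_sylow2 h S
  have hST2 : Nat.card (S : Subgroup G) = 2 * Nat.card T := by rw [hS16, hT8]
  have hnotT : ∀ u ∈ (S : Subgroup G), u ∉ T → ¬ Commute u v := by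
    intro u huS huT hc
    apply huT
    rw [← hSN]
    have hmem : u ∈ centralizer ({v} : Set G) := by
      rw [mem_centralizer_singleton_iff]
      exact hc.eq
    rw [hCv] at hmem
    exact ⟨huS, hmem⟩
  have hsv : s * v * s⁻¹ ∈ T := (mem_normalizer_iff.1 hsT v).1 hvT
  have hsvne : s * v * s⁻¹ ≠ v := by
    intro hh
    apply hsN
    rw [← hCv, mem_centralizer_singleton_iff]
    calc s * v = (s * v * s⁻¹) * s := by group
      _ = v * s := by rw [hh]
  have hsv2 : (s * v * s⁻¹) ^ 2 = 1 := by rw [conj_pow, hv2]; group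
  have hsv1 : s * v * s⁻¹ ≠ 1 := by
    intro hh
    apply hv1
    have : v = s⁻¹ * (s * v * s⁻¹) * s := by group
    rw [this, hh]; group
  rcases eq_one_or_eq_of_mem_zpowers v hv _ ha4mem with ha4 | ha4
  swap
  · -- case (i): `a⁴ = v`, `T` is cyclic
    have ha8 : a ^ 8 = 1 := by
      have : a ^ 8 = (a ^ 4) ^ 2 := by rw [← pow_mul]
      rw [this, ha4, hv2]
    have horda : orderOf a = 8 := by
      have hd : orderOf a ∣ 8 := orderOf_dvd_of_pow_eq_one ha8
      have hnd : ¬ orderOf a ∣ 4 := fun hd2 => by
        have := orderOf_dvd_iff_pow_eq_one.1 hd2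
        rw [ha4] at this
        exact hv1 this
      have hle : orderOf a ≤ 8 := Nat.le_of_dvd (by norm_num) hd
      have hpos : 0 < orderOf a := orderOf_pos a
      generalize orderOf a = o at *
      interval_cases o <;> omega
    have hTa : zpowers a = T :=
      Subgroup.eq_of_le_of_card_ge ((zpowers_le).2 haT) (by rw [Nat.card_zpowers, horda, hT8])
    have hmem := hsv
    rw [← hTa, ← mem_powers_iff_mem_zpowers] at hmem
    obtain ⟨k, hk⟩ := (Submonoid.mem_powers_iff _ _).1 hmem
    have hk' : a ^ (k % 8) = s * v * s⁻¹ := by rw [← hk, ← horda, pow_mod_orderOf]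
    have hlt : k % 8 < 8 := Nat.mod_lt _ (by norm_num)
    have hk2 : a ^ (k % 8 * 2) = 1 := by rw [pow_mul, hk', hsv2]
    have hd := orderOf_dvd_of_pow_eq_one hk2
    rw [horda] at hd
    generalize k % 8 = r at *
    interval_cases r
    · rw [pow_zero] at hk'; exact hsv1 hk'.symm
    · omega
    · omega
    · omega
    · rw [ha4] at hk'; exact hsvne hk'.symm
    · omega
    · omega
    · omega
  · -- case (ii): `a⁴ = 1`
    set z := a ^ 2 with hz
    have hz2 : z ^ 2 = 1 := by rw [hz, ← pow_mul]; exact ha4
    have hzord : orderOf z = 2 := by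
      have hd : orderOf z ∣ 2 := orderOf_dvd_of_pow_eq_one hz2
      rcases (Nat.dvd_prime Nat.prime_two).1 hd with h1 | h1
      · exact absurd (orderOf_eq_one_iff.1 h1) hz1
      · exact h1
    have hzv : z ≠ v := fun hh => hzC (hh ▸ hvC)
    have horda : orderOf a = 4 := by
      have hd : orderOf a ∣ 4 := orderOf_dvd_of_pow_eq_one ha4
      have hnd : ¬ orderOf a ∣ 2 := fun hd2 => hz1 (orderOf_dvd_iff_pow_eq_one.1 hd2)
      have hle : orderOf a ≤ 4 := Nat.le_of_dvd (by norm_num) hd
      have hpos : 0 < orderOf a := orderOf_pos a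
      generalize orderOf a = o at *
      interval_cases o <;> omega
    have hav : Commute a v := hTv a haT
    -- powers of `a` that are involutions
    have hpowa : ∀ i : ℕ, (a ^ i) ^ 2 = 1 → a ^ i = 1 ∨ a ^ i = z := by
      intro i hi
      have hi' : a ^ i = a ^ (i % 4) := by rw [← horda, pow_mod_orderOf]
      have hlt : i % 4 < 4 := Nat.mod_lt _ (by norm_num)
      rw [hi', ← pow_mul] at hi
      have hd := orderOf_dvd_of_pow_eq_one hi
      rw [horda] at hd
      rw [hi']
      generalize i % 4 = r at *
      interval_cases r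
      · left; rw [pow_zero]
      · omega
      · right; rfl
      · omega
    have hvza : v ∉ zpowers a := by
      intro hh
      rw [← mem_powers_iff_mem_zpowers] at hh
      obtain ⟨k, hk⟩ := (Submonoid.mem_powers_iff _ _).1 hh
      rcases hpowa k (by rw [hk, hv2]) with h1 | h1
      · exact hv1 (hk ▸ h1)
      · exact hzv (by rw [← h1, hk])
    have hza4 : Nat.card (zpowers a) = 4 := by rw [Nat.card_zpowers, horda]
    have helems : ∀ τ ∈ T, ∃ i : ℕ, τ = a ^ i ∨ τ = a ^ i * v := by
      intro τ hτ
      by_cases hτa : τ ∈ zpowers a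
      · rw [← mem_powers_iff_mem_zpowers] at hτa
        obtain ⟨k, hk⟩ := (Submonoid.mem_powers_iff _ _).1 hτa
        exact ⟨k, Or.inl hk.symm⟩
      · have := mul_mem_of_card_eq_two_mul ((zpowers_le (H := T)).2 haT)
          (by rw [hT8, hza4]) τ v hτ hvT hτa hvza
        rw [← mem_powers_iff_mem_zpowers] at this
        obtain ⟨k, hk⟩ := (Submonoid.mem_powers_iff _ _).1 this
        refine ⟨k, Or.inr ?_⟩
        rw [hk, mul_assoc, ← pow_two, hv2, mul_one]
    have hzpow : ∀ i : ℕ, z ^ i = 1 ∨ z ^ i = z := by
      intro i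
      have hi' : z ^ i = z ^ (i % 2) := by rw [← hzord, pow_mod_orderOf]
      have hlt : i % 2 < 2 := Nat.mod_lt _ (by norm_num)
      rw [hi']
      generalize i % 2 = r at *
      interval_cases r
      · left; rw [pow_zero]
      · right; rw [pow_one]
    have hsqT : ∀ τ ∈ T, τ ^ 2 = 1 ∨ τ ^ 2 = z := by
      intro τ hτ
      obtain ⟨i, hi | hi⟩ := helems τ hτ
      · rw [hi, ← pow_mul, mul_comm, pow_mul]; exact hzpow i
      · have hc : Commute (a ^ i) v := hav.pow_left i
        rw [hi, hc.mul_pow, hv2, mul_one, ← pow_mul, mul_comm, pow_mul]; exact hzpow i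
    have hinvT : ∀ τ ∈ T, τ ^ 2 = 1 → τ = 1 ∨ τ = z ∨ τ = v ∨ τ = z * v := by
      intro τ hτ hτ2
      obtain ⟨i, hi | hi⟩ := helems τ hτ
      · rcases hpowa i (by rw [← hi]; exact hτ2) with h1 | h1
        · left; rw [hi, h1]
        · right; left; rw [hi, h1]
      · have hc : Commute (a ^ i) v := hav.pow_left i
        have : (a ^ i) ^ 2 = 1 := by
          have h3 := hτ2
          rw [hi, hc.mul_pow, hv2, mul_one] at h3
          exact h3
        rcases hpowa i this with h1 | h1
        · right; right; left; rw [hi, h1, one_mul]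
        · right; right; right; rw [hi, h1]
    have hTz : ∀ τ ∈ T, Commute τ z := by
      intro τ hτ
      have haz : Commute a z := (Commute.refl a).pow_right 2
      have hvz : Commute v z := (hTv z hzT).symm
      obtain ⟨i, hi | hi⟩ := helems τ hτ
      · rw [hi]; exact haz.pow_left i
      · rw [hi]; exact (haz.pow_left i).mul_left hvz
    -- `z` is central in `S`
    have hsz : s * z * s⁻¹ = z := by
      have h1 : s * a * s⁻¹ ∈ T := (mem_normalizer_iff.1 hsT a).1 haT
      have h2 : (s * a * s⁻¹) ^ 2 = s * z * s⁻¹ := by rw [conj_pow]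
      rcases hsqT _ h1 with h3 | h3
      · exfalso
        rw [h2] at h3
        apply hz1
        have : z = s⁻¹ * (s * z * s⁻¹) * s := by group
        rw [this, h3]; group
      · rw [← h2, h3]
    have hsT' : s ∉ T := fun hh => hsN (hTN hh)
    have hSz : ∀ σ ∈ (S : Subgroup G), Commute σ z := by
      intro σ hσ
      have hsc : Commute s z := by
        show s * z = z * s
        calc s * z = (s * z * s⁻¹) * s := by group
          _ = z * s := by rw [hsz]
      by_cases hσT : σ ∈ T
      · exact hTz σ hσT
      · have h1 := mul_mem_of_card_eq_two_mul hTS hST2 s⁻¹ σ ((S : Subgroup G).inv_mem hsS) hσ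
          (fun hh => hsT' (by simpa using T.inv_mem hh)) hσT
        have h2 : σ = s * (s⁻¹ * σ) := by group
        rw [h2]
        exact hsc.mul_left (hTz _ h1)
    have h16 : 16 ∣ Nat.card (centralizer ({z} : Set G)) := by
      rw [← hS16]
      apply Subgroup.card_dvd_of_le
      intro σ hσ
      rw [mem_centralizer_singleton_iff]
      exact (hSz σ hσ).eq
    have hnotconj : ¬ IsConj v z := by
      intro hcj
      have := card_centralizer_eq_of_isConj hcj
      rw [hCv, hN] at this
      rw [← this] at h16
      omega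
    -- counting
    have := Fintype.ofFinite G
    set Sset : Finset G := Finset.univ.filter (fun y => y ∈ (S : Subgroup G)) with hSset
    set Tset : Finset G := Finset.univ.filter (fun y => y ∈ T) with hTset
    set Bset : Finset G := Finset.univ.filter
      (fun y => y ∈ (S : Subgroup G) ∧ y ∉ T ∧ y ^ 2 = 1) with hBset
    set Aset : Finset G := Finset.univ.filter
      (fun y => IsConj v y ∧ y ∈ (S : Subgroup G)) with hAset
    have hScard : Sset.card = 16 := by
      rw [← hS16]
      exact (natCard_subtype_eq_card_filter (fun y => y ∈ (S : Subgroup G))).symm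
    have hTcard : Tset.card = 8 := by
      rw [← hT8]
      exact (natCard_subtype_eq_card_filter (fun y => y ∈ T)).symm
    have hTsub : Tset ⊆ Sset := by
      intro y hy
      rw [hTset, Finset.mem_filter] at hy
      rw [hSset, Finset.mem_filter]
      exact ⟨Finset.mem_univ _, hTS hy.2⟩
    have hDcard : (Sset \ Tset).card = 8 := by
      rw [Finset.card_sdiff_of_subset hTsub, hScard, hTcard]
    have hBsub : Bset ⊆ Sset \ Tset := by
      intro y hy
      rw [hBset, Finset.mem_filter] at hy
      rw [Finset.mem_sdiff, hSset, hTset, Finset.mem_filter, Finset.mem_filter]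
      exact ⟨⟨Finset.mem_univ _, hy.2.1⟩, fun hh => hy.2.2.1 hh.2⟩
    have hBvsub : Bset.image (fun y => y * v) ⊆ Sset \ Tset := by
      intro y hy
      rw [Finset.mem_image] at hy
      obtain ⟨u, hu, rfl⟩ := hy
      rw [hBset, Finset.mem_filter] at hu
      rw [Finset.mem_sdiff, hSset, hTset, Finset.mem_filter, Finset.mem_filter]
      refine ⟨⟨Finset.mem_univ _, (S : Subgroup G).mul_mem hu.2.1 (hTS hvT)⟩, fun hh => ?_⟩
      apply hu.2.2.1
      have : u = (u * v) * v⁻¹ := by group
      rw [this]
      exact T.mul_mem hh.2 (T.inv_mem hvT)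
    have hdisj : Disjoint Bset (Bset.image (fun y => y * v)) := by
      rw [Finset.disjoint_left]
      intro y hy hy'
      rw [Finset.mem_image] at hy'
      obtain ⟨u, hu, rfl⟩ := hy'
      rw [hBset, Finset.mem_filter] at hu hy
      apply hnotT u hu.2.1 hu.2.2.1
      have huinv : u⁻¹ = u := by
        apply inv_eq_of_mul_eq_one_left
        rw [← pow_two]; exact hu.2.2.2
      have h1 : u * v * (u * v) = 1 := by rw [← pow_two]; exact hy.2.2.2
      show u * v = v * u
      have h2 : u * v = (u * v * (u * v)) * (v⁻¹ * u⁻¹) := by group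
      rw [h2, h1, one_mul, hvinv, huinv]
    have hBcard : Bset.card ≤ 4 := by
      have h1 : (Bset ∪ Bset.image (fun y => y * v)).card ≤ (Sset \ Tset).card :=
        Finset.card_le_card (Finset.union_subset hBsub hBvsub)
      rw [Finset.card_union_of_disjoint hdisj,
        Finset.card_image_of_injective _ (mul_left_injective v), hDcard] at h1
      omega
    have hAsub : Aset ⊆ ({v, z * v} : Finset G) ∪ Bset := by
      intro y hy
      rw [hAset, Finset.mem_filter] at hy
      obtain ⟨-, hcj, hyS⟩ := hy
      have hyord : orderOf y = 2 := by rw [orderOf_eq_of_isConj hcj]; exact hv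
      have hy2 : y ^ 2 = 1 := by rw [← hyord]; exact pow_orderOf_eq_one y
      rw [Finset.mem_union]
      by_cases hyT : y ∈ T
      · left
        rcases hinvT y hyT hy2 with h1 | h1 | h1 | h1
        · exfalso
          rw [h1, orderOf_one] at hyord
          omega
        · exact absurd (h1 ▸ hcj) hnotconj
        · rw [h1]; simp
        · rw [h1]; simp
      · right
        rw [hBset, Finset.mem_filter]
        exact ⟨Finset.mem_univ _, hyS, hyT, hy2⟩
    have hUcard : (({v, z * v} : Finset G) ∪ Bset).card ≤ 6 := by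
      have h1 := Finset.card_union_le ({v, z * v} : Finset G) Bset
      have h2 : ({v, z * v} : Finset G).card ≤ 2 := Finset.card_le_two
      omega
    have hAle : Aset.card ≤ 6 := (Finset.card_le_card hAsub).trans hUcard
    have hfixeq := card_fixedBy_mul_card (S : Subgroup G) v
    rw [hS16, hCv, hN,
      natCard_subtype_eq_card_filter (fun y => IsConj v y ∧ y ∈ (S : Subgroup G))] at hfixeq
    have hpar := four_dvd_index_sub_card_fixedBy_of_simple hG (S : Subgroup G) v hv2
    have hidx : (S : Subgroup G).index = 315 := by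
      have := (S : Subgroup G).index_mul_card
      rw [hS16, h] at this
      omega
    rw [hidx] at hpar
    have hfle := card_fixedBy_le_index (S : Subgroup G) v
    rw [hidx] at hfle
    have hA6 : Aset.card = 6 := by
      have hAeq : (Finset.univ.filter (fun y => IsConj v y ∧ y ∈ (S : Subgroup G))).card =
          Aset.card := rfl
      rw [hAeq] at hfixeq
      generalize Nat.card (fixedBy (G ⧸ (S : Subgroup G)) v) = f at *
      generalize Aset.card = k at *
      omega
    have hAeq : Aset = ({v, z * v} : Finset G) ∪ Bset :=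
      Finset.eq_of_subset_of_card_le hAsub (by rw [hA6]; exact hUcard)
    -- `z` is isolated in `S`
    have hzS : z ∈ (S : Subgroup G) := hTS hzT
    apply false_of_isolated_involution hG S z hzord hzS
    intro g hg
    have hw2 : (g * z * g⁻¹) ^ 2 = 1 := by rw [conj_pow, hz2]; group
    have hw1 : g * z * g⁻¹ ≠ 1 := by
      intro hh
      apply hz1
      have : z = g⁻¹ * (g * z * g⁻¹) * g := by group
      rw [this, hh]; group
    have hcjw : IsConj z (g * z * g⁻¹) := isConj_iff.2 ⟨g, rfl⟩
    have hAmem : ∀ y, y ∈ Aset → IsConj v y := by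
      intro y hy
      rw [hAset, Finset.mem_filter] at hy
      exact hy.2.1
    by_cases hwT : g * z * g⁻¹ ∈ T
    · rcases hinvT _ hwT hw2 with h1 | h1 | h1 | h1
      · exact absurd h1 hw1
      · exact h1
      · exfalso
        apply hnotconj
        rw [h1] at hcjw
        exact hcjw.symm
      · exfalso
        apply hnotconj
        have h3 : z * v ∈ Aset := by rw [hAeq]; simp
        have h4 := hAmem _ h3
        rw [h1] at hcjw
        exact h4.trans hcjw.symm
    · exfalso
      apply hnotconj
      have h3 : g * z * g⁻¹ ∈ Aset := by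
        rw [hAeq, Finset.mem_union]
        right
        rw [hBset, Finset.mem_filter]
        exact ⟨Finset.mem_univ _, hg, hwT, hw2⟩
      exact (hAmem _ h3).trans hcjw.symm

end Cfsg.Agent.Lib.Helper72.Simple5040
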