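import Mathlib
import Cfsg.Agent.Lib.Helper72.Simple5040D

/-!
# No simple group of order 5040, part E: `|C(P₅)| = 10` forces `N(P₅) ≤ C(v)`

(helper72)
-/

set_option autoImplicit false
set_option linter.unusedSectionVars false
set_option linter.unusedVariables false

namespace Cfsg.Agent.Lib.Helper72.Simple5040

open MulAction Subgroup
open Cfsg.Agent.Lib.Helper17

variable {G : Type*} [Group G] [Finite G]

/-- If `|P| = 5`, `|C(P)| = 10` and `v ∈ C(P)` is an involution then `N(P) ≤ C(v)`. -/
theorem normalizer_le_centralizer_of_card_eq_ten (P : Sylow 5 G)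
    (hP : Nat.card (P : Subgroup G) = 5)
    (hC : Nat.card (centralizer ((P : Subgroup G) : Set G)) = 10) (v : G) (hv : orderOf v = 2)
    (hvC : v ∈ centralizer ((P : Subgroup G) : Set G)) :
    normalizer ((P : Subgroup G) : Set G) ≤ centralizer ({v} : Set G) := by
  have hp5 : Fact (Nat.Prime 5) := ⟨by norm_num⟩
  obtain ⟨x, hxP, hx5⟩ := exists_mem_orderOf_eq_of_dvd_card (P : Subgroup G) 5 (by rw [hP])
  have hx1 : x ≠ 1 := by
    intro h1
    rw [h1, orderOf_one] at hx5
    omega
  have hxv : Commute x v := by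
    rw [Subgroup.mem_centralizer_iff] at hvC
    exact hvC x hxP
  have hxC : x ∈ centralizer ((P : Subgroup G) : Set G) := by
    rw [mem_centralizer_sylow_iff P hP x hxP hx1]
    group
  have hw : orderOf (x * v) = 10 := by
    rw [hxv.orderOf_mul_eq_mul_orderOf_of_coprime (by rw [hx5, hv]; norm_num), hx5, hv]
  have hzw : zpowers (x * v) = centralizer ((P : Subgroup G) : Set G) := by
    apply Subgroup.eq_of_le_of_card_ge
    · rw [zpowers_le]
      exact Subgroup.mul_mem _ hxC hvC
    · rw [Nat.card_zpowers, hw, hC]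
  have hx5' : x ^ 5 = 1 := by rw [← hx5]; exact pow_orderOf_eq_one x
  have hv2 : v ^ 2 = 1 := by rw [← hv]; exact pow_orderOf_eq_one v
  have hw5 : (x * v) ^ 5 = v := by
    rw [hxv.mul_pow, hx5', one_mul]
    have : v ^ 5 = (v ^ 2) ^ 2 * v := by rw [← pow_mul, ← pow_succ]
    rw [this, hv2, one_pow, one_mul]
  intro g hg
  have h1 : g * v * g⁻¹ ∈ centralizer ((P : Subgroup G) : Set G) :=
    Cfsg.Agent.Lib.Helper9.Simple1080.conj_mem_centralizer_of_mem_normalizer (P : Subgroup G) hg hvC
  rw [← hzw, ← mem_powers_iff_mem_zpowers] at h1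
  obtain ⟨k, hk⟩ := (Submonoid.mem_powers_iff _ _).1 h1
  have hsq : ((x * v) ^ k) ^ 2 = 1 := by
    rw [hk, conj_pow, hv2]; group
  have hdvd : 10 ∣ k * 2 := by
    rw [← hw]
    apply orderOf_dvd_of_pow_eq_one
    rw [pow_mul]; exact hsq
  have h5k : 5 ∣ k := by omega
  obtain ⟨j, rfl⟩ := h5k
  rw [pow_mul, hw5] at hk
  have hvj : v ^ j = v ^ (j % 2) := by
    rw [← hv, pow_mod_orderOf]
  have hgv : g * v * g⁻¹ = v := by
    rw [← hk, hvj]
    have hlt : j % 2 < 2 := Nat.mod_lt _ (by norm_num)
    generalize j % 2 = r at *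
    interval_cases r
    · exfalso
      rw [pow_zero] at hvj
      rw [hvj] at hk
      have : v = 1 := by
        have h3 : v = g⁻¹ * (g * v * g⁻¹) * g := by group
        rw [h3, ← hk]; group
      rw [this, orderOf_one] at hv
      omega
    · rw [pow_one]
  rw [mem_centralizer_singleton_iff]
  calc g * v = (g * v * g⁻¹) * g := by group
    _ = v * g := by rw [hgv]

end Cfsg.Agent.Lib.Helper72.Simple5040
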