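import Mathlib
import Cfsg.Agent.Lib.Helper72.Simple5040E
import Cfsg.Agent.Lib.Helper72.Simple5040N21B
import Cfsg.Agent.Lib.Helper72.Simple5040B140
import Cfsg.Agent.Lib.Helper72.Simple5040N36
import Cfsg.Agent.Lib.Helper1.Simple5040B2Z4
import Cfsg.Agent.Lib.Helper1.Simple5040N21A
import Cfsg.Agent.Lib.Helper15.Simple5040B2V4
import Cfsg.Agent.Lib.Helper54.Simple5040N56

/-!
# There is no simple group of order 5040 (S0978)

(helper72, with leaves by helper1, helper15, helper54)  Case analysis on the number of Sylow
`5`-subgroups, using Glauberman's `Z*`-theorem (S0215), the generalized Thompson transfer lemma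
(S3225), involution parity on coset spaces and fixed-point counting.
-/

set_option autoImplicit false
set_option linter.unusedSectionVars false
set_option linter.unusedVariables false

namespace Cfsg.Agent.Lib.Helper72.Simple5040

open MulAction Subgroup
open Cfsg.Agent.Lib.Helper17

variable {G : Type*} [Group G] [Finite G] [IsSimpleGroup G]

attribute [local instance] fact7 fact5 fact3 fact2

theorem false_of_leaves (h : Nat.card G = 5040)
    (N36 : Nat.card (Sylow 5 G) = 36 → False)
    (N56 : Nat.card (Sylow 5 G) = 56 → False)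
    (N21A : Nat.card (Sylow 5 G) = 21 → ∀ P : Sylow 5 G,
      Nat.card (centralizer ((P : Subgroup G) : Set G)) = 60 ∧
      ∀ v ∈ centralizer ((P : Subgroup G) : Set G), orderOf v = 2 →
        ∀ g : G, g⁻¹ * v * g ∈ normalizer ((P : Subgroup G) : Set G) →
          g ∈ normalizer ((P : Subgroup G) : Set G))
    (N21B : ∀ P : Sylow 5 G, Nat.card (normalizer ((P : Subgroup G) : Set G)) = 240 →
      Nat.card (centralizer ((P : Subgroup G) : Set G)) = 60 →
      (∀ v ∈ centralizer ((P : Subgroup G) : Set G), orderOf v = 2 →
        ∀ g : G, g⁻¹ * v * g ∈ normalizer ((P : Subgroup G) : Set G) →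
          g ∈ normalizer ((P : Subgroup G) : Set G)) → False)
    (B140 : ∀ P : Sylow 5 G, Nat.card (normalizer ((P : Subgroup G) : Set G)) = 40 →
      Nat.card (centralizer ((P : Subgroup G) : Set G)) = 10 →
      ∀ v : G, orderOf v = 2 → v ∈ centralizer ((P : Subgroup G) : Set G) →
      centralizer ({v} : Set G) = normalizer ((P : Subgroup G) : Set G) → False)
    (B2Z4 : ∀ P : Sylow 5 G, Nat.card (normalizer ((P : Subgroup G) : Set G)) = 40 →
      Nat.card (centralizer ((P : Subgroup G) : Set G)) = 20 →
      ∀ c : G, c ∈ centralizer ((P : Subgroup G) : Set G) → orderOf c = 4 → False)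
    (B2V4 : ∀ P : Sylow 5 G, Nat.card (normalizer ((P : Subgroup G) : Set G)) = 40 →
      Nat.card (centralizer ((P : Subgroup G) : Set G)) = 20 →
      (∀ c ∈ centralizer ((P : Subgroup G) : Set G), c ^ 4 = 1 → c ^ 2 = 1) → False) :
    False := by
  obtain ⟨P⟩ := (Sylow.nonempty : Nonempty (Sylow 5 G))
  have hNc := card_sylow_mul_card_normalizer P
  rw [h] at hNc
  rcases card_sylow5_cases h with hn | hn | hn | hn
  · -- `n_5 = 21`
    rw [hn] at hNc
    have hN : Nat.card (normalizer ((P : Subgroup G) : Set G)) = 240 := by omega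
    obtain ⟨hC, hfix⟩ := N21A hn P
    exact N21B P hN hC hfix
  · exact N36 hn
  · exact N56 hn
  · -- `n_5 = 126`
    rw [hn] at hNc
    have hN : Nat.card (normalizer ((P : Subgroup G) : Set G)) = 40 := by omega
    obtain ⟨r, hr, hCr⟩ := card_centralizer_sylow5 h P
    rw [hN] at hCr
    rcases hr with rfl | rfl
    · -- `|C(P)| = 20`
      have hC : Nat.card (centralizer ((P : Subgroup G) : Set G)) = 20 := by omega
      by_cases hex : ∃ c ∈ centralizer ((P : Subgroup G) : Set G), orderOf c = 4
      · obtain ⟨c, hc, hc4⟩ := hex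
        exact B2Z4 P hN hC c hc hc4
      · apply B2V4 P hN hC
        intro c hc hc4
        have hd : orderOf c ∣ 4 := orderOf_dvd_of_pow_eq_one hc4
        have hle : orderOf c ≤ 4 := Nat.le_of_dvd (by norm_num) hd
        have hne : orderOf c ≠ 4 := fun h4 => hex ⟨c, hc, h4⟩
        have hpos : 0 < orderOf c := orderOf_pos c
        have h2 : orderOf c ∣ 2 := by
          generalize orderOf c = o at *
          interval_cases o <;> omega
        exact orderOf_dvd_iff_pow_eq_one.1 h2
    · -- `|C(P)| = 10`
      have hC : Nat.card (centralizer ((P : Subgroup G) : Set G)) = 10 := by omega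
      obtain ⟨v, hvC, hv⟩ := exists_mem_orderOf_eq_of_dvd_card
        (centralizer ((P : Subgroup G) : Set G)) 2 (by rw [hC]; norm_num)
      have hle := normalizer_le_centralizer_of_card_eq_ten P (card_sylow5 h P) hC v hv hvC
      have heq := centralizer_eq_normalizer_of_le h P hN v hv hle
      exact B140 P hN hC v hv hvC heq

/-- There is no simple group of order 5040. -/
theorem not_simple_of_card_5040 (h : Nat.card G = 5040) : False :=
  false_of_leaves h
    (false_of_card_sylow5_eq_36 h)
    (Cfsg.Agent.Lib.Helper54.Simple5040N56.false_of_card_sylow5_eq_56 h)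
    (fun hn P => Cfsg.Agent.Lib.Helper1.Simple5040.card_centralizer_eq_60_of_card_sylow5_eq_21 h hn P)
    (fun P hN hC hfix => false_of_card_centralizer_eq_60 h P hN hC hfix)
    (fun P hN hC v hv hvC hCv => false_of_centralizer_eq_normalizer h P hN hC v hv hvC hCv)
    (fun P hN hC c hc hc4 =>
      Cfsg.Agent.Lib.Helper1.Simple5040.false_of_card_centralizer_eq_20_of_orderOf_eq_four
        h P hN hC c hc hc4)
    (fun P hN hC hexp =>
      Cfsg.Agent.Lib.Helper15.Simple5040.false_of_card_centralizer_eq_20_of_exponent_two
        h P hN hC hexp)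

end Cfsg.Agent.Lib.Helper72.Simple5040
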