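import Mathlib
import Cfsg.Agent.Lib.Helper72.Simple5760A
import Cfsg.Agent.Lib.Helper72.Simple5040B140
import Cfsg.Agent.Lib.Helper72.DihedralFiveB

/-!
# No simple group of order 5760, part B: the case `n₅ = 576`

(helper72)  `N(P₅)` is dihedral of order `10`.  By `dihedral_sylow_main` all involutions of `G` are
conjugate, so `128 ∣ |C(t)|`, while the order formula `5 |C(t)|² F (F + a) = 5760 (F - x)²` with
`|x| ≤ F` gives `|C(t)| < 128`.
-/

set_option autoImplicit false
set_option linter.unusedSectionVars false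
set_option linter.unusedVariables false

namespace Cfsg.Agent.Lib.Helper72.Simple5760

open MulAction Subgroup
open Cfsg.Agent.Lib.Helper17

section generic

/-- A nontrivial Sylow `2`-subgroup centralizes some involution. -/
theorem exists_involution_sylow_le_centralizer {G : Type*} [Group G] [Finite G] (T : Sylow 2 G)
    (hT : 1 < Nat.card (T : Subgroup G)) :
    ∃ z : G, orderOf z = 2 ∧ (T : Subgroup G) ≤ centralizer ({z} : Set G) := by
  have : Fact (Nat.Prime 2) := ⟨Nat.prime_two⟩
  have : Nontrivial ↥(T : Subgroup G) := by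
    rw [← Finite.one_lt_card_iff_nontrivial]
    exact hT
  have hp : IsPGroup 2 ↥(T : Subgroup G) := T.isPGroup'
  have hnt : Nontrivial (Subgroup.center ↥(T : Subgroup G)) := hp.center_nontrivial
  have hpc : IsPGroup 2 (Subgroup.center ↥(T : Subgroup G)) := hp.to_subgroup _
  obtain ⟨n, hn⟩ := IsPGroup.iff_card.mp hpc
  have h1 : 1 < Nat.card (Subgroup.center ↥(T : Subgroup G)) :=
    Finite.one_lt_card_iff_nontrivial.mpr hnt
  have h2 : 2 ∣ Nat.card (Subgroup.center ↥(T : Subgroup G)) := by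
    rw [hn]
    rcases Nat.eq_zero_or_pos n with h0 | h0
    · rw [h0, pow_zero] at hn
      omega
    · exact dvd_pow_self 2 h0.ne'
  obtain ⟨z', hz'⟩ := exists_prime_orderOf_dvd_card' (G := Subgroup.center ↥(T : Subgroup G)) 2 h2
  refine ⟨((z' : ↥(T : Subgroup G)) : G), ?_, ?_⟩
  · rw [Subgroup.orderOf_coe, Subgroup.orderOf_coe]
    exact hz'
  · intro g hg
    rw [Subgroup.mem_centralizer_singleton_iff]
    have h3 := Subgroup.mem_center_iff.mp z'.2 ⟨g, hg⟩
    have h4 := congrArg (Subtype.val) h3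
    simpa using h4

end generic

variable {G : Type*} [Group G] [Finite G] [IsSimpleGroup G]

attribute [local instance] fact5 fact3 fact2

theorem arith_576 {c : ℕ} {F x a : ℤ} (hc : 128 ≤ c) (ha : a = 1 ∨ a = -1) (hF : 0 < F)
    (hFa : 0 < F + a) (hxle : x ≤ F) (hxge : -F ≤ x)
    (hkey : (5 : ℤ) * (c : ℤ) ^ 2 * F * (F + a) = 5760 * (F - x) ^ 2) : False := by
  have hc' : (128 : ℤ) ≤ (c : ℤ) := by exact_mod_cast hc
  have hcsq : (16384 : ℤ) ≤ (c : ℤ) ^ 2 := by nlinarith
  have h1 : (F - x) ^ 2 ≤ 4 * F ^ 2 := by nlinarith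
  have h2 : F ≤ 2 * (F + a) := by rcases ha with rfl | rfl <;> omega
  have h3 : 0 < F * (F + a) := mul_pos hF hFa
  have h4 : F * F ≤ 2 * (F * (F + a)) := by nlinarith
  have h5 : (5 : ℤ) * 16384 * (F * (F + a)) ≤ 5 * (c : ℤ) ^ 2 * F * (F + a) := by nlinarith
  have h6 : (5 : ℤ) * 16384 * (F * (F + a)) ≤ 5760 * (4 * F ^ 2) := by nlinarith
  nlinarith

/-- The case `n₅ = 576`. -/
theorem false_of_card_sylow5_eq_576 (h : Nat.card G = 5760)
    (hn : Nat.card (Sylow 5 G) = 576) : False := by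
  have hG := not_comm h
  obtain ⟨P⟩ := (Sylow.nonempty : Nonempty (Sylow 5 G))
  have hN : Nat.card (normalizer ((P : Subgroup G) : Set G)) = 10 := by
    have h1 := card_sylow5_mul_card_normalizer h P
    rw [hn] at h1
    omega
  obtain ⟨t, F, x, a, ht, htN, hC, ha, hF, hFa, hFd, hFad, h5, hxle, hxge, hkey, hconj⟩ :=
    Cfsg.Agent.Lib.Helper72.DihedralFive.dihedral_sylow_main hG 5 (le_refl 5) P
      (card_sylow5 h P) (by rw [hN])
  obtain ⟨T⟩ := (Sylow.nonempty : Nonempty (Sylow 2 G))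
  have hT := card_sylow2 h T
  obtain ⟨z, hz, hTz⟩ := exists_involution_sylow_le_centralizer T (by rw [hT]; norm_num)
  have hcz : Nat.card (centralizer ({t} : Set G)) = Nat.card (centralizer ({z} : Set G)) :=
    Cfsg.Agent.Lib.Helper72.Simple5040.card_centralizer_eq_of_isConj (hconj z hz)
  have hdvd : 128 ∣ Nat.card (centralizer ({t} : Set G)) := by
    rw [hcz, ← hT]
    exact Subgroup.card_dvd_of_le hTz
  have hpos : 0 < Nat.card (centralizer ({t} : Set G)) := Nat.card_pos
  have hc : 128 ≤ Nat.card (centralizer ({t} : Set G)) := Nat.le_of_dvd hpos hdvd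
  rw [h] at hkey
  exact arith_576 hc ha hF hFa hxle hxge (by exact_mod_cast hkey)

end Cfsg.Agent.Lib.Helper72.Simple5760
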