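import Mathlib
import Cfsg.Agent.Lib.Helper72.Simple5760B
import Cfsg.Agent.Lib.Helper51.Simple5760N1696
import Cfsg.Agent.Lib.Helper51.Simple5760N36

/-!
# No simple group of order 5760

(helper72; leaves `[N1696]`, `[N36]` by helper51)  `5760 = 2^7 * 3^2 * 5`.  `n₅ ∈ {16, 36, 96, 576}`.
* `n₅ = 16, 96`: `3 ∣ |C(P₅)|`, impossible by Burnside's prime power class theorem (S0143);
* `n₅ = 36`: helper17's trick;
* `n₅ = 576`: `N(P₅)` dihedral of order `10`; Brauer's theory of the principal `5`-block
  (`dihedral_sylow_main`).
-/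

set_option autoImplicit false
set_option linter.unusedSectionVars false
set_option linter.unusedVariables false

namespace Cfsg.Agent.Lib.Helper72.Simple5760

open MulAction Subgroup
open Cfsg.Agent.Lib.Helper17

variable {G : Type*} [Group G] [Finite G] [IsSimpleGroup G]

attribute [local instance] fact5 fact3 fact2

theorem not_simple_of_card_5760 (h : Nat.card G = 5760) : False := by
  obtain ⟨P⟩ := (Sylow.nonempty : Nonempty (Sylow 5 G))
  have hN := card_sylow5_mul_card_normalizer h P
  obtain ⟨r, hr, hCr⟩ := card_centralizer_sylow5 h P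
  have h3 := Cfsg.Agent.Lib.Helper51.Simple5760.not_three_dvd_card_centralizer_sylow5 h P
  rcases card_sylow5_cases h with hc | hc | hc | hc
  · apply h3
    rw [hc] at hN
    rcases hr with rfl | rfl <;> omega
  · exact Cfsg.Agent.Lib.Helper51.Simple5760.false_of_card_sylow5_eq_36 h hc
  · apply h3
    rw [hc] at hN
    rcases hr with rfl | rfl <;> omega
  · exact false_of_card_sylow5_eq_576 h hc

end Cfsg.Agent.Lib.Helper72.Simple5760
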