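import Mathlib
import Cfsg.Agent.Lib.Helper17.InvolutionParity
import Cfsg.Agent.Lib.Helper17.PrimeSylow
import Cfsg.Agent.Lib.Helper17.SimpleTools
import Cfsg.Agent.Lib.Helper17.SimpleIndex
import Cfsg.Agent.Lib.Helper17.SylowInter
import Cfsg.Agent.Lib.Helper17.SylowSub
import Cfsg.Agent.Lib.Helper17.SylowCard
import Cfsg.Agent.Lib.Helper17.SylowBasic
import Cfsg.Agent.Lib.Helper17.Burnside
import Cfsg.Agent.Lib.Helper17.Misc

/-!
# No simple group of order 720, part A: basic facts and the number of Sylow 3-subgroups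

(helper72)  `n_3 ∈ {10, 40}`.
-/

set_option autoImplicit false
set_option linter.unusedSectionVars false

namespace Cfsg.Agent.Lib.Helper72.Simple720

open MulAction Subgroup
open Cfsg.Agent.Lib.Helper17

/-- An element of prime order `q` normalizing a finite subgroup `H`, such that `|H|` is the only
divisor of `|H|` congruent to `|H|` modulo `q`, centralizes `H`. -/
theorem centralizes_of_mem_normalizer {G : Type*} [Group G] (H : Subgroup G) [Finite H]
    (y : G) (hy : y ∈ normalizer (H : Set G)) (q : ℕ) [hq : Fact q.Prime] (hyq : orderOf y = q)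
    (hH : ∀ d, d ∣ Nat.card H → d ≡ Nat.card H [MOD q] → d = Nat.card H) :
    ∀ p ∈ H, y * p = p * y := by
  set y' : normalizer (H : Set G) := ⟨y, hy⟩ with hy'
  have hZ : IsPGroup q (zpowers y') := by
    apply IsPGroup.of_card (n := 1)
    rw [Nat.card_zpowers, pow_one, ← hyq, hy', Subgroup.orderOf_mk]
  have h1 := hZ.card_modEq_card_fixedPoints (H : Type _)
  set C : Subgroup G := H ⊓ centralizer ({y} : Set G) with hC
  have hfin : Finite C := Finite.of_injective (fun c : C => (⟨c.1, (Subgroup.mem_inf.mp c.2).1⟩ : H))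
    (fun a b hab => Subtype.ext (congrArg (fun z : H => (z : G)) hab))
  have hcard : Nat.card (fixedPoints (zpowers y') H) = Nat.card C := by
    apply Nat.card_congr
    refine ⟨fun p => ⟨(p.1 : G), Subgroup.mem_inf.mpr ⟨p.1.2, ?_⟩⟩,
      fun c => ⟨⟨c.1, (Subgroup.mem_inf.mp c.2).1⟩, ?_⟩, ?_, ?_⟩
    · rw [Subgroup.mem_centralizer_singleton_iff]
      have h3 : y' • p.1 = p.1 := p.2 ⟨y', mem_zpowers y'⟩
      have h4 : y * (p.1 : G) * y⁻¹ = p.1 := congrArg Subtype.val h3
      symm
      calc y * (p.1 : G) = (y * (p.1 : G) * y⁻¹) * y := by group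
        _ = p.1 * y := by rw [h4]
    · rintro ⟨w, hw⟩
      obtain ⟨n, rfl⟩ := Subgroup.mem_zpowers_iff.mp hw
      have hc := (Subgroup.mem_inf.mp c.2).2
      rw [Subgroup.mem_centralizer_singleton_iff] at hc
      have hc' : Commute y (c : G) := hc.symm
      apply Subtype.ext
      show ((y' ^ n : normalizer (H : Set G)) : G) * (c : G) * ((y' ^ n : normalizer (H : Set G)) : G)⁻¹ = c
      have : ((y' ^ n : normalizer (H : Set G)) : G) = y ^ n := by
        rw [Subgroup.coe_zpow]
      rw [this]
      have hc2 : Commute (y ^ n) (c : G) := hc'.zpow_left n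
      rw [hc2.eq, mul_inv_cancel_right]
    · intro p; rfl
    · intro c; rfl
  have hdvd : Nat.card C ∣ Nat.card H := Subgroup.card_dvd_of_le inf_le_left
  have heq : Nat.card C = Nat.card H := hH _ hdvd (by rw [← hcard]; exact h1.symm)
  have hCH : C = H := Subgroup.eq_of_le_of_card_ge inf_le_left heq.ge
  intro p hp
  have hpC : p ∈ C := by rw [hCH]; exact hp
  have := (Subgroup.mem_inf.mp hpC).2
  rw [Subgroup.mem_centralizer_singleton_iff] at this
  exact this.symm

variable {G : Type*} [Group G] [Finite G] [IsSimpleGroup G]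

theorem fact5 : Fact (Nat.Prime 5) := ⟨by norm_num⟩
theorem fact3 : Fact (Nat.Prime 3) := ⟨by norm_num⟩
theorem fact2 : Fact (Nat.Prime 2) := ⟨by norm_num⟩

attribute [local instance] fact5 fact3 fact2

theorem not_comm (h : Nat.card G = 720) : ¬ IsMulCommutative G :=
  not_comm_of_simple_of_not_prime (by rw [h]; norm_num)

theorem index_ge_eight (h : Nat.card G = 720) (H : Subgroup G) (hH : H ≠ ⊤) : 8 ≤ H.index := by
  have hfact := two_mul_card_dvd_factorial_index_of_simple (not_comm h) H hH
  rw [h] at hfact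
  by_contra hlt
  have hle : H.index ≤ 7 := by omega
  have h0 : H.index ≠ 0 := Subgroup.index_ne_zero_of_finite
  generalize H.index = k at *
  interval_cases k <;> revert hfact <;> decide

theorem card_sylow3 (h : Nat.card G = 720) (Q : Sylow 3 G) :
    Nat.card (Q : Subgroup G) = 9 := by
  have hcard : Nat.card G = 3 ^ 2 * 80 := by rw [h]; norm_num
  rw [sylow_card_of_card_eq Q hcard (by norm_num)]; norm_num

theorem card_sylow2 (h : Nat.card G = 720) (Q : Sylow 2 G) :
    Nat.card (Q : Subgroup G) = 16 := by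
  have hcard : Nat.card G = 2 ^ 4 * 45 := by rw [h]; norm_num
  rw [sylow_card_of_card_eq Q hcard (by norm_num)]; norm_num

theorem sylow3_mul_comm (h : Nat.card G = 720) (Q : Sylow 3 G) (a b : G)
    (ha : a ∈ (Q : Subgroup G)) (hb : b ∈ (Q : Subgroup G)) : a * b = b * a := by
  have h9 : Nat.card (Q : Subgroup G) = 3 ^ 2 := by rw [card_sylow3 h Q]; norm_num
  have hc := IsPGroup.isMulCommutative_of_card_eq_prime_sq h9
  have := hc.is_comm.comm (⟨a, ha⟩ : (Q : Subgroup G)) ⟨b, hb⟩
  exact congrArg Subtype.val this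

theorem sylow3_comm (h : Nat.card G = 720) (Q : Sylow 3 G) :
    IsMulCommutative (Q : Subgroup G) :=
  ⟨⟨fun a b => Subtype.ext (sylow3_mul_comm h Q a b a.2 b.2)⟩⟩

theorem card_sylow3_cases (h : Nat.card G = 720) :
    Nat.card (Sylow 3 G) = 10 ∨ Nat.card (Sylow 3 G) = 40 := by
  have hG := not_comm h
  have hcard : Nat.card G = 3 ^ 2 * 80 := by rw [h]; norm_num
  have hdvd : Nat.card (Sylow 3 G) ∣ 80 := card_sylow_dvd_of_card_eq hcard (by norm_num)
  have hmod : Nat.card (Sylow 3 G) % 3 = 1 := card_sylow_modEq_one 3 G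
  have hne1 : Nat.card (Sylow 3 G) ≠ 1 :=
    card_sylow_ne_one_of_simple hcard (by norm_num) (by norm_num) (by norm_num)
  have hfact := two_mul_card_dvd_factorial_card_sylow_of_simple hG hne1
  rw [h] at hfact
  obtain ⟨P⟩ := (Sylow.nonempty : Nonempty (Sylow 3 G))
  have hN := card_sylow_mul_card_normalizer P
  rw [h] at hN
  have hle : Nat.card (Sylow 3 G) ≤ 80 := Nat.le_of_dvd (by norm_num) hdvd
  have hcases : Nat.card (Sylow 3 G) = 4 ∨ Nat.card (Sylow 3 G) = 10 ∨
      Nat.card (Sylow 3 G) = 16 ∨ Nat.card (Sylow 3 G) = 40 := by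
    generalize Nat.card (Sylow 3 G) = c at *
    interval_cases c <;> omega
  rcases hcases with hc | hc | hc | hc
  · exfalso
    rw [hc] at hfact
    revert hfact
    decide
  · exact Or.inl hc
  · exfalso
    rw [hc] at hN
    have hN45 : Nat.card (normalizer ((P : Subgroup G) : Set G)) = 45 := by omega
    have hPc := sylow3_comm h P
    apply not_normalizer_le_centralizer_of_simple hG P (by rw [h]; norm_num)
    -- an element of order 5 in `N(P)` centralizes `P`
    obtain ⟨y, hyN, hy5⟩ := exists_mem_orderOf_eq_of_dvd_card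
      (normalizer ((P : Subgroup G) : Set G)) 5 (by rw [hN45]; norm_num)
    have hyc : ∀ p ∈ (P : Subgroup G), y * p = p * y := by
      apply centralizes_of_mem_normalizer (P : Subgroup G) y hyN 5 hy5
      intro d hd hmodd
      rw [card_sylow3 h P] at hd hmodd ⊢
      have hd9 : d ≤ 9 := Nat.le_of_dvd (by norm_num) hd
      unfold Nat.ModEq at hmodd
      interval_cases d <;> omega
    have hyC : y ∈ centralizer ((P : Subgroup G) : Set G) := by
      rw [Subgroup.mem_centralizer_iff]
      intro p hp
      exact (hyc p hp).symm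
    have h9 : 9 ∣ Nat.card (centralizer ((P : Subgroup G) : Set G)) := by
      rw [← card_sylow3 h P]
      exact Subgroup.card_dvd_of_le (Subgroup.le_centralizer _)
    have h5 : 5 ∣ Nat.card (centralizer ((P : Subgroup G) : Set G)) := by
      rw [← hy5]
      exact Subgroup.orderOf_dvd_natCard _ hyC
    have h45 : 45 ∣ Nat.card (centralizer ((P : Subgroup G) : Set G)) := by
      have : Nat.Coprime 9 5 := by norm_num
      exact this.mul_dvd_of_dvd_of_dvd h9 h5
    have hle45 : Nat.card (normalizer ((P : Subgroup G) : Set G)) ≤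
        Nat.card (centralizer ((P : Subgroup G) : Set G)) := by
      rw [hN45]
      exact Nat.le_of_dvd Nat.card_pos h45
    have heq := Subgroup.eq_of_le_of_card_ge (Subgroup.centralizer_le_normalizer _) hle45
    rw [heq]
  · exact Or.inr hc

end Cfsg.Agent.Lib.Helper72.Simple720
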