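import Mathlib
import Cfsg.Agent.Lib.Helper72.Simple720A

/-!
# No simple group of order 720, part B: `n_3 = 10` implies the Sylow 3-subgroups are TI

(helper72)
-/

set_option autoImplicit false
set_option linter.unusedSectionVars false

namespace Cfsg.Agent.Lib.Helper72.Simple720

open MulAction Subgroup
open Cfsg.Agent.Lib.Helper17

variable {G : Type*} [Group G] [Finite G] [IsSimpleGroup G]

attribute [local instance] fact5 fact3 fact2

theorem card_normalizer_sylow3 (h : Nat.card G = 720) (hn : Nat.card (Sylow 3 G) = 10)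
    (P : Sylow 3 G) : Nat.card (normalizer ((P : Subgroup G) : Set G)) = 72 := by
  have hN := card_sylow_mul_card_normalizer P
  rw [h, hn] at hN
  omega

/-- Subgroups of order 72 are maximal. -/
theorem eq_of_le_of_card_72 (h : Nat.card G = 720) (M H : Subgroup G) (hM : Nat.card M = 72)
    (hle : M ≤ H) (hH : H ≠ ⊤) : H = M := by
  have h8 := index_ge_eight h H hH
  have h1 := H.index_mul_card
  rw [h] at h1
  have h2 : 72 ∣ Nat.card H := by rw [← hM]; exact Subgroup.card_dvd_of_le hle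
  obtain ⟨c, hc⟩ := h2
  have hc1 : c = 1 := by
    rw [hc] at h1
    have : H.index * c * 72 = 720 := by rw [← h1]; ring
    have h3 : H.index * c = 10 := by omega
    have hcle : c ≤ 10 := Nat.le_of_dvd (by norm_num) (Dvd.intro_left _ h3)
    interval_cases c <;> omega
  have hcard : Nat.card H ≤ Nat.card M := by rw [hc, hc1, hM]
  exact (Subgroup.eq_of_le_of_card_ge hle hcard).symm

/-- A `3`-subgroup contained in the normalizer of a Sylow `3`-subgroup lies in it. -/
theorem le_sylow_of_le_normalizer {p : ℕ} [Fact p.Prime] (P : Sylow p G) (K : Subgroup G)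
    (hK : IsPGroup p K) (hle : K ≤ normalizer ((P : Subgroup G) : Set G)) :
    K ≤ (P : Subgroup G) := by
  have h2 : K ⊓ normalizer ((P : Subgroup G) : Set G) = K ⊓ (P : Subgroup G) :=
    hK.inf_normalizer_sylow P
  rw [inf_eq_left.mpr hle] at h2
  exact inf_eq_left.mp h2.symm

/-- A Sylow subgroup contained in the normalizer of another Sylow subgroup equals it. -/
theorem sylow_eq_of_le_normalizer {p : ℕ} [Fact p.Prime] (P Q : Sylow p G)
    (hle : (Q : Subgroup G) ≤ normalizer ((P : Subgroup G) : Set G)) : Q = P := by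
  have h1 := le_sylow_of_le_normalizer P (Q : Subgroup G) Q.isPGroup' hle
  exact Sylow.ext (Q.3 P.isPGroup' h1).symm

/-- An element fixing every Sylow `3`-subgroup is trivial. -/
theorem eq_one_of_forall_smul_eq (hn1 : Nat.card (Sylow 3 G) ≠ 1) (t : G)
    (hall : ∀ Q : Sylow 3 G, t • Q = Q) : t = 1 := by
  have hker : t ∈ (MulAction.toPermHom G (Sylow 3 G)).ker := by
    rw [MonoidHom.mem_ker]
    apply Equiv.ext
    intro Q
    exact hall Q
  rcases (MulAction.toPermHom G (Sylow 3 G)).normal_ker.eq_bot_or_eq_top with hb | htop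
  · rw [hb] at hker
    exact Subgroup.mem_bot.mp hker
  · exfalso
    apply hn1
    obtain ⟨P⟩ := (Sylow.nonempty : Nonempty (Sylow 3 G))
    rw [Nat.card_eq_one_iff_unique]
    refine ⟨⟨fun a b => ?_⟩, ⟨P⟩⟩
    obtain ⟨g, hg⟩ := MulAction.exists_smul_eq G a b
    have hgk : g ∈ (MulAction.toPermHom G (Sylow 3 G)).ker := by rw [htop]; trivial
    rw [MonoidHom.mem_ker] at hgk
    have := congrArg (fun σ : Equiv.Perm (Sylow 3 G) => σ a) hgk
    simp only [MulAction.toPermHom_apply, MulAction.toPerm_apply, Equiv.Perm.one_apply] at this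
    rw [← hg, this]

/-- A Sylow 2-subgroup `T` of `N(P)` fixes a second Sylow 3-subgroup. -/
theorem exists_two_subgroup_fixing (h : Nat.card G = 720) (hn : Nat.card (Sylow 3 G) = 10)
    (P : Sylow 3 G) : ∃ (T : Subgroup G) (Q : Sylow 3 G), Nat.card T = 8 ∧
      T ≤ normalizer ((P : Subgroup G) : Set G) ∧ T ≤ normalizer ((Q : Subgroup G) : Set G) ∧
      Q ≠ P := by
  set M := normalizer ((P : Subgroup G) : Set G) with hM
  have hMc : Nat.card M = 72 := card_normalizer_sylow3 h hn P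
  obtain ⟨T'⟩ := (Sylow.nonempty : Nonempty (Sylow 2 M))
  set T : Subgroup G := (T' : Subgroup M).map M.subtype with hT
  have hTc : Nat.card T = 8 := by
    rw [hT, card_map_subtype]
    have hcard : Nat.card M = 2 ^ 3 * 9 := by rw [hMc]; norm_num
    rw [sylow_card_of_card_eq T' hcard (by norm_num)]; norm_num
  have hTM : T ≤ M := map_subtype_le' M _
  have hTp : IsPGroup 2 T := isPGroup_map_subtype M T'
  have hfixP : P ∈ MulAction.fixedPoints T (Sylow 3 G) := by
    intro g
    exact Sylow.smul_eq_iff_mem_normalizer.mpr (hTM g.2)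
  obtain ⟨Q, hQfix, hQ⟩ : ∃ Q ∈ MulAction.fixedPoints T (Sylow 3 G), Q ≠ P := by
    by_contra hcon
    push Not at hcon
    have hmod := hTp.card_modEq_card_fixedPoints (Sylow 3 G)
    have hone : Nat.card (MulAction.fixedPoints T (Sylow 3 G)) = 1 := by
      rw [Nat.card_eq_one_iff_unique]
      refine ⟨⟨fun a b => ?_⟩, ⟨⟨P, hfixP⟩⟩⟩
      apply Subtype.ext
      rw [hcon a.1 a.2, hcon b.1 b.2]
    rw [hone, hn] at hmod
    exact absurd hmod (by decide)
  refine ⟨T, Q, hTc, hTM, ?_, hQ⟩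
  intro g hg
  exact Sylow.smul_eq_iff_mem_normalizer.mp (hQfix ⟨g, hg⟩)

/-- If a subgroup `T` of order 8 normalizes `P` and `Q ≠ P`, then `P ⊓ Q = ⊥`. -/
theorem inf_eq_bot_of_fixing (h : Nat.card G = 720) (hn : Nat.card (Sylow 3 G) = 10)
    (P Q : Sylow 3 G) (hQP : Q ≠ P) (T : Subgroup G) (hT : Nat.card T = 8)
    (hTP : T ≤ normalizer ((P : Subgroup G) : Set G))
    (hTQ : T ≤ normalizer ((Q : Subgroup G) : Set G)) :
    (P : Subgroup G) ⊓ (Q : Subgroup G) = ⊥ := by
  by_contra hD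
  set D : Subgroup G := (P : Subgroup G) ⊓ (Q : Subgroup G) with hDdef
  set L := normalizer (D : Set G) with hL
  have hPL : (P : Subgroup G) ≤ L := by
    refine le_trans ?_ (Subgroup.centralizer_le_normalizer _)
    intro p hp
    rw [Subgroup.mem_centralizer_iff]
    intro d hd
    exact sylow3_mul_comm h P d p (Subgroup.mem_inf.mp hd).1 hp
  have hQL : (Q : Subgroup G) ≤ L := by
    refine le_trans ?_ (Subgroup.centralizer_le_normalizer _)
    intro p hp
    rw [Subgroup.mem_centralizer_iff]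
    intro d hd
    exact sylow3_mul_comm h Q d p (Subgroup.mem_inf.mp hd).2 hp
  have hTL : T ≤ L := by
    intro t ht
    rw [hL, Subgroup.mem_normalizer_iff]
    intro x
    have h1 := Subgroup.mem_normalizer_iff.mp (hTP ht) x
    have h2 := Subgroup.mem_normalizer_iff.mp (hTQ ht) x
    rw [hDdef, Subgroup.mem_inf, Subgroup.mem_inf, h1, h2]
  have hLtop : L ≠ ⊤ := by
    intro htop
    have hnorm : D.Normal := Subgroup.normalizer_eq_top_iff.mp htop
    rcases hnorm.eq_bot_or_eq_top with hb | ht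
    · exact hD hb
    · have h1 : Nat.card D ≤ Nat.card (P : Subgroup G) :=
        Nat.le_of_dvd Nat.card_pos (Subgroup.card_dvd_of_le inf_le_left)
      rw [ht, Subgroup.card_top, h, card_sylow3 h P] at h1
      omega
  -- `P ⊔ T = N(P)`
  set M := normalizer ((P : Subgroup G) : Set G) with hM
  have hMc : Nat.card M = 72 := card_normalizer_sylow3 h hn P
  have hK : (P : Subgroup G) ⊔ T = M := by
    have hle : (P : Subgroup G) ⊔ T ≤ M := sup_le Subgroup.le_normalizer hTP
    apply Subgroup.eq_of_le_of_card_ge hle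
    rw [hMc]
    have h9 : 9 ∣ Nat.card ((P : Subgroup G) ⊔ T : Subgroup G) := by
      rw [← card_sylow3 h P]
      exact Subgroup.card_dvd_of_le le_sup_left
    have h8 : 8 ∣ Nat.card ((P : Subgroup G) ⊔ T : Subgroup G) := by
      rw [← hT]
      exact Subgroup.card_dvd_of_le le_sup_right
    have h72 : 72 ∣ Nat.card ((P : Subgroup G) ⊔ T : Subgroup G) := by
      have : Nat.Coprime 9 8 := by norm_num
      exact this.mul_dvd_of_dvd_of_dvd h9 h8
    exact Nat.le_of_dvd Nat.card_pos h72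
  have hML : M ≤ L := by
    rw [← hK]
    exact sup_le hPL hTL
  have hLM : L = M := eq_of_le_of_card_72 h M L hMc hML hLtop
  apply hQP
  apply sylow_eq_of_le_normalizer P Q
  rw [← hM, ← hLM]
  exact hQL

/-- If `P ⊓ Q₀ = ⊥` then `P` is transitive on the other Sylow 3-subgroups. -/
theorem exists_smul_eq_of_inf_eq_bot (h : Nat.card G = 720) (hn : Nat.card (Sylow 3 G) = 10)
    (P Q1 Q : Sylow 3 G) (hQ1 : Q1 ≠ P)
    (hTI : (P : Subgroup G) ⊓ (Q1 : Subgroup G) = ⊥)
    (hQ : Q ≠ P) : ∃ x ∈ (P : Subgroup G), x • Q1 = Q := by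
  have hone : ∀ x ∈ (P : Subgroup G), x • Q1 = Q1 → x = 1 := by
    intro x hx hxQ
    have hN : x ∈ Subgroup.normalizer ((Q1 : Subgroup G) : Set G) :=
      Sylow.smul_eq_iff_mem_normalizer.mp hxQ
    have hpg : IsPGroup 3 (Subgroup.zpowers x) :=
      P.isPGroup'.to_le (Subgroup.zpowers_le.mpr hx)
    have hxQ : x ∈ (Q1 : Subgroup G) := mem_sylow_of_mem_normalizer Q1 _ hpg hN
    have hmem : x ∈ (P : Subgroup G) ⊓ (Q1 : Subgroup G) := ⟨hx, hxQ⟩
    rw [hTI] at hmem
    exact Subgroup.mem_bot.mp hmem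
  have hinj : Function.Injective (fun x : (P : Subgroup G) => (x : G) • Q1) := by
    intro x y hxy
    have hxy' : (x : G) • Q1 = (y : G) • Q1 := hxy
    have h1 : ((y : G)⁻¹ * x) • Q1 = Q1 := by
      rw [mul_smul, hxy', inv_smul_smul]
    have h2 := hone _ ((P : Subgroup G).mul_mem ((P : Subgroup G).inv_mem y.2) x.2) h1
    apply Subtype.ext
    exact (inv_mul_eq_one.mp h2).symm
  have hsub : Set.range (fun x : (P : Subgroup G) => (x : G) • Q1) ⊆
      ({P}ᶜ : Set (Sylow 3 G)) := by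
    rintro R ⟨x, rfl⟩
    simp only [Set.mem_compl_iff, Set.mem_singleton_iff]
    intro h'
    apply hQ1
    have h1 : Q1 = (x : G)⁻¹ • P := by
      have := congrArg (fun R : Sylow 3 G => (x : G)⁻¹ • R) h'
      simp only [inv_smul_smul] at this
      exact this
    rw [h1]
    exact Sylow.smul_eq_iff_mem_normalizer.mpr
      (Subgroup.le_normalizer ((P : Subgroup G).inv_mem x.2))
  have hcard : ({P}ᶜ : Set (Sylow 3 G)).ncard ≤
      (Set.range (fun x : (P : Subgroup G) => (x : G) • Q1)).ncard := by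
    rw [Set.ncard_range_of_injective hinj, card_sylow3 h P]
    have := Set.ncard_add_ncard_compl ({P} : Set (Sylow 3 G))
    rw [Set.ncard_singleton, hn] at this
    omega
  have heq := Set.eq_of_subset_of_ncard_le hsub hcard
  have hmem : Q ∈ ({P}ᶜ : Set (Sylow 3 G)) := by
    simp only [Set.mem_compl_iff, Set.mem_singleton_iff]
    exact hQ
  rw [← heq] at hmem
  obtain ⟨x, hx⟩ := hmem
  exact ⟨x.1, x.2, hx⟩

/-- The Sylow 3-subgroups have pairwise trivial intersection. -/
theorem sylow3_TI (h : Nat.card G = 720) (hn : Nat.card (Sylow 3 G) = 10)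
    (P Q : Sylow 3 G) (hPQ : P ≠ Q) : (P : Subgroup G) ⊓ (Q : Subgroup G) = ⊥ := by
  obtain ⟨T, Q0, hT, hTP, hTQ, hQ0⟩ := exists_two_subgroup_fixing h hn P
  have hTI := inf_eq_bot_of_fixing h hn P Q0 hQ0 T hT hTP hTQ
  obtain ⟨x, hx, rfl⟩ := exists_smul_eq_of_inf_eq_bot h hn P Q0 Q hQ0 hTI hPQ.symm
  rw [eq_bot_iff]
  intro y hy
  rw [Subgroup.mem_bot]
  have hyP := (Subgroup.mem_inf.mp hy).1
  have hyQ := (Subgroup.mem_inf.mp hy).2
  rw [mem_smul_sylow_iff] at hyQ
  have hmem : x⁻¹ * y * x ∈ (P : Subgroup G) ⊓ (Q0 : Subgroup G) :=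
    ⟨(P : Subgroup G).mul_mem ((P : Subgroup G).mul_mem ((P : Subgroup G).inv_mem hx) hyP) hx, hyQ⟩
  rw [hTI] at hmem
  have h1 : x⁻¹ * y * x = 1 := Subgroup.mem_bot.mp hmem
  calc y = x * (x⁻¹ * y * x) * x⁻¹ := by group
    _ = 1 := by rw [h1]; group

end Cfsg.Agent.Lib.Helper72.Simple720
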