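import Mathlib
import Cfsg.Agent.Lib.Helper72.Simple720B

/-!
# No simple group of order 720, part C: the two-point stabilizer for `n_3 = 10`

(helper72)  `G` is 2-transitive on its 10 Sylow 3-subgroups; the two-point stabilizer
`T = N(P) ⊓ N(Q)` has order 8, a unique involution, and acts freely on `P \ {1}`.
-/

set_option autoImplicit false
set_option linter.unusedSectionVars false

namespace Cfsg.Agent.Lib.Helper72.Simple720

open MulAction Subgroup
open Cfsg.Agent.Lib.Helper17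

/-- In a non-commutative simple group every element acts as an even permutation. -/
theorem sign_toPermHom_eq_one {G : Type*} [Group G] [IsSimpleGroup G]
    (hG : ¬ IsMulCommutative G) {α : Type*} [MulAction G α] [Fintype α] [DecidableEq α] (g : G) :
    Equiv.Perm.sign (MulAction.toPermHom G α g) = 1 := by
  have hk := Cfsg.Agent.S0991.ker_eq_top_of_comm hG
    ((Equiv.Perm.sign).comp (MulAction.toPermHom G α))
  have ht' : g ∈ ((Equiv.Perm.sign).comp (MulAction.toPermHom G α)).ker := by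
    rw [hk]; trivial
  rw [MonoidHom.mem_ker] at ht'
  exact ht'

/-- In a non-commutative simple group, an element `t` with `t ^ 2 = 1` acts on any finite set
as an even permutation: `4 ∣ |α| - |Fix(t)|`. -/
theorem four_dvd_card_sub_card_fixedBy {G : Type*} [Group G] [IsSimpleGroup G]
    (hG : ¬ IsMulCommutative G) (α : Type*) [MulAction G α] [Finite α] (t : G) (ht : t ^ 2 = 1) :
    4 ∣ Nat.card α - Nat.card (fixedBy α t) := by
  classical
  have := Fintype.ofFinite α
  set σ : Equiv.Perm α := MulAction.toPermHom G α t with hσ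
  have hσ2 : σ ^ 2 = 1 := by
    rw [hσ, ← map_pow, ht, map_one]
  have hsign : Equiv.Perm.sign σ = 1 := sign_toPermHom_eq_one hG t
  have h1 := Equiv.Perm.sign_of_pow_two_eq_one hσ2
  rw [hsign] at h1
  have heven : Even ((Fintype.card α - Fintype.card (Function.fixedPoints σ)) / 2) := by
    rw [← neg_one_pow_eq_one_iff_even (R := ℤˣ) (by decide)]
    exact h1.symm
  have h2 : 2 ∣ Fintype.card α - Fintype.card (Function.fixedPoints σ) := by
    have := Equiv.Perm.two_dvd_card_support hσ2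
    rw [← Equiv.Perm.sum_cycleType] at this
    rw [Equiv.Perm.card_fixedPoints, Nat.sub_sub_self σ.sum_cycleType_le]
    exact this
  have hidx : Nat.card α = Fintype.card α := Nat.card_eq_fintype_card
  have hfix : Nat.card (fixedBy α t) = Fintype.card (Function.fixedPoints σ) := by
    rw [← Nat.card_eq_fintype_card]
    exact Nat.card_congr (Equiv.subtypeEquivRight (fun _ => Iff.rfl))
  rw [hidx, hfix]
  obtain ⟨k, hk⟩ := h2
  rw [hk] at heven ⊢
  rw [Nat.mul_div_cancel_left k (by norm_num)] at heven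
  obtain ⟨j, hj⟩ := heven
  exact ⟨j, by rw [hj]; ring⟩

variable {G : Type*} [Group G] [Finite G] [IsSimpleGroup G]

attribute [local instance] fact5 fact3 fact2

/-- An element of `P` fixing another Sylow 3-subgroup is trivial. -/
theorem eq_one_of_smul_eq (h : Nat.card G = 720) (hn : Nat.card (Sylow 3 G) = 10)
    (P Q : Sylow 3 G) (hQ : Q ≠ P) (x : G) (hx : x ∈ (P : Subgroup G)) (hxQ : x • Q = Q) :
    x = 1 := by
  have hN : x ∈ Subgroup.normalizer ((Q : Subgroup G) : Set G) :=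
    Sylow.smul_eq_iff_mem_normalizer.mp hxQ
  have hpg : IsPGroup 3 (Subgroup.zpowers x) :=
    P.isPGroup'.to_le (Subgroup.zpowers_le.mpr hx)
  have hxQ : x ∈ (Q : Subgroup G) := mem_sylow_of_mem_normalizer Q _ hpg hN
  have hmem : x ∈ (P : Subgroup G) ⊓ (Q : Subgroup G) := ⟨hx, hxQ⟩
  rw [sylow3_TI h hn P Q hQ.symm] at hmem
  exact Subgroup.mem_bot.mp hmem

theorem smul_sylow_of_mem (P : Sylow 3 G) (x : G) (hx : x ∈ (P : Subgroup G)) : x • P = P :=
  Sylow.smul_eq_iff_mem_normalizer.mpr (Subgroup.le_normalizer hx)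

theorem exists_smul_eq_of_ne (h : Nat.card G = 720) (hn : Nat.card (Sylow 3 G) = 10)
    (P Q1 Q : Sylow 3 G) (hQ1 : Q1 ≠ P) (hQ : Q ≠ P) :
    ∃ x ∈ (P : Subgroup G), x • Q1 = Q :=
  exists_smul_eq_of_inf_eq_bot h hn P Q1 Q hQ1 (sylow3_TI h hn P Q1 hQ1.symm) hQ

/-- Two elements of `P` moving `Q` to the same point are equal. -/
theorem eq_of_smul_eq_smul (h : Nat.card G = 720) (hn : Nat.card (Sylow 3 G) = 10)
    (P Q : Sylow 3 G) (hQ : Q ≠ P) (x y : G) (hx : x ∈ (P : Subgroup G))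
    (hy : y ∈ (P : Subgroup G)) (hxy : x • Q = y • Q) : x = y := by
  have h1 : (y⁻¹ * x) • Q = Q := by rw [mul_smul, hxy, inv_smul_smul]
  have h2 := eq_one_of_smul_eq h hn P Q hQ _
    ((P : Subgroup G).mul_mem ((P : Subgroup G).inv_mem hy) hx) h1
  exact (inv_mul_eq_one.mp h2).symm

/-- `G` is 2-transitive on the Sylow 3-subgroups. -/
theorem exists_smul_pair (h : Nat.card G = 720) (hn : Nat.card (Sylow 3 G) = 10)
    (P Q R R' : Sylow 3 G) (hQ : Q ≠ P) (hR : R' ≠ R) : ∃ g : G, g • P = R ∧ g • Q = R' := by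
  obtain ⟨g1, hg1⟩ := MulAction.exists_smul_eq G P R
  have hQ1 : g1⁻¹ • R' ≠ P := by
    intro hcon
    apply hR
    rw [← hg1, ← hcon, smul_inv_smul]
  obtain ⟨x, hx, hxQ⟩ := exists_smul_eq_of_ne h hn P Q (g1⁻¹ • R') hQ hQ1
  refine ⟨g1 * x, ?_, ?_⟩
  · rw [mul_smul, smul_sylow_of_mem P x hx, hg1]
  · rw [mul_smul, hxQ, smul_inv_smul]

/-- The two-point stabilizer. -/
def Tsub (P Q : Sylow 3 G) : Subgroup G :=
  normalizer ((P : Subgroup G) : Set G) ⊓ normalizer ((Q : Subgroup G) : Set G)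

theorem mem_Tsub_iff (P Q : Sylow 3 G) (g : G) : g ∈ Tsub P Q ↔ g • P = P ∧ g • Q = Q := by
  unfold Tsub
  rw [Subgroup.mem_inf, Sylow.smul_eq_iff_mem_normalizer, Sylow.smul_eq_iff_mem_normalizer]
  exact Iff.rfl

theorem Tsub_le_normalizer (P Q : Sylow 3 G) : Tsub P Q ≤ normalizer ((P : Subgroup G) : Set G) :=
  inf_le_left

/-- Conjugation by `t ∈ T` of `x • Q`. -/
theorem smul_smul_of_mem_Tsub (P Q : Sylow 3 G) (t : G) (ht : t ∈ Tsub P Q) (x : G) :
    t • (x • Q) = (t * x * t⁻¹) • Q := by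
  have htQ : t • Q = Q := ((mem_Tsub_iff P Q t).mp ht).2
  calc t • (x • Q) = (t * x) • Q := by rw [mul_smul]
    _ = (t * x * t⁻¹) • (t • Q) := by rw [← mul_smul]; congr 1; group
    _ = (t * x * t⁻¹) • Q := by rw [htQ]

theorem conj_mem_of_mem_Tsub (P Q : Sylow 3 G) (t : G) (ht : t ∈ Tsub P Q) (x : G)
    (hx : x ∈ (P : Subgroup G)) : t * x * t⁻¹ ∈ (P : Subgroup G) := by
  have htN : t ∈ normalizer ((P : Subgroup G) : Set G) := Tsub_le_normalizer P Q ht
  exact (Subgroup.mem_normalizer_iff.mp htN x).mp hx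

/-- If `t ∈ T` fixes `x • Q` with `x ∈ P` then `t` commutes with `x`. -/
theorem commute_of_smul_smul_eq (h : Nat.card G = 720) (hn : Nat.card (Sylow 3 G) = 10)
    (P Q : Sylow 3 G) (hQ : Q ≠ P) (t : G) (ht : t ∈ Tsub P Q) (x : G)
    (hx : x ∈ (P : Subgroup G)) (hfix : t • (x • Q) = x • Q) : t * x = x * t := by
  rw [smul_smul_of_mem_Tsub P Q t ht x] at hfix
  have h1 := eq_of_smul_eq_smul h hn P Q hQ _ _ (conj_mem_of_mem_Tsub P Q t ht x hx) hx hfix
  calc t * x = (t * x * t⁻¹) * t := by group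
    _ = x * t := by rw [h1]

/-- The order of the two-point stabilizer is not divisible by 3. -/
theorem not_three_dvd_card_Tsub (h : Nat.card G = 720) (hn : Nat.card (Sylow 3 G) = 10)
    (P Q : Sylow 3 G) (hQ : Q ≠ P) : ¬ 3 ∣ Nat.card (Tsub P Q) := by
  intro h3
  obtain ⟨y, hyT, hy3⟩ := exists_mem_orderOf_eq_of_dvd_card (Tsub P Q) 3 h3
  have hyN := Tsub_le_normalizer P Q hyT
  have hyP : y ∈ (P : Subgroup G) :=
    mem_sylow_of_mem_normalizer P y (isPGroup_zpowers_of_orderOf_eq y hy3) hyN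
  have hy1 := eq_one_of_smul_eq h hn P Q hQ y hyP ((mem_Tsub_iff P Q y).mp hyT).2
  rw [hy1, orderOf_one] at hy3
  omega

theorem card_Tsub (h : Nat.card G = 720) (hn : Nat.card (Sylow 3 G) = 10)
    (P Q : Sylow 3 G) (hQ : Q ≠ P) : Nat.card (Tsub P Q) = 8 := by
  obtain ⟨T0, Q0, hT0, hT0P, hT0Q, hQ0⟩ := exists_two_subgroup_fixing h hn P
  obtain ⟨x, hx, hxQ⟩ := exists_smul_eq_of_ne h hn P Q0 Q hQ0 hQ
  -- the conjugate of `T0` by `x` lies in `Tsub P Q`
  set T1 : Subgroup G := T0.map (MulAut.conj x).toMonoidHom with hT1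
  have hT1c : Nat.card T1 = 8 := by
    rw [hT1, Subgroup.card_map_of_injective (MulAut.conj x).injective, hT0]
  have hle : T1 ≤ Tsub P Q := by
    rintro _ ⟨t, ht, rfl⟩
    rw [mem_Tsub_iff]
    have htP : t • P = P := Sylow.smul_eq_iff_mem_normalizer.mpr (hT0P ht)
    have htQ : t • Q0 = Q0 := Sylow.smul_eq_iff_mem_normalizer.mpr (hT0Q ht)
    have hxP : x • P = P := smul_sylow_of_mem P x hx
    have hxP' : x⁻¹ • P = P := by
      conv_lhs => rw [← hxP]
      rw [inv_smul_smul]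
    simp only [MulEquiv.coe_toMonoidHom, MulAut.conj_apply]
    constructor
    · rw [mul_smul, mul_smul, hxP', htP, hxP]
    · rw [← hxQ, mul_smul, mul_smul, inv_smul_smul, htQ]
  have h8 : 8 ∣ Nat.card (Tsub P Q) := by
    rw [← hT1c]; exact Subgroup.card_dvd_of_le hle
  have h72 : Nat.card (Tsub P Q) ∣ 72 := by
    rw [← card_normalizer_sylow3 h hn P]
    exact Subgroup.card_dvd_of_le (Tsub_le_normalizer P Q)
  have h3 := not_three_dvd_card_Tsub h hn P Q hQ
  have hle72 : Nat.card (Tsub P Q) ≤ 72 := Nat.le_of_dvd (by norm_num) h72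
  generalize Nat.card (Tsub P Q) = c at *
  interval_cases c <;> omega

/-- The number of fixed points of `t ∈ T`. -/
theorem card_fixedBy_eq (h : Nat.card G = 720) (hn : Nat.card (Sylow 3 G) = 10)
    (P Q : Sylow 3 G) (hQ : Q ≠ P) (t : G) (ht : t ∈ Tsub P Q) :
    Nat.card (fixedBy (Sylow 3 G) t) =
      Nat.card ((P : Subgroup G) ⊓ centralizer ({t} : Set G) : Subgroup G) + 1 := by
  set C : Subgroup G := (P : Subgroup G) ⊓ centralizer ({t} : Set G) with hC
  have htP : t • P = P := ((mem_Tsub_iff P Q t).mp ht).1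
  have htQ : t • Q = Q := ((mem_Tsub_iff P Q t).mp ht).2
  have hcomm : ∀ c : C, t * (c : G) = c * t := by
    intro c
    have := (Subgroup.mem_inf.mp c.2).2
    rw [Subgroup.mem_centralizer_singleton_iff] at this
    exact this.symm
  have hfix : ∀ c : C, t • ((c : G) • Q) = (c : G) • Q := by
    intro c
    rw [← mul_smul, hcomm c, mul_smul, htQ]
  let f : Option C → fixedBy (Sylow 3 G) t := fun o =>
    match o with
    | none => ⟨P, htP⟩
    | some c => ⟨(c : G) • Q, hfix c⟩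
  have hf : Function.Bijective f := by
    constructor
    · intro a b hab
      match a, b with
      | none, none => rfl
      | none, some c =>
        exfalso
        have h1 : P = (c : G) • Q := congrArg Subtype.val hab
        apply hQ
        have hcP : (c : G) ∈ (P : Subgroup G) := (Subgroup.mem_inf.mp c.2).1
        have h2 : (c : G)⁻¹ • P = Q := by rw [h1, inv_smul_smul]
        rw [← h2]
        exact smul_sylow_of_mem P _ ((P : Subgroup G).inv_mem hcP)
      | some c, none =>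
        exfalso
        have h1 : (c : G) • Q = P := congrArg Subtype.val hab
        apply hQ
        have hcP : (c : G) ∈ (P : Subgroup G) := (Subgroup.mem_inf.mp c.2).1
        have h2 : (c : G)⁻¹ • P = Q := by rw [← h1, inv_smul_smul]
        rw [← h2]
        exact smul_sylow_of_mem P _ ((P : Subgroup G).inv_mem hcP)
      | some c, some c' =>
        have h1 : (c : G) • Q = (c' : G) • Q := congrArg Subtype.val hab
        have h2 := eq_of_smul_eq_smul h hn P Q hQ _ _ (Subgroup.mem_inf.mp c.2).1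
          (Subgroup.mem_inf.mp c'.2).1 h1
        exact congrArg some (Subtype.ext h2)
    · rintro ⟨R, hR⟩
      by_cases hRP : R = P
      · exact ⟨none, Subtype.ext hRP.symm⟩
      · obtain ⟨x, hx, hxQ⟩ := exists_smul_eq_of_ne h hn P Q R hQ hRP
        have hR' : t • (x • Q) = x • Q := by rw [hxQ]; exact hR
        have hc := commute_of_smul_smul_eq h hn P Q hQ t ht x hx hR'
        have hxC : x ∈ C := by
          refine Subgroup.mem_inf.mpr ⟨hx, ?_⟩
          rw [Subgroup.mem_centralizer_singleton_iff]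
          exact hc.symm
        exact ⟨some ⟨x, hxC⟩, Subtype.ext hxQ⟩
  rw [← Nat.card_congr (Equiv.ofBijective f hf), Finite.card_option]

/-- An involution of `T` has no nontrivial fixed point on `P`. -/
theorem inf_centralizer_eq_bot (h : Nat.card G = 720) (hn : Nat.card (Sylow 3 G) = 10)
    (P Q : Sylow 3 G) (hQ : Q ≠ P) (t : G) (ht : t ∈ Tsub P Q) (ht2 : t ^ 2 = 1) (ht1 : t ≠ 1) :
    (P : Subgroup G) ⊓ centralizer ({t} : Set G) = ⊥ := by
  have hG := not_comm h
  have h4 := four_dvd_card_sub_card_fixedBy hG (Sylow 3 G) t ht2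
  have hcard := card_fixedBy_eq h hn P Q hQ t ht
  have hdvd : Nat.card ((P : Subgroup G) ⊓ centralizer ({t} : Set G) : Subgroup G) ∣ 9 := by
    rw [← card_sylow3 h P]
    exact Subgroup.card_dvd_of_le inf_le_left
  have hlt : Nat.card (fixedBy (Sylow 3 G) t) < Nat.card (Sylow 3 G) := by
    by_contra hcon
    apply ht1
    apply eq_one_of_forall_smul_eq (by rw [hn]; norm_num)
    intro R
    by_contra hR
    exact hcon (Finite.card_subtype_lt (p := fun R : Sylow 3 G => R ∈ fixedBy (Sylow 3 G) t) hR)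
  rw [hn] at h4 hlt
  rw [hcard] at h4 hlt
  apply Subgroup.eq_bot_of_card_eq
  have hle : Nat.card ((P : Subgroup G) ⊓ centralizer ({t} : Set G) : Subgroup G) ≤ 9 :=
    Nat.le_of_dvd (by norm_num) hdvd
  generalize Nat.card ((P : Subgroup G) ⊓ centralizer ({t} : Set G) : Subgroup G) = c at *
  interval_cases c <;> omega

/-- An involution of `T` inverts `P`. -/
theorem conj_eq_inv_of_involution (h : Nat.card G = 720) (hn : Nat.card (Sylow 3 G) = 10)
    (P Q : Sylow 3 G) (hQ : Q ≠ P) (t : G) (ht : t ∈ Tsub P Q) (ht2 : t ^ 2 = 1) (ht1 : t ≠ 1)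
    (x : G) (hx : x ∈ (P : Subgroup G)) : t * x * t⁻¹ = x⁻¹ := by
  have hbot := inf_centralizer_eq_bot h hn P Q hQ t ht ht2 ht1
  have hy : t * x * t⁻¹ ∈ (P : Subgroup G) := conj_mem_of_mem_Tsub P Q t ht x hx
  have htinv : t⁻¹ = t := by
    rw [inv_eq_iff_mul_eq_one, ← pow_two]; exact ht2
  have hmem : x * (t * x * t⁻¹) ∈ (P : Subgroup G) ⊓ centralizer ({t} : Set G) := by
    refine Subgroup.mem_inf.mpr ⟨(P : Subgroup G).mul_mem hx hy, ?_⟩
    rw [Subgroup.mem_centralizer_singleton_iff]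
    have hcomm := sylow3_mul_comm h P x (t * x * t⁻¹) hx hy
    calc x * (t * x * t⁻¹) * t = (t * x * t⁻¹) * x * t := by rw [hcomm]
      _ = t * x * (t⁻¹ * x * t) := by group
      _ = t * x * (t * x * t⁻¹) := by rw [htinv]
      _ = t * (x * (t * x * t⁻¹)) := by group
  rw [hbot, Subgroup.mem_bot] at hmem
  exact (eq_inv_of_mul_eq_one_right hmem)

/-- `T` has at most one involution. -/
theorem involution_unique (h : Nat.card G = 720) (hn : Nat.card (Sylow 3 G) = 10)
    (P Q : Sylow 3 G) (hQ : Q ≠ P) (t t' : G) (ht : t ∈ Tsub P Q) (ht2 : t ^ 2 = 1) (ht1 : t ≠ 1)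
    (ht' : t' ∈ Tsub P Q) (ht2' : t' ^ 2 = 1) (ht1' : t' ≠ 1) : t = t' := by
  have hu : t * t' ∈ Tsub P Q := (Tsub P Q).mul_mem ht ht'
  have hcent : ∀ x ∈ (P : Subgroup G), (t * t') * x * (t * t')⁻¹ = x := by
    intro x hx
    have h1 := conj_eq_inv_of_involution h hn P Q hQ t' ht' ht2' ht1' x hx
    have h2 := conj_eq_inv_of_involution h hn P Q hQ t ht ht2 ht1 x⁻¹
      ((P : Subgroup G).inv_mem hx)
    calc (t * t') * x * (t * t')⁻¹ = t * (t' * x * t'⁻¹) * t⁻¹ := by group
      _ = t * x⁻¹ * t⁻¹ := by rw [h1]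
      _ = x := by rw [h2, inv_inv]
  have hone : t * t' = 1 := by
    apply eq_one_of_forall_smul_eq (by rw [hn]; norm_num)
    intro R
    by_cases hRP : R = P
    · rw [hRP]; exact ((mem_Tsub_iff P Q _).mp hu).1
    · obtain ⟨x, hx, rfl⟩ := exists_smul_eq_of_ne h hn P Q R hQ hRP
      rw [smul_smul_of_mem_Tsub P Q _ hu x, hcent x hx]
  have htinv : t'⁻¹ = t' := by
    rw [inv_eq_iff_mul_eq_one, ← pow_two]; exact ht2'
  rw [← htinv]
  exact eq_inv_of_mul_eq_one_left hone

/-- `T` contains an involution. -/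
theorem exists_involution (h : Nat.card G = 720) (hn : Nat.card (Sylow 3 G) = 10)
    (P Q : Sylow 3 G) (hQ : Q ≠ P) : ∃ z ∈ Tsub P Q, orderOf z = 2 :=
  exists_mem_orderOf_eq_of_dvd_card (Tsub P Q) 2 (by rw [card_Tsub h hn P Q hQ]; norm_num)

/-- Every nontrivial element of `T` has a power which is an involution. -/
theorem exists_pow_involution (h : Nat.card G = 720) (hn : Nat.card (Sylow 3 G) = 10)
    (P Q : Sylow 3 G) (hQ : Q ≠ P) (q : G) (hq : q ∈ Tsub P Q) (hq1 : q ≠ 1) :
    ∃ k : ℕ, (q ^ k) ^ 2 = 1 ∧ q ^ k ≠ 1 := by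
  have hdvd : orderOf q ∣ 8 := by
    rw [← card_Tsub h hn P Q hQ]
    exact Subgroup.orderOf_dvd_natCard _ hq
  have hle : orderOf q ≤ 8 := Nat.le_of_dvd (by norm_num) hdvd
  have hpos : 0 < orderOf q := orderOf_pos q
  have hne1 : orderOf q ≠ 1 := by
    intro h1
    exact hq1 (orderOf_eq_one_iff.mp h1)
  have hcases : orderOf q = 2 ∨ orderOf q = 4 ∨ orderOf q = 8 := by
    generalize orderOf q = c at *
    interval_cases c <;> omega
  rcases hcases with h2 | h4 | h8
  · refine ⟨1, ?_, ?_⟩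
    · rw [pow_one, ← h2]; exact pow_orderOf_eq_one q
    · rwa [pow_one]
  · refine ⟨2, ?_, ?_⟩
    · rw [← pow_mul]
      show q ^ 4 = 1
      rw [← h4]; exact pow_orderOf_eq_one q
    · intro hcon
      have := orderOf_dvd_of_pow_eq_one hcon
      rw [h4] at this
      omega
  · refine ⟨4, ?_, ?_⟩
    · rw [← pow_mul]
      show q ^ 8 = 1
      rw [← h8]; exact pow_orderOf_eq_one q
    · intro hcon
      have := orderOf_dvd_of_pow_eq_one hcon
      rw [h8] at this
      omega

/-- `T \ {1}` acts freely on `P \ {1}`. -/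
theorem eq_one_of_commute_of_mem_Tsub (h : Nat.card G = 720) (hn : Nat.card (Sylow 3 G) = 10)
    (P Q : Sylow 3 G) (hQ : Q ≠ P) (q : G) (hq : q ∈ Tsub P Q) (hq1 : q ≠ 1) (x : G)
    (hx : x ∈ (P : Subgroup G)) (hqx : q * x = x * q) : x = 1 := by
  obtain ⟨k, hk2, hk1⟩ := exists_pow_involution h hn P Q hQ q hq hq1
  have hbot := inf_centralizer_eq_bot h hn P Q hQ (q ^ k) ((Tsub P Q).pow_mem hq k) hk2 hk1
  have hmem : x ∈ (P : Subgroup G) ⊓ centralizer ({q ^ k} : Set G) := by
    refine Subgroup.mem_inf.mpr ⟨hx, ?_⟩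
    rw [Subgroup.mem_centralizer_singleton_iff]
    have hc : Commute q x := hqx
    exact (hc.pow_left k).eq.symm
  rw [hbot] at hmem
  exact Subgroup.mem_bot.mp hmem

/-- A nontrivial element of `T` fixes only `P` and `Q`. -/
theorem eq_or_eq_of_smul_eq (h : Nat.card G = 720) (hn : Nat.card (Sylow 3 G) = 10)
    (P Q : Sylow 3 G) (hQ : Q ≠ P) (q : G) (hq : q ∈ Tsub P Q) (hq1 : q ≠ 1) (R : Sylow 3 G)
    (hR : q • R = R) : R = P ∨ R = Q := by
  by_cases hRP : R = P
  · exact Or.inl hRP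
  · right
    obtain ⟨x, hx, rfl⟩ := exists_smul_eq_of_ne h hn P Q R hQ hRP
    have hc := commute_of_smul_smul_eq h hn P Q hQ q hq x hx hR
    have hx1 := eq_one_of_commute_of_mem_Tsub h hn P Q hQ q hq hq1 x hx hc
    rw [hx1, one_smul]

end Cfsg.Agent.Lib.Helper72.Simple720
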