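import Mathlib
import Cfsg.Agent.Lib.Helper72.Simple720C

/-!
# No simple group of order 720, part D: the two-point stabilizer is not commutative

(helper72)  If `T` were commutative it would contain an element of order 8, which acts on the
10 Sylow 3-subgroups as an 8-cycle: an odd permutation.
-/

set_option autoImplicit false
set_option linter.unusedSectionVars false

namespace Cfsg.Agent.Lib.Helper72.Simple720

open MulAction Subgroup
open Cfsg.Agent.Lib.Helper17

/-- A permutation with `σ ^ 8 = 1`, moving exactly 8 points, such that `σ ^ 4` has no more fixed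
points than `σ`, is an 8-cycle, hence odd. -/
theorem sign_eq_neg_one_of_eight {α : Type*} [Fintype α] [DecidableEq α] (σ : Equiv.Perm α)
    (h8 : σ ^ 8 = 1) (hfix : ∀ a, (σ ^ 4) a = a → σ a = a) (hcard : σ.support.card = 8) :
    Equiv.Perm.sign σ = -1 := by
  have hall : ∀ n ∈ σ.cycleType, n = 8 := by
    intro n hn
    have hdvd : n ∣ 8 :=
      (Equiv.Perm.dvd_of_mem_cycleType hn).trans (orderOf_dvd_of_pow_eq_one h8)
    have h2 : 2 ≤ n := Equiv.Perm.two_le_of_mem_cycleType hn
    by_contra hne
    have hle : n ≤ 8 := Nat.le_of_dvd (by norm_num) hdvd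
    have h4 : n ∣ 4 := by
      interval_cases n <;> omega
    obtain ⟨c, τ, hστ, hd, hc, hcc⟩ := Equiv.Perm.mem_cycleType_iff.mp hn
    obtain ⟨x, hx, -⟩ := id hc
    have hτx : τ x = x := by
      rcases hd x with h | h
      · exact absurd h hx
      · exact h
    have hc4 : c ^ 4 = 1 := by
      rw [← orderOf_dvd_iff_pow_eq_one, Equiv.Perm.IsCycle.orderOf hc, hcc]
      exact h4
    have hτ4 : (τ ^ 4) x = x := Equiv.Perm.pow_apply_eq_self_of_apply_eq_self hτx 4
    have hσ4 : (σ ^ 4) x = x := by
      rw [hστ, hd.commute.mul_pow, hc4, one_mul, hτ4]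
    have := hfix x hσ4
    rw [hστ, Equiv.Perm.mul_apply, hτx] at this
    exact hx this
  have hrep : σ.cycleType = Multiset.replicate (Multiset.card σ.cycleType) 8 :=
    Multiset.eq_replicate_card.mpr hall
  have hsum : σ.cycleType.sum = Multiset.card σ.cycleType * 8 := by
    conv_lhs => rw [hrep]
    rw [Multiset.sum_replicate, smul_eq_mul]
  have hk : Multiset.card σ.cycleType = 1 := by
    rw [Equiv.Perm.sum_cycleType, hcard] at hsum
    omega
  rw [Equiv.Perm.sign_of_cycleType, Equiv.Perm.sum_cycleType, hcard, hk]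
  decide

variable {G : Type*} [Group G] [Finite G] [IsSimpleGroup G]

attribute [local instance] fact5 fact3 fact2

/-- A subset all of whose elements are `a` or `b` has at most two elements. -/
theorem card_le_two_of_forall {α : Type*} (a b : α) (s : Set α)
    (hs : ∀ x ∈ s, x = a ∨ x = b) : Nat.card s ≤ 2 := by
  have hsub : s ⊆ ({a, b} : Set α) := by
    intro x hx
    rcases hs x hx with h | h
    · rw [h]; exact Set.mem_insert _ _
    · rw [h]; exact Set.mem_insert_of_mem _ rfl
  rw [Nat.card_coe_set_eq]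
  calc s.ncard ≤ ({a, b} : Set α).ncard := Set.ncard_le_ncard hsub (Set.toFinite _)
    _ ≤ ({b} : Set α).ncard + 1 := Set.ncard_insert_le a {b}
    _ = 2 := by rw [Set.ncard_singleton]

/-- A commutative two-point stabilizer contains an element `g` with `g ^ 4 ≠ 1`. -/
theorem exists_pow_four_ne_one (h : Nat.card G = 720) (hn : Nat.card (Sylow 3 G) = 10)
    (P Q : Sylow 3 G) (hQ : Q ≠ P)
    (hcomm : ∀ a ∈ Tsub P Q, ∀ b ∈ Tsub P Q, a * b = b * a) :
    ∃ g ∈ Tsub P Q, g ^ 4 ≠ 1 := by
  by_contra hcon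
  push Not at hcon
  obtain ⟨z, hzT, hz2⟩ := exists_involution h hn P Q hQ
  have hz1 : z ≠ 1 := by
    intro h1
    rw [h1, orderOf_one] at hz2
    omega
  have hzz : z ^ 2 = 1 := by rw [← hz2]; exact pow_orderOf_eq_one z
  -- elements of square one are `1` or `z`
  have hsq : ∀ g ∈ Tsub P Q, g ^ 2 = 1 → g = 1 ∨ g = z := by
    intro g hg hg2
    by_cases hg1 : g = 1
    · exact Or.inl hg1
    · exact Or.inr (involution_unique h hn P Q hQ g z hg hg2 hg1 hzT hzz hz1)
  let T := Tsub P Q
  let sq : T →* T :=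
    { toFun := fun g => g ^ 2
      map_one' := one_pow 2
      map_mul' := fun a b => by
        have hc : Commute a b := Subtype.ext (hcomm a a.2 b b.2)
        exact hc.mul_pow 2 }
  have hker : Nat.card sq.ker ≤ 2 := by
    apply card_le_two_of_forall (1 : T) ⟨z, hzT⟩
    intro g hg
    have hg' : sq g = 1 := hg
    have hg2 : (g : G) ^ 2 = 1 := by
      have := congrArg Subtype.val hg'
      exact this
    rcases hsq g g.2 hg2 with h1 | h1
    · exact Or.inl (Subtype.ext h1)
    · exact Or.inr (Subtype.ext h1)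
  have hrange : Nat.card sq.range ≤ 2 := by
    apply card_le_two_of_forall (1 : T) ⟨z, hzT⟩
    rintro _ ⟨g, rfl⟩
    have hg4 : ((g : G) ^ 2) ^ 2 = 1 := by
      rw [← pow_mul]; exact hcon g g.2
    rcases hsq _ ((Tsub P Q).pow_mem g.2 2) hg4 with h1 | h1
    · exact Or.inl (Subtype.ext h1)
    · exact Or.inr (Subtype.ext h1)
  have h1 := Subgroup.card_eq_card_quotient_mul_card_subgroup sq.ker
  have h2 : Nat.card (T ⧸ sq.ker) = Nat.card sq.range :=
    Nat.card_congr (QuotientGroup.quotientKerEquivRange sq).toEquiv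
  have hT : Nat.card T = 8 := card_Tsub h hn P Q hQ
  rw [h2, hT] at h1
  nlinarith

/-- The two-point stabilizer is not commutative. -/
theorem Tsub_not_comm (h : Nat.card G = 720) (hn : Nat.card (Sylow 3 G) = 10)
    (P Q : Sylow 3 G) (hQ : Q ≠ P) :
    ∃ a ∈ Tsub P Q, ∃ b ∈ Tsub P Q, a * b ≠ b * a := by
  by_contra hcon
  push Not at hcon
  obtain ⟨g, hgT, hg4⟩ := exists_pow_four_ne_one h hn P Q hQ hcon
  classical
  have := Fintype.ofFinite (Sylow 3 G)
  set σ : Equiv.Perm (Sylow 3 G) := MulAction.toPermHom G (Sylow 3 G) g with hσ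
  have hg8 : g ^ 8 = 1 := by
    have hdvd : orderOf g ∣ 8 := by
      rw [← card_Tsub h hn P Q hQ]
      exact Subgroup.orderOf_dvd_natCard _ hgT
    exact orderOf_dvd_iff_pow_eq_one.mp hdvd
  have hg1 : g ≠ 1 := by
    intro h1
    apply hg4
    rw [h1, one_pow]
  have hσ8 : σ ^ 8 = 1 := by rw [hσ, ← map_pow, hg8, map_one]
  have hfixg : ∀ R : Sylow 3 G, g • R = R ↔ (R = P ∨ R = Q) := by
    intro R
    constructor
    · exact eq_or_eq_of_smul_eq h hn P Q hQ g hgT hg1 R
    · rintro (rfl | rfl)
      · exact ((mem_Tsub_iff _ _ g).mp hgT).1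
      · exact ((mem_Tsub_iff _ _ g).mp hgT).2
  have hfix : ∀ R, (σ ^ 4) R = R → σ R = R := by
    intro R hR
    have hR' : (g ^ 4) • R = R := by
      rw [hσ, ← map_pow] at hR
      exact hR
    have := eq_or_eq_of_smul_eq h hn P Q hQ (g ^ 4) ((Tsub P Q).pow_mem hgT 4) hg4 R hR'
    exact (hfixg R).mpr this
  have hsupp : σ.support = Finset.univ \ {P, Q} := by
    ext R
    rw [Equiv.Perm.mem_support, Finset.mem_sdiff, Finset.mem_insert, Finset.mem_singleton]
    constructor
    · intro hR
      refine ⟨Finset.mem_univ _, fun hcon => hR ?_⟩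
      exact (hfixg R).mpr hcon
    · rintro ⟨-, hR⟩ hcon
      exact hR ((hfixg R).mp hcon)
  have hcard : σ.support.card = 8 := by
    rw [hsupp, Finset.card_sdiff_of_subset (Finset.subset_univ _), Finset.card_univ,
      ← Nat.card_eq_fintype_card, hn, Finset.card_pair hQ.symm]
  have hsign := sign_eq_neg_one_of_eight σ hσ8 hfix hcard
  have hone : Equiv.Perm.sign σ = 1 := sign_toPermHom_eq_one (not_comm h) g
  rw [hone] at hsign
  exact absurd hsign (by decide)

end Cfsg.Agent.Lib.Helper72.Simple720
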