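import Mathlib

/-!
# A group of order 16 of "semidihedral shape"

(helper72)  Let `S` have order 16, `T ≤ S` of order 8, non-commutative with a unique involution
`z`, and let `t ∈ S \ T` be an involution with `C_T(t) = {1, z}`.  Then `S` has a subgroup `K` of
index 2 containing all involutions of `S` but not `T`.
-/

set_option autoImplicit false

namespace Cfsg.Agent.Lib.Helper72.Simple720

open Subgroup

section shape

variable {S : Type*} [Group S] [Finite S]

theorem exists_index_two_of_shape (hS : Nat.card S = 16)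
    (T : Subgroup S) (hT : Nat.card T = 8) (z : S) (hzT : z ∈ T) (hz1 : z ≠ 1) (hz2 : z ^ 2 = 1)
    (huniq : ∀ q ∈ T, q ^ 2 = 1 → q = 1 ∨ q = z)
    (hnc : ∃ a ∈ T, ∃ b ∈ T, a * b ≠ b * a)
    (t : S) (ht : t ^ 2 = 1) (htT : t ∉ T) (hCt : ∀ q ∈ T, t * q = q * t → q = 1 ∨ q = z) :
    ∃ K : Subgroup S, K.index = 2 ∧ (∀ y : S, y ^ 2 = 1 → y ∈ K) ∧
      ∃ x ∈ T, x ∉ K ∧ x ^ 2 = z := by
  have hTi : T.index = 2 := by
    have := T.index_mul_card
    rw [hS, hT] at this
    omega
  have hTn : T.Normal := Subgroup.normal_of_index_eq_two hTi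
  have htinv : t⁻¹ = t := by rw [inv_eq_iff_mul_eq_one, ← pow_two]; exact ht
  have hzinv : z⁻¹ = z := by rw [inv_eq_iff_mul_eq_one, ← pow_two]; exact hz2
  have hzz : z * z = 1 := by rw [← pow_two]; exact hz2
  have htt : t * t = 1 := by rw [← pow_two]; exact ht
  -- conjugates of `z` by anything are `z`
  have hzconj : ∀ g : S, g * z * g⁻¹ = z := by
    intro g
    have h1 : g * z * g⁻¹ ∈ T := hTn.conj_mem z hzT g
    have h2 : (g * z * g⁻¹) ^ 2 = 1 := by
      rw [pow_two]
      calc g * z * g⁻¹ * (g * z * g⁻¹) = g * (z * z) * g⁻¹ := by group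
        _ = 1 := by rw [hzz]; group
    rcases huniq _ h1 h2 with h3 | h3
    · exfalso
      apply hz1
      calc z = g⁻¹ * (g * z * g⁻¹) * g := by group
        _ = 1 := by rw [h3]; group
    · exact h3
  have hzc : ∀ g : S, g * z = z * g := by
    intro g
    calc g * z = (g * z * g⁻¹) * g := by group
      _ = z * g := by rw [hzconj g]
  -- elements of `T` outside `{1, z}` square to `z`
  have hsqz : ∀ q ∈ T, q ≠ 1 → q ≠ z → q ^ 2 = z := by
    intro q hq hq1 hqz
    have hq8 : q ^ 8 = 1 := by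
      have : orderOf q ∣ 8 := by
        rw [← hT]; exact Subgroup.orderOf_dvd_natCard _ hq
      exact orderOf_dvd_iff_pow_eq_one.mp this
    have hq2 : q ^ 2 ≠ 1 := by
      intro h2
      rcases huniq q hq h2 with h | h
      · exact hq1 h
      · exact hqz h
    by_cases hq4 : q ^ 4 = 1
    · have h22 : (q ^ 2) ^ 2 = 1 := by rw [← pow_mul]; exact hq4
      rcases huniq _ (T.pow_mem hq 2) h22 with h | h
      · exact absurd h hq2
      · exact h
    · exfalso
      have ho : orderOf q = 2 ^ (2 + 1) :=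
        orderOf_eq_prime_pow (p := 2) (n := 2) (by norm_num; exact hq4) (by norm_num; exact hq8)
      have hle : zpowers q ≤ T := zpowers_le.mpr hq
      have hcard : Nat.card T ≤ Nat.card (zpowers q) := by
        rw [Nat.card_zpowers, ho, hT]; norm_num
      have heq : zpowers q = T := Subgroup.eq_of_le_of_card_ge hle hcard
      obtain ⟨a, ha, b, hb, hab⟩ := hnc
      rw [← heq] at ha hb
      obtain ⟨m, rfl⟩ := Subgroup.mem_zpowers_iff.mp ha
      obtain ⟨n, rfl⟩ := Subgroup.mem_zpowers_iff.mp hb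
      apply hab
      rw [← zpow_add, ← zpow_add, add_comm]
  have hinvz : ∀ q ∈ T, q ^ 2 = z → q⁻¹ = q * z := by
    intro q _ hq2
    rw [inv_eq_iff_mul_eq_one]
    calc q * (q * z) = q ^ 2 * z := by rw [pow_two, mul_assoc]
      _ = 1 := by rw [hq2, hzz]
  -- anticommutation
  have hanti : ∀ a ∈ T, ∀ b ∈ T, a ^ 2 = z → b ^ 2 = z → (a * b) ^ 2 = z → b * a = a * b * z := by
    intro a ha b hb ha2 hb2 hab2
    have h1 : (a * b)⁻¹ = a * b * z := hinvz _ (T.mul_mem ha hb) hab2
    have h2 : (a * b)⁻¹ = b * a := by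
      rw [mul_inv_rev, hinvz a ha ha2, hinvz b hb hb2]
      calc b * z * (a * z) = b * (z * a) * z := by group
        _ = b * (a * z) * z := by rw [hzc a]
        _ = b * a * (z * z) := by group
        _ = b * a := by rw [hzz, mul_one]
    rw [← h2, h1]
  -- the set `I`
  have hconjT : ∀ q ∈ T, t * q * t⁻¹ ∈ T := fun q hq => hTn.conj_mem q hq t
  -- commutativity of `I`
  have hIcomm : ∀ a b : S, a ∈ T → b ∈ T → t * a * t⁻¹ = a⁻¹ → t * b * t⁻¹ = b⁻¹ →
      a * b = b * a := by
    intro a b ha hb haI hbI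
    by_cases ha1 : a = 1
    · rw [ha1, one_mul, mul_one]
    by_cases haz : a = z
    · rw [haz]; exact (hzc b).symm
    by_cases hb1 : b = 1
    · rw [hb1, one_mul, mul_one]
    by_cases hbz : b = z
    · rw [hbz]; exact hzc a
    by_cases hab1 : a * b = 1
    · have : b = a⁻¹ := eq_inv_of_mul_eq_one_right hab1
      rw [this, mul_inv_cancel, inv_mul_cancel]
    by_cases habz : a * b = z
    · have : b = a⁻¹ * z := by rw [← habz]; group
      rw [this]
      calc a * (a⁻¹ * z) = z := by group
        _ = a⁻¹ * (z * a) := by rw [← hzc a]; group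
        _ = a⁻¹ * z * a := by group
    exfalso
    have ha2 := hsqz a ha ha1 haz
    have hb2 := hsqz b hb hb1 hbz
    have hab2 := hsqz (a * b) (T.mul_mem ha hb) hab1 habz
    have hba := hanti a ha b hb ha2 hb2 hab2
    -- `t` centralizes `r = a * b`
    have hr : t * (a * b) * t⁻¹ = a * b := by
      calc t * (a * b) * t⁻¹ = (t * a * t⁻¹) * (t * b * t⁻¹) := by group
        _ = a⁻¹ * b⁻¹ := by rw [haI, hbI]
        _ = (b * a)⁻¹ := by rw [mul_inv_rev]
        _ = (a * b * z)⁻¹ := by rw [hba]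
        _ = z⁻¹ * (a * b)⁻¹ := by rw [mul_inv_rev]
        _ = z * (a * b * z) := by rw [hzinv, hinvz _ (T.mul_mem ha hb) hab2]
        _ = z * (z * (a * b)) := by rw [hzc (a * b)]
        _ = (z * z) * (a * b) := by group
        _ = a * b := by rw [hzz, one_mul]
    have hr' : t * (a * b) = (a * b) * t := by
      calc t * (a * b) = (t * (a * b) * t⁻¹) * t := by group
        _ = (a * b) * t := by rw [hr]
    rcases hCt _ (T.mul_mem ha hb) hr' with h | h
    · exact hab1 h
    · exact habz h
  -- the subgroup `I`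
  let I : Subgroup S :=
    { carrier := {q | q ∈ T ∧ t * q * t⁻¹ = q⁻¹}
      one_mem' := ⟨T.one_mem, by group⟩
      mul_mem' := by
        rintro a b ⟨ha, haI⟩ ⟨hb, hbI⟩
        refine ⟨T.mul_mem ha hb, ?_⟩
        calc t * (a * b) * t⁻¹ = (t * a * t⁻¹) * (t * b * t⁻¹) := by group
          _ = a⁻¹ * b⁻¹ := by rw [haI, hbI]
          _ = (b * a)⁻¹ := by rw [mul_inv_rev]
          _ = (a * b)⁻¹ := by rw [hIcomm a b ha hb haI hbI]
      inv_mem' := by
        rintro a ⟨ha, haI⟩
        refine ⟨T.inv_mem ha, ?_⟩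
        calc t * a⁻¹ * t⁻¹ = (t * a * t⁻¹)⁻¹ := by group
          _ = (a⁻¹)⁻¹ := by rw [haI] }
  have hImem : ∀ q : S, q ∈ I ↔ q ∈ T ∧ t * q * t⁻¹ = q⁻¹ := fun q => Iff.rfl
  have hIT : I ≤ T := fun q hq => ((hImem q).mp hq).1
  have hzI : z ∈ I := (hImem z).mpr ⟨hzT, by rw [hzconj t, hzinv]⟩
  -- `w q = q⁻¹ * (t * q * t⁻¹)` lies in `I`
  have hw : ∀ q ∈ T, q⁻¹ * (t * q * t⁻¹) ∈ I := by
    intro q hq
    refine (hImem _).mpr ⟨T.mul_mem (T.inv_mem hq) (hconjT q hq), ?_⟩
    calc t * (q⁻¹ * (t * q * t⁻¹)) * t⁻¹ = (t * q⁻¹ * t⁻¹) * ((t * t) * q * (t⁻¹ * t⁻¹)) := by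
          group
      _ = (t * q⁻¹ * t⁻¹) * q := by rw [htt, htinv, htt, one_mul, mul_one]
      _ = (q⁻¹ * (t * q * t⁻¹))⁻¹ := by group
  -- an element of `T` outside `{1, z}`
  have hex : ∃ q ∈ T, q ≠ 1 ∧ q ≠ z := by
    by_contra hcon
    push Not at hcon
    obtain ⟨a, ha, b, hb, hab⟩ := hnc
    apply hab
    by_cases ha1 : a = 1
    · rw [ha1, one_mul, mul_one]
    · rw [hcon a ha ha1]; exact (hzc b).symm
  -- an element of `I` outside `{1, z}`
  have hexI : ∃ a ∈ I, a ≠ 1 ∧ a ≠ z := by
    obtain ⟨q, hq, hq1, hqz⟩ := hex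
    by_cases hqI : q ∈ I
    · exact ⟨q, hqI, hq1, hqz⟩
    · refine ⟨_, hw q hq, ?_, ?_⟩
      · intro h1
        have h2 : t * q * t⁻¹ = q := by
          calc t * q * t⁻¹ = q * (q⁻¹ * (t * q * t⁻¹)) := by group
            _ = q := by rw [h1, mul_one]
        have h3 : t * q = q * t := by
          calc t * q = (t * q * t⁻¹) * t := by group
            _ = q * t := by rw [h2]
        rcases hCt q hq h3 with h | h
        · exact hq1 h
        · exact hqz h
      · intro h1
        apply hqI
        refine (hImem q).mpr ⟨hq, ?_⟩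
        have hq2 := hsqz q hq hq1 hqz
        calc t * q * t⁻¹ = q * (q⁻¹ * (t * q * t⁻¹)) := by group
          _ = q * z := by rw [h1]
          _ = q⁻¹ := (hinvz q hq hq2).symm
  obtain ⟨a, haI, ha1, haz⟩ := hexI
  have haT : a ∈ T := hIT haI
  have ha2 : a ^ 2 = z := hsqz a haT ha1 haz
  have hoa : orderOf a = 2 ^ (1 + 1) := by
    apply orderOf_eq_prime_pow (p := 2) (n := 1)
    · rw [pow_one, ha2]; exact hz1
    · show a ^ 2 ^ 2 = 1
      have : a ^ 2 ^ 2 = (a ^ 2) ^ 2 := by rw [← pow_mul]; norm_num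
      rw [this, ha2, hz2]
  have hIne : I ≠ T := by
    intro hIT'
    obtain ⟨b, hb, c, hc, hbc⟩ := hnc
    rw [← hIT'] at hb hc
    exact hbc (hIcomm b c (hIT hb) (hIT hc) ((hImem b).mp hb).2 ((hImem c).mp hc).2)
  have hIcard : Nat.card I = 4 := by
    have h4 : 4 ∣ Nat.card I := by
      have := Subgroup.orderOf_dvd_natCard I haI
      rw [hoa] at this
      exact this
    have h8 : Nat.card I ∣ 8 := by rw [← hT]; exact Subgroup.card_dvd_of_le hIT
    have hne8 : Nat.card I ≠ 8 := by
      intro h8'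
      apply hIne
      exact Subgroup.eq_of_le_of_card_ge hIT (by rw [h8', hT])
    have hle : Nat.card I ≤ 8 := Nat.le_of_dvd (by norm_num) h8
    generalize Nat.card I = c at *
    interval_cases c <;> omega
  -- `t` inverts `I`
  have htI : ∀ q ∈ I, t * q * t⁻¹ = q⁻¹ := fun q hq => ((hImem q).mp hq).2
  have htI' : ∀ q ∈ I, t * q * t = q⁻¹ := by
    intro q hq
    have := htI q hq
    rwa [htinv] at this
  -- the subgroup `K`
  let K : Subgroup S :=
    { carrier := {y | y ∈ I ∨ t * y ∈ I}
      one_mem' := Or.inl I.one_mem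
      mul_mem' := by
        rintro x y (hx | hx) (hy | hy)
        · exact Or.inl (I.mul_mem hx hy)
        · right
          -- t * (x * y) = (t x t) * (t y)
          have h1 : t * (x * y) = (t * x * t) * (t * y) := by
            calc t * (x * y) = t * x * ((t * t) * y) := by rw [htt]; group
              _ = (t * x * t) * (t * y) := by group
          rw [h1, htI' x hx]
          exact I.mul_mem (I.inv_mem hx) hy
        · right
          have h1 : t * (x * y) = (t * x) * y := by group
          rw [h1]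
          exact I.mul_mem hx hy
        · left
          -- x * y = (t (t x) t) * (t y) = (t x)⁻¹ * (t y)
          have h1 : x * y = (t * (t * x) * t) * (t * y) := by
            calc x * y = (t * t) * x * ((t * t) * y) := by rw [htt]; group
              _ = (t * (t * x) * t) * (t * y) := by group
          rw [h1, htI' _ hx]
          exact I.mul_mem (I.inv_mem hx) hy
      inv_mem' := by
        rintro x (hx | hx)
        · exact Or.inl (I.inv_mem hx)
        · right
          -- t * x⁻¹ = (t x t ... ) : x⁻¹ = (t x)⁻¹ t, so t x⁻¹ = t (t x)⁻¹ t = ((t x)⁻¹)⁻¹ = t x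
          have h1 : t * x⁻¹ = t * (t * x)⁻¹ * t := by group
          rw [h1, htI' _ (I.inv_mem hx), inv_inv]
          exact hx }
  have hKmem : ∀ y : S, y ∈ K ↔ y ∈ I ∨ t * y ∈ I := fun y => Iff.rfl
  have hIK : I ≤ K := fun y hy => (hKmem y).mpr (Or.inl hy)
  have htK : t ∈ K := (hKmem t).mpr (Or.inr (by rw [htt]; exact I.one_mem))
  have htI0 : t ∉ I := fun h => htT (hIT h)
  -- an element of `T` outside `I`
  have hexx : ∃ x ∈ T, x ∉ I := by
    by_contra hcon
    push Not at hcon
    apply hIne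
    exact le_antisymm hIT hcon
  obtain ⟨x, hxT, hxI⟩ := hexx
  have hxK : x ∉ K := by
    intro hx
    rcases (hKmem x).mp hx with h | h
    · exact hxI h
    · apply htT
      have h1 : t * x ∈ T := hIT h
      have : t = (t * x) * x⁻¹ := by group
      rw [this]
      exact T.mul_mem h1 (T.inv_mem hxT)
  have hKcard : Nat.card K = 8 := by
    have h4 : 4 ∣ Nat.card K := by rw [← hIcard]; exact Subgroup.card_dvd_of_le hIK
    have h16 : Nat.card K ∣ 16 := by rw [← hS]; exact Subgroup.card_subgroup_dvd_card K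
    have hne4 : Nat.card K ≠ 4 := by
      intro h4'
      apply htI0
      have : I = K := Subgroup.eq_of_le_of_card_ge hIK (by rw [h4', hIcard])
      rw [this]; exact htK
    have hne16 : Nat.card K ≠ 16 := by
      intro h16'
      apply hxK
      have : K = ⊤ := Subgroup.eq_top_of_card_eq K (by rw [h16', hS])
      rw [this]; trivial
    have hle : Nat.card K ≤ 16 := Nat.le_of_dvd (by norm_num) h16
    generalize Nat.card K = c at *
    interval_cases c <;> omega
  have hKi : K.index = 2 := by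
    have := K.index_mul_card
    rw [hS, hKcard] at this
    omega
  refine ⟨K, hKi, ?_, x, hxT, hxK, ?_⟩
  · intro y hy2
    have hyinv : y⁻¹ = y := by rw [inv_eq_iff_mul_eq_one, ← pow_two]; exact hy2
    by_cases hyT : y ∈ T
    · rcases huniq y hyT hy2 with h | h
      · rw [h]; exact K.one_mem
      · rw [h]; exact hIK hzI
    · have hty : t * y ∈ T := by
        rw [Subgroup.mul_mem_iff_of_index_two hTi]
        exact ⟨fun h => absurd h htT, fun h => absurd h hyT⟩
      refine (hKmem y).mpr (Or.inr ((hImem _).mpr ⟨hty, ?_⟩))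
      calc t * (t * y) * t⁻¹ = (t * t) * y * t⁻¹ := by group
        _ = y * t := by rw [htt, one_mul, htinv]
        _ = y⁻¹ * t⁻¹ := by rw [hyinv, htinv]
        _ = (t * y)⁻¹ := by rw [mul_inv_rev]
  · apply hsqz x hxT
    · intro h1
      apply hxI
      rw [h1]; exact I.one_mem
    · intro h1
      apply hxI
      rw [h1]; exact hzI

end shape

end Cfsg.Agent.Lib.Helper72.Simple720
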