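import Mathlib
import Cfsg.Agent.Lib.Helper72.Simple720D
import Cfsg.Agent.Lib.Helper72.Simple720E
import Cfsg.Agent.S3225

/-!
# No simple group of order 720, part F: the case `n_3 = 10`

(helper72)  The two-point stabilizer `T` is non-commutative of order 8 with a unique involution;
a Sylow 2-subgroup `S ≥ T` has "semidihedral shape", and the generalized Thompson transfer lemma
(S3225) gives a contradiction.
-/

set_option autoImplicit false
set_option linter.unusedSectionVars false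

namespace Cfsg.Agent.Lib.Helper72.Simple720

open MulAction Subgroup
open Cfsg.Agent.Lib.Helper17

variable {G : Type*} [Group G] [Finite G] [IsSimpleGroup G]

attribute [local instance] fact5 fact3 fact2

/-- An element commuting with the involution of `T` preserves `{P, Q}`. -/
theorem pres_of_commute (h : Nat.card G = 720) (hn : Nat.card (Sylow 3 G) = 10)
    (P Q : Sylow 3 G) (hQ : Q ≠ P) (z : G) (hzT : z ∈ Tsub P Q) (hz1 : z ≠ 1) (g : G)
    (hg : g * z = z * g) :
    (g • P = P ∧ g • Q = Q) ∨ (g • P = Q ∧ g • Q = P) := by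
  have hzP : z • P = P := ((mem_Tsub_iff P Q z).mp hzT).1
  have hzQ : z • Q = Q := ((mem_Tsub_iff P Q z).mp hzT).2
  have h1 : z • (g • P) = g • P := by rw [← mul_smul, ← hg, mul_smul, hzP]
  have h2 : z • (g • Q) = g • Q := by rw [← mul_smul, ← hg, mul_smul, hzQ]
  have hP := eq_or_eq_of_smul_eq h hn P Q hQ z hzT hz1 _ h1
  have hQ' := eq_or_eq_of_smul_eq h hn P Q hQ z hzT hz1 _ h2
  have hne : g • Q ≠ g • P := fun hcon => hQ (MulAction.injective g hcon)
  rcases hP with hP | hP <;> rcases hQ' with hQ' | hQ'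
  · exact absurd (hQ'.trans hP.symm) hne
  · exact Or.inl ⟨hP, hQ'⟩
  · exact Or.inr ⟨hP, hQ'⟩
  · exact absurd (hQ'.trans hP.symm) hne

/-- There is a third Sylow 3-subgroup. -/
theorem exists_third (hn : Nat.card (Sylow 3 G) = 10) (P Q : Sylow 3 G) :
    ∃ R : Sylow 3 G, R ≠ P ∧ R ≠ Q := by
  by_contra hcon
  push Not at hcon
  have h1 := card_le_two_of_forall P Q (Set.univ : Set (Sylow 3 G)) (fun R _ => by
    by_cases hR : R = P
    · exact Or.inl hR
    · exact Or.inr (hcon R hR))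
  rw [Nat.card_congr (Equiv.Set.univ _), hn] at h1
  omega

/-- An involution `t` outside `T` commuting with `z`, with `C_T(t) = {1, z}`. -/
theorem exists_swap_involution (h : Nat.card G = 720) (hn : Nat.card (Sylow 3 G) = 10)
    (P Q : Sylow 3 G) (hQ : Q ≠ P) (z : G) (hzT : z ∈ Tsub P Q) (hz2 : z ^ 2 = 1) (hz1 : z ≠ 1) :
    ∃ t : G, t ^ 2 = 1 ∧ t ≠ 1 ∧ t * z = z * t ∧ t ∉ Tsub P Q ∧
      ∀ q ∈ Tsub P Q, t * q = q * t → q = 1 ∨ q = z := by
  have hzinv : z⁻¹ = z := by rw [inv_eq_iff_mul_eq_one, ← pow_two]; exact hz2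
  have hzz : z * z = 1 := by rw [← pow_two]; exact hz2
  obtain ⟨R, hRP, hRQ⟩ := exists_third hn P Q
  have hR' : z • R ≠ R := by
    intro hcon
    rcases eq_or_eq_of_smul_eq h hn P Q hQ z hzT hz1 R hcon with h1 | h1
    · exact hRP h1
    · exact hRQ h1
  have hzR' : z • (z • R) = R := by rw [← mul_smul, hzz, one_smul]
  obtain ⟨g0, hg0P, hg0Q⟩ := exists_smul_pair h hn P Q R (z • R) hQ hR'
  set t : G := g0 * z * g0⁻¹ with ht
  have ht2 : t ^ 2 = 1 := by
    rw [pow_two, ht]
    calc g0 * z * g0⁻¹ * (g0 * z * g0⁻¹) = g0 * (z * z) * g0⁻¹ := by group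
      _ = 1 := by rw [hzz]; group
  have ht1 : t ≠ 1 := by
    intro hcon
    apply hz1
    calc z = g0⁻¹ * (g0 * z * g0⁻¹) * g0 := by group
      _ = 1 := by rw [← ht, hcon]; group
  have hzP : z • P = P := ((mem_Tsub_iff P Q z).mp hzT).1
  have hzQ : z • Q = Q := ((mem_Tsub_iff P Q z).mp hzT).2
  have htR : t • R = R := by
    rw [ht, mul_smul, mul_smul, ← hg0P, inv_smul_smul, hzP]
  have htR' : t • (z • R) = z • R := by
    rw [ht, mul_smul, mul_smul, ← hg0Q, inv_smul_smul, hzQ]
  have htT' : t ∈ Tsub R (z • R) := (mem_Tsub_iff _ _ t).mpr ⟨htR, htR'⟩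
  -- `z * t * z⁻¹` is an involution of `Tsub R (z • R)`
  have hu : z * t * z⁻¹ ∈ Tsub R (z • R) := by
    rw [mem_Tsub_iff]
    constructor
    · rw [mul_smul, mul_smul, hzinv, htR', hzR']
    · rw [mul_smul, mul_smul, hzinv, hzR', htR]
  have hu2 : (z * t * z⁻¹) ^ 2 = 1 := by
    rw [pow_two]
    calc z * t * z⁻¹ * (z * t * z⁻¹) = z * (t * t) * z⁻¹ := by group
      _ = 1 := by rw [← pow_two, ht2]; group
  have hu1 : z * t * z⁻¹ ≠ 1 := by
    intro hcon
    apply ht1
    calc t = z⁻¹ * (z * t * z⁻¹) * z := by group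
      _ = 1 := by rw [hcon]; group
  have hzt : z * t * z⁻¹ = t :=
    involution_unique h hn R (z • R) hR' _ _ hu hu2 hu1 htT' ht2 ht1
  have hcomm : t * z = z * t := by
    calc t * z = (z * t * z⁻¹) * z := by rw [hzt]
      _ = z * t := by group
  refine ⟨t, ht2, ht1, hcomm, ?_, ?_⟩
  · intro htT
    have := involution_unique h hn P Q hQ t z htT ht2 ht1 hzT hz2 hz1
    rw [this] at htR
    exact hR' htR
  · intro q hq hqt
    have h1 : t • (q • R) = q • R := by
      rw [← mul_smul, hqt, mul_smul, htR]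
    have key : ∀ q' ∈ Tsub P Q, q' • R = R → q' = 1 := by
      intro q' hq' hq'R
      by_contra hne
      rcases eq_or_eq_of_smul_eq h hn P Q hQ q' hq' hne R hq'R with h2 | h2
      · exact hRP h2
      · exact hRQ h2
    rcases eq_or_eq_of_smul_eq h hn R (z • R) hR' t htT' ht1 _ h1 with h2 | h2
    · exact Or.inl (key q hq h2)
    · right
      have h3 : (z⁻¹ * q) • R = R := by rw [mul_smul, h2, inv_smul_smul]
      have h4 := key _ ((Tsub P Q).mul_mem ((Tsub P Q).inv_mem hzT) hq) h3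
      exact (inv_mul_eq_one.mp h4).symm

/-- The case `n_3 = 10` is impossible. -/
theorem false_of_card_sylow3_eq_10 (h : Nat.card G = 720) (hn : Nat.card (Sylow 3 G) = 10) :
    False := by
  have hG := not_comm h
  obtain ⟨P⟩ := (Sylow.nonempty : Nonempty (Sylow 3 G))
  obtain ⟨Q, hQ, -⟩ := exists_third hn P P
  have hTc : Nat.card (Tsub P Q) = 8 := card_Tsub h hn P Q hQ
  have hnc := Tsub_not_comm h hn P Q hQ
  have hTp : IsPGroup 2 (Tsub P Q) := IsPGroup.of_card (n := 3) (by rw [hTc]; norm_num)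
  obtain ⟨S, hTS⟩ := hTp.exists_le_sylow
  have hSc : Nat.card (S : Subgroup G) = 16 := card_sylow2 h S
  obtain ⟨z, hzT, hzo⟩ := exists_involution h hn P Q hQ
  have hz1 : z ≠ 1 := by
    intro h1
    rw [h1, orderOf_one] at hzo
    omega
  have hz2 : z ^ 2 = 1 := by rw [← hzo]; exact pow_orderOf_eq_one z
  have hzz : z * z = 1 := by rw [← pow_two]; exact hz2
  have huniq : ∀ q ∈ Tsub P Q, q ^ 2 = 1 → q = 1 ∨ q = z := by
    intro q hq hq2
    by_cases hq1 : q = 1
    · exact Or.inl hq1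
    · exact Or.inr (involution_unique h hn P Q hQ q z hq hq2 hq1 hzT hz2 hz1)
  obtain ⟨t, ht2, ht1, htz, htT, hCt⟩ := exists_swap_involution h hn P Q hQ z hzT hz2 hz1
  -- `T` as a subgroup of `S`
  set T' : Subgroup (S : Subgroup G) := (Tsub P Q).subgroupOf (S : Subgroup G) with hT'
  have hT'c : Nat.card T' = 8 := by
    rw [hT', ← hTc]
    exact Nat.card_congr (Subgroup.subgroupOfEquivOfLe hTS).toEquiv
  have hT'i : T'.index = 2 := by
    have := T'.index_mul_card
    rw [hSc, hT'c] at this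
    omega
  have hT'n : T'.Normal := Subgroup.normal_of_index_eq_two hT'i
  have hconj : ∀ s ∈ (S : Subgroup G), ∀ q ∈ Tsub P Q, s * q * s⁻¹ ∈ Tsub P Q := by
    intro s hs q hq
    have := hT'n.conj_mem ⟨q, hTS hq⟩ (Subgroup.mem_subgroupOf.mpr hq) ⟨s, hs⟩
    exact Subgroup.mem_subgroupOf.mp this
  have hzS : ∀ s ∈ (S : Subgroup G), s * z = z * s := by
    intro s hs
    have h1 := hconj s hs z hzT
    have h2 : (s * z * s⁻¹) ^ 2 = 1 := by
      rw [pow_two]
      calc s * z * s⁻¹ * (s * z * s⁻¹) = s * (z * z) * s⁻¹ := by group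
        _ = 1 := by rw [hzz]; group
    rcases huniq _ h1 h2 with h3 | h3
    · exfalso
      apply hz1
      calc z = s⁻¹ * (s * z * s⁻¹) * s := by group
        _ = 1 := by rw [h3]; group
    · calc s * z = (s * z * s⁻¹) * s := by group
        _ = z * s := by rw [h3]
  have hpres : ∀ g : G, g * z = z * g →
      (g • P = P ∧ g • Q = Q) ∨ (g • P = Q ∧ g • Q = P) :=
    fun g hg => pres_of_commute h hn P Q hQ z hzT hz1 g hg
  -- an element of `S` outside `T`
  obtain ⟨s0, hs0S, hs0T⟩ : ∃ s0 ∈ (S : Subgroup G), s0 ∉ Tsub P Q := by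
    by_contra hcon
    push Not at hcon
    have hle : (S : Subgroup G) ≤ Tsub P Q := hcon
    have := Nat.le_of_dvd Nat.card_pos (Subgroup.card_dvd_of_le hle)
    rw [hSc, hTc] at this
    omega
  have hs0 : s0 • P = Q ∧ s0 • Q = P := by
    rcases hpres s0 (hzS s0 hs0S) with h1 | h1
    · exact absurd ((mem_Tsub_iff P Q s0).mpr h1) hs0T
    · exact h1
  have hmemS : ∀ g : G, ((g • P = P ∧ g • Q = Q) ∨ (g • P = Q ∧ g • Q = P)) →
      g ∈ (S : Subgroup G) := by
    intro g hg
    rcases hg with h1 | h1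
    · exact hTS ((mem_Tsub_iff P Q g).mpr h1)
    · have h2 : s0 * g ∈ Tsub P Q := by
        rw [mem_Tsub_iff, mul_smul, mul_smul, h1.1, h1.2]
        exact ⟨hs0.2, hs0.1⟩
      have : g = s0⁻¹ * (s0 * g) := by group
      rw [this]
      exact (S : Subgroup G).mul_mem ((S : Subgroup G).inv_mem hs0S) (hTS h2)
  have htS : t ∈ (S : Subgroup G) := hmemS t (hpres t htz)
  -- the shape lemma inside `S`
  have hzS' : z ∈ (S : Subgroup G) := hTS hzT
  obtain ⟨K', hK'i, hK'inv, x', hx'T, hx'K, hx'2⟩ :=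
    exists_index_two_of_shape (S := (S : Subgroup G)) hSc T' hT'c ⟨z, hzS'⟩
      (Subgroup.mem_subgroupOf.mpr hzT) (fun hcon => hz1 (congrArg Subtype.val hcon))
      (Subtype.ext (by simpa using hz2))
      (by
        intro q hq hq2
        have hq2' : (q : G) ^ 2 = 1 := by
          have := congrArg Subtype.val hq2
          simpa using this
        rcases huniq (q : G) (Subgroup.mem_subgroupOf.mp hq) hq2' with h1 | h1
        · exact Or.inl (Subtype.ext h1)
        · exact Or.inr (Subtype.ext h1))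
      (by
        obtain ⟨a, ha, b, hb, hab⟩ := hnc
        refine ⟨⟨a, hTS ha⟩, Subgroup.mem_subgroupOf.mpr ha, ⟨b, hTS hb⟩,
          Subgroup.mem_subgroupOf.mpr hb, ?_⟩
        intro hcon
        exact hab (congrArg Subtype.val hcon))
      ⟨t, htS⟩ (Subtype.ext (by simpa using ht2))
      (fun hcon => htT (Subgroup.mem_subgroupOf.mp hcon))
      (by
        intro q hq hqt
        have hqt' : t * (q : G) = (q : G) * t := congrArg Subtype.val hqt
        rcases hCt (q : G) (Subgroup.mem_subgroupOf.mp hq) hqt' with h1 | h1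
        · exact Or.inl (Subtype.ext h1)
        · exact Or.inr (Subtype.ext h1))
  set M : Subgroup G := K'.map (S : Subgroup G).subtype with hM
  have hMS : M ≤ (S : Subgroup G) := map_subtype_le' _ _
  have hMsub : M.subgroupOf (S : Subgroup G) = K' := by
    rw [hM, Subgroup.subgroupOf]
    exact Subgroup.comap_map_eq_self_of_injective (S : Subgroup G).subtype_injective _
  have hMrel : M.relIndex (S : Subgroup G) = 2 := by
    rw [Subgroup.relIndex, hMsub, hK'i]
  have hmemM : ∀ (y : G) (hy : y ∈ (S : Subgroup G)), y ∈ M ↔ (⟨y, hy⟩ : (S : Subgroup G)) ∈ K' :=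
    fun y hy => mem_map_subtype_iff (S : Subgroup G) K' ⟨y, hy⟩
  have hord : ∀ y ∈ (S : Subgroup G), y ∉ M → 2 ^ (2 - 1) < orderOf y := by
    intro y hy hyM
    have hy2 : y ^ 2 ≠ 1 := by
      intro h2
      apply hyM
      rw [hmemM y hy]
      apply hK'inv
      exact Subtype.ext (by simpa using h2)
    by_contra hle
    have hle2 : orderOf y ≤ 2 := by
      have : (2 : ℕ) ^ (2 - 1) = 2 := by norm_num
      omega
    have hpos : 0 < orderOf y := orderOf_pos y
    apply hy2
    have hcases : orderOf y = 1 ∨ orderOf y = 2 := by omega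
    rcases hcases with h1 | h1
    · rw [orderOf_eq_one_iff.mp h1, one_pow]
    · rw [← h1]; exact pow_orderOf_eq_one y
  set x : G := (x' : G) with hx
  have hxS : x ∈ (S : Subgroup G) := x'.2
  have hxT : x ∈ Tsub P Q := Subgroup.mem_subgroupOf.mp hx'T
  have hx2 : x ^ 2 = z := by
    have := congrArg Subtype.val hx'2
    simpa using this
  have hxM : x ∉ M := by
    intro hcon
    apply hx'K
    have := (hmemM x hxS).mp hcon
    exact this
  have hxo : orderOf x = 2 ^ 2 := by
    apply orderOf_eq_prime_pow (p := 2) (n := 1)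
    · rw [pow_one, hx2]; exact hz1
    · show x ^ 2 ^ 2 = 1
      have : x ^ 2 ^ 2 = (x ^ 2) ^ 2 := by rw [← pow_mul]; norm_num
      rw [this, hx2, hz2]
  have hidx : ∀ H : Subgroup G, H.index ≠ 2 := by
    intro H hH
    have hne : H ≠ ⊤ := by
      intro htop
      rw [htop, Subgroup.index_top] at hH
      omega
    have := index_ge_eight h H hne
    omega
  have hev : Even (Nat.card G) := by rw [h]; decide
  obtain ⟨g, hg⟩ := Cfsg.Agent.S3225.result hev hidx S M hMS hMrel 2 (by norm_num) hord x hxS hxo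
  obtain ⟨y, hy⟩ : ∃ y, y = g * x * g⁻¹ := ⟨_, rfl⟩
  rw [← hy] at hg
  have hyS : y ∈ (S : Subgroup G) := hMS hg
  have hy2 : y ^ 2 = g * z * g⁻¹ := by
    rw [pow_two, hy, ← hx2, pow_two]; group
  -- `y ^ 2` lies in `T`
  have hy2T : y ^ 2 ∈ Tsub P Q := by
    have hsq : ∀ R : Sylow 3 G, (y ^ 2) • R = y • (y • R) := fun R => by
      rw [pow_two, mul_smul]
    rw [mem_Tsub_iff, hsq, hsq]
    rcases hpres y (hzS y hyS) with h1 | h1
    · simp only [h1.1, h1.2, and_self]
    · simp only [h1.1, h1.2, and_self]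
  have hy4 : (y ^ 2) ^ 2 = 1 := by
    rw [hy2, pow_two]
    calc g * z * g⁻¹ * (g * z * g⁻¹) = g * (z * z) * g⁻¹ := by group
      _ = 1 := by rw [hzz]; group
  have hgz : g * z * g⁻¹ = z := by
    rcases huniq _ hy2T hy4 with h1 | h1
    · exfalso
      apply hz1
      rw [hy2] at h1
      calc z = g⁻¹ * (g * z * g⁻¹) * g := by group
        _ = 1 := by rw [h1]; group
    · rw [← hy2]; exact h1
  have hgz' : g * z = z * g := by
    calc g * z = (g * z * g⁻¹) * g := by group
      _ = z * g := by rw [hgz]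
  have hgS : g ∈ (S : Subgroup G) := hmemS g (hpres g hgz')
  -- conjugating back
  have hK'n : K'.Normal := Subgroup.normal_of_index_eq_two hK'i
  have hy' : (⟨y, hyS⟩ : (S : Subgroup G)) ∈ K' := (hmemM y hyS).mp hg
  have hconjK := hK'n.conj_mem _ hy' (⟨g, hgS⟩ : (S : Subgroup G))⁻¹
  apply hx'K
  have hxeq : x' = (⟨g, hgS⟩ : (S : Subgroup G))⁻¹ * ⟨y, hyS⟩ * (⟨g, hgS⟩ : (S : Subgroup G))⁻¹⁻¹ := by
    apply Subtype.ext
    show x = g⁻¹ * y * g⁻¹⁻¹
    rw [hy]; group
  rw [hxeq]
  exact hconjK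

end Cfsg.Agent.Lib.Helper72.Simple720
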