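import Mathlib
import Cfsg.Agent.Lib.Helper72.Simple720F
import Cfsg.Agent.Lib.Helper76.Simple720N40

/-!
# There is no simple group of order 720

(helper72; the case `n_3 = 40` is helper76's `Simple720N40`.)

`n_3 ∈ {10, 40}`.  If `n_3 = 40`, a subgroup `D` of order 3 has a normalizer of index 10 and a
fixed-point count gives a contradiction (helper76).  If `n_3 = 10`, `G` is sharply 3-transitive on
the 10 Sylow 3-subgroups with a two-point stabilizer `T` of order 8 having a unique involution;
`T` commutative gives an 8-cycle (odd permutation); `T` non-commutative gives a Sylow 2-subgroup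
of semidihedral shape, excluded by the generalized Thompson transfer lemma (S3225).
-/

set_option autoImplicit false

namespace Cfsg.Agent.Lib.Helper72.Simple720

theorem not_simple_of_card_720 {G : Type*} [Group G] [Finite G] [IsSimpleGroup G]
    (h : Nat.card G = 720) : False := by
  rcases card_sylow3_cases h with hn | hn
  · exact false_of_card_sylow3_eq_10 h hn
  · exact Cfsg.Agent.Lib.Helper76.Simple720.false_of_card_sylow3_eq_40 h hn

end Cfsg.Agent.Lib.Helper72.Simple720
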