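import Mathlib

/-!
# Colourings invariant under a family of transpositions

For `m` transpositions `t i` of a finite type `α` there is a colouring `c : α → α`, invariant under
all `t i`, with at least `card α - m` colours.  Consequences: every colour class has at most `m + 1`
elements, and the subgroup generated by the `t i` preserves `c`.
Also: a nontrivial normal subgroup of a finite symmetric group is transitive.
-/

set_option autoImplicit false

namespace Cfsg.Agent.Lib.Helper72

open Equiv

theorem exists_swap_coloring {α : Type*} [DecidableEq α] [Fintype α] :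
    ∀ (m : ℕ) (t : Fin m → Equiv.Perm α), (∀ i, (t i).IsSwap) →
      ∃ c : α → α, (∀ i x, c (t i x) = c x) ∧
        Fintype.card α ≤ (Finset.univ.image c).card + m := by
  intro m
  induction m with
  | zero =>
    intro t _
    refine ⟨id, fun i => i.elim0, ?_⟩
    simp
  | succ m ih =>
    intro t ht
    obtain ⟨c, hc1, hc2⟩ := ih (fun i => t i.castSucc) (fun i => ht _)
    obtain ⟨a, b, hab, htab⟩ := ht (Fin.last m)
    by_cases h : c a = c b
    · refine ⟨c, ?_, by omega⟩
      intro i x
      refine Fin.lastCases ?_ (fun j => hc1 j x) i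
      rw [htab]
      by_cases hxa : x = a
      · subst hxa; rw [swap_apply_left]; exact h.symm
      · by_cases hxb : x = b
        · subst hxb; rw [swap_apply_right]; exact h
        · rw [swap_apply_of_ne_of_ne hxa hxb]
    · let c' : α → α := fun x => if c x = c b then c a else c x
      refine ⟨c', ?_, ?_⟩
      · intro i x
        refine Fin.lastCases ?_ (fun j => ?_) i
        · rw [htab]
          by_cases hxa : x = a
          · subst hxa; rw [swap_apply_left]; simp [c']
          · by_cases hxb : x = b
            · subst hxb; rw [swap_apply_right]; simp [c']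
            · rw [swap_apply_of_ne_of_ne hxa hxb]
        · simp only [c']; rw [hc1 j x]
      · have hsub : (Finset.univ.image c).erase (c b) ⊆ Finset.univ.image c' := by
          intro y hy
          rw [Finset.mem_erase, Finset.mem_image] at hy
          obtain ⟨hyb, x, -, rfl⟩ := hy
          rw [Finset.mem_image]
          exact ⟨x, Finset.mem_univ _, by simp [c', hyb]⟩
        have h1 := Finset.card_le_card hsub
        rw [Finset.card_erase_of_mem (Finset.mem_image_of_mem c (Finset.mem_univ b))] at h1
        have h2 : 0 < (Finset.univ.image c).card :=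
          Finset.card_pos.mpr ⟨c b, Finset.mem_image_of_mem c (Finset.mem_univ b)⟩
        omega

theorem card_fiber_le_of_many_colors {α : Type*} [DecidableEq α] [Fintype α] (c : α → α) (m : ℕ)
    (h : Fintype.card α ≤ (Finset.univ.image c).card + m) (y : α) :
    (Finset.univ.filter (fun x => c x = y)).card ≤ m + 1 := by
  classical
  by_cases hy : y ∈ Finset.univ.image c
  · have h1 : Fintype.card α = ∑ z ∈ Finset.univ.image c, (Finset.univ.filter (fun x => c x = z)).card := by
      rw [← Finset.card_univ]
      exact Finset.card_eq_sum_card_fiberwise (fun x _ => Finset.mem_image_of_mem c (Finset.mem_univ x))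
    rw [← Finset.add_sum_erase _ _ hy] at h1
    have h2 : ((Finset.univ.image c).erase y).card ≤
        ∑ z ∈ (Finset.univ.image c).erase y, (Finset.univ.filter (fun x => c x = z)).card := by
      rw [Finset.card_eq_sum_ones]
      apply Finset.sum_le_sum
      intro z hz
      have hz' := Finset.mem_of_mem_erase hz
      rw [Finset.mem_image] at hz'
      obtain ⟨x, -, rfl⟩ := hz'
      exact Finset.card_pos.mpr ⟨x, by simp⟩
    rw [Finset.card_erase_of_mem hy] at h2
    have h3 : 0 < (Finset.univ.image c).card := Finset.card_pos.mpr ⟨y, hy⟩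
    omega
  · have : Finset.univ.filter (fun x => c x = y) = ∅ := by
      rw [Finset.eq_empty_iff_forall_notMem]
      intro x hx
      rw [Finset.mem_filter] at hx
      exact hy (hx.2 ▸ Finset.mem_image_of_mem c (Finset.mem_univ x))
    rw [this]; simp

/-- The subgroup generated by permutations preserving a colouring preserves it. -/
theorem coloring_invariant_of_mem_closure {α β : Type*} (c : α → β) (s : Set (Equiv.Perm α))
    (hs : ∀ σ ∈ s, ∀ x, c (σ x) = c x) {g : Equiv.Perm α} (hg : g ∈ Subgroup.closure s) (x : α) :
    c (g x) = c x := by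
  induction hg using Subgroup.closure_induction generalizing x with
  | mem σ hσ => exact hs σ hσ x
  | one => rfl
  | mul a b _ _ iha ihb => rw [Equiv.Perm.mul_apply, iha, ihb]
  | inv a _ iha =>
    have := iha (a⁻¹ x)
    rw [← Equiv.Perm.mul_apply, mul_inv_cancel, Equiv.Perm.one_apply] at this
    exact this.symm

/-- A nontrivial normal subgroup of a symmetric group is transitive. -/
theorem exists_mem_normal_apply_eq {α : Type*} [DecidableEq α] (N : Subgroup (Equiv.Perm α))
    [N.Normal] (hN : N ≠ ⊥) : ∃ a : α, ∀ c : α, ∃ τ ∈ N, τ a = c := by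
  obtain ⟨σ, hσN, hσ1⟩ := (Subgroup.ne_bot_iff_exists_ne_one (H := N)).mp hN |>.imp
    (fun σ h => h) |> fun ⟨σ, h⟩ => (⟨σ.1, σ.2, fun h1 => h (Subtype.ext h1)⟩ :
      ∃ σ : Equiv.Perm α, σ ∈ N ∧ σ ≠ 1)
  obtain ⟨a, ha⟩ : ∃ a, σ a ≠ a := by
    by_contra hcon
    push Not at hcon
    exact hσ1 (Equiv.ext hcon)
  refine ⟨a, fun c => ?_⟩
  by_cases hca : c = a
  · exact ⟨1, N.one_mem, by simp [hca]⟩
  · refine ⟨swap (σ a) c * σ * (swap (σ a) c)⁻¹, ‹N.Normal›.conj_mem σ hσN _, ?_⟩
    have h1 : (swap (σ a) c)⁻¹ a = a := by
      rw [swap_inv, swap_apply_of_ne_of_ne (Ne.symm ha) (Ne.symm hca)]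
    rw [Equiv.Perm.mul_apply, Equiv.Perm.mul_apply, h1, swap_apply_left]

/-- The degree divides the order of a nontrivial normal subgroup of a finite symmetric group. -/
theorem card_dvd_card_of_normal_ne_bot {α : Type*} [DecidableEq α] [Fintype α]
    (N : Subgroup (Equiv.Perm α)) [N.Normal] (hN : N ≠ ⊥) : Fintype.card α ∣ Nat.card N := by
  obtain ⟨a, ha⟩ := exists_mem_normal_apply_eq N hN
  have horb : MulAction.orbit N a = Set.univ := by
    rw [Set.eq_univ_iff_forall]
    intro c
    obtain ⟨τ, hτ, rfl⟩ := ha c
    exact ⟨⟨τ, hτ⟩, rfl⟩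
  have h1 : (MulAction.stabilizer N a).index = Nat.card α := by
    rw [MulAction.index_stabilizer, horb, Set.ncard_univ]
  rw [← Nat.card_eq_fintype_card, ← h1]
  exact Subgroup.index_dvd_card _

end Cfsg.Agent.Lib.Helper72
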