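import Cfsg.Agent.S0956
import Cfsg.Agent.S2326
import Cfsg.Agent.S1043
import Cfsg.Agent.Lib.Helper77.KnorrEasy

/-!
# Project TB (S2441), module BL-[GREEN] in `_of` form (helper72)

Green's property (S0956) + `U` Sylow (S2326) + Sylow's theorem feed MAX (`exists_radical_le`, taken here as the
hypothesis `hMAX`, stated verbatim as on the sheet) with `𝒞 = {g 𝔇 g⁻¹ | g ∈ G}`.
-/

set_option autoImplicit false
universe u
open Cfsg Cfsg.Lie

namespace Cfsg.Agent.Lib.Helper72.TwoBlocks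

theorem mem_map_conj_iff_h72 {G : Type*} [Group G] (P : Subgroup G) (x g : G) :
    g ∈ P.map (MulAut.conj x).toMonoidHom ↔ x⁻¹ * g * x ∈ P := by
  rw [Subgroup.mem_map]
  constructor
  · rintro ⟨y, hy, rfl⟩
    have : x⁻¹ * ((MulAut.conj x).toMonoidHom y) * x = y := by
      simp [MulAut.conj_apply, mul_assoc]
    rw [this]
    exact hy
  · intro h
    exact ⟨x⁻¹ * g * x, h, by simp [MulAut.conj_apply, mul_assoc]⟩

theorem isPGroup_of_isDefectGroup {G : Type*} [Group G] {p : ℕ} [Fact p.Prime] {M : Ideal AlgInt}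
    {B : Set (IrrCharacter G)} {P : Subgroup G} (hP : IsDefectGroup p M B P) : IsPGroup p P := by
  obtain ⟨g, -, P₀, rfl⟩ := hP
  exact P₀.isPGroup'.map _

variable {F : Type u} [Field F] {D : ChevalleyDatum}

/-- BL-[GREEN], `_of` form: `hMAX` is the sheet's MAX (`exists_radical_le hD`). -/
theorem exists_radical_le_defectGroup_of [Fintype F] (p : ℕ) [Fact p.Prime] [CharP F p]
    (hD : D ∈ [chevG2, chevB2, chevD4, chevF4, chevE6, chevE7, chevE8])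
    (M : Ideal AlgInt) (hM : IsPModular p M) (B : Set (IrrCharacter ↥(D.group F))) (hB : IsPBlock M B)
    (𝔇 : Subgroup ↥(D.group F)) (h𝔇 : IsDefectGroup p M B 𝔇) (hne : 𝔇 ≠ ⊥)
    (hMAX : ∀ (𝒞 : Set (Subgroup (GL D.Idx F))),
      (∀ E ∈ 𝒞, ∀ g ∈ D.group F, E.map (MulAut.conj g).toMonoidHom ∈ 𝒞) →
      (∀ E ∈ 𝒞, E ≤ D.posUnipotent F → ∃ x ∈ D.group F,
        E = D.posUnipotent F ⊓ (D.posUnipotent F).map (MulAut.conj x).toMonoidHom) →
      (∀ E ∈ 𝒞, E ≠ ⊥) → (∃ E ∈ 𝒞, E ≤ D.posUnipotent F) →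
      ∃ E ∈ 𝒞, ∃ J : Set ℕ, (∃ i < D.rank, i ∉ J) ∧ D.unipotentRadical F J ≤ E) :
    ∃ J : Set ℕ, (∃ i < D.rank, i ∉ J) ∧ ∃ x : ↥(D.group F),
      ((D.unipotentRadical F J).subgroupOf (D.group F)).map (MulAut.conj x).toMonoidHom ≤ 𝔇 := by
  classical
  have hUG : D.posUnipotent F ≤ D.group F := Cfsg.Agent.S1043.posUnipotent_le_group D hD
  obtain ⟨P, hP⟩ := Cfsg.Agent.S2326.result (F := F) p D hD
  -- membership in `P`
  have hmemP : ∀ d : ↥(D.group F), d ∈ (P : Subgroup ↥(D.group F)) ↔ (d : GL D.Idx F) ∈ D.posUnipotent F := by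
    intro d
    rw [hP, Subgroup.mem_subgroupOf]
  -- the family of conjugates
  let 𝒞 : Set (Subgroup (GL D.Idx F)) :=
    {E | ∃ g : ↥(D.group F), E = (𝔇.map (MulAut.conj g).toMonoidHom).map (D.group F).subtype}
  have hmem𝒞 : ∀ (g : ↥(D.group F)) (y : GL D.Idx F),
      y ∈ (𝔇.map (MulAut.conj g).toMonoidHom).map (D.group F).subtype ↔
        ∃ hy : y ∈ D.group F, g⁻¹ * ⟨y, hy⟩ * g ∈ 𝔇 := by
    intro g y
    rw [Subgroup.mem_map]
    constructor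
    · rintro ⟨d, hd, rfl⟩
      exact ⟨d.2, (mem_map_conj_iff_h72 𝔇 g d).mp hd⟩
    · rintro ⟨hy, h⟩
      exact ⟨⟨y, hy⟩, (mem_map_conj_iff_h72 𝔇 g _).mpr h, rfl⟩
  have h1 : ∀ E ∈ 𝒞, ∀ g ∈ D.group F, E.map (MulAut.conj g).toMonoidHom ∈ 𝒞 := by
    -- closed under conjugation
    rintro E ⟨g, rfl⟩ g' hg'
    refine ⟨⟨g', hg'⟩ * g, ?_⟩
    ext y
    rw [mem_map_conj_iff_h72, hmem𝒞, hmem𝒞]
    constructor
    · rintro ⟨hy, h⟩
      have hy' : y ∈ D.group F := by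
        have := mul_mem (mul_mem hg' hy) (inv_mem hg')
        have e : g' * (g'⁻¹ * y * g') * g'⁻¹ = y := by group
        rwa [e] at this
      refine ⟨hy', ?_⟩
      have e : (⟨g', hg'⟩ * g)⁻¹ * (⟨y, hy'⟩ : ↥(D.group F)) * (⟨g', hg'⟩ * g) =
          g⁻¹ * (⟨g'⁻¹ * y * g', hy⟩ : ↥(D.group F)) * g := by
        apply Subtype.ext
        simp only [Subgroup.coe_mul, Subgroup.coe_inv, mul_inv_rev]
        group
      rw [e]
      exact h
    · rintro ⟨hy, h⟩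
      have hy' : g'⁻¹ * y * g' ∈ D.group F := mul_mem (mul_mem (inv_mem hg') hy) hg'
      refine ⟨hy', ?_⟩
      have e : (⟨g', hg'⟩ * g)⁻¹ * (⟨y, hy⟩ : ↥(D.group F)) * (⟨g', hg'⟩ * g) =
          g⁻¹ * (⟨g'⁻¹ * y * g', hy'⟩ : ↥(D.group F)) * g := by
        apply Subtype.ext
        simp only [Subgroup.coe_mul, Subgroup.coe_inv, mul_inv_rev]
        group
      rw [← e]
      exact h
  have h2 : ∀ E ∈ 𝒞, E ≤ D.posUnipotent F → ∃ x ∈ D.group F,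
      E = D.posUnipotent F ⊓ (D.posUnipotent F).map (MulAut.conj x).toMonoidHom := by
    -- Green's property
    rintro E ⟨g, rfl⟩ hEU
    have h𝔇₁ : IsDefectGroup p M B (𝔇.map (MulAut.conj g).toMonoidHom) :=
      Cfsg.Agent.Lib.Helper77.isDefectGroup_map_conj h𝔇 g
    have hle : 𝔇.map (MulAut.conj g).toMonoidHom ≤ (P : Subgroup ↥(D.group F)) := by
      intro d hd
      rw [hmemP]
      exact hEU (Subgroup.mem_map_of_mem _ hd)
    obtain ⟨x, -, -, hx⟩ := Cfsg.Agent.S0956.result p M hM B hB _ h𝔇₁ P hle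
    refine ⟨x, x.2, ?_⟩
    ext y
    rw [Subgroup.mem_inf, mem_map_conj_iff_h72]
    constructor
    · intro hy
      obtain ⟨d, hd, rfl⟩ := Subgroup.mem_map.mp hy
      rw [← hx, Subgroup.mem_inf, mem_map_conj_iff_h72, hmemP, hmemP] at hd
      exact ⟨hd.1, hd.2⟩
    · rintro ⟨h1, h2⟩
      have hy : y ∈ D.group F := hUG h1
      refine Subgroup.mem_map.mpr ⟨⟨y, hy⟩, ?_, rfl⟩
      rw [← hx, Subgroup.mem_inf, mem_map_conj_iff_h72, hmemP, hmemP]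
      exact ⟨h1, h2⟩
  have h3 : ∀ E ∈ 𝒞, E ≠ ⊥ := by
    -- non-trivial
    rintro E ⟨g, rfl⟩ hbot
    apply hne
    rw [Subgroup.map_eq_bot_iff_of_injective _ (Subgroup.subtype_injective _),
      Subgroup.map_eq_bot_iff_of_injective _ (MulAut.conj g).injective] at hbot
    exact hbot
  have h4 : ∃ E ∈ 𝒞, E ≤ D.posUnipotent F := by
    -- some conjugate lies in `U`
    have hp𝔇 : IsPGroup p 𝔇 := isPGroup_of_isDefectGroup h𝔇
    obtain ⟨Q, hQ⟩ := hp𝔇.exists_le_sylow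
    obtain ⟨g, hg⟩ := MulAction.exists_smul_eq ↥(D.group F) Q P
    refine ⟨_, ⟨g, rfl⟩, ?_⟩
    intro y hy
    obtain ⟨d, hd, rfl⟩ := Subgroup.mem_map.mp hy
    obtain ⟨d0, hd0, rfl⟩ := Subgroup.mem_map.mp hd
    have : (MulAut.conj g).toMonoidHom d0 ∈ (P : Subgroup ↥(D.group F)) := by
      rw [← hg, Sylow.coe_subgroup_smul]
      exact Subgroup.smul_mem_pointwise_smul d0 (MulAut.conj g) Q (hQ hd0)
    exact (hmemP _).mp this
  obtain ⟨E, ⟨g, rfl⟩, J, hJ, hUJ⟩ := hMAX 𝒞 h1 h2 h3 h4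
  refine ⟨J, hJ, g⁻¹, ?_⟩
  intro u hu
  rw [mem_map_conj_iff_h72, inv_inv] at hu
  rw [Subgroup.mem_subgroupOf] at hu
  obtain ⟨hy, h⟩ := (hmem𝒞 g _).mp (hUJ hu)
  have e : g⁻¹ * (⟨((g * u * g⁻¹ : ↥(D.group F)) : GL D.Idx F), hy⟩ : ↥(D.group F)) * g = u := by
    have : (⟨((g * u * g⁻¹ : ↥(D.group F)) : GL D.Idx F), hy⟩ : ↥(D.group F)) = g * u * g⁻¹ :=
      Subtype.ext rfl
    rw [this]
    group
  rw [e] at h
  exact h

end Cfsg.Agent.Lib.Helper72.TwoBlocks
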