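import Cfsg.Agent.Lib.Helper72.TwoBlocksBlPosOf
import Cfsg.Agent.Lib.Helper82.TwoBlocks.BlConstr
import Cfsg.Agent.Lib.Helper39.TwoBlocksBlExt

/-!
# Project TB (S2441), modules BL-[GREEN] + BL-[POS] closed against the exact BL-[CONSTR] (helper82) and
BL-[EXT] (helper39): the only remaining hypothesis is MAX (`exists_radical_le hD`, verbatim).
-/

set_option autoImplicit false
universe u
open Cfsg Cfsg.Lie Cfsg.Agent.Lib.Helper82.OneBlock

namespace Cfsg.Agent.Lib.Helper72.TwoBlocks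

variable {F : Type u} [Field F] {D : ChevalleyDatum}

/-- BL-[POS] from MAX alone. -/
theorem eq_principalBlock_of_defect_pos_of_max [Fintype F] (p : ℕ) [Fact p.Prime] [CharP F p]
    (hD : D ∈ [chevG2, chevB2, chevD4, chevF4, chevE6, chevE7, chevE8])
    (M : Ideal AlgInt) (hM : IsPModular p M) (B : Set (IrrCharacter ↥(D.group F))) (hB : IsPBlock M B)
    (hpos : 0 < blockDefect p B)
    (hMAX : ∀ (𝒞 : Set (Subgroup (GL D.Idx F))),
      (∀ E ∈ 𝒞, ∀ g ∈ D.group F, E.map (MulAut.conj g).toMonoidHom ∈ 𝒞) →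
      (∀ E ∈ 𝒞, E ≤ D.posUnipotent F → ∃ x ∈ D.group F,
        E = D.posUnipotent F ⊓ (D.posUnipotent F).map (MulAut.conj x).toMonoidHom) →
      (∀ E ∈ 𝒞, E ≠ ⊥) → (∃ E ∈ 𝒞, E ≤ D.posUnipotent F) →
      ∃ E ∈ 𝒞, ∃ J : Set ℕ, (∃ i < D.rank, i ∉ J) ∧ D.unipotentRadical F J ≤ E) :
    B = principalBlock M ↥(D.group F) :=
  eq_principalBlock_of_defect_pos_of p hD M hM B hB hpos
    (fun 𝔇 h𝔇 hne => exists_radical_le_defectGroup_of p hD M hM B hB 𝔇 h𝔇 hne hMAX)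
    (fun J hJ => Cfsg.Agent.Lib.Helper82.TwoBlocks.hasOneBlock_normalizer_radical p hD M hM J hJ)
    (fun 𝔇 h𝔇 P hP x hx h1 =>
      Cfsg.Agent.Lib.Helper39.TwoBlocks.eq_principalBlock_of_normalizer p M hM B hB 𝔇 h𝔇 P hP x hx h1)

end Cfsg.Agent.Lib.Helper72.TwoBlocks
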