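import Cfsg.Agent.Lib.Helper72.TwoBlocksBlGreenOf
import Cfsg.Agent.Lib.Helper82.OneBlock.Criterion

/-!
# Project TB (S2441), module BL-[POS] in `_of` form (helper72)

A block of positive defect of `D.group F` is the principal block, from BL-[GREEN], BL-[CONSTR], BL-[EXT]
(hypotheses `hGREEN`, `hCONSTR`, `hEXT`: the sheet statements, instantiated), S0906, S0908, S2326.
-/

set_option autoImplicit false
universe u
open Cfsg Cfsg.Lie Cfsg.Agent.Lib.Helper82.OneBlock

namespace Cfsg.Agent.Lib.Helper72.TwoBlocks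

variable {F : Type u} [Field F] {D : ChevalleyDatum}

theorem unipotentRadical_le_posUnipotent (J : Set ℕ) : D.unipotentRadical F J ≤ D.posUnipotent F := by
  unfold ChevalleyDatum.unipotentRadical ChevalleyDatum.posUnipotent
  apply Subgroup.closure_mono
  rintro g ⟨r, t, hr, -, hg⟩
  exact ⟨r, t, hr, hg⟩

theorem isPGroup_unipotentRadical [Fintype F] (p : ℕ) [Fact p.Prime] [CharP F p]
    (hD : D ∈ [chevG2, chevB2, chevD4, chevF4, chevE6, chevE7, chevE8]) (J : Set ℕ) :
    IsPGroup p ((D.unipotentRadical F J).subgroupOf (D.group F)) := by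
  obtain ⟨P, hP⟩ := Cfsg.Agent.S2326.result (F := F) p D hD
  have hle : (D.unipotentRadical F J).subgroupOf (D.group F) ≤ (P : Subgroup ↥(D.group F)) := by
    rw [hP]
    intro u hu
    rw [Subgroup.mem_subgroupOf] at hu ⊢
    exact unipotentRadical_le_posUnipotent J hu
  exact P.isPGroup'.to_le hle

/-- BL-[POS], `_of` form. -/
theorem eq_principalBlock_of_defect_pos_of [Fintype F] (p : ℕ) [Fact p.Prime] [CharP F p]
    (hD : D ∈ [chevG2, chevB2, chevD4, chevF4, chevE6, chevE7, chevE8])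
    (M : Ideal AlgInt) (hM : IsPModular p M) (B : Set (IrrCharacter ↥(D.group F))) (hB : IsPBlock M B)
    (hpos : 0 < blockDefect p B)
    (hGREEN : ∀ 𝔇 : Subgroup ↥(D.group F), IsDefectGroup p M B 𝔇 → 𝔇 ≠ ⊥ →
      ∃ J : Set ℕ, (∃ i < D.rank, i ∉ J) ∧ ∃ x : ↥(D.group F),
        ((D.unipotentRadical F J).subgroupOf (D.group F)).map (MulAut.conj x).toMonoidHom ≤ 𝔇)
    (hCONSTR : ∀ J : Set ℕ, (∃ i < D.rank, i ∉ J) →
      HasOneBlock M ↥(Subgroup.normalizer
        (((D.unipotentRadical F J).subgroupOf (D.group F) : Subgroup ↥(D.group F)) : Set ↥(D.group F))))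
    (hEXT : ∀ (𝔇 : Subgroup ↥(D.group F)), IsDefectGroup p M B 𝔇 → ∀ (P : Subgroup ↥(D.group F)),
      IsPGroup p P → ∀ x : ↥(D.group F), P.map (MulAut.conj x).toMonoidHom ≤ 𝔇 →
      HasOneBlock M ↥(Subgroup.normalizer (P : Set ↥(D.group F))) → B = principalBlock M ↥(D.group F)) :
    B = principalBlock M ↥(D.group F) := by
  classical
  obtain ⟨g, hg⟩ := Cfsg.Agent.S0906.result p M hM B hB
  obtain ⟨P₀⟩ : Nonempty (Sylow p (Subgroup.centralizer ({g} : Set ↥(D.group F)))) := inferInstance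
  have h𝔇 : IsDefectGroup p M B ((P₀ : Subgroup (Subgroup.centralizer ({g} : Set ↥(D.group F)))).map
      (Subgroup.centralizer ({g} : Set ↥(D.group F))).subtype) := ⟨g, hg, P₀, rfl⟩
  have hcard := Cfsg.Agent.S0908.result p M hM B hB _ h𝔇
  have hne : (P₀ : Subgroup (Subgroup.centralizer ({g} : Set ↥(D.group F)))).map
      (Subgroup.centralizer ({g} : Set ↥(D.group F))).subtype ≠ ⊥ := by
    intro hbot
    rw [hbot, Subgroup.card_bot] at hcard
    have hp : 1 < p := (Fact.out : p.Prime).one_lt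
    have := Nat.one_lt_pow (Nat.pos_iff_ne_zero.mp hpos) hp
    omega
  obtain ⟨J, hJ, x, hx⟩ := hGREEN _ h𝔇 hne
  exact hEXT _ h𝔇 _ (isPGroup_unipotentRadical p hD J) x hx (hCONSTR J hJ)

end Cfsg.Agent.Lib.Helper72.TwoBlocks
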